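/-
The rank-24 lattice built from the length-24 code: normal form of its vectors, norms, index.
-/
import Cfsg.Agent.Lib.Golay.Code
import Cfsg.Prelude.Def_Sporadic_a

set_option autoImplicit false

namespace CfsgLeech

open Cfsg CfsgGolay

attribute [local irreducible] codeL octadL dodecadL

/-- The supports of the codewords. -/
def CW : Set (Finset GolayPt) := supports (golayCode : Set (GolayPt → ZMod 2))

/-- Characteristic vector. -/
def chi (c : Finset GolayPt) (i : GolayPt) : ℤ := if i ∈ c then 1 else 0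

theorem card_univ_pt : Fintype.card GolayPt = 24 := by simp [Fintype.card_option, ZMod.card]

theorem sum_chi (c : Finset GolayPt) : ∑ i, chi c i = (c.card : ℤ) := by
  simp [chi, Finset.sum_boole]

theorem chi_sq (c : Finset GolayPt) (i : GolayPt) : chi c i ^ 2 = chi c i := by
  simp [chi]

theorem chi_compl (c : Finset GolayPt) (i : GolayPt) : chi cᶜ i = 1 - chi c i := by
  by_cases h : i ∈ c <;> simp [chi, h]

theorem chi_add (a b : Finset GolayPt) (i : GolayPt) :
    chi a i + chi b i = chi (symmDiff a b) i + 2 * chi (a ∩ b) i := by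
  by_cases h : i ∈ a <;> by_cases h' : i ∈ b <;> simp [chi, h, h', Finset.mem_symmDiff]

theorem CW_empty : (∅ : Finset GolayPt) ∈ CW := ⟨0, zero_mem _, by ext; simp [support₂]⟩

theorem CW_univ : (Finset.univ : Finset GolayPt) ∈ CW :=
  ⟨1, Submodule.subset_span (Or.inr rfl), by ext; simp [support₂]⟩

theorem CW_symmDiff {a b : Finset GolayPt} (ha : a ∈ CW) (hb : b ∈ CW) : symmDiff a b ∈ CW := by
  obtain ⟨v, hv, rfl⟩ := ha
  obtain ⟨w, hw, rfl⟩ := hb
  refine ⟨v + w, add_mem hv hw, ?_⟩
  ext p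
  simp only [support₂, Finset.mem_filter, Finset.mem_univ, true_and, Pi.add_apply, Finset.mem_symmDiff]
  generalize v p = x; generalize w p = y; revert x y; decide

theorem CW_compl {a : Finset GolayPt} (ha : a ∈ CW) : aᶜ ∈ CW := by
  have h := CW_symmDiff ha CW_univ
  rwa [← Finset.top_eq_univ, symmDiff_top, hnot_eq_compl] at h

theorem CW_card_four {a : Finset GolayPt} (ha : a ∈ CW) : (4 : ℤ) ∣ (a.card : ℤ) := by
  rcases code_weight_cases ha with h | h | h | h | h <;> rw [h] <;> norm_num

theorem CW_weights {a : Finset GolayPt} (ha : a ∈ CW) :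
    a = ∅ ∨ a.card = 8 ∨ a.card = 12 ∨ a.card = 16 ∨ a = Finset.univ := by
  rcases code_weight_cases ha with h | h | h | h | h
  · exact Or.inl (Finset.card_eq_zero.mp h)
  all_goals try tauto
  exact Or.inr (Or.inr (Or.inr (Or.inr (Finset.eq_univ_of_card _ (h.trans card_univ_pt.symm)))))

theorem CW_inter_even {a b : Finset GolayPt} (ha : a ∈ CW) (hb : b ∈ CW) :
    (2 : ℤ) ∣ ((a ∩ b).card : ℤ) := by
  obtain ⟨v, hv, rfl⟩ := ha
  obtain ⟨w, hw, rfl⟩ := hb
  set g := toMask (support₂ w)
  have hg : inCode g = true := inCode_of_mem hw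
  simp only [inCode, List.all_eq_true, beq_iff_eq] at hg
  have hk : v ∈ LinearMap.ker (dotMask g) := by
    rw [← wordOf_toMask_support v]
    have hs := toMask_support_mem hv
    rw [show codeL = spanList sysBasis from by unfold codeL; rfl] at hs
    refine spanList_subset _ sysBasis (fun e he => ?_) _ hs
    have he' : e ∈ spanList genMasks := by simpa using List.all_eq_true.mp sys_subset_span e he
    refine spanList_subset _ genMasks (fun h hh => ?_) _ he'
    rw [LinearMap.mem_ker, dotMask_eq_zero_iff, support_wordOf, toMask_toSet, Nat.and_comm]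
    · exact hg h hh
    · exact (show ∀ m ∈ genMasks, m < 2 ^ 24 by decide) h hh
  rw [LinearMap.mem_ker, dotMask_eq_zero_iff, ← card_toSet, toSet_and, toSet_toMask, toSet_toMask] at hk
  omega

theorem CW_ncard : CW.ncard = 4096 := by
  have hinj : Set.InjOn toSet {m | m ∈ codeL} := fun a ha b hb h =>
    toSet_injOn (codeL_lt a ha) (codeL_lt b hb) h
  rw [CW, supports_eq, hinj.ncard_image, ← codeL_checks.1, ← List.toFinset_card_of_nodup codeL_nodup,
    ← Set.ncard_coe_finset]
  congr 1; ext m; simp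

/-- Parametrised form of the lattice vectors. -/
def IsLeech (x : GolayPt → ℤ) : Prop :=
  ∃ (m : ℤ) (c : Finset GolayPt) (y : GolayPt → ℤ), c ∈ CW ∧
    (∀ i, x i = m + 2 * chi c i + 4 * y i) ∧ (2 : ℤ) ∣ (∑ i, y i) - m

theorem isLeech_iff {x : GolayPt → ℤ} : x ∈ leechSet ↔ IsLeech x := by
  constructor
  · rintro ⟨m, hpar, hsum, hcl⟩
    set c := Finset.univ.filter fun i => x i ≡ m + 2 [ZMOD 4] with hc
    have h4 : ∀ i, (4 : ℤ) ∣ x i - m - 2 * chi c i := by
      intro i
      obtain ⟨k, hk⟩ := Int.modEq_iff_dvd.mp (hpar i)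
      by_cases hi : x i ≡ m + 2 [ZMOD 4]
      · simp only [chi, hc, Finset.mem_filter, Finset.mem_univ, true_and, hi, if_true]
        rw [Int.ModEq] at hi
        omega
      · simp only [chi, hc, Finset.mem_filter, Finset.mem_univ, true_and, hi, if_false]
        rw [Int.ModEq] at hi
        omega
    choose y hy using h4
    have hcw : c ∈ CW := hcl (m + 2)
    refine ⟨m, c, y, hcw, fun i => by have := hy i; omega, ?_⟩
    have hx : ∀ i, x i = m + 2 * chi c i + 4 * y i := fun i => by have := hy i; omega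
    rw [Int.ModEq, Finset.sum_congr rfl fun i _ => hx i] at hsum
    simp only [Finset.sum_add_distrib, ← Finset.mul_sum, sum_chi, Finset.sum_const, Finset.card_univ,
      card_univ_pt] at hsum
    obtain ⟨t, ht⟩ := CW_card_four hcw
    rw [ht] at hsum
    simp only [nsmul_eq_mul, Nat.cast_ofNat] at hsum
    omega
  · rintro ⟨m, c, y, hcw, hx, hs⟩
    refine ⟨m, fun i => ?_, ?_, fun k => ?_⟩
    · rw [Int.ModEq, hx i]; omega
    · rw [Int.ModEq, Finset.sum_congr rfl fun i _ => hx i]
      simp only [Finset.sum_add_distrib, ← Finset.mul_sum, sum_chi, Finset.sum_const, Finset.card_univ,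
        card_univ_pt, nsmul_eq_mul, Nat.cast_ofNat]
      obtain ⟨t, ht⟩ := CW_card_four hcw
      omega
    · show _ ∈ CW
      have hmem : ∀ i, (x i ≡ k [ZMOD 4]) ↔ (m + 2 * chi c i ≡ k [ZMOD 4]) := fun i => by
        simp only [Int.ModEq, hx i]; omega
      have key : ∀ d : Finset GolayPt, d ∈ CW → (∀ i, (x i ≡ k [ZMOD 4]) ↔ i ∈ d) →
          (Finset.univ.filter fun i => x i ≡ k [ZMOD 4]) ∈ CW := by
        intro d hd h
        convert hd using 1
        exact Finset.ext fun i => (Finset.mem_filter.trans (and_iff_right (Finset.mem_univ _))).trans (h i)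
      by_cases h0 : m ≡ k [ZMOD 4]
      · refine key cᶜ (CW_compl hcw) fun i => ?_
        rw [hmem, Finset.mem_compl]
        simp only [Int.ModEq] at h0 ⊢
        by_cases hi : i ∈ c <;> simp only [chi, hi, if_true, if_false, not_true, not_false_iff, iff_true, iff_false] <;> omega
      by_cases h2 : m + 2 ≡ k [ZMOD 4]
      · refine key c hcw fun i => ?_
        rw [hmem]
        simp only [Int.ModEq] at h0 h2 ⊢
        by_cases hi : i ∈ c <;> simp only [chi, hi, if_true, if_false, iff_true, iff_false] <;> omega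
      · refine key ∅ CW_empty fun i => ?_
        rw [hmem]
        simp only [Int.ModEq] at h0 h2 ⊢
        by_cases hi : i ∈ c <;> simp only [chi, hi, if_true, if_false, Finset.notMem_empty, iff_false] <;> omega

theorem IsLeech.zero : IsLeech 0 :=
  ⟨0, ∅, 0, CW_empty, fun i => by simp [chi], by simp⟩

theorem IsLeech.add {x x' : GolayPt → ℤ} (h : IsLeech x) (h' : IsLeech x') : IsLeech (x + x') := by
  obtain ⟨m, c, y, hc, hx, hs⟩ := h
  obtain ⟨m', c', y', hc', hx', hs'⟩ := h'
  refine ⟨m + m', symmDiff c c', fun i => y i + y' i + chi (c ∩ c') i, CW_symmDiff hc hc', fun i => ?_, ?_⟩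
  · have := chi_add c c' i
    simp only [Pi.add_apply, hx i, hx' i]
    linarith
  · have he := CW_inter_even hc hc'
    rw [Finset.sum_add_distrib, Finset.sum_add_distrib, sum_chi]
    omega

theorem IsLeech.neg {x : GolayPt → ℤ} (h : IsLeech x) : IsLeech (-x) := by
  obtain ⟨m, c, y, hc, hx, hs⟩ := h
  refine ⟨-m, c, fun i => -y i - chi c i, hc, fun i => by simp only [Pi.neg_apply, hx i]; ring, ?_⟩
  rw [Finset.sum_sub_distrib, Finset.sum_neg_distrib, sum_chi]
  have := CW_card_four hc
  omega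

/-- The lattice as a set. -/
def leechGrp : AddSubgroup (GolayPt → ℤ) where
  carrier := leechSet
  zero_mem' := isLeech_iff.mpr IsLeech.zero
  add_mem' := fun ha hb => isLeech_iff.mpr ((isLeech_iff.mp ha).add (isLeech_iff.mp hb))
  neg_mem' := fun ha => isLeech_iff.mpr (isLeech_iff.mp ha).neg

theorem leechLattice_eq : leechLattice = leechGrp :=
  le_antisymm ((AddSubgroup.closure_le _).mpr fun _ h => h) fun _ h => AddSubgroup.subset_closure h

theorem mem_leech {x : GolayPt → ℤ} : x ∈ leechLattice ↔ IsLeech x := by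
  rw [leechLattice_eq]; exact isLeech_iff

/-- Normal form: the parity is 0 or 1. -/
theorem IsLeech.normal {x : GolayPt → ℤ} (h : IsLeech x) :
    ∃ (e : ℤ) (c : Finset GolayPt) (y : GolayPt → ℤ), (e = 0 ∨ e = 1) ∧ c ∈ CW ∧
      (∀ i, x i = e + 2 * chi c i + 4 * y i) ∧ (2 : ℤ) ∣ (∑ i, y i) - e := by
  obtain ⟨m, c, y, hc, hx, hs⟩ := h
  have hcard := CW_card_four hc
  have he : m % 2 = 0 ∨ m % 2 = 1 := by omega
  by_cases hk : m / 2 % 2 = 0
  · refine ⟨m % 2, c, fun i => y i + m / 4, he, hc, fun i => by beta_reduce; rw [hx i]; omega, ?_⟩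
    simp only [Finset.sum_add_distrib, Finset.sum_const, Finset.card_univ, card_univ_pt, nsmul_eq_mul,
      Nat.cast_ofNat]
    omega
  · refine ⟨m % 2, cᶜ, fun i => y i + m / 4 + chi c i, he, CW_compl hc,
      fun i => by beta_reduce; rw [hx i, chi_compl]; omega, ?_⟩
    simp only [Finset.sum_add_distrib, Finset.sum_const, Finset.card_univ, card_univ_pt, nsmul_eq_mul,
      Nat.cast_ofNat, sum_chi]
    omega

theorem sqNorm_nonneg (x : GolayPt → ℤ) : 0 ≤ sqNorm x := Finset.sum_nonneg fun i _ => sq_nonneg _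

theorem sqNorm_eq_zero {x : GolayPt → ℤ} (h : sqNorm x = 0) : x = 0 := by
  funext i
  have := (Finset.sum_eq_zero_iff_of_nonneg fun j _ => sq_nonneg (x j)).mp h i (Finset.mem_univ i)
  simpa using pow_eq_zero_iff two_ne_zero |>.mp this

theorem two_dvd_sq_sub (a : ℤ) : (2 : ℤ) ∣ a ^ 2 - a := by
  rw [show a ^ 2 - a = a * (a - 1) by ring]
  exact (Int.even_mul_pred_self a).two_dvd

theorem two_dvd_sum_sq_sub (y : GolayPt → ℤ) : (2 : ℤ) ∣ (∑ i, y i ^ 2) - ∑ i, y i := by
  rw [← Finset.sum_sub_distrib]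
  exact Finset.dvd_sum fun i _ => two_dvd_sq_sub _

theorem sqNorm_dvd {x : GolayPt → ℤ} (h : IsLeech x) : (16 : ℤ) ∣ sqNorm x := by
  obtain ⟨m, c, y, hc, hx, hs⟩ := h
  have hn : sqNorm x = 24 * m ^ 2 + 4 * (m + 1) * (c.card : ℤ) + 8 * (m * ∑ i, y i) +
      16 * ∑ i, (chi c i * y i + y i ^ 2) := by
    rw [sqNorm, ← sum_chi c, Finset.mul_sum, Finset.mul_sum, Finset.mul_sum, Finset.mul_sum,
      show (24 : ℤ) * m ^ 2 = ∑ _i : GolayPt, m ^ 2 by simp [card_univ_pt],
      ← Finset.sum_add_distrib, ← Finset.sum_add_distrib, ← Finset.sum_add_distrib]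
    refine Finset.sum_congr rfl fun i _ => ?_
    rw [hx i]
    linear_combination (4 : ℤ) * chi_sq c i
  obtain ⟨t, ht⟩ := CW_card_four hc
  obtain ⟨u, hu⟩ := hs
  obtain ⟨v, hv⟩ := two_dvd_sq_sub m
  rw [hn, ht, show (∑ i, y i) = 2 * u + m by omega]
  generalize ∑ i, (chi c i * y i + y i ^ 2) = w
  exact ⟨2 * m ^ 2 + (m + 1) * t + m * u + w, by ring⟩

theorem sqNorm_min {x : GolayPt → ℤ} (h : IsLeech x) (h0 : x ≠ 0) : 32 ≤ sqNorm x := by
  obtain ⟨e, c, y, he, hc, hx, hs⟩ := h.normal
  have hd := sqNorm_dvd h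
  have hpos : sqNorm x ≠ 0 := fun hz => h0 (sqNorm_eq_zero hz)
  have hnn := sqNorm_nonneg x
  suffices sqNorm x ≠ 16 by omega
  intro h16
  rcases he with rfl | rfl
  · have hle : 4 * (c.card : ℤ) ≤ sqNorm x := by
      rw [← sum_chi, Finset.mul_sum]
      refine Finset.sum_le_sum fun i _ => ?_
      rw [hx i]
      by_cases hi : i ∈ c <;> simp only [chi, hi, if_true, if_false]
      · nlinarith [two_dvd_sq_sub (y i), (show 0 ≤ y i * (y i + 1) from by
          rcases le_or_gt 0 (y i) with h' | h'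
          · positivity
          · exact mul_nonneg_of_nonpos_of_nonpos h'.le (by omega))]
      · nlinarith [sq_nonneg (y i)]
    have hc0 : c = ∅ := by
      rcases CW_weights hc with h' | h' | h' | h' | h'
      · exact h'
      all_goals (first | (rw [h'] at hle; simp [card_univ_pt] at hle; omega) | omega)
    subst hc0
    have hn : sqNorm x = 16 * ∑ i, y i ^ 2 := by
      rw [sqNorm, Finset.mul_sum]
      refine Finset.sum_congr rfl fun i _ => ?_
      rw [hx i]; simp [chi]; ring
    have := two_dvd_sum_sq_sub y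
    omega
  · have hle : (24 : ℤ) ≤ sqNorm x := by
      rw [show (24 : ℤ) = ∑ _i : GolayPt, (1 : ℤ) by simp [card_univ_pt], sqNorm]
      refine Finset.sum_le_sum fun i _ => ?_
      have hne : x i ≠ 0 := by rw [hx i]; omega
      have h0 := sq_nonneg (x i)
      rcases eq_or_ne (x i ^ 2) 0 with hz | hz
      · exact absurd (pow_eq_zero_iff two_ne_zero |>.mp hz) hne
      · omega
    omega

end CfsgLeech
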