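/-
The lattice vectors of sum of squares 32 and 48, by shape.
-/
import Cfsg.Agent.Lib.Leech.Basic

set_option autoImplicit false

namespace CfsgLeech

open Cfsg CfsgGolay

attribute [local irreducible] codeL octadL dodecadL

/-- An even vector: ±2 on `c`, ±4 on `T`, minus signs on `N`. -/
def ev (c T N : Finset GolayPt) (i : GolayPt) : ℤ :=
  if i ∈ N then -(2 * chi c i + 4 * chi T i) else 2 * chi c i + 4 * chi T i

/-- An odd vector: `1 + 4s` on `T` and `1` elsewhere, signs changed on `c`. -/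
def od (s : ℤ) (c T : Finset GolayPt) (i : GolayPt) : ℤ :=
  if i ∈ c then -(1 + 4 * s * chi T i) else 1 + 4 * s * chi T i

/-- The codewords as a finite set. -/
noncomputable def cwF : Finset (Finset GolayPt) := (Set.toFinite CW).toFinset

/-- The codewords of weight `a`. -/
noncomputable def cwW (a : ℕ) : Finset (Finset GolayPt) := cwF.filter fun c => c.card = a

/-- Parameters of even vectors. -/
noncomputable def evP (a b : ℕ) : Finset (Σ _ : Finset GolayPt, Σ _ : Finset GolayPt, Finset GolayPt) :=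
  (cwW a).sigma fun c => (Finset.powersetCard b cᶜ).sigma fun T =>
    (c ∪ T).powerset.filter fun N => ((N ∩ c).card + b) % 2 = 0

/-- Even vectors of a shape. -/
def evSet (a b : ℕ) : Set (GolayPt → ℤ) :=
  (fun q : (Σ _ : Finset GolayPt, Σ _ : Finset GolayPt, Finset GolayPt) => ev q.1 q.2.1 q.2.2) '' ↑(evP a b)

/-- Odd vectors of a shape. -/
def odSet (s : ℤ) (k : ℕ) : Set (GolayPt → ℤ) :=
  (fun q : Finset GolayPt × Finset GolayPt => od s q.1 q.2) ''
    ↑(cwF ×ˢ Finset.powersetCard k (Finset.univ : Finset GolayPt))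

theorem mem_cwF {c : Finset GolayPt} : c ∈ cwF ↔ c ∈ CW := Set.Finite.mem_toFinset _

theorem mem_evSet {a b : ℕ} {x : GolayPt → ℤ} : x ∈ evSet a b ↔ ∃ c T N : Finset GolayPt, c ∈ CW ∧
    c.card = a ∧ Disjoint T c ∧ T.card = b ∧ N ⊆ c ∪ T ∧ ((N ∩ c).card + b) % 2 = 0 ∧ x = ev c T N := by
  simp only [evSet, evP, cwW, Set.mem_image, Finset.mem_coe, Finset.mem_sigma, Finset.mem_filter, mem_cwF,
    Finset.mem_powersetCard, Finset.mem_powerset, Sigma.exists]
  constructor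
  · rintro ⟨c, T, N, ⟨⟨hc, ha⟩, ⟨hT, hb⟩, hN, hp⟩, rfl⟩
    exact ⟨c, T, N, hc, ha, Finset.disjoint_left.mpr fun i hi => Finset.mem_compl.mp (hT hi), hb, hN, hp, rfl⟩
  · rintro ⟨c, T, N, hc, ha, hT, hb, hN, hp, rfl⟩
    exact ⟨c, T, N, ⟨⟨hc, ha⟩, ⟨fun i hi => Finset.mem_compl.mpr (Finset.disjoint_left.mp hT hi), hb⟩, hN, hp⟩, rfl⟩

theorem mem_odSet {s : ℤ} {k : ℕ} {x : GolayPt → ℤ} :
    x ∈ odSet s k ↔ ∃ c T : Finset GolayPt, c ∈ CW ∧ T.card = k ∧ x = od s c T := by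
  simp only [odSet, Set.mem_image, Finset.mem_coe, Finset.mem_product, mem_cwF, Finset.mem_powersetCard,
    Finset.subset_univ, true_and, Prod.exists]
  constructor
  · rintro ⟨c, T, ⟨hc, hT⟩, rfl⟩; exact ⟨c, T, hc, hT, rfl⟩
  · rintro ⟨c, T, hc, hT, rfl⟩; exact ⟨c, T, ⟨hc, hT⟩, rfl⟩

theorem evSet_props {a b : ℕ} {x : GolayPt → ℤ} (h : x ∈ evSet a b) :
    IsLeech x ∧ sqNorm x = 4 * a + 16 * b ∧ (∀ i, |x i| = 0 ∨ |x i| = 2 ∨ |x i| = 4) ∧
      (b ≠ 0 → ∃ i, |x i| = 4) ∧ (b = 0 → ∀ i, |x i| ≠ 4) := by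
  obtain ⟨c, T, N, hc, rfl, hT, rfl, hN, hp, rfl⟩ := mem_evSet.mp h
  have habs : ∀ i, |ev c T N i| = 2 * chi c i + 4 * chi T i := fun i => by
    have h1 : (0 : ℤ) ≤ 2 * chi c i + 4 * chi T i := by simp only [chi]; split_ifs <;> norm_num
    rw [ev]; split_ifs <;> simp only [abs_neg, abs_of_nonneg h1]
  refine ⟨⟨0, c, fun i => chi T i - chi (N ∩ c) i - 2 * chi (N ∩ T) i, hc, fun i => ?_, ?_⟩, ?_, fun i => ?_, ?_, ?_⟩
  · by_cases h1 : i ∈ N <;> by_cases h2 : i ∈ c <;> by_cases h3 : i ∈ T <;> simp [ev, chi, h1, h2, h3]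
  · simp only [Finset.sum_sub_distrib, ← Finset.mul_sum, sum_chi]
    omega
  · rw [sqNorm, ← sum_chi c, ← sum_chi T, Finset.mul_sum, Finset.mul_sum, ← Finset.sum_add_distrib]
    refine Finset.sum_congr rfl fun i _ => ?_
    rw [← sq_abs, habs]
    by_cases h2 : i ∈ c <;> by_cases h3 : i ∈ T <;> simp [chi, h2, h3]
    exact Finset.disjoint_left.mp hT h3 h2
  · rw [habs]
    by_cases h2 : i ∈ c <;> by_cases h3 : i ∈ T <;> simp [chi, h2, h3]
    exact Finset.disjoint_left.mp hT h3 h2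
  · intro hb
    obtain ⟨i, hi⟩ := Finset.card_ne_zero.mp hb
    exact ⟨i, by rw [habs]; simp [chi, hi, Finset.disjoint_left.mp hT hi]⟩
  · intro hb i
    rw [habs, Finset.card_eq_zero.mp hb]
    simp only [chi]; split_ifs <;> simp_all

theorem odSet_props {s : ℤ} {k : ℕ} {x : GolayPt → ℤ} (h : x ∈ odSet s k) :
    ((2 : ℤ) ∣ s * k - 1 → IsLeech x) ∧ sqNorm x = 24 + (8 * s + 16 * s ^ 2) * k ∧
      (∀ i, |x i| = 1 ∨ |x i| = |1 + 4 * s|) ∧
      ∃ T : Finset GolayPt, T.card = k ∧ ∀ i ∈ T, |x i| = |1 + 4 * s| := by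
  obtain ⟨c, T, hc, rfl, rfl⟩ := mem_odSet.mp h
  have habs : ∀ i, |od s c T i| = |1 + 4 * s * chi T i| := fun i => by
    by_cases hi : i ∈ c
    · rw [od, if_pos hi, abs_neg]
    · rw [od, if_neg hi]
  refine ⟨fun hp => ?_, ?_, fun i => ?_, T, rfl, fun i hi => ?_⟩
  · refine ⟨1, c, fun i => s * chi T i - chi c i * (1 + 2 * s * chi T i), hc, fun i => ?_, ?_⟩
    · by_cases h2 : i ∈ c <;> by_cases h3 : i ∈ T <;> simp [od, chi, h2, h3] <;> ring
    · have he : (∑ i, chi c i * (1 + 2 * s * chi T i)) = (c.card : ℤ) + 2 * (s * ∑ i, chi c i * chi T i) := by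
        rw [← sum_chi c, Finset.mul_sum, Finset.mul_sum, ← Finset.sum_add_distrib]
        exact Finset.sum_congr rfl fun i _ => by ring
      rw [Finset.sum_sub_distrib, he, ← Finset.mul_sum, sum_chi]
      have := CW_card_four hc
      omega
  · rw [sqNorm, ← sum_chi T, Finset.mul_sum,
      show (24 : ℤ) = ∑ _i : GolayPt, (1 : ℤ) by simp [card_univ_pt], ← Finset.sum_add_distrib]
    refine Finset.sum_congr rfl fun i _ => ?_
    rw [← sq_abs, habs, sq_abs]
    linear_combination (16 * s ^ 2) * chi_sq T i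
  · rw [habs]
    by_cases hi : i ∈ T <;> simp [chi, hi]
  · rw [habs]; simp [chi, hi]

/-- Small even vectors. -/
theorem even_class {c : Finset GolayPt} {y : GolayPt → ℤ} {x : GolayPt → ℤ} (hc : c ∈ CW)
    (hx : ∀ i, x i = 2 * chi c i + 4 * y i) (hs : (2 : ℤ) ∣ ∑ i, y i) (hn : sqNorm x ≤ 48) :
    ∃ a b : ℕ, (a = 0 ∨ a = 8 ∨ a = 12) ∧ x ∈ evSet a b ∧ (a = 0 → 2 ∣ b) := by
  have hyc : ∀ i ∈ c, y i = 0 ∨ y i = -1 := by
    intro i hi
    by_contra hbad
    have hxi : 36 ≤ x i ^ 2 := by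
      rw [hx i, show chi c i = 1 by simp [chi, hi]]
      rcases (show y i ≥ 1 ∨ y i ≤ -2 by omega) with h | h <;> nlinarith
    have hge : ∀ j ∈ c.erase i, (4 : ℤ) ≤ x j ^ 2 := by
      intro j hj
      rw [hx j, show chi c j = 1 by simp [chi, Finset.mem_of_mem_erase hj]]
      rcases (show y j ≥ 0 ∨ y j ≤ -1 by omega) with h | h <;> nlinarith
    have h8 : 8 ≤ c.card := by
      rcases code_weight_cases hc with h | h | h | h | h <;> try omega
      rw [Finset.card_eq_zero] at h; simp [h] at hi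
    have hsum : x i ^ 2 + ∑ j ∈ c.erase i, x j ^ 2 ≤ sqNorm x := by
      rw [Finset.add_sum_erase _ (fun j => x j ^ 2) hi]
      exact Finset.sum_le_univ_sum_of_nonneg fun j => sq_nonneg _
    have := Finset.card_nsmul_le_sum _ _ _ hge
    rw [Finset.card_erase_of_mem hi, nsmul_eq_mul] at this
    omega
  have hyo : ∀ i ∉ c, y i = 0 ∨ y i = 1 ∨ y i = -1 := by
    intro i hi
    by_contra hbad
    have h1 : x i ^ 2 ≤ sqNorm x := Finset.single_le_sum (fun j _ => sq_nonneg (x j)) (Finset.mem_univ i)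
    rw [hx i, show chi c i = 0 by simp [chi, hi]] at h1
    rcases (show y i ≥ 2 ∨ y i ≤ -2 by omega) with h | h <;> nlinarith
  set T := Finset.univ.filter fun i => i ∉ c ∧ y i ≠ 0 with hT
  set N := Finset.univ.filter fun i => x i < 0 with hN
  have key : ∀ i, x i = ev c T N i ∧ y i = chi T i - chi (N ∩ c) i - 2 * chi (N ∩ T) i ∧
      (i ∈ N → i ∈ c ∪ T) := by
    intro i
    by_cases hi : i ∈ c
    · have hv := hx i
      rcases hyc i hi with h | h <;> simp [ev, chi, hT, hN, hi, hv, h]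
    · have hv := hx i
      rcases hyo i hi with h | h | h <;> simp [ev, chi, hT, hN, hi, hv, h]
  have hdis : Disjoint T c := Finset.disjoint_left.mpr fun i hi => (Finset.mem_filter.mp hi).2.1
  have hpar : ((N ∩ c).card + T.card) % 2 = 0 := by
    rw [Finset.sum_congr rfl fun i _ => (key i).2.1] at hs
    simp only [Finset.sum_sub_distrib, ← Finset.mul_sum, sum_chi] at hs
    omega
  have hmem : x ∈ evSet c.card T.card := mem_evSet.mpr ⟨c, T, N, hc, rfl, hdis, rfl,
    fun i hi => (key i).2.2 hi, hpar, funext fun i => (key i).1⟩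
  have hnorm := (evSet_props hmem).2.1
  refine ⟨c.card, T.card, ?_, hmem, fun h0 => ?_⟩
  · rcases code_weight_cases hc with h | h | h | h | h <;> omega
  · rw [Finset.card_eq_zero.mp h0, Finset.inter_empty, Finset.card_empty] at hpar
    omega

/-- Small odd vectors. -/
theorem odd_class {c : Finset GolayPt} {y : GolayPt → ℤ} {x : GolayPt → ℤ} (hc : c ∈ CW)
    (hx : ∀ i, x i = 1 + 2 * chi c i + 4 * y i) (hs : (2 : ℤ) ∣ (∑ i, y i) - 1) (hn : sqNorm x ≤ 48) :
    (∃ k, (k = 1 ∨ k = 3) ∧ x ∈ odSet (-1) k) ∨ x ∈ odSet 1 1 := by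
  set w : GolayPt → ℤ := fun i => if i ∈ c then -y i - 1 else y i with hw
  have hxw : ∀ i, x i = if i ∈ c then -(1 + 4 * w i) else 1 + 4 * w i := fun i => by
    by_cases hi : i ∈ c <;> simp [hx i, hw, chi, hi] <;> ring
  have hf0 : ∀ i, 0 ≤ 2 * w i ^ 2 + w i := fun i => by
    rcases (show w i ≥ 0 ∨ w i ≤ -1 by omega) with h | h <;> nlinarith
  have hnorm : sqNorm x = 24 + 8 * ∑ i, (2 * w i ^ 2 + w i) := by
    rw [sqNorm, Finset.mul_sum, show (24 : ℤ) = ∑ _i : GolayPt, (1 : ℤ) by simp [card_univ_pt],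
      ← Finset.sum_add_distrib]
    refine Finset.sum_congr rfl fun i _ => ?_
    rw [hxw i]; split_ifs <;> ring
  have hle : ∑ i, (2 * w i ^ 2 + w i) ≤ 3 := by omega
  have hwb : ∀ i, w i = -1 ∨ w i = 0 ∨ w i = 1 := by
    intro i
    have h1 := (Finset.single_le_sum (fun j _ => hf0 j) (Finset.mem_univ i)).trans hle
    by_contra hbad
    rcases (show w i ≥ 2 ∨ w i ≤ -2 by omega) with h | h <;> nlinarith
  have hpar : (2 : ℤ) ∣ (∑ i, w i) - 1 := by
    have h1 : (2 : ℤ) ∣ ∑ i, (w i - y i - chi c i) := Finset.dvd_sum fun i _ => by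
      by_cases hi : i ∈ c <;> simp [hw, chi, hi]
      exact ⟨-y i - 1, by ring⟩
    rw [Finset.sum_sub_distrib, Finset.sum_sub_distrib, sum_chi] at h1
    have := CW_card_four hc
    omega
  by_cases h : ∃ i, w i = 1
  · right
    obtain ⟨i₀, hi₀⟩ := h
    refine mem_odSet.mpr ⟨c, {i₀}, hc, Finset.card_singleton _, funext fun i => ?_⟩
    have hwi : w i = chi {i₀} i := by
      by_cases hi : i = i₀
      · simp [hi, hi₀, chi]
      · have h2 : (2 * w i₀ ^ 2 + w i₀) + (2 * w i ^ 2 + w i) ≤ ∑ j, (2 * w j ^ 2 + w j) := by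
          rw [← Finset.sum_pair (f := fun j => 2 * w j ^ 2 + w j) (Ne.symm hi)]
          exact Finset.sum_le_univ_sum_of_nonneg hf0
        rw [hi₀] at h2
        rcases hwb i with h' | h' | h' <;> rw [h'] at h2 <;> simp [chi, hi, h'] <;> omega
    rw [hxw i, hwi, od]
    simp only [mul_one]
  · left
    set T := Finset.univ.filter fun i => w i = -1 with hT
    have hwi : ∀ i, w i = -chi T i := fun i => by
      rcases hwb i with h' | h' | h'
      · simp [chi, hT, h']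
      · simp [chi, hT, h']
      · exact absurd ⟨i, h'⟩ h
    refine ⟨T.card, ?_, mem_odSet.mpr ⟨c, T, hc, rfl, funext fun i => ?_⟩⟩
    · rw [Finset.sum_congr rfl fun i _ => hwi i, Finset.sum_neg_distrib, sum_chi] at hpar
      have : ∑ i, (2 * w i ^ 2 + w i) = (T.card : ℤ) := by
        rw [← sum_chi T]
        exact Finset.sum_congr rfl fun i _ => by rw [hwi i]; linear_combination 2 * chi_sq T i
      omega
    · rw [hxw i, hwi i, od]
      by_cases hi : i ∈ c <;> simp [hi] <;> ring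

theorem classify32 {x : GolayPt → ℤ} :
    (x ∈ leechLattice ∧ sqNorm x = 32) ↔ (x ∈ evSet 0 2 ∨ x ∈ evSet 8 0) ∨ x ∈ odSet (-1) 1 := by
  rw [mem_leech]
  constructor
  · rintro ⟨hx, hn⟩
    obtain ⟨e, c, y, rfl | rfl, hc, hxy, hs⟩ := hx.normal
    · obtain ⟨a, b, ha, hm, hp⟩ := even_class (x := x) (y := y) hc (fun i => by rw [hxy i]; ring) (by simpa using hs) (by omega)
      have := (evSet_props hm).2.1
      rcases (show (a = 0 ∧ b = 2) ∨ (a = 8 ∧ b = 0) by omega) with ⟨rfl, rfl⟩ | ⟨rfl, rfl⟩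
      exacts [Or.inl (Or.inl hm), Or.inl (Or.inr hm)]
    · rcases odd_class hc hxy hs (by omega) with ⟨k, hk, hm⟩ | hm
      · have := (odSet_props hm).2.1
        obtain rfl : k = 1 := by omega
        exact Or.inr hm
      · have := (odSet_props hm).2.1
        omega
  · rintro ((h | h) | h)
    · exact ⟨(evSet_props h).1, by rw [(evSet_props h).2.1]; norm_num⟩
    · exact ⟨(evSet_props h).1, by rw [(evSet_props h).2.1]; norm_num⟩
    · exact ⟨(odSet_props h).1 (by norm_num), by rw [(odSet_props h).2.1]; norm_num⟩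

theorem classify48 {x : GolayPt → ℤ} : (x ∈ leechLattice ∧ sqNorm x = 48) ↔
    ((x ∈ evSet 12 0 ∨ x ∈ evSet 8 1) ∨ x ∈ odSet (-1) 3) ∨ x ∈ odSet 1 1 := by
  rw [mem_leech]
  constructor
  · rintro ⟨hx, hn⟩
    obtain ⟨e, c, y, rfl | rfl, hc, hxy, hs⟩ := hx.normal
    · obtain ⟨a, b, ha, hm, hp⟩ := even_class (x := x) (y := y) hc (fun i => by rw [hxy i]; ring) (by simpa using hs) (by omega)
      have := (evSet_props hm).2.1
      rcases (show (a = 12 ∧ b = 0) ∨ (a = 8 ∧ b = 1) by omega) with ⟨rfl, rfl⟩ | ⟨rfl, rfl⟩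
      exacts [Or.inl (Or.inl (Or.inl hm)), Or.inl (Or.inl (Or.inr hm))]
    · rcases odd_class hc hxy hs (by omega) with ⟨k, hk, hm⟩ | hm
      · have := (odSet_props hm).2.1
        obtain rfl : k = 3 := by omega
        exact Or.inl (Or.inr hm)
      · exact Or.inr hm
  · rintro (((h | h) | h) | h)
    · exact ⟨(evSet_props h).1, by rw [(evSet_props h).2.1]; norm_num⟩
    · exact ⟨(evSet_props h).1, by rw [(evSet_props h).2.1]; norm_num⟩
    · exact ⟨(odSet_props h).1 (by norm_num), by rw [(odSet_props h).2.1]; norm_num⟩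
    · exact ⟨(odSet_props h).1 (by norm_num), by rw [(odSet_props h).2.1]; norm_num⟩

end CfsgLeech
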