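/-
Numbers of lattice vectors of sum of squares 32 and 48.
-/
import Cfsg.Agent.Lib.Leech.Shapes

set_option autoImplicit false

namespace CfsgLeech

open Cfsg CfsgGolay

attribute [local irreducible] codeL octadL dodecadL

theorem cwW_card (a : ℕ) :
    (cwW a).card = (wordsOfWeight (golayCode : Set (GolayPt → ZMod 2)) a).ncard := by
  rw [← Set.ncard_coe_finset]
  congr 1
  ext c
  simp only [cwW, Finset.coe_filter, mem_cwF]
  rfl

theorem cwW_zero : (cwW 0).card = 1 := by
  rw [Finset.card_eq_one]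
  refine ⟨∅, ?_⟩
  ext c
  simp only [cwW, Finset.mem_filter, mem_cwF, Finset.mem_singleton, Finset.card_eq_zero]
  exact ⟨fun h => h.2, fun h => ⟨h ▸ CW_empty, h⟩⟩

theorem cwF_card : cwF.card = 4096 := by
  rw [← CW_ncard, cwF, Set.ncard_eq_toFinset_card]

theorem card_parity_filter {U c : Finset GolayPt} {b : ℕ} {p : GolayPt} (hp : p ∈ c) (hpU : p ∈ U) :
    (U.powerset.filter fun N => ((N ∩ c).card + b) % 2 = 0).card = 2 ^ (U.card - 1) := by
  rw [← Finset.card_erase_of_mem hpU, ← Finset.card_powerset]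
  refine Finset.card_nbij' (fun N => N.erase p)
    (fun N => if ((N ∩ c).card + b) % 2 = 0 then N else insert p N) ?_ ?_ ?_ ?_
  · intro N hN
    simp only [Finset.coe_filter, Finset.mem_coe, Finset.mem_powerset, Set.mem_setOf_eq] at hN ⊢
    exact Finset.erase_subset_erase _ hN.1
  · intro N hN
    simp only [Finset.mem_coe, Finset.mem_powerset] at hN
    have hpN : p ∉ N := fun h => (Finset.mem_erase.mp (hN h)).1 rfl
    have hNU : N ⊆ U := hN.trans (Finset.erase_subset _ _)
    simp only [Finset.coe_filter, Finset.mem_powerset, Set.mem_setOf_eq]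
    split_ifs with h
    · exact ⟨hNU, h⟩
    · refine ⟨Finset.insert_subset hpU hNU, ?_⟩
      rw [Finset.insert_inter_of_mem hp, Finset.card_insert_of_notMem (fun h' => hpN (Finset.mem_inter.mp h').1)]
      omega
  · intro N hN
    simp only [Finset.coe_filter, Finset.mem_powerset, Set.mem_setOf_eq] at hN
    beta_reduce
    by_cases hpN : p ∈ N
    · have hc : ((N.erase p) ∩ c).card + 1 = (N ∩ c).card := by
        rw [Finset.erase_inter]
        exact Finset.card_erase_add_one (Finset.mem_inter.mpr ⟨hpN, hp⟩)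
      rw [if_neg (by omega), Finset.insert_erase hpN]
    · rw [Finset.erase_eq_of_notMem hpN, if_pos hN.2]
  · intro N hN
    simp only [Finset.mem_coe, Finset.mem_powerset] at hN
    have hpN : p ∉ N := fun h => (Finset.mem_erase.mp (hN h)).1 rfl
    beta_reduce
    split_ifs with h
    · exact Finset.erase_eq_of_notMem hpN
    · exact Finset.erase_insert hpN

theorem evP_card {a b : ℕ} (hb : a = 0 → b % 2 = 0) :
    (evP a b).card = (cwW a).card * (Nat.choose (24 - a) b * 2 ^ (a + b - min a 1)) := by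
  rw [evP, Finset.card_sigma]
  have hinner : ∀ c ∈ cwW a, ((Finset.powersetCard b cᶜ).sigma fun T =>
      (c ∪ T).powerset.filter fun N => ((N ∩ c).card + b) % 2 = 0).card =
      Nat.choose (24 - a) b * 2 ^ (a + b - min a 1) := by
    intro c hc
    have hca : c.card = a := (Finset.mem_filter.mp hc).2
    rw [Finset.card_sigma, Finset.sum_const_nat (m := 2 ^ (a + b - min a 1)), Finset.card_powersetCard,
      Finset.card_compl, card_univ_pt, hca]
    intro T hT
    rw [Finset.mem_powersetCard] at hT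
    have hcard : (c ∪ T).card = a + b := by
      rw [Finset.card_union_of_disjoint, hca, hT.2]
      exact Finset.disjoint_right.mpr fun i hi => Finset.mem_compl.mp (hT.1 hi)
    rcases Finset.eq_empty_or_nonempty c with h0 | ⟨p, hp⟩
    · subst h0
      have ha : a = 0 := by simpa using hca.symm
      rw [Finset.filter_true_of_mem (fun N _ => by simp [hb ha]), Finset.card_powerset, hcard, ha]
      simp
    · rw [card_parity_filter hp (Finset.mem_union_left _ hp), hcard]
      have : 0 < a := hca ▸ Finset.card_pos.mpr ⟨p, hp⟩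
      congr 1; omega
  rw [Finset.sum_const_nat hinner]

theorem evSet_ncard {a b : ℕ} (hb : a = 0 → b % 2 = 0) :
    (evSet a b).ncard = (cwW a).card * (Nat.choose (24 - a) b * 2 ^ (a + b - min a 1)) := by
  rw [evSet, Set.InjOn.ncard_image, Set.ncard_coe_finset, evP_card hb]
  rintro ⟨c, T, N⟩ hq ⟨c', T', N'⟩ hq' h
  simp only [Finset.mem_coe, evP, Finset.mem_sigma, Finset.mem_filter, Finset.mem_powersetCard,
    Finset.mem_powerset] at hq hq'
  have hT : ∀ i ∈ T, i ∉ c := fun i hi => Finset.mem_compl.mp (hq.2.1.1 hi)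
  have hT' : ∀ i ∈ T', i ∉ c' := fun i hi => Finset.mem_compl.mp (hq'.2.1.1 hi)
  have key : ∀ i, (i ∈ c ↔ i ∈ c') ∧ (i ∈ T ↔ i ∈ T') ∧ (i ∈ N ↔ i ∈ N') := by
    intro i
    have h1 := congrFun h i
    have := hT i
    have := hT' i
    have hN : i ∈ N → i ∈ c ∨ i ∈ T := fun hi => Finset.mem_union.mp (hq.2.2.1 hi)
    have hN' : i ∈ N' → i ∈ c' ∨ i ∈ T' := fun hi => Finset.mem_union.mp (hq'.2.2.1 hi)
    by_cases a1 : i ∈ c <;> by_cases a2 : i ∈ T <;> by_cases a3 : i ∈ N <;>
      by_cases b1 : i ∈ c' <;> by_cases b2 : i ∈ T' <;> by_cases b3 : i ∈ N' <;>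
      simp_all [ev, chi]
  obtain rfl : c = c' := Finset.ext fun i => (key i).1
  obtain rfl : T = T' := Finset.ext fun i => (key i).2.1
  obtain rfl : N = N' := Finset.ext fun i => (key i).2.2
  rfl

theorem odSet_ncard {s : ℤ} {k : ℕ} (hs : s ≠ 0) : (odSet s k).ncard = 4096 * Nat.choose 24 k := by
  rw [odSet, Set.InjOn.ncard_image, Set.ncard_coe_finset, Finset.card_product, cwF_card,
    Finset.card_powersetCard, Finset.card_univ, card_univ_pt]
  rintro ⟨c, T⟩ - ⟨c', T'⟩ - h
  have key : ∀ i, (i ∈ c ↔ i ∈ c') ∧ (i ∈ T ↔ i ∈ T') := by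
    intro i
    have h1 := congrFun h i
    simp only [od, chi] at h1
    by_cases a1 : i ∈ c <;> by_cases a2 : i ∈ T <;> by_cases b1 : i ∈ c' <;> by_cases b2 : i ∈ T' <;>
      simp [a1, a2, b1, b2] at h1 ⊢ <;> omega
  obtain rfl : c = c' := Finset.ext fun i => (key i).1
  obtain rfl : T = T' := Finset.ext fun i => (key i).2
  rfl

theorem weight8 : (cwW 8).card = 759 := (cwW_card 8).trans octads_ncard

theorem weight12 : (cwW 12).card = 2576 := (cwW_card 12).trans dodecads_ncard

theorem not_mem_ev_of_odd {a b : ℕ} {x : GolayPt → ℤ} {i : GolayPt} (hi : (2 : ℤ) ∣ |x i| - 1) :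
    x ∉ evSet a b := fun h => by
  rcases (evSet_props h).2.2.1 i with h' | h' | h' <;> rw [h'] at hi <;> norm_num at hi

theorem odd_of_mem_od {s : ℤ} {k : ℕ} {x : GolayPt → ℤ} (h : x ∈ odSet s k) (i : GolayPt) :
    (2 : ℤ) ∣ |x i| - 1 := by
  rcases (odSet_props h).2.2.1 i with h' | h'
  · rw [h']; norm_num
  · rw [h']; rcases abs_choice (1 + 4 * s) with e | e <;> rw [e] <;> omega

theorem min_count : {x : GolayPt → ℤ | x ∈ leechLattice ∧ sqNorm x = 32}.ncard = 196560 := by
  rw [show {x : GolayPt → ℤ | x ∈ leechLattice ∧ sqNorm x = 32} = (evSet 0 2 ∪ evSet 8 0) ∪ odSet (-1) 1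
    from Set.ext fun x => classify32]
  have hev : ∀ a b, (evSet a b).Finite := fun a b => (Finset.finite_toSet _).image _
  have hod : ∀ s k, (odSet s k).Finite := fun s k => (Finset.finite_toSet _).image _
  rw [Set.ncard_union_eq _ ((hev _ _).union (hev _ _)) (hod _ _), Set.ncard_union_eq _ (hev _ _) (hev _ _),
    evSet_ncard (fun _ => rfl), evSet_ncard (by omega), odSet_ncard (by norm_num), cwW_zero, weight8]
  · rw [Nat.choose_two_right, Nat.choose_zero_right, Nat.choose_one_right]; norm_num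
  · refine Set.disjoint_left.mpr fun x h h' => ?_
    obtain ⟨i, hi⟩ := (evSet_props h).2.2.2.1 (by norm_num)
    exact (evSet_props h').2.2.2.2 rfl i hi
  · refine Set.disjoint_left.mpr fun x h h' => ?_
    rcases h with h | h <;> exact not_mem_ev_of_odd (odd_of_mem_od h' none) h

theorem shape_two : {x : GolayPt → ℤ | x ∈ leechLattice ∧ sqNorm x = 48 ∧
    ∀ i, x i = 0 ∨ x i = 2 ∨ x i = -2} = evSet 12 0 := by
  ext x
  constructor
  · rintro ⟨hx, hn, hs⟩
    rcases classify48.mp ⟨hx, hn⟩ with ((h | h) | h) | h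
    · exact h
    · obtain ⟨i, hi⟩ := (evSet_props h).2.2.2.1 one_ne_zero
      rcases hs i with e | e | e <;> rw [e] at hi <;> norm_num at hi
    · have := odd_of_mem_od h none
      rcases hs none with e | e | e <;> rw [e] at this <;> norm_num at this
    · have := odd_of_mem_od h none
      rcases hs none with e | e | e <;> rw [e] at this <;> norm_num at this
  · intro h
    refine ⟨(classify48.mpr (Or.inl (Or.inl (Or.inl h)))).1, (classify48.mpr (Or.inl (Or.inl (Or.inl h)))).2,
      fun i => ?_⟩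
    have h4 := (evSet_props h).2.2.2.2 rfl i
    have h' := (evSet_props h).2.2.1 i
    rcases abs_choice (x i) with e | e <;> rw [e] at h4 h' <;> omega

theorem shape_three : {x : GolayPt → ℤ | x ∈ leechLattice ∧ sqNorm x = 48 ∧
    ∃ i j k, i ≠ j ∧ j ≠ k ∧ i ≠ k ∧ |x i| = 3 ∧ |x j| = 3 ∧ |x k| = 3} = odSet (-1) 3 := by
  ext x
  constructor
  · rintro ⟨hx, hn, i, j, k, -, -, -, hi, -, -⟩
    rcases classify48.mp ⟨hx, hn⟩ with ((h | h) | h) | h
    · have := (evSet_props h).2.2.1 i; omega
    · have := (evSet_props h).2.2.1 i; omega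
    · exact h
    · have := (odSet_props h).2.2.1 i; norm_num [hi] at this
  · intro h
    obtain ⟨T, hT, hv⟩ := (odSet_props h).2.2.2
    obtain ⟨i, j, k, hij, hik, hjk, rfl⟩ := Finset.card_eq_three.mp hT
    have hm := classify48.mpr (Or.inl (Or.inr h))
    exact ⟨hm.1, hm.2, i, j, k, hij, hjk, hik, by rw [hv i (by simp)]; norm_num,
      by rw [hv j (by simp)]; norm_num, by rw [hv k (by simp)]; norm_num⟩

theorem shape_four : {x : GolayPt → ℤ | x ∈ leechLattice ∧ sqNorm x = 48 ∧ ∃ i, |x i| = 4} = evSet 8 1 := by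
  ext x
  constructor
  · rintro ⟨hx, hn, i, hi⟩
    rcases classify48.mp ⟨hx, hn⟩ with ((h | h) | h) | h
    · exact absurd hi ((evSet_props h).2.2.2.2 rfl i)
    · exact h
    · have := odd_of_mem_od h i; omega
    · have := odd_of_mem_od h i; omega
  · intro h
    have hm := classify48.mpr (Or.inl (Or.inl (Or.inr h)))
    exact ⟨hm.1, hm.2, (evSet_props h).2.2.2.1 one_ne_zero⟩

theorem shape_five : {x : GolayPt → ℤ | x ∈ leechLattice ∧ sqNorm x = 48 ∧ ∃ i, |x i| = 5} = odSet 1 1 := by
  ext x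
  constructor
  · rintro ⟨hx, hn, i, hi⟩
    rcases classify48.mp ⟨hx, hn⟩ with ((h | h) | h) | h
    · have := (evSet_props h).2.2.1 i; omega
    · have := (evSet_props h).2.2.1 i; omega
    · have := (odSet_props h).2.2.1 i; norm_num [hi] at this
    · exact h
  · intro h
    obtain ⟨T, hT, hv⟩ := (odSet_props h).2.2.2
    obtain ⟨i, hi⟩ := Finset.card_pos.mp (hT.symm ▸ Nat.one_pos : 0 < T.card)
    have hm := classify48.mpr (Or.inr h)
    exact ⟨hm.1, hm.2, i, by rw [hv i hi]; norm_num⟩

theorem shape_counts : (evSet 12 0).ncard = 5275648 ∧ (odSet (-1) 3).ncard = 8290304 ∧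
    (evSet 8 1).ncard = 3108864 ∧ (odSet 1 1).ncard = 98304 := by
  refine ⟨?_, ?_, ?_, ?_⟩
  · rw [evSet_ncard (by omega), weight12, Nat.choose_zero_right]; norm_num
  · rw [odSet_ncard (by norm_num), show Nat.choose 24 3 = 2024 by decide]
  · rw [evSet_ncard (by omega), weight8, Nat.choose_one_right]; norm_num
  · rw [odSet_ncard (by norm_num), Nat.choose_one_right]

theorem second_count : {x : GolayPt → ℤ | x ∈ leechLattice ∧ sqNorm x = 48}.ncard = 16773120 := by
  rw [show {x : GolayPt → ℤ | x ∈ leechLattice ∧ sqNorm x = 48} =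
      ((evSet 12 0 ∪ evSet 8 1) ∪ odSet (-1) 3) ∪ odSet 1 1
    from Set.ext fun x => classify48]
  have hev : ∀ a b, (evSet a b).Finite := fun a b => (Finset.finite_toSet _).image _
  have hod : ∀ s k, (odSet s k).Finite := fun s k => (Finset.finite_toSet _).image _
  obtain ⟨h1, h2, h3, h4⟩ := shape_counts
  rw [Set.ncard_union_eq _ (((hev _ _).union (hev _ _)).union (hod _ _)) (hod _ _),
    Set.ncard_union_eq _ ((hev _ _).union (hev _ _)) (hod _ _), Set.ncard_union_eq _ (hev _ _) (hev _ _),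
    h1, h2, h3, h4]
  · refine Set.disjoint_left.mpr fun x h h' => ?_
    obtain ⟨i, hi⟩ := (evSet_props h').2.2.2.1 one_ne_zero
    exact (evSet_props h).2.2.2.2 rfl i hi
  · refine Set.disjoint_left.mpr fun x h h' => ?_
    rcases h with h | h <;> exact not_mem_ev_of_odd (odd_of_mem_od h' none) h
  · refine Set.disjoint_left.mpr fun x h h' => ?_
    rcases h with (h | h) | h
    · exact not_mem_ev_of_odd (odd_of_mem_od h' none) h
    · exact not_mem_ev_of_odd (odd_of_mem_od h' none) h
    · obtain ⟨T, hT, hv⟩ := (odSet_props h).2.2.2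
      obtain ⟨i, hi⟩ := Finset.card_pos.mp (hT.symm ▸ Nat.succ_pos 2 : 0 < T.card)
      have := (odSet_props h').2.2.1 i
      norm_num [hv i hi] at this

end CfsgLeech
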