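/-
The lattice is generated by its minimal vectors.
-/
import Cfsg.Agent.Lib.Leech.Shapes

set_option autoImplicit false

namespace CfsgLeech

open Cfsg CfsgGolay

attribute [local irreducible] codeL octadL dodecadL

/-- The subgroup generated by the minimal vectors. -/
def minGrp : AddSubgroup (GolayPt → ℤ) :=
  AddSubgroup.closure {x : GolayPt → ℤ | x ∈ leechLattice ∧ sqNorm x = 32}

theorem mem_minGrp {x : GolayPt → ℤ}
    (h : (x ∈ evSet 0 2 ∨ x ∈ evSet 8 0) ∨ x ∈ odSet (-1) 1) : x ∈ minGrp :=
  AddSubgroup.subset_closure (classify32.mpr h)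

theorem four_single_mem {i j : GolayPt} (hij : i ≠ j) :
    (fun a => 4 * chi {i, j} a) ∈ minGrp ∧ (fun a => 4 * chi {i} a - 4 * chi {j} a) ∈ minGrp := by
  constructor <;> refine mem_minGrp (Or.inl (Or.inl (mem_evSet.mpr ?_)))
  · refine ⟨∅, {i, j}, ∅, CW_empty, rfl, Finset.disjoint_empty_right _, Finset.card_pair hij,
      Finset.empty_subset _, by simp, funext fun a => by simp [ev, chi]⟩
  · refine ⟨∅, {i, j}, {j}, CW_empty, rfl, Finset.disjoint_empty_right _, Finset.card_pair hij,
      by simp, by simp, funext fun a => ?_⟩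
    by_cases h1 : a = i
    · subst h1; simp [ev, chi, hij]
    · by_cases h2 : a = j
      · subst h2; simp [ev, chi, hij.symm]
      · simp [ev, chi, h1, h2]

theorem four_mul_mem {y : GolayPt → ℤ} (hy : (2 : ℤ) ∣ ∑ i, y i) : (fun a => 4 * y a) ∈ minGrp := by
  obtain ⟨u, hu⟩ := hy
  have h0 : (none : GolayPt) ≠ some 0 := by simp
  have h2 : (fun a => 8 * chi {none} a) ∈ minGrp := by
    have := add_mem (four_single_mem h0).1 (four_single_mem h0).2
    convert this using 1
    funext a
    simp only [Pi.add_apply]
    by_cases h1 : a = none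
    · subst h1; simp [chi]
    · by_cases h3 : a = some 0
      · subst h3; simp [chi]
      · simp [chi, h1, h3]
  have hd : ∀ i, (fun a => 4 * chi {i} a - 4 * chi {none} a) ∈ minGrp := by
    intro i
    by_cases hi : i = none
    · subst hi; convert zero_mem minGrp using 1; funext a; simp
    · exact (four_single_mem hi).2
  have he : (fun a => 4 * y a) =
      (∑ i, y i • fun a => 4 * chi {i} a - 4 * chi {none} a) + u • fun a => 8 * chi {none} a := by
    funext a
    simp only [Pi.add_apply, Finset.sum_apply, Pi.smul_apply, smul_eq_mul]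
    have h1 : ∑ i, y i * (4 * chi {i} a - 4 * chi {none} a) = 4 * y a - 4 * (∑ i, y i) * chi {none} a := by
      rw [Finset.mul_sum, Finset.sum_mul]
      have h3 : 4 * y a = ∑ i, 4 * (y i * chi {i} a) := by
        rw [← Finset.mul_sum, Finset.sum_eq_single a (fun b _ hb => by simp [chi, Ne.symm hb])
          (fun h => absurd (Finset.mem_univ a) h)]
        simp [chi]
      rw [h3, ← Finset.sum_sub_distrib]
      exact Finset.sum_congr rfl fun i _ => by ring
    rw [h1, hu]; ring
  rw [he]
  exact add_mem (sum_mem fun i _ => zsmul_mem (hd i) _) (zsmul_mem h2 u)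

theorem two_chi_mem {c : Finset GolayPt} (hc : c ∈ CW) : (fun a => 2 * chi c a) ∈ minGrp := by
  obtain ⟨w, hw, rfl⟩ := hc
  let S : Submodule (ZMod 2) (GolayPt → ZMod 2) :=
    { carrier := {v | v ∈ golayCode ∧ (fun a => 2 * chi (support₂ v) a) ∈ minGrp}
      zero_mem' := ⟨zero_mem _, by convert zero_mem minGrp using 1; funext a; simp [chi, support₂]⟩
      add_mem' := fun {v v'} hv hv' => ⟨add_mem hv.1 hv'.1, by
        have hsup : support₂ (v + v') = symmDiff (support₂ v) (support₂ v') := by
          ext p
          simp only [support₂, Finset.mem_filter, Finset.mem_univ, true_and, Pi.add_apply, Finset.mem_symmDiff]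
          generalize v p = x; generalize v' p = y; revert x y; decide
        have h4 : (fun a => 4 * chi (support₂ v ∩ support₂ v') a) ∈ minGrp := four_mul_mem (by
          rw [sum_chi]; exact CW_inter_even ⟨v, hv.1, rfl⟩ ⟨v', hv'.1, rfl⟩)
        have hm := sub_mem (add_mem hv.2 hv'.2) h4
        convert hm using 1
        funext a
        simp only [Pi.sub_apply, Pi.add_apply, hsup]
        have := chi_add (support₂ v) (support₂ v') a
        linarith⟩
      smul_mem' := fun r v hv => by
        obtain rfl | rfl := (show r = 0 ∨ r = 1 by revert r; decide)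
        · rw [zero_smul]
          exact ⟨zero_mem _, by convert zero_mem minGrp using 1; funext a; simp [chi, support₂]⟩
        · rwa [one_smul] }
  suffices w ∈ S from this.2
  have hs : toMask (support₂ w) ∈ spanList sysBasis := by
    have := toMask_support_mem hw
    rwa [show codeL = spanList sysBasis from by unfold codeL; rfl] at this
  rw [← wordOf_toMask_support w]
  refine spanList_subset S sysBasis (fun e he => ?_) _ hs
  have hb : (sysBasis.all fun e => decide (pc e = 8) && decide (e < 2 ^ 24)) = true := by decide +kernel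
  have hbe := List.all_eq_true.mp hb e he
  simp only [Bool.and_eq_true, decide_eq_true_eq] at hbe
  have hcode : wordOf e ∈ golayCode :=
    spanList_subset _ genMasks (fun g hg => genMask_mem hg) _
      (by simpa using List.all_eq_true.mp sys_subset_span e he)
  refine ⟨hcode, ?_⟩
  rw [support_wordOf]
  refine mem_minGrp (Or.inl (Or.inr (mem_evSet.mpr ⟨toSet e, ∅, ∅,
    ⟨_, hcode, support_wordOf e⟩, ?_, Finset.disjoint_empty_left _, rfl, Finset.empty_subset _, by simp,
    funext fun a => by simp [ev, chi]⟩)))
  rw [card_toSet, hbe.1]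

theorem minGrp_eq : minGrp = leechLattice := by
  refine le_antisymm ((AddSubgroup.closure_le _).mpr fun x hx => hx.1) fun x hx => ?_
  obtain ⟨e, c, y, he, hc, hxy, hs⟩ := (mem_leech.mp hx).normal
  rcases he with rfl | rfl
  · have hm := add_mem (two_chi_mem hc) (four_mul_mem (by simpa using hs))
    convert hm using 1
    funext a; simp [hxy a]
  · have hv : od (-1) ∅ {none} ∈ minGrp :=
      mem_minGrp (Or.inr (mem_odSet.mpr ⟨∅, {none}, CW_empty, Finset.card_singleton _, rfl⟩))
    have h4 : (fun a => 4 * (y a + chi {none} a)) ∈ minGrp := four_mul_mem (by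
      rw [Finset.sum_add_distrib, sum_chi, Finset.card_singleton]; omega)
    have hm := add_mem hv (add_mem (two_chi_mem hc) h4)
    convert hm using 1
    funext a
    simp only [Pi.add_apply, hxy a, od, Finset.notMem_empty, if_false]
    ring

end CfsgLeech
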