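/-
Symmetries and classes modulo twice the lattice.
-/
import Cfsg.Agent.Lib.Leech.Basic
import Cfsg.Agent.Lib.Golay.Classes

set_option autoImplicit false

namespace CfsgLeech

open Cfsg CfsgGolay
open scoped Pointwise

theorem CW_preimage {σ : Equiv.Perm GolayPt} (hσ : σ ∈ M24) {c : Finset GolayPt} (hc : c ∈ CW) :
    c.image σ.symm ∈ CW := image_mem_supports (inv_mem hσ) hc

theorem IsLeech.perm {σ : Equiv.Perm GolayPt} (hσ : σ ∈ M24) {x : GolayPt → ℤ} (h : IsLeech x) :
    IsLeech fun i => x (σ i) := by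
  obtain ⟨m, c, y, hc, hx, hs⟩ := h
  refine ⟨m, c.image σ.symm, fun i => y (σ i), CW_preimage hσ hc, fun i => ?_, ?_⟩
  · have hmem : i ∈ c.image σ.symm ↔ σ i ∈ c := by
      rw [Finset.mem_image]
      exact ⟨fun ⟨a, ha, he⟩ => by rw [← he, Equiv.apply_symm_apply]; exact ha,
        fun ha => ⟨_, ha, σ.symm_apply_apply i⟩⟩
    simp only [hx, chi, hmem]
  · rwa [Equiv.sum_comp σ y]

theorem IsLeech.signs {d : Finset GolayPt} (hd : d ∈ CW) {x : GolayPt → ℤ} (h : IsLeech x) :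
    IsLeech fun i => if i ∈ d then -x i else x i := by
  obtain ⟨m, c, y, hc, hx, hs⟩ := h
  obtain ⟨t, ht⟩ := CW_card_four hd
  have hv : IsLeech fun i => 2 * chi d i * x i := by
    refine ⟨0, if m % 2 = 0 then ∅ else d,
      fun i => m / 2 * chi d i + chi (c ∩ d) i + 2 * chi d i * y i, ?_, fun i => ?_, ?_⟩
    · split_ifs
      exacts [CW_empty, hd]
    · simp only [hx i]
      rcases Int.emod_two_eq_zero_or_one m with hm | hm <;> by_cases h1 : i ∈ d <;>
        by_cases h2 : i ∈ c <;> simp [hm, chi, h1, h2] <;> omega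
    · have h2 : (∑ i, 2 * chi d i * y i) = 2 * ∑ i, chi d i * y i := by
        rw [Finset.mul_sum]; simp [mul_assoc]
      obtain ⟨u, hu⟩ := CW_inter_even hc hd
      rw [Finset.sum_add_distrib, Finset.sum_add_distrib, ← Finset.mul_sum, sum_chi, sum_chi, h2, ht, hu]
      exact ⟨m / 2 * (2 * t) + u + ∑ i, chi d i * y i, by ring⟩
  have hs' := IsLeech.add ⟨m, c, y, hc, hx, hs⟩ hv.neg
  convert hs' using 1
  funext i
  simp only [Pi.add_apply, Pi.neg_apply, chi]
  by_cases hi : i ∈ d <;> simp [hi]; ring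

theorem sqNorm_min' {x : GolayPt → ℤ} (h : x ∈ leechLattice) (h0 : x ≠ 0) : 32 ≤ sqNorm x :=
  sqNorm_min (mem_leech.mp h) h0

theorem sqNorm_two (z : GolayPt → ℤ) : sqNorm (2 • z) = 4 * sqNorm z := by
  rw [sqNorm, sqNorm, Finset.mul_sum]
  refine Finset.sum_congr rfl fun i _ => ?_
  simp only [Pi.smul_apply, nsmul_eq_mul, Nat.cast_ofNat]; ring

theorem sqNorm_sub_add (x y : GolayPt → ℤ) :
    sqNorm (x - y) + 2 * dotInt x y = sqNorm x + sqNorm y ∧
      sqNorm (x + y) = sqNorm x + sqNorm y + 2 * dotInt x y := by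
  simp only [sqNorm, dotInt, Finset.mul_sum, ← Finset.sum_add_distrib]
  constructor <;> refine Finset.sum_congr rfl fun i _ => ?_ <;>
    simp only [Pi.sub_apply, Pi.add_apply] <;> ring

/-- Two short vectors in one class modulo twice the lattice. -/
theorem class_short {x y : GolayPt → ℤ} (hx : x ∈ leechLattice) (hxy : x ≠ y)
    (hxn : sqNorm x ≤ 64) (hyn : sqNorm y ≤ 64) (hc : ∃ z ∈ leechLattice, x - y = 2 • z) :
    x = -y ∨ (sqNorm x = 64 ∧ sqNorm y = 64 ∧ dotInt x y = 0) := by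
  obtain ⟨z, hz, he⟩ := hc
  have hz0 : z ≠ 0 := by
    intro h; rw [h, smul_zero, sub_eq_zero] at he; exact hxy he
  have hw : x + y = 2 • (x - z) := by rw [smul_sub, ← he]; abel
  by_cases hw0 : x - z = 0
  · exact Or.inl (by rw [hw0, smul_zero] at hw; exact eq_neg_of_add_eq_zero_left hw)
  right
  have h1 := sqNorm_min' hz hz0
  have h2 := sqNorm_min' (sub_mem hx hz) hw0
  obtain ⟨h3, h4⟩ := sqNorm_sub_add x y
  rw [he, sqNorm_two] at h3
  rw [hw, sqNorm_two] at h4
  omega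

end CfsgLeech
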