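/-
Monomial automorphisms of the lattice.
-/
import Cfsg.Agent.Lib.Leech.Sym
import Cfsg.Agent.Lib.Leech.Gen
import Cfsg.Prelude.Def_SporadicCombinatorics

set_option autoImplicit false

namespace CfsgLeech

open Cfsg CfsgGolay
open scoped Pointwise

attribute [local irreducible] codeL octadL dodecadL

theorem min_finite : {x : GolayPt → ℤ | x ∈ leechLattice ∧ sqNorm x = 32}.Finite := by
  rw [show {x : GolayPt → ℤ | x ∈ leechLattice ∧ sqNorm x = 32} = (evSet 0 2 ∪ evSet 8 0) ∪ odSet (-1) 1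
    from Set.ext fun x => classify32]
  exact (((Finset.finite_toSet _).image _).union ((Finset.finite_toSet _).image _)).union
    ((Finset.finite_toSet _).image _)

theorem lattice_map_bijective (F : ↥leechLattice →+ ↥leechLattice)
    (hn : ∀ v, sqNorm ((F v : ↥leechLattice) : GolayPt → ℤ) = sqNorm (v : GolayPt → ℤ)) :
    Function.Bijective F := by
  have hinj : Function.Injective F := by
    rw [injective_iff_map_eq_zero]
    intro v hv
    have := hn v
    rw [hv] at this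
    exact Subtype.ext (sqNorm_eq_zero (this.symm.trans (by simp [sqNorm])))
  refine ⟨hinj, fun w => ?_⟩
  set T : Set ↥leechLattice := {v | sqNorm (v : GolayPt → ℤ) = 32} with hT
  have hTf : T.Finite := Set.Finite.of_finite_image (f := Subtype.val) (min_finite.subset (by
    rintro _ ⟨v, hv, rfl⟩; exact ⟨v.2, hv⟩)) Subtype.val_injective.injOn
  have himg : F '' T = T := Set.eq_of_subset_of_ncard_le (by rintro _ ⟨v, hv, rfl⟩; exact (hn v).trans hv)
    (by rw [Set.ncard_image_of_injective _ hinj]) hTf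
  have key : ∀ x ∈ minGrp, ∃ v, ((F v : ↥leechLattice) : GolayPt → ℤ) = x := by
    intro x hx
    refine AddSubgroup.closure_induction (fun y hy => ?_) ?_ ?_ ?_ hx
    · have : (⟨y, hy.1⟩ : ↥leechLattice) ∈ T := hy.2
      rw [← himg] at this
      obtain ⟨v, -, hv⟩ := this
      exact ⟨v, congrArg Subtype.val hv⟩
    · exact ⟨0, by simp⟩
    · rintro a b - - ⟨u, rfl⟩ ⟨v, rfl⟩
      exact ⟨u + v, by simp⟩
    · rintro a - ⟨u, rfl⟩
      exact ⟨-u, by simp⟩
  obtain ⟨v, hv⟩ := key w (by rw [minGrp_eq]; exact w.2)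
  exact ⟨v, Subtype.ext hv⟩

/-- An automorphism from a map of integer vectors. -/
noncomputable def autOf (f : (GolayPt → ℤ) → (GolayPt → ℤ)) (hm : ∀ x ∈ leechLattice, f x ∈ leechLattice)
    (ha : ∀ x ∈ leechLattice, ∀ y ∈ leechLattice, f (x + y) = f x + f y)
    (hn : ∀ x ∈ leechLattice, sqNorm (f x) = sqNorm x) : ↥Co0 :=
  ⟨Equiv.ofBijective
      (AddMonoidHom.mk' (fun v : ↥leechLattice => (⟨f v, hm _ v.2⟩ : ↥leechLattice))
        fun v w => Subtype.ext (ha _ v.2 _ w.2))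
      (lattice_map_bijective _ fun v => hn _ v.2),
    fun v w => Subtype.ext (ha _ v.2 _ w.2), fun v => hn _ v.2⟩

theorem autOf_apply (f : (GolayPt → ℤ) → (GolayPt → ℤ)) (hm : ∀ x ∈ leechLattice, f x ∈ leechLattice)
    (ha : ∀ x ∈ leechLattice, ∀ y ∈ leechLattice, f (x + y) = f x + f y)
    (hn : ∀ x ∈ leechLattice, sqNorm (f x) = sqNorm x) (v : ↥leechLattice) :
    ((autOf f hm ha hn • v : ↥leechLattice) : GolayPt → ℤ) = f v := rfl

theorem signedPerm_mem {σ : Equiv.Perm GolayPt} (hσ : σ ∈ M24) {c : Finset GolayPt} (hc : c ∈ CW)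
    {x : GolayPt → ℤ} (hx : x ∈ leechLattice) : signedPerm σ c x ∈ leechLattice :=
  mem_leech.mpr (((mem_leech.mp hx).perm (inv_mem hσ)).signs hc)

theorem signedPerm_add (σ : Equiv.Perm GolayPt) (c : Finset GolayPt) (x y : GolayPt → ℤ) :
    signedPerm σ c (x + y) = signedPerm σ c x + signedPerm σ c y := by
  funext i
  simp only [signedPerm, Pi.add_apply]
  split_ifs <;> ring

theorem signedPerm_norm (σ : Equiv.Perm GolayPt) (c : Finset GolayPt) (x : GolayPt → ℤ) :
    sqNorm (signedPerm σ c x) = sqNorm x := by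
  have h : ∀ i, signedPerm σ c x i ^ 2 = x (σ.symm i) ^ 2 := fun i => by
    simp only [signedPerm]; split_ifs <;> ring
  simp only [sqNorm, h]
  exact Equiv.sum_comp σ.symm fun i => x i ^ 2

/-- The automorphism given by a permutation of the code group and a codeword. -/
noncomputable def monoAut (σ : Equiv.Perm GolayPt) (hσ : σ ∈ M24) (c : Finset GolayPt) (hc : c ∈ CW) : ↥Co0 :=
  autOf (signedPerm σ c) (fun _ hx => signedPerm_mem hσ hc hx) (fun x _ y _ => signedPerm_add σ c x y)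
    fun x _ => signedPerm_norm σ c x

theorem monoAut_apply (σ : Equiv.Perm GolayPt) (hσ : σ ∈ M24) (c : Finset GolayPt) (hc : c ∈ CW)
    (v : ↥leechLattice) : ((monoAut σ hσ c hc • v : ↥leechLattice) : GolayPt → ℤ) = signedPerm σ c v := rfl

/-- Two lattice vectors in one orbit. -/
def Eqv (x y : GolayPt → ℤ) : Prop :=
  ∃ g : ↥Co0, ∃ v w : ↥leechLattice, (v : GolayPt → ℤ) = x ∧ (w : GolayPt → ℤ) = y ∧ g • v = w

theorem Eqv.refl {x : GolayPt → ℤ} (hx : x ∈ leechLattice) : Eqv x x :=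
  ⟨1, ⟨x, hx⟩, ⟨x, hx⟩, rfl, rfl, one_smul _ _⟩

theorem Eqv.symm {x y : GolayPt → ℤ} (h : Eqv x y) : Eqv y x := by
  obtain ⟨g, v, w, hv, hw, he⟩ := h
  exact ⟨g⁻¹, w, v, hw, hv, by rw [← he, inv_smul_smul]⟩

theorem Eqv.trans {x y z : GolayPt → ℤ} (h : Eqv x y) (h' : Eqv y z) : Eqv x z := by
  obtain ⟨g, v, w, hv, hw, he⟩ := h
  obtain ⟨g', v', w', hv', hw', he'⟩ := h'
  obtain rfl : w = v' := Subtype.ext (hw.trans hv'.symm)
  exact ⟨g' * g, v, w', hv, hw', by rw [mul_smul, he, he']⟩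

theorem eqv_signedPerm {σ : Equiv.Perm GolayPt} (hσ : σ ∈ M24) {c : Finset GolayPt} (hc : c ∈ CW)
    {x y : GolayPt → ℤ} (hx : x ∈ leechLattice) (h : signedPerm σ c x = y) : Eqv x y :=
  ⟨monoAut σ hσ c hc, ⟨x, hx⟩, ⟨y, h ▸ signedPerm_mem hσ hc hx⟩, rfl, rfl, Subtype.ext h⟩

end CfsgLeech
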