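/-
The lattice vectors of sum of squares 64, by shape, and their number.
-/
import Cfsg.Agent.Lib.Leech.Counts

set_option autoImplicit false

namespace CfsgLeech

open Cfsg CfsgGolay

attribute [local irreducible] codeL octadL dodecadL

/-- An odd vector with one coordinate ±5 and the coordinates in `T` equal to ±3. -/
def od2 (c : Finset GolayPt) (i : GolayPt) (T : Finset GolayPt) (a : GolayPt) : ℤ :=
  if a ∈ c then -(1 + 4 * (chi {i} a - chi T a)) else 1 + 4 * (chi {i} a - chi T a)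

/-- Parameters of even vectors with one coordinate ±6. -/
noncomputable def sixP : Finset (Σ _ : Finset GolayPt, Σ _ : GolayPt, Finset GolayPt) :=
  (cwW 8).sigma fun c => c.sigma fun _ => c.powerset.filter fun N => ((N ∩ c).card + 1) % 2 = 0

/-- Even vectors with one coordinate ±6. -/
def sixSet : Set (GolayPt → ℤ) :=
  (fun q : (Σ _ : Finset GolayPt, Σ _ : GolayPt, Finset GolayPt) => ev q.1 {q.2.1} q.2.2) '' ↑sixP

/-- The vectors with one coordinate ±8. -/
def eightSet : Set (GolayPt → ℤ) :=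
  (fun q : GolayPt × ℤ => Pi.single q.1 q.2) '' ↑((Finset.univ : Finset GolayPt) ×ˢ ({8, -8} : Finset ℤ))

/-- Parameters of odd vectors with one ±5 and two ±3. -/
noncomputable def mixP : Finset (Finset GolayPt × Σ _ : GolayPt, Finset GolayPt) :=
  cwF ×ˢ ((Finset.univ : Finset GolayPt).sigma fun i => Finset.powersetCard 2 ({i}ᶜ : Finset GolayPt))

/-- Odd vectors with one ±5 and two ±3. -/
def mixSet : Set (GolayPt → ℤ) :=
  (fun q : Finset GolayPt × Σ _ : GolayPt, Finset GolayPt => od2 q.1 q.2.1 q.2.2) '' ↑mixP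

theorem mem_eightSet {x : GolayPt → ℤ} : x ∈ eightSet ↔ ∃ i s, (s = 8 ∨ s = -8) ∧ x = Pi.single i s := by
  simp only [eightSet, Set.mem_image, Finset.mem_coe, Finset.mem_product, Finset.mem_univ, true_and,
    Finset.mem_insert, Finset.mem_singleton, Prod.exists]
  constructor
  · rintro ⟨i, s, hs, rfl⟩; exact ⟨i, s, hs, rfl⟩
  · rintro ⟨i, s, hs, rfl⟩; exact ⟨i, s, hs, rfl⟩

theorem mem_sixSet {x : GolayPt → ℤ} : x ∈ sixSet ↔ ∃ c i N, c ∈ CW ∧ c.card = 8 ∧ i ∈ c ∧ N ⊆ c ∧
    ((N ∩ c).card + 1) % 2 = 0 ∧ x = ev c {i} N := by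
  simp only [sixSet, sixP, cwW, Set.mem_image, Finset.mem_coe, Finset.mem_sigma, Finset.mem_filter, mem_cwF,
    Finset.mem_powerset, Sigma.exists]
  constructor
  · rintro ⟨c, i, N, ⟨⟨hc, h8⟩, hi, hN, hp⟩, rfl⟩; exact ⟨c, i, N, hc, h8, hi, hN, hp, rfl⟩
  · rintro ⟨c, i, N, hc, h8, hi, hN, hp, rfl⟩; exact ⟨c, i, N, ⟨⟨hc, h8⟩, hi, hN, hp⟩, rfl⟩

theorem mem_mixSet {x : GolayPt → ℤ} : x ∈ mixSet ↔
    ∃ c i T, c ∈ CW ∧ T.card = 2 ∧ i ∉ T ∧ x = od2 c i T := by
  simp only [mixSet, mixP, Set.mem_image, Finset.mem_coe, Finset.mem_product, Finset.mem_sigma, mem_cwF,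
    Finset.mem_univ, true_and, Finset.mem_powersetCard, Prod.exists, Sigma.exists]
  constructor
  · rintro ⟨c, i, T, ⟨hc, hs, h2⟩, rfl⟩
    exact ⟨c, i, T, hc, h2, fun h => by simpa using hs h, rfl⟩
  · rintro ⟨c, i, T, hc, h2, hi, rfl⟩
    exact ⟨c, i, T, ⟨hc, fun a ha => by simpa using fun h => hi (by rw [← h]; exact ha), h2⟩, rfl⟩

theorem eightSet_props {x : GolayPt → ℤ} (h : x ∈ eightSet) : IsLeech x ∧ sqNorm x = 64 := by
  obtain ⟨i, s, hs, rfl⟩ := mem_eightSet.mp h
  refine ⟨⟨0, ∅, Pi.single i (s / 4), CW_empty, fun a => ?_, ?_⟩, ?_⟩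
  · by_cases ha : a = i
    · subst ha; rcases hs with rfl | rfl <;> simp [chi]
    · simp [chi, ha]
  · rw [Finset.sum_pi_single']
    rcases hs with rfl | rfl <;> simp
  · rw [sqNorm, Finset.sum_eq_single i (fun b _ hb => by simp [hb]) (fun h => absurd (Finset.mem_univ i) h)]
    rcases hs with rfl | rfl <;> simp

theorem sixSet_props {x : GolayPt → ℤ} (h : x ∈ sixSet) :
    IsLeech x ∧ sqNorm x = 64 ∧ (∀ a, |x a| = 0 ∨ |x a| = 2 ∨ |x a| = 6) ∧ ∃ a, |x a| = 6 := by
  obtain ⟨c, i, N, hc, h8, hi, hN, hp, rfl⟩ := mem_sixSet.mp h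
  have habs : ∀ a, |ev c {i} N a| = 2 * chi c a + 4 * chi {i} a := fun a => by
    have h1 : (0 : ℤ) ≤ 2 * chi c a + 4 * chi {i} a := by simp only [chi]; split_ifs <;> norm_num
    rw [ev]; split_ifs <;> simp only [abs_neg, abs_of_nonneg h1]
  refine ⟨⟨0, c, fun a => chi {i} a - chi (N ∩ c) a - 2 * chi (N ∩ {i}) a, hc, fun a => ?_, ?_⟩, ?_, fun a => ?_,
    i, by rw [habs]; simp [chi, hi]⟩
  · have hNc : a ∈ N → a ∈ c := fun h => hN h
    have hic : a = i → a ∈ c := fun h => h ▸ hi
    by_cases h1 : a ∈ N <;> by_cases h2 : a ∈ c <;> by_cases h3 : a = i <;> simp_all [ev, chi]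
  · simp only [Finset.sum_sub_distrib, ← Finset.mul_sum, sum_chi, Finset.card_singleton]
    omega
  · have h32 : (64 : ℤ) = 4 * (c.card : ℤ) + 32 * (({i} : Finset GolayPt).card : ℤ) := by simp [h8]
    rw [sqNorm, h32, ← sum_chi c, ← sum_chi {i}, Finset.mul_sum, Finset.mul_sum, ← Finset.sum_add_distrib]
    refine Finset.sum_congr rfl fun a _ => ?_
    rw [← sq_abs, habs]
    by_cases h3 : a = i
    · subst h3; simp [chi, hi]
    · by_cases h2 : a ∈ c <;> simp [chi, h2, h3]
  · rw [habs]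
    by_cases h3 : a = i
    · subst h3; simp [chi, hi]
    · by_cases h2 : a ∈ c <;> simp [chi, h2, h3]

theorem mixSet_props {x : GolayPt → ℤ} (h : x ∈ mixSet) :
    IsLeech x ∧ sqNorm x = 64 ∧ (∀ a, |x a| = 1 ∨ |x a| = 3 ∨ |x a| = 5) ∧ ∃ a, |x a| = 5 := by
  obtain ⟨c, i, T, hc, hT, hi, rfl⟩ := mem_mixSet.mp h
  have habs : ∀ a, |od2 c i T a| = |1 + 4 * (chi {i} a - chi T a)| := fun a => by
    rw [od2]; split_ifs <;> simp only [abs_neg]
  refine ⟨⟨1, c, fun a => (chi {i} a - chi T a) - chi c a * (1 + 2 * (chi {i} a - chi T a)), hc, fun a => ?_, ?_⟩,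
    ?_, fun a => ?_, i, by rw [habs]; simp [chi, hi]⟩
  · by_cases h2 : a ∈ c <;> simp only [od2, chi, h2, if_true, if_false] <;> ring
  · have he : (∑ a, chi c a * (1 + 2 * (chi {i} a - chi T a))) =
        (c.card : ℤ) + 2 * ∑ a, chi c a * (chi {i} a - chi T a) := by
      rw [← sum_chi c, Finset.mul_sum, ← Finset.sum_add_distrib]
      exact Finset.sum_congr rfl fun a _ => by ring
    rw [Finset.sum_sub_distrib, he, Finset.sum_sub_distrib, sum_chi, sum_chi, Finset.card_singleton, hT]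
    have := CW_card_four hc
    omega
  · have h64 : (64 : ℤ) = 24 + 24 * (({i} : Finset GolayPt).card : ℤ) + 8 * (T.card : ℤ) := by simp [hT]
    rw [sqNorm, h64, ← sum_chi {i}, ← sum_chi T, Finset.mul_sum, Finset.mul_sum,
      show (24 : ℤ) = ∑ _i : GolayPt, (1 : ℤ) by simp [card_univ_pt], ← Finset.sum_add_distrib,
      ← Finset.sum_add_distrib]
    refine Finset.sum_congr rfl fun a _ => ?_
    rw [← sq_abs, habs, sq_abs]
    by_cases h3 : a = i
    · subst h3; simp [chi, hi, card_univ_pt]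
    · by_cases h2 : a ∈ T <;> simp [chi, h2, h3, card_univ_pt]
  · rw [habs]
    by_cases h3 : a = i
    · subst h3; simp [chi, hi]
    · by_cases h2 : a ∈ T <;> simp [chi, h2, h3]

theorem even_class64 {c : Finset GolayPt} {y x : GolayPt → ℤ} (hc : c ∈ CW)
    (hx : ∀ i, x i = 2 * chi c i + 4 * y i) (hs : (2 : ℤ) ∣ ∑ i, y i) (hn : sqNorm x = 64) :
    x ∈ eightSet ∨ x ∈ evSet 0 4 ∨ x ∈ evSet 8 2 ∨ x ∈ sixSet ∨ x ∈ evSet 12 1 ∨ x ∈ evSet 16 0 := by
  by_cases h8 : ∃ i, x i = 8 ∨ x i = -8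
  · left
    obtain ⟨i, hi⟩ := h8
    refine mem_eightSet.mpr ⟨i, x i, hi, funext fun a => ?_⟩
    by_cases ha : a = i
    · subst ha; simp
    · have h2 : x i ^ 2 + x a ^ 2 ≤ sqNorm x := by
        rw [← Finset.sum_pair (f := fun j => x j ^ 2) (Ne.symm ha)]
        exact Finset.sum_le_univ_sum_of_nonneg fun j => sq_nonneg _
      have : x a ^ 2 = 0 := by
        have := sq_nonneg (x a)
        rcases hi with h | h <;> rw [h] at h2 <;> omega
      simp [ha, pow_eq_zero_iff two_ne_zero |>.mp this]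
  right
  push_neg at h8
  have hb : ∀ i, x i = 0 ∨ x i = 2 ∨ x i = -2 ∨ x i = 4 ∨ x i = -4 ∨ x i = 6 ∨ x i = -6 := by
    intro i
    have h1 : x i ^ 2 ≤ 64 := hn ▸ Finset.single_le_sum (fun j _ => sq_nonneg (x j)) (Finset.mem_univ i)
    have h2 : (2 : ℤ) ∣ x i := ⟨chi c i + 2 * y i, by rw [hx i]; ring⟩
    have := h8 i
    have : -9 < x i ∧ x i < 9 := by constructor <;> nlinarith
    omega
  set T := Finset.univ.filter fun i => 4 ≤ |x i| with hT
  set N := Finset.univ.filter fun i => x i < 0 with hN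
  have key : ∀ i, x i = ev c T N i ∧ y i = chi T i - chi (N ∩ c) i - 2 * chi (N ∩ T) i ∧ (i ∈ N → i ∈ c ∪ T) ∧
      x i ^ 2 = 4 * chi c i + 16 * chi T i + 16 * chi (T ∩ c) i := by
    intro i
    have hv := hx i
    by_cases hi : i ∈ c
    · rw [show chi c i = 1 by simp [chi, hi]] at hv
      rcases hb i with e | e | e | e | e | e | e <;> simp [ev, chi, hT, hN, hi, e] <;> omega
    · rw [show chi c i = 0 by simp [chi, hi]] at hv
      rcases hb i with e | e | e | e | e | e | e <;> simp [ev, chi, hT, hN, hi, e] <;> omega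
  have hnorm : (4 : ℤ) * c.card + 16 * T.card + 16 * (T ∩ c).card = 64 := by
    rw [← hn, sqNorm, Finset.sum_congr rfl fun i _ => (key i).2.2.2]
    simp only [Finset.sum_add_distrib, ← Finset.mul_sum, sum_chi]
  have hpar : ((N ∩ c).card + T.card) % 2 = 0 := by
    rw [Finset.sum_congr rfl fun i _ => (key i).2.1] at hs
    simp only [Finset.sum_sub_distrib, ← Finset.mul_sum, sum_chi] at hs
    omega
  have hev : x = ev c T N := funext fun i => (key i).1
  have hsub : N ⊆ c ∪ T := fun i hi => (key i).2.2.1 hi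
  have hle : (T ∩ c).card ≤ c.card := Finset.card_le_card Finset.inter_subset_right
  have hle' : (T ∩ c).card ≤ T.card := Finset.card_le_card Finset.inter_subset_left
  by_cases hd : (T ∩ c).card = 0
  · have hdis : Disjoint T c := Finset.disjoint_iff_inter_eq_empty.mpr (Finset.card_eq_zero.mp hd)
    have hm : x ∈ evSet c.card T.card := mem_evSet.mpr ⟨c, T, N, hc, rfl, hdis, rfl, hsub, hpar, hev⟩
    rcases code_weight_cases hc with h | h | h | h | h
    · rw [h, show T.card = 4 by omega] at hm; exact Or.inl hm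
    · rw [h, show T.card = 2 by omega] at hm; exact Or.inr (Or.inl hm)
    · rw [h, show T.card = 1 by omega] at hm; exact Or.inr (Or.inr (Or.inr (Or.inl hm)))
    · rw [h, show T.card = 0 by omega] at hm; exact Or.inr (Or.inr (Or.inr (Or.inr hm)))
    · omega
  · have h8c : c.card = 8 := by
      rcases code_weight_cases hc with h | h | h | h | h <;> omega
    obtain ⟨i, hi⟩ := Finset.card_eq_one.mp (show T.card = 1 by omega)
    have hic : i ∈ c := by
      by_contra h
      apply hd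
      rw [hi, Finset.singleton_inter_of_notMem h, Finset.card_empty]
    refine Or.inr (Or.inr (Or.inl (mem_sixSet.mpr ⟨c, i, N, hc, h8c, hic, fun a ha => ?_, ?_, hi ▸ hev⟩)))
    · rcases Finset.mem_union.mp (hsub ha) with h | h
      · exact h
      · rw [hi, Finset.mem_singleton] at h; exact h ▸ hic
    · rw [show T.card = 1 by omega] at hpar; exact hpar

theorem odd_class64 {c : Finset GolayPt} {y x : GolayPt → ℤ} (hc : c ∈ CW)
    (hx : ∀ i, x i = 1 + 2 * chi c i + 4 * y i) (hn : sqNorm x = 64) :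
    x ∈ odSet (-1) 5 ∨ x ∈ mixSet := by
  set w : GolayPt → ℤ := fun i => if i ∈ c then -y i - 1 else y i with hw
  have hxw : ∀ i, x i = if i ∈ c then -(1 + 4 * w i) else 1 + 4 * w i := fun i => by
    by_cases hi : i ∈ c <;> simp [hx i, hw, chi, hi] <;> ring
  have hf0 : ∀ i, 0 ≤ 2 * w i ^ 2 + w i := fun i => by
    rcases (show w i ≥ 0 ∨ w i ≤ -1 by omega) with h | h <;> nlinarith
  have hnorm : sqNorm x = 24 + 8 * ∑ i, (2 * w i ^ 2 + w i) := by
    rw [sqNorm, Finset.mul_sum, show (24 : ℤ) = ∑ _i : GolayPt, (1 : ℤ) by simp [card_univ_pt],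
      ← Finset.sum_add_distrib]
    refine Finset.sum_congr rfl fun i _ => ?_
    rw [hxw i]; split_ifs <;> ring
  have hle : ∑ i, (2 * w i ^ 2 + w i) = 5 := by omega
  have hwb : ∀ i, w i = -1 ∨ w i = 0 ∨ w i = 1 := by
    intro i
    have h1 := hle ▸ Finset.single_le_sum (fun j _ => hf0 j) (Finset.mem_univ i)
    by_contra hbad
    rcases (show w i ≥ 2 ∨ w i ≤ -2 by omega) with h | h <;> nlinarith
  set T := Finset.univ.filter fun i => w i = -1 with hT
  set P := Finset.univ.filter fun i => w i = 1 with hP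
  have hwi : ∀ i, w i = chi P i - chi T i ∧ 2 * w i ^ 2 + w i = 3 * chi P i + chi T i := fun i => by
    rcases hwb i with h | h | h <;> simp [chi, hT, hP, h]
  have hcnt : 3 * (P.card : ℤ) + T.card = 5 := by
    rw [← hle, Finset.sum_congr rfl fun i _ => (hwi i).2]
    simp only [Finset.sum_add_distrib, ← Finset.mul_sum, sum_chi]
  by_cases h0 : P.card = 0
  · refine Or.inl (mem_odSet.mpr ⟨c, T, hc, by omega, funext fun i => ?_⟩)
    rw [hxw i, (hwi i).1, od, Finset.card_eq_zero.mp h0]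
    by_cases hi : i ∈ c <;> by_cases hiT : i ∈ T <;> simp [chi, hi, hiT]
  · obtain ⟨i₀, hi₀⟩ := Finset.card_eq_one.mp (show P.card = 1 by omega)
    refine Or.inr (mem_mixSet.mpr ⟨c, i₀, T, hc, by omega, fun h => ?_, funext fun i => ?_⟩)
    · have h1 : i₀ ∈ P := hi₀ ▸ Finset.mem_singleton_self _
      simp only [hT, hP, Finset.mem_filter, Finset.mem_univ, true_and] at h h1
      omega
    · rw [hxw i, (hwi i).1, od2, hi₀]

theorem classify64 {x : GolayPt → ℤ} : (x ∈ leechLattice ∧ sqNorm x = 64) ↔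
    (x ∈ eightSet ∨ x ∈ evSet 0 4 ∨ x ∈ evSet 8 2 ∨ x ∈ sixSet ∨ x ∈ evSet 12 1 ∨ x ∈ evSet 16 0) ∨
      (x ∈ odSet (-1) 5 ∨ x ∈ mixSet) := by
  rw [mem_leech]
  constructor
  · rintro ⟨hx, hn⟩
    obtain ⟨e, c, y, rfl | rfl, hc, hxy, hs⟩ := hx.normal
    · exact Or.inl (even_class64 (y := y) hc (fun i => by rw [hxy i]; ring) (by simpa using hs) hn)
    · exact Or.inr (odd_class64 (y := y) hc hxy hn)
  · rintro ((h | h | h | h | h | h) | h | h)
    · exact eightSet_props h
    · exact ⟨(evSet_props h).1, by rw [(evSet_props h).2.1]; norm_num⟩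
    · exact ⟨(evSet_props h).1, by rw [(evSet_props h).2.1]; norm_num⟩
    · exact ⟨(sixSet_props h).1, (sixSet_props h).2.1⟩
    · exact ⟨(evSet_props h).1, by rw [(evSet_props h).2.1]; norm_num⟩
    · exact ⟨(evSet_props h).1, by rw [(evSet_props h).2.1]; norm_num⟩
    · exact ⟨(odSet_props h).1 (by norm_num), by rw [(odSet_props h).2.1]; norm_num⟩
    · exact ⟨(mixSet_props h).1, (mixSet_props h).2.1⟩

theorem sixSet_ncard : sixSet.ncard = 777216 := by
  rw [sixSet, Set.InjOn.ncard_image, Set.ncard_coe_finset, sixP, Finset.card_sigma,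
    Finset.sum_const_nat (m := 1024), weight8]
  · intro c hc
    have hca : c.card = 8 := (Finset.mem_filter.mp hc).2
    rw [Finset.card_sigma, Finset.sum_const_nat (m := 128), hca]
    intro i hi
    rw [card_parity_filter hi hi, hca]
    rfl
  · rintro ⟨c, i, N⟩ hq ⟨c', i', N'⟩ hq' h
    simp only [Finset.mem_coe, sixP, Finset.mem_sigma, Finset.mem_filter, Finset.mem_powerset] at hq hq'
    have key : ∀ a, (a ∈ c ↔ a ∈ c') ∧ (a = i ↔ a = i') ∧ (a ∈ N ↔ a ∈ N') := by
      intro a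
      have h1 := congrFun h a
      have hN : a ∈ N → a ∈ c := fun ha => hq.2.2.1 ha
      have hN' : a ∈ N' → a ∈ c' := fun ha => hq'.2.2.1 ha
      have hi : a = i → a ∈ c := fun ha => ha ▸ hq.2.1
      have hi' : a = i' → a ∈ c' := fun ha => ha ▸ hq'.2.1
      by_cases a1 : a ∈ c <;> by_cases a2 : a = i <;> by_cases a3 : a ∈ N <;>
        by_cases b1 : a ∈ c' <;> by_cases b2 : a = i' <;> by_cases b3 : a ∈ N' <;>
        simp_all [ev, chi]
    obtain rfl : c = c' := Finset.ext fun a => (key a).1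
    obtain rfl : i = i' := (key i).2.1.mp rfl
    obtain rfl : N = N' := Finset.ext fun a => (key a).2.2
    rfl

theorem eightSet_ncard : eightSet.ncard = 48 := by
  rw [eightSet, Set.InjOn.ncard_image, Set.ncard_coe_finset, Finset.card_product, Finset.card_univ, card_univ_pt,
    Finset.card_pair (by norm_num)]
  rintro ⟨i, s⟩ hq ⟨i', s'⟩ hq' h
  simp only [Finset.mem_coe, Finset.mem_product, Finset.mem_insert, Finset.mem_singleton] at hq hq'
  have h1 := congrFun h i
  simp only [Pi.single_eq_same] at h1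
  by_cases hi : i = i'
  · subst hi; simp at h1; rw [h1]
  · simp [hi] at h1; omega

theorem mixSet_ncard : mixSet.ncard = 24870912 := by
  rw [mixSet, Set.InjOn.ncard_image, Set.ncard_coe_finset, mixP, Finset.card_product, cwF_card, Finset.card_sigma,
    Finset.sum_const_nat (m := 253), Finset.card_univ, card_univ_pt]
  · intro i _
    rw [Finset.card_powersetCard, Finset.card_compl, card_univ_pt, Finset.card_singleton]
    decide
  · rintro ⟨c, ⟨i, T⟩⟩ hq ⟨c', ⟨i', T'⟩⟩ hq' h
    simp only [Finset.mem_coe, mixP, Finset.mem_product, Finset.mem_sigma, Finset.mem_powersetCard] at hq hq'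
    have hiT : i ∉ T := fun ha => by simpa using hq.2.2.1 ha
    have hiT' : i' ∉ T' := fun ha => by simpa using hq'.2.2.1 ha
    have key : ∀ a, (a ∈ c ↔ a ∈ c') ∧ (a = i ↔ a = i') ∧ (a ∈ T ↔ a ∈ T') := by
      intro a
      have h1 := congrFun h a
      have hi : a = i → a ∉ T := fun ha => ha ▸ hiT
      have hi' : a = i' → a ∉ T' := fun ha => ha ▸ hiT'
      simp only [od2, chi, Finset.mem_singleton] at h1
      split_ifs at h1 <;> first | omega | tauto
    obtain rfl : c = c' := Finset.ext fun a => (key a).1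
    obtain rfl : i = i' := (key i).2.1.mp rfl
    obtain rfl : T = T' := Finset.ext fun a => (key a).2.2
    rfl

theorem weight16 : (cwW 16).card = 759 := by
  rw [← weight8]
  refine Finset.card_nbij' (fun c => cᶜ) (fun c => cᶜ) ?_ ?_ (fun c _ => compl_compl c) (fun c _ => compl_compl c)
  all_goals
    intro c hc
    simp only [cwW, Finset.coe_filter, mem_cwF, Set.mem_setOf_eq] at hc ⊢
    refine ⟨CW_compl hc.1, ?_⟩
    rw [Finset.card_compl, card_univ_pt, hc.2]

theorem third_count : {x : GolayPt → ℤ | x ∈ leechLattice ∧ sqNorm x = 64}.ncard = 398034000 := by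
  rw [show {x : GolayPt → ℤ | x ∈ leechLattice ∧ sqNorm x = 64} =
      (eightSet ∪ (evSet 0 4 ∪ (evSet 8 2 ∪ (sixSet ∪ (evSet 12 1 ∪ evSet 16 0))))) ∪ (odSet (-1) 5 ∪ mixSet)
    from Set.ext fun x => classify64]
  have hev : ∀ a b, (evSet a b).Finite := fun a b => (Finset.finite_toSet _).image _
  have f8 : eightSet.Finite := (Finset.finite_toSet _).image _
  have f6 : sixSet.Finite := (Finset.finite_toSet _).image _
  have fm : mixSet.Finite := (Finset.finite_toSet _).image _
  have fo : (odSet (-1) 5).Finite := (Finset.finite_toSet _).image _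
  have sevs : ∀ {a b x}, x ∈ evSet a b → ∀ i, |x i| = 0 ∨ |x i| = 2 ∨ |x i| = 4 := fun h => (evSet_props h).2.2.1
  have four : ∀ {a b x}, b ≠ 0 → x ∈ evSet a b → ∃ i, |x i| = 4 := fun hb h => (evSet_props h).2.2.2.1 hb
  have card4 : ∀ {a b x}, x ∈ evSet a b → (Finset.univ.filter fun i => |x i| = 4).card = b := by
    intro a b x h
    obtain ⟨c, T, N, -, -, hT, rfl, -, -, rfl⟩ := mem_evSet.mp h
    congr 1
    ext i
    simp only [Finset.mem_filter, Finset.mem_univ, true_and, ev]
    have hd : i ∈ T → i ∉ c := fun hi => Finset.disjoint_left.mp hT hi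
    by_cases h1 : i ∈ N <;> by_cases h2 : i ∈ c <;> by_cases h3 : i ∈ T <;> simp [chi, h1, h2, h3] at hd ⊢
  have dev : ∀ {a b a' b'}, b ≠ b' → Disjoint (evSet a b) (evSet a' b') := fun hb =>
    Set.disjoint_left.mpr fun x h h' => hb ((card4 h).symm.trans (card4 h'))
  have d6 : ∀ {a b}, Disjoint sixSet (evSet a b) := fun {a b} => Set.disjoint_left.mpr fun x h h' => by
    obtain ⟨i, hi⟩ := (sixSet_props h).2.2.2
    have := sevs h' i; omega
  have d8 : ∀ {a b}, Disjoint eightSet (evSet a b) := fun {a b} => Set.disjoint_left.mpr fun x h h' => by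
    obtain ⟨i, s, hs, rfl⟩ := mem_eightSet.mp h
    have := sevs h' i
    rcases hs with rfl | rfl <;> simp at this
  rw [Set.ncard_union_eq _ (f8.union ((hev _ _).union ((hev _ _).union (f6.union ((hev _ _).union (hev _ _))))))
      (fo.union fm),
    Set.ncard_union_eq _ f8 ((hev _ _).union ((hev _ _).union (f6.union ((hev _ _).union (hev _ _))))),
    Set.ncard_union_eq _ (hev _ _) ((hev _ _).union (f6.union ((hev _ _).union (hev _ _)))),
    Set.ncard_union_eq _ (hev _ _) (f6.union ((hev _ _).union (hev _ _))),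
    Set.ncard_union_eq _ f6 ((hev _ _).union (hev _ _)), Set.ncard_union_eq _ (hev _ _) (hev _ _),
    Set.ncard_union_eq _ fo fm, eightSet_ncard, sixSet_ncard, mixSet_ncard,
    evSet_ncard (a := 0) (b := 4) (fun _ => rfl), evSet_ncard (a := 8) (by omega),
    evSet_ncard (a := 12) (by omega), evSet_ncard (a := 16) (by omega),
    odSet_ncard (by norm_num), cwW_zero, weight8, weight12, weight16]
  · rw [show Nat.choose (24 - 0) 4 = 10626 by decide, show Nat.choose (24 - 8) 2 = 120 by decide,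
      show Nat.choose (24 - 12) 1 = 12 by decide, show Nat.choose (24 - 16) 0 = 1 by decide,
      show Nat.choose 24 5 = 42504 by decide]
    norm_num
  · refine Set.disjoint_left.mpr fun x h h' => ?_
    obtain ⟨i, hi⟩ := (mixSet_props h').2.2.2
    have := (odSet_props h).2.2.1 i
    norm_num [hi] at this
  · exact dev (by norm_num)
  · exact Set.disjoint_union_right.mpr ⟨d6, d6⟩
  · exact Set.disjoint_union_right.mpr ⟨d6.symm, Set.disjoint_union_right.mpr ⟨dev (by norm_num), dev (by norm_num)⟩⟩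
  · exact Set.disjoint_union_right.mpr ⟨dev (by norm_num), Set.disjoint_union_right.mpr ⟨d6.symm,
      Set.disjoint_union_right.mpr ⟨dev (by norm_num), dev (by norm_num)⟩⟩⟩
  · refine Set.disjoint_union_right.mpr ⟨d8, Set.disjoint_union_right.mpr ⟨d8, Set.disjoint_union_right.mpr
      ⟨?_, Set.disjoint_union_right.mpr ⟨d8, d8⟩⟩⟩⟩
    refine Set.disjoint_left.mpr fun x h h' => ?_
    obtain ⟨i, s, hs, rfl⟩ := mem_eightSet.mp h
    have := (sixSet_props h').2.2.1 i
    rcases hs with rfl | rfl <;> simp at this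
  · have hodd : ∀ {x}, x ∈ odSet (-1) 5 ∪ mixSet → (2 : ℤ) ∣ |x none| - 1 := by
      rintro x (h | h)
      · exact odd_of_mem_od h none
      · have := (mixSet_props h).2.2.1 none; omega
    refine Set.disjoint_left.mpr fun x h h' => ?_
    have ho := hodd h'
    rcases h with h | h | h | h | h | h
    · obtain ⟨i, s, hs, rfl⟩ := mem_eightSet.mp h
      by_cases hi : none = i
      · subst hi; rcases hs with rfl | rfl <;> norm_num at ho
      · simp [hi] at ho
    · exact not_mem_ev_of_odd ho h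
    · exact not_mem_ev_of_odd ho h
    · have := (sixSet_props h).2.2.1 none; omega
    · exact not_mem_ev_of_odd ho h
    · exact not_mem_ev_of_odd ho h

end CfsgLeech
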