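/-
The monomial automorphisms are transitive on each shape.
-/
import Cfsg.Agent.Lib.Leech.Mono
import Cfsg.Agent.Lib.Leech.Shapes64
import Cfsg.Agent.Lib.Golay.OctPairs
import Cfsg.Agent.Lib.Golay.Small

set_option autoImplicit false

namespace CfsgLeech

open Cfsg CfsgGolay
open scoped Pointwise

attribute [local irreducible] codeL octadL dodecadL slpCodes

/-- Codewords cut out all even sign patterns on `U` (relative to `C`). -/
def signsB (U C p : ℕ) : Bool :=
  (List.range 24).all fun q => !(U.testBit q) || (Nat.beq q p && C.testBit q) ||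
    codeL.any fun e => Nat.beq (e &&& U) (if C.testBit q then 2 ^ q ||| 2 ^ p else 2 ^ q)

theorem toSet_zero_empty : toSet 0 = (∅ : Finset GolayPt) := by ext; simp

theorem toSet_two_pow {q : ℕ} (hq : q < 24) : toSet (2 ^ q) = {pt q} := by
  revert q; decide +kernel

theorem reach_signs {U C p : ℕ} (hp : p < 24) (hpC : C = 0 ∨ C.testBit p = true) (hCU : C &&& U = C)
    (h : signsB U C p = true) {D : Finset GolayPt} (hD : D ⊆ toSet U) (hev : 2 ∣ (D ∩ toSet C).card) :
    ∃ e ∈ CW, e ∩ toSet U = D := by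
  suffices H : ∀ n, ∀ D : Finset GolayPt, (D.erase (pt p)).card + 2 * D.card = n → D ⊆ toSet U →
      2 ∣ (D ∩ toSet C).card → ∃ e ∈ CW, e ∩ toSet U = D from H _ D rfl hD hev
  intro n
  induction n using Nat.strong_induction_on with
  | _ n ih =>
    intro D hn hD hev
    by_cases h0 : D = ∅
    · exact ⟨∅, CW_empty, by simp [h0]⟩
    -- choose a point of `D`, preferably different from the pivot
    obtain ⟨q, hqD, hq⟩ : ∃ q ∈ D, q ≠ pt p ∨ q ∉ toSet C := by
      by_contra hc
      push_neg at hc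
      have hsub : D = {pt p} :=
        Finset.eq_singleton_iff_nonempty_unique_mem.mpr ⟨Finset.nonempty_iff_ne_empty.mpr h0, fun q hq => (hc q hq).1⟩
      have hin : pt p ∈ toSet C := (hc _ (hsub ▸ Finset.mem_singleton_self _)).2
      rw [hsub, Finset.singleton_inter_of_mem hin, Finset.card_singleton] at hev
      omega
    have hi := List.all_eq_true.mp h (idx q) (List.mem_range.mpr (idx_lt q))
    have hqU : U.testBit (idx q) = true := mem_toSet.mp (hD hqD)
    simp only [hqU, Bool.not_true, Bool.false_or, Bool.or_eq_true, Bool.and_eq_true, List.any_eq_true,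
      Nat.beq_eq] at hi
    rcases hi with ⟨hqp, hqC⟩ | ⟨m, hm, hmU⟩
    · exfalso
      rcases hq with hq | hq
      · exact hq (by rw [← pt_idx q, hqp])
      · exact hq (mem_toSet.mpr hqC)
    have hmW : toSet m ∈ CW := ⟨wordOf m, codeL_mem hm, support_wordOf m⟩
    have hcut : toSet m ∩ toSet U = if q ∈ toSet C then {q, pt p} else {q} := by
      rw [← toSet_and, hmU]
      by_cases hqC : q ∈ toSet C
      · rw [if_pos (mem_toSet.mp hqC), if_pos hqC, toSet_or, toSet_two_pow (idx_lt q), toSet_two_pow hp, pt_idx,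
          Finset.insert_eq]
      · rw [if_neg (fun hc => hqC (mem_toSet.mpr hc)), if_neg hqC, toSet_two_pow (idx_lt q), pt_idx]
    set t := toSet m ∩ toSet U with ht
    have hsub : symmDiff D t ⊆ toSet U := by
      intro a ha
      rcases Finset.mem_symmDiff.mp ha with ⟨ha, -⟩ | ⟨ha, -⟩
      · exact hD ha
      · exact (Finset.mem_inter.mp ha).2
    have hmeasure : ((symmDiff D t).erase (pt p)).card + 2 * (symmDiff D t).card < n := by
      by_cases hqC : q ∈ toSet C
      · have hqp : q ≠ pt p := hq.resolve_right (fun hh => hh hqC)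
        rw [hcut, if_pos hqC]
        by_cases hpD : pt p ∈ D
        · have he : symmDiff D {q, pt p} = (D.erase (pt p)).erase q := by
            ext a
            simp only [Finset.mem_symmDiff, Finset.mem_insert, Finset.mem_singleton, Finset.mem_erase]
            by_cases h1 : a = q <;> by_cases h2 : a = pt p <;> simp_all
          rw [he]
          have h1 := Finset.card_erase_add_one hpD
          have h2 := Finset.card_erase_add_one (Finset.mem_erase.mpr ⟨hqp, hqD⟩)
          have h3 := Finset.card_erase_le (s := (D.erase (pt p)).erase q) (a := pt p)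
          omega
        · have he : symmDiff D {q, pt p} = insert (pt p) (D.erase q) := by
            ext a
            simp only [Finset.mem_symmDiff, Finset.mem_insert, Finset.mem_singleton, Finset.mem_erase]
            by_cases h1 : a = q <;> by_cases h2 : a = pt p <;> simp_all
          have hpe : pt p ∉ D.erase q := fun hh => hpD (Finset.mem_of_mem_erase hh)
          rw [he, Finset.erase_insert hpe, Finset.card_insert_of_notMem hpe]
          rw [Finset.erase_eq_of_notMem hpD] at hn
          have := Finset.card_erase_add_one hqD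
          omega
      · rw [hcut, if_neg hqC]
        have he : symmDiff D {q} = D.erase q := by
          ext a
          simp only [Finset.mem_symmDiff, Finset.mem_singleton, Finset.mem_erase]
          by_cases h1 : a = q <;> simp_all
        rw [he]
        have := Finset.card_erase_add_one hqD
        have := Finset.card_le_card (Finset.erase_subset_erase (pt p) (Finset.erase_subset q D))
        omega
    have hpar : 2 ∣ ((symmDiff D t) ∩ toSet C).card := by
      have hte : 2 ∣ (t ∩ toSet C).card := by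
        rw [hcut]
        by_cases hqC : q ∈ toSet C
        · have hqp : q ≠ pt p := hq.resolve_right (fun hh => hh hqC)
          rw [if_pos hqC]
          have hpC' : pt p ∈ toSet C := by
            rcases hpC with rfl | hh
            · simp at hqC
            · rw [mem_toSet, idx_pt hp]; exact hh
          have : ({q, pt p} : Finset GolayPt) ∩ toSet C = {q, pt p} := by
            apply Finset.inter_eq_left.mpr
            intro a ha
            rcases Finset.mem_insert.mp ha with rfl | ha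
            · exact hqC
            · rw [Finset.mem_singleton.mp ha]; exact hpC'
          rw [this, Finset.card_pair hqp]
        · rw [if_neg hqC, Finset.singleton_inter_of_notMem hqC, Finset.card_empty]
          exact dvd_zero 2
      have key : ∀ a, chi (D ∩ toSet C) a + chi (t ∩ toSet C) a =
          chi (symmDiff D t ∩ toSet C) a + 2 * chi ((D ∩ toSet C) ∩ t) a := fun a => by
        by_cases h1 : a ∈ D <;> by_cases h2 : a ∈ t <;> by_cases h3 : a ∈ toSet C <;>
          simp [chi, Finset.mem_symmDiff, h1, h2, h3]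
      have hs := Finset.sum_congr rfl fun a (_ : a ∈ Finset.univ) => key a
      simp only [Finset.sum_add_distrib, ← Finset.mul_sum, sum_chi] at hs
      omega
    obtain ⟨e, he, heU⟩ := ih _ hmeasure (symmDiff D t) rfl hsub hpar
    refine ⟨symmDiff e (toSet m), CW_symmDiff he hmW, ?_⟩
    ext a
    have h1 := congrArg (fun s : Finset GolayPt => a ∈ s) heU
    simp only [ht, Finset.mem_inter, Finset.mem_symmDiff, eq_iff_iff] at h1 ⊢
    by_cases haU : a ∈ toSet U
    · tauto
    · exact ⟨fun hh => absurd hh.2 haU, fun hh => absurd (hD hh) haU⟩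

theorem mem_smul_symm {σ : Equiv.Perm GolayPt} {s : Finset GolayPt} (a : GolayPt) :
    σ.symm a ∈ s ↔ a ∈ σ • s := by
  conv_rhs => rw [← Equiv.apply_symm_apply σ a]
  exact pt_mem_smul.symm

theorem signedPerm_ev {σ : Equiv.Perm GolayPt} {e c T N N' : Finset GolayPt}
    (hN : N ⊆ c ∪ T) (hN' : N' ⊆ σ • c ∪ σ • T) (he : e ∩ (σ • c ∪ σ • T) = symmDiff (σ • N) N') :
    signedPerm σ e (ev c T N) = ev (σ • c) (σ • T) N' := by
  funext a
  have h1 := congrArg (fun s : Finset GolayPt => a ∈ s) he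
  have h2 : a ∈ σ • N → a ∈ σ • c ∨ a ∈ σ • T := fun h => by
    rw [← mem_smul_symm] at h
    rcases Finset.mem_union.mp (hN h) with h' | h'
    exacts [Or.inl ((mem_smul_symm a).mp h'), Or.inr ((mem_smul_symm a).mp h')]
  have h3 : a ∈ N' → a ∈ σ • c ∨ a ∈ σ • T := fun h => Finset.mem_union.mp (hN' h)
  simp only [Finset.mem_inter, Finset.mem_symmDiff, Finset.mem_union, eq_iff_iff] at h1
  simp only [signedPerm, ev, chi, mem_smul_symm]
  by_cases a1 : a ∈ σ • c <;> by_cases a2 : a ∈ σ • T <;> by_cases a3 : a ∈ σ • N <;>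
    by_cases a4 : a ∈ N' <;> by_cases a5 : a ∈ e <;> simp [a1, a2, a3, a4, a5] at h1 h2 h3 ⊢

/-- Reduction of an even vector to a standard one. -/
theorem ev_eqv_std {U C p : ℕ} (hp : p < 24) (hpC : C = 0 ∨ C.testBit p = true) (hCU : C &&& U = C)
    (hB : signsB U C p = true) {T0 N0 : Finset GolayPt} (hU : toSet C ∪ T0 = toSet U) (hN0 : N0 ⊆ toSet U)
    {g : Equiv.Perm GolayPt} (hg : g ∈ M24) {N : Finset GolayPt} (hN : N ⊆ g • toSet C ∪ g • T0)
    (hpar : (N ∩ g • toSet C).card % 2 = (N0 ∩ toSet C).card % 2)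
    (hmem : ev (g • toSet C) (g • T0) N ∈ leechLattice) :
    Eqv (ev (g • toSet C) (g • T0) N) (ev (toSet C) T0 N0) := by
  set N1 := g⁻¹ • N with hN1
  have hc : g⁻¹ • (g • toSet C) = toSet C := inv_smul_smul g _
  have hT : g⁻¹ • (g • T0) = T0 := inv_smul_smul g _
  have hsub : symmDiff N1 N0 ⊆ toSet U := by
    intro a ha
    rcases Finset.mem_symmDiff.mp ha with ⟨h1, -⟩ | ⟨h1, -⟩
    · rw [hN1, ← mem_smul_symm] at h1
      have h2 := hN h1
      rw [← hU]
      rcases Finset.mem_union.mp h2 with h3 | h3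
      · exact Finset.mem_union_left _ (hc ▸ (mem_smul_symm a).mp h3)
      · exact Finset.mem_union_right _ (hT ▸ (mem_smul_symm a).mp h3)
    · exact hN0 h1
  have hcard : (N1 ∩ toSet C).card = (N ∩ g • toSet C).card := by
    conv_lhs => rw [← hc]
    rw [hN1, card_inter_smul']
  have hev : 2 ∣ (symmDiff N1 N0 ∩ toSet C).card := by
    have key : ∀ a, chi (N1 ∩ toSet C) a + chi (N0 ∩ toSet C) a =
        chi (symmDiff N1 N0 ∩ toSet C) a + 2 * chi ((N1 ∩ toSet C) ∩ N0) a := fun a => by
      by_cases h1 : a ∈ N1 <;> by_cases h2 : a ∈ N0 <;> by_cases h3 : a ∈ toSet C <;>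
        simp [chi, Finset.mem_symmDiff, h1, h2, h3]
    have hs := Finset.sum_congr rfl fun a (_ : a ∈ Finset.univ) => key a
    simp only [Finset.sum_add_distrib, ← Finset.mul_sum, sum_chi] at hs
    omega
  obtain ⟨e, he, heU⟩ := reach_signs hp hpC hCU hB hsub hev
  refine eqv_signedPerm (inv_mem hg) he hmem ?_
  rw [signedPerm_ev (N' := N0) hN, hc, hT]
  · rw [hc, hT, hU]; exact hN0
  · rw [hc, hT, hU, heU]

theorem signs_std : signsB 3 0 0 = true ∧ signsB 15 0 0 = true ∧ signsB 8536111 8536111 23 = true ∧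
    signsB (8536111 ||| 16) 8536111 23 = true ∧ signsB (8536111 ||| 80) 8536111 23 = true ∧
    signsB 340831 340831 0 = true ∧ signsB (340831 ||| 32) 340831 0 = true := by decide +kernel

theorem ev02_std {x : GolayPt → ℤ} (h : x ∈ evSet 0 2) : Eqv x (ev ∅ (toSet 3) ∅) := by
  have hmem := mem_leech.mpr (evSet_props h).1
  obtain ⟨c, T, N, -, hc, -, hT, hN, hp, rfl⟩ := mem_evSet.mp h
  obtain rfl := Finset.card_eq_zero.mp hc
  obtain ⟨g, hg, rfl⟩ := exists_smul_set (s := toSet 3) (t := T) (by omega) (by rw [hT]; rfl)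
  have e0 : (∅ : Finset GolayPt) = toSet 0 := (toSet_zero_empty).symm
  have e1 : g • toSet 0 = (∅ : Finset GolayPt) := by rw [toSet_zero_empty, Finset.smul_finset_empty]
  have := ev_eqv_std (U := 3) (C := 0) (p := 0) (by norm_num) (Or.inl rfl) rfl signs_std.1
    (T0 := toSet 3) (N0 := ∅) (by rw [toSet_zero_empty, Finset.empty_union]) (Finset.empty_subset _) hg (N := N)
    (by rw [e1]; exact hN) (by simp [toSet_zero_empty]) (by rw [e1]; exact hmem)
  rwa [e1, ← e0] at this

theorem ev04_std {x : GolayPt → ℤ} (h : x ∈ evSet 0 4) : Eqv x (ev ∅ (toSet 15) ∅) := by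
  have hmem := mem_leech.mpr (evSet_props h).1
  obtain ⟨c, T, N, -, hc, -, hT, hN, hp, rfl⟩ := mem_evSet.mp h
  obtain rfl := Finset.card_eq_zero.mp hc
  obtain ⟨g, hg, rfl⟩ := exists_smul_set (s := toSet 15) (t := T) (by omega) (by rw [hT]; rfl)
  have e0 : (∅ : Finset GolayPt) = toSet 0 := (toSet_zero_empty).symm
  have e1 : g • toSet 0 = (∅ : Finset GolayPt) := by rw [toSet_zero_empty, Finset.smul_finset_empty]
  have := ev_eqv_std (U := 15) (C := 0) (p := 0) (by norm_num) (Or.inl rfl) rfl signs_std.2.1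
    (T0 := toSet 15) (N0 := ∅) (by rw [toSet_zero_empty, Finset.empty_union]) (Finset.empty_subset _) hg (N := N)
    (by rw [e1]; exact hN) (by simp [toSet_zero_empty]) (by rw [e1]; exact hmem)
  rwa [e1, ← e0] at this

theorem ev80_std {x : GolayPt → ℤ} (h : x ∈ evSet 8 0) : Eqv x (ev O0 ∅ ∅) := by
  have hmem := mem_leech.mpr (evSet_props h).1
  obtain ⟨c, T, N, hcw, hc, -, hT, hN, hp, rfl⟩ := mem_evSet.mp h
  obtain rfl := Finset.card_eq_zero.mp hT
  obtain ⟨g, hg, rfl⟩ := exists_smul_O0 (o := c) ⟨hcw, hc⟩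
  have e1 : g • (∅ : Finset GolayPt) = ∅ := Finset.smul_finset_empty g
  have := ev_eqv_std (U := 8536111) (C := 8536111) (p := 23) (by norm_num) (Or.inr (by decide +kernel))
    (Nat.and_self _) signs_std.2.2.1 (T0 := ∅) (N0 := ∅) (Finset.union_empty _) (Finset.empty_subset _) hg (N := N)
    (by rw [e1]; exact hN) (show (N ∩ g • O0).card % 2 = _ by simp; omega) (by rw [e1]; exact hmem)
  rwa [e1] at this

theorem ev81_std {x : GolayPt → ℤ} (h : x ∈ evSet 8 1) : Eqv x (ev O0 {pt 4} {pt 23}) := by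
  have hmem := mem_leech.mpr (evSet_props h).1
  obtain ⟨c, T, N, hcw, hc, hdis, hT, hN, hp, rfl⟩ := mem_evSet.mp h
  obtain ⟨a, rfl⟩ := Finset.card_eq_one.mp hT
  obtain ⟨g, hg, rfl, rfl⟩ := octad_one_out (o := c) ⟨hcw, hc⟩ (p := a) (Finset.disjoint_singleton_left.mp hdis)
  have e1 : g • ({pt 4} : Finset GolayPt) = {g (pt 4)} := by
    rw [Finset.smul_finset_singleton]; rfl
  have := ev_eqv_std (U := 8536111 ||| 16) (C := 8536111) (p := 23) (by norm_num) (Or.inr (by decide +kernel))
    (by decide +kernel) signs_std.2.2.2.1 (T0 := {pt 4}) (N0 := {pt 23}) (by decide +kernel) (by decide +kernel) hg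
    (N := N) (by rw [e1]; exact hN)
    (show (N ∩ g • O0).card % 2 = _ by rw [show ({pt 23} ∩ toSet 8536111 : Finset GolayPt).card = 1 by decide +kernel]; omega)
    (by rw [e1]; exact hmem)
  rwa [e1] at this

theorem ev82_std {x : GolayPt → ℤ} (h : x ∈ evSet 8 2) : Eqv x (ev O0 {pt 4, pt 6} ∅) := by
  have hmem := mem_leech.mpr (evSet_props h).1
  obtain ⟨c, T, N, hcw, hc, hdis, hT, hN, hp, rfl⟩ := mem_evSet.mp h
  obtain ⟨a, b, hab, rfl⟩ := Finset.card_eq_two.mp hT
  obtain ⟨g, hg, rfl, rfl, rfl⟩ := octad_two_out (o := c) ⟨hcw, hc⟩ (p := a) (q := b)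
    (Finset.disjoint_left.mp hdis (Finset.mem_insert_self _ _))
    (Finset.disjoint_left.mp hdis (Finset.mem_insert_of_mem (Finset.mem_singleton_self _))) hab
  have e1 : g • ({pt 4, pt 6} : Finset GolayPt) = {g (pt 4), g (pt 6)} := by
    rw [Finset.smul_finset_insert, Finset.smul_finset_singleton]; rfl
  have := ev_eqv_std (U := 8536111 ||| 80) (C := 8536111) (p := 23) (by norm_num) (Or.inr (by decide +kernel))
    (by decide +kernel) signs_std.2.2.2.2.1 (T0 := {pt 4, pt 6}) (N0 := ∅) (by decide +kernel)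
    (Finset.empty_subset _) hg (N := N) (by rw [e1]; exact hN)
    (show (N ∩ g • O0).card % 2 = _ by simp; omega) (by rw [e1]; exact hmem)
  rwa [e1] at this

theorem six_std {x : GolayPt → ℤ} (h : x ∈ sixSet) : Eqv x (ev O0 {pt 23} {pt 23}) := by
  have hmem := mem_leech.mpr (sixSet_props h).1
  obtain ⟨c, a, N, hcw, hc, hi, hN, hp, rfl⟩ := mem_sixSet.mp h
  obtain ⟨g, hg, rfl, rfl⟩ := cfgA (o := c) ⟨hcw, hc⟩ hi
  have e1 : g • ({pt 23} : Finset GolayPt) = {g (pt 23)} := by
    rw [Finset.smul_finset_singleton]; rfl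
  have := ev_eqv_std (U := 8536111) (C := 8536111) (p := 23) (by norm_num) (Or.inr (by decide +kernel))
    (Nat.and_self _) signs_std.2.2.1 (T0 := {pt 23}) (N0 := {pt 23}) (by decide +kernel) (by decide +kernel) hg
    (N := N) (by rw [e1]; exact hN.trans Finset.subset_union_left)
    (show (N ∩ g • O0).card % 2 = _ by rw [show ({pt 23} ∩ toSet 8536111 : Finset GolayPt).card = 1 by decide +kernel]; omega)
    (by rw [e1]; exact hmem)
  rwa [e1] at this

theorem ev120_std {x : GolayPt → ℤ} (h : x ∈ evSet 12 0) : Eqv x (ev D0 ∅ ∅) := by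
  have hmem := mem_leech.mpr (evSet_props h).1
  obtain ⟨c, T, N, hcw, hc, -, hT, hN, hp, rfl⟩ := mem_evSet.mp h
  obtain rfl := Finset.card_eq_zero.mp hT
  obtain ⟨g, hg, rfl⟩ := exists_smul_D0 (o := c) ⟨hcw, hc⟩
  have e1 : g • (∅ : Finset GolayPt) = ∅ := Finset.smul_finset_empty g
  have := ev_eqv_std (U := 340831) (C := 340831) (p := 0) (by norm_num) (Or.inr (by decide +kernel))
    (Nat.and_self _) signs_std.2.2.2.2.2.1 (T0 := ∅) (N0 := ∅) (Finset.union_empty _) (Finset.empty_subset _) hg (N := N)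
    (by rw [e1]; exact hN) (show (N ∩ g • D0).card % 2 = _ by simp; omega) (by rw [e1]; exact hmem)
  rwa [e1] at this

theorem ev121_std {x : GolayPt → ℤ} (h : x ∈ evSet 12 1) : Eqv x (ev D0 {pt 5} {pt 0}) := by
  have hmem := mem_leech.mpr (evSet_props h).1
  obtain ⟨c, T, N, hcw, hc, hdis, hT, hN, hp, rfl⟩ := mem_evSet.mp h
  obtain ⟨a, rfl⟩ := Finset.card_eq_one.mp hT
  obtain ⟨g, hg, rfl, rfl⟩ := dodecad_one_out (d := c) ⟨hcw, hc⟩ (p := a) (Finset.disjoint_singleton_left.mp hdis)
  have e1 : g • ({pt 5} : Finset GolayPt) = {g (pt 5)} := by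
    rw [Finset.smul_finset_singleton]; rfl
  have := ev_eqv_std (U := 340831 ||| 32) (C := 340831) (p := 0) (by norm_num) (Or.inr (by decide +kernel))
    (by decide +kernel) signs_std.2.2.2.2.2.2 (T0 := {pt 5}) (N0 := {pt 0}) (by decide +kernel) (by decide +kernel) hg
    (N := N) (by rw [e1]; exact hN)
    (show (N ∩ g • D0).card % 2 = _ by rw [show ({pt 0} ∩ toSet 340831 : Finset GolayPt).card = 1 by decide +kernel]; omega)
    (by rw [e1]; exact hmem)
  rwa [e1] at this

theorem signedPerm_od {σ : Equiv.Perm GolayPt} {s : ℤ} {c c' T : Finset GolayPt} :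
    signedPerm σ (symmDiff (σ • c) c') (od s c T) = od s c' (σ • T) := by
  funext a
  simp only [signedPerm, od, chi, mem_smul_symm, Finset.mem_symmDiff]
  by_cases a1 : a ∈ σ • c <;> by_cases a2 : a ∈ c' <;> simp [a1, a2]

theorem od_std {s : ℤ} {k : ℕ} (hk : k ≤ 5) (hs : (2 : ℤ) ∣ s * k - 1) {x : GolayPt → ℤ} (h : x ∈ odSet s k)
    {T0 : Finset GolayPt} (hT0 : T0.card = k) : Eqv x (od s ∅ T0) := by
  have hmem := mem_leech.mpr ((odSet_props h).1 hs)
  obtain ⟨c, T, hc, hT, rfl⟩ := mem_odSet.mp h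
  obtain ⟨g, hg, rfl⟩ := exists_smul_set (s := T) (t := T0) (by omega) (hT.trans hT0.symm)
  refine eqv_signedPerm hg ?_ hmem (signedPerm_od (c' := ∅))
  exact CW_symmDiff (image_mem_supports hg hc) CW_empty

theorem mix_std {x : GolayPt → ℤ} (h : x ∈ mixSet) : Eqv x (od2 ∅ (pt 0) {pt 1, pt 2}) := by
  have hmem := mem_leech.mpr (mixSet_props h).1
  obtain ⟨c, i, T, hc, hT, hi, rfl⟩ := mem_mixSet.mp h
  obtain ⟨a, b, hab, rfl⟩ := Finset.card_eq_two.mp hT
  simp only [Finset.mem_insert, Finset.mem_singleton, not_or] at hi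
  obtain ⟨g, hg, hgx⟩ := exists_M24_map (k := 3) (by norm_num)
    (⟨![i, a, b], by intro u v; fin_cases u <;> fin_cases v <;>
      simp [hab, hab.symm, hi.1, hi.2, Ne.symm hi.1, Ne.symm hi.2]⟩ : Fin 3 ↪ GolayPt)
    (⟨![pt 0, pt 1, pt 2], by decide +kernel⟩ : Fin 3 ↪ GolayPt)
  have g0 : g i = pt 0 := hgx 0
  have g1 : g a = pt 1 := hgx 1
  have g2 : g b = pt 2 := hgx 2
  refine eqv_signedPerm hg (c := g • c) (image_mem_supports hg hc) hmem (funext fun p => ?_)
  obtain ⟨q, rfl⟩ := g.surjective p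
  simp only [signedPerm, od2, chi, Equiv.symm_apply_apply, pt_mem_smul, Finset.mem_insert, Finset.mem_singleton,
    Finset.notMem_empty, if_false, ← g0, ← g1, ← g2, EmbeddingLike.apply_eq_iff_eq]
  split_ifs <;> ring

theorem eight_std {x : GolayPt → ℤ} (h : x ∈ eightSet) : Eqv x (Pi.single none 8) := by
  have hmem := mem_leech.mpr (eightSet_props h).1
  obtain ⟨i, s, hs, rfl⟩ := mem_eightSet.mp h
  obtain ⟨g, hg, hgx⟩ := exists_M24_map (k := 1) (by norm_num)
    (⟨fun _ => i, fun u v _ => Subsingleton.elim u v⟩ : Fin 1 ↪ GolayPt)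
    (⟨fun _ => none, fun u v _ => Subsingleton.elim u v⟩ : Fin 1 ↪ GolayPt)
  have g0 : g i = none := hgx 0
  rcases hs with rfl | rfl
  · refine eqv_signedPerm hg CW_empty hmem (funext fun p => ?_)
    obtain ⟨q, rfl⟩ := g.surjective p
    simp only [signedPerm, Equiv.symm_apply_apply, Finset.notMem_empty, if_false, Pi.single_apply, ← g0,
      EmbeddingLike.apply_eq_iff_eq]
  · refine eqv_signedPerm hg CW_univ hmem (funext fun p => ?_)
    obtain ⟨q, rfl⟩ := g.surjective p
    simp only [signedPerm, Equiv.symm_apply_apply, Finset.mem_univ, if_true, Pi.single_apply, ← g0,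
      EmbeddingLike.apply_eq_iff_eq]
    split_ifs <;> ring

end CfsgLeech
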