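/-
An automorphism of the lattice that is not monomial.
-/
import Cfsg.Agent.Lib.Leech.Mono

set_option autoImplicit false

namespace CfsgLeech

open Cfsg CfsgGolay

attribute [local irreducible] codeL octadL dodecadL

theorem toSet_mem_CW {m : ℕ} (h : (decide (m < 2 ^ 24) && inCode m) = true) : toSet m ∈ CW := by
  simp only [Bool.and_eq_true, decide_eq_true_eq] at h
  exact ⟨wordOf m, codeL_mem (mem_codeL_of_inCode h.1 h.2), support_wordOf m⟩

/-- Masks of the tetrads through the points of a sextet. -/
def blockL : List ℕ := [8388615, 8388615, 8388615, 147496, 4268048, 147496, 2621632, 2621632, 268544, 1082880,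
  1082880, 268544, 268544, 4268048, 147496, 1082880, 4268048, 147496, 268544, 2621632, 1082880, 2621632, 4268048,
  8388615]

/-- The tetrad through a point. -/
def block (i : GolayPt) : Finset GolayPt := toSet (blockL.getD (idx i) 0)

/-- The tetrad whose coordinates are negated. -/
def negBlock : Finset GolayPt := toSet 147496

theorem block_checks : (∀ i, (block i).card = 4) ∧ (∀ i j, j ∈ block i → block j = block i) ∧
    (∀ i, i ∈ block i) ∧ (∀ i j, j ∈ block i → (j ∈ negBlock ↔ i ∈ negBlock)) := by decide +kernel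

/-- Coordinate sum over the tetrad through a point. -/
def bsum (x : GolayPt → ℤ) (i : GolayPt) : ℤ := ∑ j ∈ block i, x j

/-- The involution. -/
def zeta (x : GolayPt → ℤ) (i : GolayPt) : ℤ :=
  if i ∈ negBlock then -(x i - bsum x i / 2) else x i - bsum x i / 2

theorem bsum_even {x : GolayPt → ℤ} (hx : x ∈ leechLattice) (i : GolayPt) : (2 : ℤ) ∣ bsum x i := by
  obtain ⟨m, c, y, -, hxy, -⟩ := mem_leech.mp hx
  simp only [bsum, hxy, Finset.sum_add_distrib, Finset.sum_const, block_checks.1 i, ← Finset.mul_sum,
    nsmul_eq_mul, Nat.cast_ofNat]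
  omega

theorem zeta_add {x y : GolayPt → ℤ} (hx : x ∈ leechLattice) (hy : y ∈ leechLattice) :
    zeta (x + y) = zeta x + zeta y := by
  funext i
  have hs : bsum (x + y) i = bsum x i + bsum y i := by simp [bsum, Finset.sum_add_distrib]
  have h2 := bsum_even hx i
  have h3 := bsum_even hy i
  simp only [zeta, Pi.add_apply, hs]
  split_ifs <;> omega

theorem zeta_norm {x : GolayPt → ℤ} (hx : x ∈ leechLattice) : sqNorm (zeta x) = sqNorm x := by
  choose h hh using bsum_even hx
  have hsq : ∀ i, zeta x i ^ 2 = x i ^ 2 + (h i * h i - x i * bsum x i) := by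
    intro i
    simp only [zeta, hh i]
    rw [Int.mul_ediv_cancel_left _ (by norm_num : (2 : ℤ) ≠ 0)]
    split_ifs <;> ring
  have hblock : ∀ i j, j ∈ block i ↔ i ∈ block j := fun i j =>
    ⟨fun hj => by rw [block_checks.2.1 i j hj]; exact block_checks.2.2.1 i,
      fun hi => by rw [block_checks.2.1 j i hi]; exact block_checks.2.2.1 j⟩
  have hkey : ∑ i, bsum x i * bsum x i = 4 * ∑ i, x i * bsum x i := by
    have e1 : ∀ i, bsum x i * bsum x i = ∑ j ∈ block i, x j * bsum x j := by
      intro i
      show (∑ j ∈ block i, x j) * bsum x i = _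
      rw [Finset.sum_mul]
      refine Finset.sum_congr rfl fun j hj => ?_
      rw [bsum, bsum, block_checks.2.1 i j hj]
    rw [Finset.sum_congr rfl fun i _ => e1 i,
      Finset.sum_comm' (t' := Finset.univ) (s' := fun j => block j) (fun i j => by simp [hblock i j]),
      Finset.mul_sum]
    refine Finset.sum_congr rfl fun j _ => ?_
    rw [Finset.sum_const, block_checks.1 j, nsmul_eq_mul, Nat.cast_ofNat]
  have h4 : ∑ i, bsum x i * bsum x i = 4 * ∑ i, h i * h i := by
    rw [Finset.mul_sum]
    exact Finset.sum_congr rfl fun i _ => by rw [hh i]; ring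
  simp only [sqNorm, hsq]
  rw [Finset.sum_add_distrib, Finset.sum_sub_distrib]
  linarith

/-- Generators: an odd vector, the basis octads, differences of coordinates and one axis vector. -/
theorem leech_induction (P : AddSubgroup (GolayPt → ℤ)) (h1 : od (-1) ∅ {none} ∈ P)
    (h2 : ∀ e ∈ sysBasis, (fun a => 2 * chi (toSet e) a) ∈ P)
    (h3 : ∀ i, (fun a => 4 * chi {i} a - 4 * chi {none} a) ∈ P)
    (h4 : (fun a => 8 * chi {none} a) ∈ P) {x : GolayPt → ℤ} (hx : x ∈ leechLattice) : x ∈ P := by
  have four : ∀ y : GolayPt → ℤ, (2 : ℤ) ∣ ∑ i, y i → (fun a => 4 * y a) ∈ P := by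
    intro y hy
    obtain ⟨u, hu⟩ := hy
    have he : (fun a => 4 * y a) =
        (∑ i, y i • fun a => 4 * chi {i} a - 4 * chi {none} a) + u • fun a => 8 * chi {none} a := by
      funext a
      simp only [Pi.add_apply, Finset.sum_apply, Pi.smul_apply, smul_eq_mul]
      have e1 : ∑ i, y i * (4 * chi {i} a - 4 * chi {none} a) = 4 * y a - 4 * (∑ i, y i) * chi {none} a := by
        rw [Finset.mul_sum, Finset.sum_mul]
        have e3 : 4 * y a = ∑ i, 4 * (y i * chi {i} a) := by
          rw [← Finset.mul_sum, Finset.sum_eq_single a (fun b _ hb => by simp [chi, Ne.symm hb])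
            (fun h => absurd (Finset.mem_univ a) h)]
          simp [chi]
        rw [e3, ← Finset.sum_sub_distrib]
        exact Finset.sum_congr rfl fun i _ => by ring
      rw [e1, hu]; ring
    rw [he]
    exact add_mem (sum_mem fun i _ => zsmul_mem (h3 i) _) (zsmul_mem h4 u)
  have code : ∀ c ∈ CW, (fun a => 2 * chi c a) ∈ P := by
    rintro _ ⟨w, hw, rfl⟩
    have hs : toMask (support₂ w) ∈ spanList sysBasis := by
      have := toMask_support_mem hw
      rwa [show codeL = spanList sysBasis from by unfold codeL; rfl] at this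
    suffices H : ∀ l : List ℕ, (∀ e ∈ l, toSet e ∈ CW ∧ (fun a => 2 * chi (toSet e) a) ∈ P) →
        ∀ m ∈ spanList l, toSet m ∈ CW ∧ (fun a => 2 * chi (toSet m) a) ∈ P by
      have h := (H sysBasis (fun e he => ⟨toSet_mem_CW ?_, h2 e he⟩) _ hs).2
      · rwa [toSet_toMask] at h
      · have hb : (sysBasis.all fun e => decide (e < 2 ^ 24) && inCode e) = true := by decide +kernel
        exact List.all_eq_true.mp hb e he
    intro l
    induction l with
    | nil =>
      intro _ m hm
      simp only [spanList, List.mem_singleton] at hm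
      subst hm
      refine ⟨?_, ?_⟩
      · rw [show toSet 0 = (∅ : Finset GolayPt) from by ext; simp]; exact CW_empty
      · convert zero_mem P using 1; funext a; simp [chi]
    | cons e es ih =>
      intro h m hm
      simp only [spanList, List.mem_flatMap, List.mem_cons, List.not_mem_nil, or_false] at hm
      obtain ⟨y, hy, rfl | rfl⟩ := hm
      · exact ih (fun z hz => h z (List.mem_cons_of_mem _ hz)) _ hy
      · obtain ⟨hyc, hyP⟩ := ih (fun z hz => h z (List.mem_cons_of_mem _ hz)) _ hy
        obtain ⟨hec, heP⟩ := h e (by simp)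
        have hx : toSet (e ^^^ y) = symmDiff (toSet e) (toSet y) := by
          ext p
          simp only [mem_toSet, Nat.testBit_xor, Finset.mem_symmDiff]
          cases e.testBit (idx p) <;> cases y.testBit (idx p) <;> simp
        refine ⟨hx ▸ CW_symmDiff hec hyc, ?_⟩
        have h4' := four (chi (toSet e ∩ toSet y)) (by rw [sum_chi]; exact CW_inter_even hec hyc)
        convert sub_mem (add_mem heP hyP) h4' using 1
        funext a
        simp only [Pi.sub_apply, Pi.add_apply, hx]
        have := chi_add (toSet e) (toSet y) a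
        linarith
  obtain ⟨e, c, y, he, hc, hxy, hs⟩ := (mem_leech.mp hx).normal
  rcases he with rfl | rfl
  · convert add_mem (code c hc) (four y (by simpa using hs)) using 1
    funext a; simp [hxy a]
  · have h4' := four (fun a => y a + chi {none} a) (by
      rw [Finset.sum_add_distrib, sum_chi, Finset.card_singleton]; omega)
    convert add_mem h1 (add_mem (code c hc) h4') using 1
    funext a
    simp only [Pi.add_apply, hxy a, od, Finset.notMem_empty, if_false]
    ring

/-- Membership test for explicit vectors. -/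
def inLatB (v : GolayPt → ℤ) : Bool :=
  let m := v none % 2
  let c := Finset.univ.filter fun i => (v i - m) % 4 = 2
  decide (∀ i, (v i - m - (if i ∈ c then 2 else 0)) % 4 = 0) && inCode (toMask c) &&
    decide (((∑ i, (v i - m - (if i ∈ c then 2 else 0)) / 4) - m) % 2 = 0)

theorem inLatB_sound {v : GolayPt → ℤ} (h : inLatB v = true) : v ∈ leechLattice := by
  simp only [inLatB, Bool.and_eq_true, decide_eq_true_eq] at h
  obtain ⟨⟨h1, h2⟩, h3⟩ := h
  set m := v none % 2
  set c := Finset.univ.filter fun i => (v i - m) % 4 = 2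
  refine mem_leech.mpr ⟨m, c, fun i => (v i - m - (if i ∈ c then 2 else 0)) / 4,
    mem_supports.mpr (mem_codeL_of_inCode (toMask_lt _) h2), fun i => ?_, ?_⟩
  · have := h1 i
    by_cases hi : i ∈ c <;> simp [chi, hi] at this ⊢ <;> omega
  · beta_reduce; omega

/-- The images of the generators. -/
def zetaGens : List (GolayPt → ℤ) :=
  od (-1) ∅ {none} :: (fun a => 8 * chi {none} a) :: (sysBasis.map fun e a => 2 * chi (toSet e) a) ++
    (List.range 24).map fun j a => 4 * chi {pt j} a - 4 * chi {none} a

theorem zetaGens_ok : (zetaGens.all fun v => inLatB v && inLatB (zeta v)) = true := by decide +kernel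

theorem zeta_mem {x : GolayPt → ℤ} (hx : x ∈ leechLattice) : zeta x ∈ leechLattice := by
  let P : AddSubgroup (GolayPt → ℤ) :=
    { carrier := {v | v ∈ leechLattice ∧ zeta v ∈ leechLattice}
      zero_mem' := ⟨zero_mem _, by convert zero_mem leechLattice using 1; funext i; simp [zeta, bsum]⟩
      add_mem' := fun {a b} ha hb => ⟨add_mem ha.1 hb.1, by rw [zeta_add ha.1 hb.1]; exact add_mem ha.2 hb.2⟩
      neg_mem' := fun {a} ha => ⟨neg_mem ha.1, by
        have h := zeta_add ha.1 (neg_mem ha.1)
        have h0 : zeta (0 : GolayPt → ℤ) = 0 := by funext i; simp [zeta, bsum]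
        rw [add_neg_cancel, h0] at h
        rw [eq_neg_of_add_eq_zero_right h.symm]
        exact neg_mem ha.2⟩ }
  have hg : ∀ v ∈ zetaGens, v ∈ P := fun v hv => by
    have := List.all_eq_true.mp zetaGens_ok v hv
    rw [Bool.and_eq_true] at this
    exact ⟨inLatB_sound this.1, inLatB_sound this.2⟩
  exact (leech_induction P (hg _ (by simp [zetaGens]))
    (fun e he => hg _ (List.mem_cons_of_mem _ (List.mem_cons_of_mem _
      (List.mem_append_left _ (List.mem_map.mpr ⟨e, he, rfl⟩)))))
    (fun i => hg _ (List.mem_cons_of_mem _ (List.mem_cons_of_mem _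
      (List.mem_append_right _ (List.mem_map.mpr ⟨idx i, List.mem_range.mpr (idx_lt i), by rw [pt_idx]⟩)))))
    (hg _ (by simp [zetaGens])) hx).2

/-- The extra automorphism. -/
noncomputable def zetaAut : ↥Co0 :=
  autOf zeta (fun _ hx => zeta_mem hx) (fun _ hx _ hy => zeta_add hx hy) fun _ hx => zeta_norm hx

theorem eqv_zeta {x : GolayPt → ℤ} (hx : x ∈ leechLattice) : Eqv x (zeta x) :=
  ⟨zetaAut, ⟨x, hx⟩, ⟨zeta x, zeta_mem hx⟩, rfl, rfl, rfl⟩

end CfsgLeech
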