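/-
An involution of the lattice mixing the shapes, and the resulting fusion of shapes.
-/
import Cfsg.Agent.Lib.Leech.ShapeOrbits
import Cfsg.Agent.Lib.Leech.Zeta

set_option autoImplicit false

namespace CfsgLeech

open Cfsg CfsgGolay

attribute [local irreducible] codeL octadL dodecadL slpCodes

theorem fuse0 : ∃ x y : GolayPt → ℤ, x ∈ evSet 0 2 ∧ y ∈ evSet 8 0 ∧ zeta x = y :=
  ⟨(ev (toSet 0) (toSet 8389632) (toSet 8389632)), (ev (toSet 9471495) (toSet 0) (toSet 8389632)),
    mem_evSet.mpr ⟨_, _, _, (toSet_mem_CW (m := 0) (by decide +kernel)), (by decide +kernel), (by decide +kernel), (by decide +kernel), (by decide +kernel), (by decide +kernel), rfl⟩,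
    mem_evSet.mpr ⟨_, _, _, (toSet_mem_CW (m := 9471495) (by decide +kernel)), (by decide +kernel), (by decide +kernel), (by decide +kernel), (by decide +kernel), (by decide +kernel), rfl⟩,
    funext fun i => by revert i; decide +kernel⟩

theorem fuse1 : ∃ x y : GolayPt → ℤ, x ∈ odSet (-1) 1 ∧ y ∈ evSet 8 0 ∧ zeta x = y :=
  ⟨(od (-1) (toSet 15585107) (toSet 4096)), (ev (toSet 1337732) (toSet 0) (toSet 0)),
    mem_odSet.mpr ⟨_, _, (toSet_mem_CW (m := 15585107) (by decide +kernel)), (by decide +kernel), rfl⟩,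
    mem_evSet.mpr ⟨_, _, _, (toSet_mem_CW (m := 1337732) (by decide +kernel)), (by decide +kernel), (by decide +kernel), (by decide +kernel), (by decide +kernel), (by decide +kernel), rfl⟩,
    funext fun i => by revert i; decide +kernel⟩

theorem fuse2 : ∃ x y : GolayPt → ℤ, x ∈ evSet 8 1 ∧ y ∈ evSet 12 0 ∧ zeta x = y :=
  ⟨(ev (toSet 2268296) (toSet 4194304) (toSet 4365312)), (ev (toSet 6234968) (toSet 0) (toSet 4718664)),
    mem_evSet.mpr ⟨_, _, _, (toSet_mem_CW (m := 2268296) (by decide +kernel)), (by decide +kernel), (by decide +kernel), (by decide +kernel), (by decide +kernel), (by decide +kernel), rfl⟩,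
    mem_evSet.mpr ⟨_, _, _, (toSet_mem_CW (m := 6234968) (by decide +kernel)), (by decide +kernel), (by decide +kernel), (by decide +kernel), (by decide +kernel), (by decide +kernel), rfl⟩,
    funext fun i => by revert i; decide +kernel⟩

theorem fuse3 : ∃ x y : GolayPt → ℤ, x ∈ evSet 8 1 ∧ y ∈ odSet (-1) 3 ∧ zeta x = y :=
  ⟨(ev (toSet 6594610) (toSet 131072) (toSet 294962)), (od (-1) (toSet 884962) (toSet 131120)),
    mem_evSet.mpr ⟨_, _, _, (toSet_mem_CW (m := 6594610) (by decide +kernel)), (by decide +kernel), (by decide +kernel), (by decide +kernel), (by decide +kernel), (by decide +kernel), rfl⟩,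
    mem_odSet.mpr ⟨_, _, (toSet_mem_CW (m := 884962) (by decide +kernel)), (by decide +kernel), rfl⟩,
    funext fun i => by revert i; decide +kernel⟩

theorem fuse4 : ∃ x y : GolayPt → ℤ, x ∈ evSet 8 1 ∧ y ∈ odSet (1) 1 ∧ zeta x = y :=
  ⟨(ev (toSet 4900873) (toSet 32) (toSet 690216)), (od (1) (toSet 9168926) (toSet 16384)),
    mem_evSet.mpr ⟨_, _, _, (toSet_mem_CW (m := 4900873) (by decide +kernel)), (by decide +kernel), (by decide +kernel), (by decide +kernel), (by decide +kernel), (by decide +kernel), rfl⟩,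
    mem_odSet.mpr ⟨_, _, (toSet_mem_CW (m := 9168926) (by decide +kernel)), (by decide +kernel), rfl⟩,
    funext fun i => by revert i; decide +kernel⟩

theorem fuse5 : ∃ x y : GolayPt → ℤ, x ∈ eightSet ∧ y ∈ evSet 0 4 ∧ zeta x = y :=
  ⟨(Pi.single (pt 17) (-8) : GolayPt → ℤ), (ev (toSet 0) (toSet 147496) (toSet 16424)),
    mem_eightSet.mpr ⟨_, _, Or.inr rfl, rfl⟩,
    mem_evSet.mpr ⟨_, _, _, (toSet_mem_CW (m := 0) (by decide +kernel)), (by decide +kernel), (by decide +kernel), (by decide +kernel), (by decide +kernel), (by decide +kernel), rfl⟩,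
    funext fun i => by revert i; decide +kernel⟩

theorem fuse6 : ∃ x y : GolayPt → ℤ, x ∈ evSet 0 4 ∧ y ∈ evSet 8 2 ∧ zeta x = y :=
  ⟨(ev (toSet 0) (toSet 1056816) (toSet 1048576)), (ev (toSet 1230376) (toSet 4259840) (toSet 5308448)),
    mem_evSet.mpr ⟨_, _, _, (toSet_mem_CW (m := 0) (by decide +kernel)), (by decide +kernel), (by decide +kernel), (by decide +kernel), (by decide +kernel), (by decide +kernel), rfl⟩,
    mem_evSet.mpr ⟨_, _, _, (toSet_mem_CW (m := 1230376) (by decide +kernel)), (by decide +kernel), (by decide +kernel), (by decide +kernel), (by decide +kernel), (by decide +kernel), rfl⟩,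
    funext fun i => by revert i; decide +kernel⟩

theorem fuse7 : ∃ x y : GolayPt → ℤ, x ∈ evSet 0 4 ∧ y ∈ sixSet ∧ zeta x = y :=
  ⟨(ev (toSet 0) (toSet 590016) (toSet 589888)), (ev (toSet 6889680) {pt 7} (toSet 589888)),
    mem_evSet.mpr ⟨_, _, _, (toSet_mem_CW (m := 0) (by decide +kernel)), (by decide +kernel), (by decide +kernel), (by decide +kernel), (by decide +kernel), (by decide +kernel), rfl⟩,
    mem_sixSet.mpr ⟨_, _, _, (toSet_mem_CW (m := 6889680) (by decide +kernel)), (by decide +kernel), (by decide +kernel), (by decide +kernel), (by decide +kernel), rfl⟩,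
    funext fun i => by revert i; decide +kernel⟩

theorem fuse8 : ∃ x y : GolayPt → ℤ, x ∈ evSet 8 2 ∧ y ∈ evSet 12 1 ∧ zeta x = y :=
  ⟨(ev (toSet 12325377) (toSet 18) (toSet 1314835)), (ev (toSet 5319638) (toSet 8388608) (toSet 1048786)),
    mem_evSet.mpr ⟨_, _, _, (toSet_mem_CW (m := 12325377) (by decide +kernel)), (by decide +kernel), (by decide +kernel), (by decide +kernel), (by decide +kernel), (by decide +kernel), rfl⟩,
    mem_evSet.mpr ⟨_, _, _, (toSet_mem_CW (m := 5319638) (by decide +kernel)), (by decide +kernel), (by decide +kernel), (by decide +kernel), (by decide +kernel), (by decide +kernel), rfl⟩,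
    funext fun i => by revert i; decide +kernel⟩

theorem fuse9 : ∃ x y : GolayPt → ℤ, x ∈ evSet 8 2 ∧ y ∈ odSet (-1) 5 ∧ zeta x = y :=
  ⟨(ev (toSet 10021376) (toSet 4194312) (toSet 5259272)), (od (-1) (toSet 2389447) (toSet 5382176)),
    mem_evSet.mpr ⟨_, _, _, (toSet_mem_CW (m := 10021376) (by decide +kernel)), (by decide +kernel), (by decide +kernel), (by decide +kernel), (by decide +kernel), (by decide +kernel), rfl⟩,
    mem_odSet.mpr ⟨_, _, (toSet_mem_CW (m := 2389447) (by decide +kernel)), (by decide +kernel), rfl⟩,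
    funext fun i => by revert i; decide +kernel⟩

theorem fuse10 : ∃ x y : GolayPt → ℤ, x ∈ evSet 8 2 ∧ y ∈ mixSet ∧ zeta x = y :=
  ⟨(ev (toSet 5785794) (toSet 8208) (toSet 1064960)), (od2 (toSet 10433021) (pt 16) {pt 21, pt 22}),
    mem_evSet.mpr ⟨_, _, _, (toSet_mem_CW (m := 5785794) (by decide +kernel)), (by decide +kernel), (by decide +kernel), (by decide +kernel), (by decide +kernel), (by decide +kernel), rfl⟩,
    mem_mixSet.mpr ⟨_, _, _, (toSet_mem_CW (m := 10433021) (by decide +kernel)), (by decide +kernel), (by decide +kernel), rfl⟩,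
    funext fun i => by revert i; decide +kernel⟩

end CfsgLeech
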