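/-
Classes modulo twice a lattice without short vectors: frames of 48 vectors.
-/
import Mathlib

set_option autoImplicit false

namespace CfsgLeech

/-- The hypotheses of the class count. -/
structure FrameData (M : Type*) [AddCommGroup M] where
  d : M →+ M →+ ℤ
  s : ℤ
  spos : 0 < s
  symm : ∀ x y, d x y = d y x
  pos : ∀ x, x ≠ 0 → 4 * s ≤ d x x
  frame : ∀ S : Finset M, (∀ x ∈ S, x ≠ 0) → (∀ x ∈ S, ∀ y ∈ S, x ≠ y → d x y = 0) → S.card ≤ 24
  index : (nsmulAddMonoidHom (α := M) 2).range.index = 2 ^ 24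
  c4 : {x | d x x = 4 * s}.ncard = 196560
  c6 : {x | d x x = 6 * s}.ncard = 16773120
  c8 : {x | d x x = 8 * s}.ncard = 398034000

namespace FrameData

variable {M : Type*} [AddCommGroup M] (D : FrameData M)

theorem norm_zero_iff {x : M} : D.d x x = 0 ↔ x = 0 := by
  refine ⟨fun h => ?_, fun h => by simp [h]⟩
  by_contra hx
  have := D.pos x hx
  have := D.spos
  omega

include D in
theorem ne_neg {x : M} (hx : x ≠ 0) : x ≠ -x := fun h => hx (by
  have h1 : D.d (x + x) x = 0 := by
    have : x + x = 0 := by nth_rw 2 [h]; abel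
    rw [this]; simp
  rw [map_add, AddMonoidHom.add_apply] at h1
  exact D.norm_zero_iff.mp (by omega))

/-- The class map. -/
abbrev cls : M →+ M ⧸ (nsmulAddMonoidHom (α := M) 2).range := QuotientAddGroup.mk' _

theorem cls_eq_iff {x y : M} : cls x = cls y ↔ ∃ z : M, x - y = 2 • z := by
  simp only [cls, QuotientAddGroup.mk'_apply, QuotientAddGroup.eq_iff_sub_mem, AddMonoidHom.mem_range,
    nsmulAddMonoidHom_apply, eq_comm]

theorem short {x y : M} (hxy : x ≠ y) (hx : D.d x x ≤ 8 * D.s) (hy : D.d y y ≤ 8 * D.s)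
    (h : cls x = cls y) : x = -y ∨ (D.d x x = 8 * D.s ∧ D.d y y = 8 * D.s ∧ D.d x y = 0) := by
  obtain ⟨z, he⟩ := cls_eq_iff.mp h
  have hz0 : z ≠ 0 := by
    intro hz; rw [hz, smul_zero, sub_eq_zero] at he; exact hxy he
  have hw : x + y = 2 • (x - z) := by rw [smul_sub, ← he]; abel
  by_cases hw0 : x - z = 0
  · exact Or.inl (by rw [hw0, smul_zero] at hw; exact eq_neg_of_add_eq_zero_left hw)
  right
  have h1 := D.pos z hz0
  have h2 := D.pos _ hw0
  have h3 : D.d (x - y) (x - y) = D.d x x + D.d y y - 2 * D.d x y := by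
    simp only [map_sub, AddMonoidHom.sub_apply, D.symm y x]; ring
  have h4 : D.d (x + y) (x + y) = D.d x x + D.d y y + 2 * D.d x y := by
    simp only [map_add, AddMonoidHom.add_apply, D.symm y x]; ring
  rw [he] at h3
  rw [hw] at h4
  simp only [two_nsmul, map_add, AddMonoidHom.add_apply] at h3 h4
  omega

include D in
theorem exists_half [DecidableEq M] (F : Finset M) (h : ∀ x ∈ F, x ≠ 0) :
    ∃ S ⊆ F, F.card ≤ 2 * S.card ∧ ∀ x ∈ S, -x ∉ S := by
  induction F using Finset.strongInduction with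
  | H F ih =>
    rcases F.eq_empty_or_nonempty with rfl | ⟨x, hx⟩
    · exact ⟨∅, subset_rfl, by simp, by simp⟩
    · have hlt : (F.erase x).erase (-x) ⊂ F :=
        Finset.ssubset_of_subset_of_ssubset (Finset.erase_subset _ _) (Finset.erase_ssubset hx)
      obtain ⟨S, hS, hc, hn⟩ := ih _ hlt fun y hy => h y (hlt.subset hy)
      have hxS : x ∉ S := fun h' => by simpa using hS h'
      have hnxS : -x ∉ S := fun h' => by simpa using hS h'
      refine ⟨insert x S, Finset.insert_subset hx (hS.trans hlt.subset), ?_, ?_⟩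
      · rw [Finset.card_insert_of_notMem hxS]
        have h1 := Finset.card_erase_add_one hx
        have h2 := Finset.pred_card_le_card_erase (s := F.erase x) (a := -x)
        omega
      · intro y hy hny
        rw [Finset.mem_insert] at hy hny
        rcases hy with rfl | hy
        · rcases hny with h' | h'
          · exact D.ne_neg (h _ hx) h'.symm
          · exact hnxS h'
        · rcases hny with h' | h'
          · exact hnxS (by rwa [← h', neg_neg])
          · exact hn y hy h'

theorem count : (∀ x, D.d x x = 8 * D.s → {y | D.d y y = 8 * D.s ∧ ∃ z, x - y = 2 • z}.ncard = 48) ∧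
    ∀ x, ∃ y, D.d y y ≤ 8 * D.s ∧ ∃ z, x - y = 2 • z := by
  classical
  have hs := D.spos
  have hfin : ∀ {n N : ℕ}, {x | D.d x x = (n : ℤ) * D.s}.ncard = N → N ≠ 0 → {x | D.d x x = (n : ℤ) * D.s}.Finite :=
    fun h h0 => Set.finite_of_ncard_ne_zero (h ▸ h0)
  obtain ⟨F4, h4⟩ : ∃ F : Finset M, ∀ x, x ∈ F ↔ D.d x x = 4 * D.s :=
    ⟨(hfin (n := 4) D.c4 (by norm_num)).toFinset, fun x => Set.Finite.mem_toFinset _⟩
  obtain ⟨F6, h6⟩ : ∃ F : Finset M, ∀ x, x ∈ F ↔ D.d x x = 6 * D.s :=
    ⟨(hfin (n := 6) D.c6 (by norm_num)).toFinset, fun x => Set.Finite.mem_toFinset _⟩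
  obtain ⟨F8, h8⟩ : ∃ F : Finset M, ∀ x, x ∈ F ↔ D.d x x = 8 * D.s :=
    ⟨(hfin (n := 8) D.c8 (by norm_num)).toFinset, fun x => Set.Finite.mem_toFinset _⟩
  have hcard : F4.card = 196560 ∧ F6.card = 16773120 ∧ F8.card = 398034000 := by
    refine ⟨?_, ?_, ?_⟩ <;> rw [← Set.ncard_coe_finset]
    · rw [← D.c4]; congr 1; ext x; exact h4 x
    · rw [← D.c6]; congr 1; ext x; exact h6 x
    · rw [← D.c8]; congr 1; ext x; exact h8 x
  obtain ⟨k4, k6, k8⟩ := hcard
  set Q := M ⧸ (nsmulAddMonoidHom (α := M) 2).range with hQ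
  have hQc : Nat.card Q = 2 ^ 24 := D.index
  haveI : Finite Q := Nat.finite_of_card_ne_zero (by rw [hQc]; norm_num)
  haveI : Fintype Q := Fintype.ofFinite Q
  rw [Nat.card_eq_fintype_card] at hQc
  -- small shells: fibres of size two
  have hsmall : ∀ (F : Finset M) (n : ℤ), 0 < n → n < 8 * D.s → (∀ x, x ∈ F ↔ D.d x x = n) →
      F.card ≤ 2 * (F.image cls).card := by
    intro F n hn hn8 hF
    refine Finset.card_le_mul_card_image _ 2 fun q hq => ?_
    obtain ⟨x, hx, rfl⟩ := Finset.mem_image.mp hq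
    refine (Finset.card_le_card (t := {x, -x}) fun y hy => ?_).trans Finset.card_le_two
    obtain ⟨hy, hyx⟩ := Finset.mem_filter.mp hy
    rw [Finset.mem_insert, Finset.mem_singleton]
    rcases eq_or_ne y x with e | e
    · exact Or.inl e
    have := (hF y).mp hy
    have := (hF x).mp hx
    rcases D.short e (by omega) (by omega) hyx with h' | ⟨h', -, -⟩
    · exact Or.inr h'
    · omega
  -- the fibres of the third shell
  have hbig : ∀ q, (F8.filter fun y => cls y = q).card ≤ 48 := by
    intro q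
    set F := F8.filter fun y => cls y = q
    have hF0 : ∀ x ∈ F, x ≠ 0 := fun x hx h0 => by
      have := (h8 x).mp (Finset.mem_filter.mp hx).1
      rw [h0] at this; simp at this; omega
    obtain ⟨S, hS, hc, hn⟩ := D.exists_half F hF0
    have := D.frame S (fun x hx => hF0 x (hS hx)) fun x hx y hy hxy => by
      obtain ⟨hx8, hxq⟩ := Finset.mem_filter.mp (hS hx)
      obtain ⟨hy8, hyq⟩ := Finset.mem_filter.mp (hS hy)
      rcases D.short hxy ((h8 x).mp hx8).le ((h8 y).mp hy8).le (hxq.trans hyq.symm) with h' | ⟨-, -, h'⟩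
      · exact absurd hx (h' ▸ hn y hy)
      · exact h'
    omega
  -- disjointness of the four families of classes
  have hdisj : ∀ x y, D.d x x < D.d y y → D.d y y ≤ 8 * D.s → cls x ≠ cls y := by
    intro x y hlt hy h
    rcases D.short (fun e => by rw [e] at hlt; exact lt_irrefl _ hlt) (by omega) hy h with h' | ⟨h', h'', -⟩
    · rw [h'] at hlt; simp at hlt
    · omega
  set Z : Finset Q := {cls 0}
  have d1 : Disjoint Z (F4.image cls) := Finset.disjoint_left.mpr fun q hq hq' => by
    obtain ⟨y, hy, e⟩ := Finset.mem_image.mp hq'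
    rw [Finset.mem_singleton.mp hq] at e
    have := (h4 y).mp hy
    exact hdisj 0 y (by simp; omega) (by omega) e.symm
  have d2 : Disjoint (Z ∪ F4.image cls) (F6.image cls) := Finset.disjoint_left.mpr fun q hq hq' => by
    obtain ⟨y, hy, e⟩ := Finset.mem_image.mp hq'
    have := (h6 y).mp hy
    rcases Finset.mem_union.mp hq with h | h
    · rw [Finset.mem_singleton.mp h] at e
      exact hdisj 0 y (by simp; omega) (by omega) e.symm
    · obtain ⟨x, hx, e'⟩ := Finset.mem_image.mp h
      have := (h4 x).mp hx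
      exact hdisj x y (by omega) (by omega) (e'.trans e.symm)
  have d3 : Disjoint (Z ∪ F4.image cls ∪ F6.image cls) (F8.image cls) := Finset.disjoint_left.mpr fun q hq hq' => by
    obtain ⟨y, hy, e⟩ := Finset.mem_image.mp hq'
    have := (h8 y).mp hy
    rcases Finset.mem_union.mp hq with h | h
    · rcases Finset.mem_union.mp h with h | h
      · rw [Finset.mem_singleton.mp h] at e
        exact hdisj 0 y (by simp; omega) (by omega) e.symm
      · obtain ⟨x, hx, e'⟩ := Finset.mem_image.mp h
        have := (h4 x).mp hx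
        exact hdisj x y (by omega) (by omega) (e'.trans e.symm)
    · obtain ⟨x, hx, e'⟩ := Finset.mem_image.mp h
      have := (h6 x).mp hx
      exact hdisj x y (by omega) (by omega) (e'.trans e.symm)
  set U := Z ∪ F4.image cls ∪ F6.image cls ∪ F8.image cls with hU
  have hUc : U.card = 1 + (F4.image cls).card + (F6.image cls).card + (F8.image cls).card := by
    rw [hU, Finset.card_union_of_disjoint d3, Finset.card_union_of_disjoint d2, Finset.card_union_of_disjoint d1,
      Finset.card_singleton]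
  have h1 := hsmall F4 _ (by omega) (by omega) h4
  have h2 := hsmall F6 _ (by omega) (by omega) h6
  have h3 : F8.card ≤ 48 * (F8.image cls).card :=
    Finset.card_le_mul_card_image _ 48 fun q _ => hbig q
  have hle : U.card ≤ 2 ^ 24 := hQc ▸ Finset.card_le_univ U
  have hUuniv : U = Finset.univ := Finset.eq_univ_of_card _ (by rw [hQc]; omega)
  have hI8 : (F8.image cls).card = 8292375 := by omega
  refine ⟨fun x hx => ?_, fun x => ?_⟩
  · have hset : {y | D.d y y = 8 * D.s ∧ ∃ z, x - y = 2 • z} = ↑(F8.filter fun y => cls y = cls x) := by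
      ext y
      simp only [Finset.coe_filter, Set.mem_ofPred_eq, h8, cls_eq_iff]
      exact and_congr_right fun _ => ⟨fun ⟨z, hz⟩ => ⟨-z, by rw [smul_neg, ← hz, neg_sub]⟩,
        fun ⟨z, hz⟩ => ⟨-z, by rw [smul_neg, ← hz, neg_sub]⟩⟩
    rw [hset, Set.ncard_coe_finset]
    have hsum := Finset.card_eq_sum_card_image cls F8
    have h48 : ∑ _q ∈ F8.image cls, 48 = ∑ q ∈ F8.image cls, (F8.filter fun y => cls y = q).card := by
      rw [← hsum, Finset.sum_const, hI8, k8, smul_eq_mul]
    exact (Finset.sum_eq_sum_iff_of_le (fun q _ => hbig q)).mp h48.symm (cls x)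
      (Finset.mem_image_of_mem _ ((h8 x).mpr hx))
  · have hxU : cls x ∈ U := hUuniv ▸ Finset.mem_univ _
    have fin : ∀ y, cls y = cls x → D.d y y ≤ 8 * D.s → ∃ y, D.d y y ≤ 8 * D.s ∧ ∃ z, x - y = 2 • z :=
      fun y e hy => ⟨y, hy, cls_eq_iff.mp e.symm⟩
    simp only [hU, Finset.mem_union] at hxU
    rcases hxU with ((h | h) | h) | h
    · exact fin 0 (Finset.mem_singleton.mp h).symm (by simp; omega)
    · obtain ⟨y, hy, e⟩ := Finset.mem_image.mp h
      have := (h4 y).mp hy
      exact fin y e (by omega)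
    · obtain ⟨y, hy, e⟩ := Finset.mem_image.mp h
      have := (h6 y).mp hy
      exact fin y e (by omega)
    · obtain ⟨y, hy, e⟩ := Finset.mem_image.mp h
      exact fin y e ((h8 y).mp hy).le

end FrameData

theorem card_le_of_orthogonal {M κ : Type*} [AddCommGroup M] [Fintype κ] (φ : M →+ κ → ℤ)
    (hφ : Function.Injective φ) (d : M →+ M →+ ℤ) (S : Finset M) (h0 : ∀ x ∈ S, d x x ≠ 0)
    (ho : ∀ x ∈ S, ∀ y ∈ S, x ≠ y → d x y = 0) : S.card ≤ Fintype.card κ := by
  have hli : LinearIndependent ℤ fun x : S => φ (x : M) := by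
    rw [Fintype.linearIndependent_iff]
    intro g hg i
    have h1 : ∑ x : S, g x • (x : M) = 0 := hφ (by rw [map_sum, map_zero]; simpa [map_zsmul] using hg)
    have h2 := congrArg (fun v => d v (i : M)) h1
    simp only [map_sum, map_zsmul, map_zero, AddMonoidHom.coe_finsetSum, Finset.sum_apply,
      AddMonoidHom.zero_apply] at h2
    rw [Finset.sum_eq_single i] at h2
    · simp only [AddMonoidHom.smul_apply, smul_eq_mul, mul_eq_zero] at h2
      exact h2.resolve_right (h0 _ i.2)
    · intro b _ hb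
      simp [ho _ b.2 _ i.2 fun e => hb (Subtype.ext e)]
    · exact fun h => absurd (Finset.mem_univ i) h
  have := hli.fintype_card_le_finrank
  simpa [Module.finrank_fintype_fun_eq_card] using this

theorem index_two_mul (κ : Type*) [Fintype κ] :
    (nsmulAddMonoidHom (α := κ → ℤ) 2).range.index = 2 ^ Fintype.card κ := by
  classical
  set r : (κ → ℤ) →+ (κ → ZMod 2) := AddMonoidHom.compLeft (Int.castAddHom (ZMod 2)) κ with hr
  have hk : (nsmulAddMonoidHom (α := κ → ℤ) 2).range = r.ker := by
    ext x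
    simp only [AddMonoidHom.mem_range, AddMonoidHom.mem_ker, nsmulAddMonoidHom_apply, funext_iff, hr,
      AddMonoidHom.compLeft_apply, Function.comp_apply, Pi.smul_apply, Pi.zero_apply, Int.coe_castAddHom,
      ZMod.intCast_zmod_eq_zero_iff_dvd, Nat.cast_ofNat, nsmul_eq_mul]
    constructor
    · rintro ⟨y, hy⟩ i; exact ⟨y i, (hy i).symm⟩
    · intro h; choose y hy using h; exact ⟨y, fun i => (hy i).symm⟩
  rw [hk, AddSubgroup.index_ker, AddMonoidHom.range_eq_top.mpr ?_]
  · simp [Nat.card_eq_fintype_card, ZMod.card]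
  · intro v
    exact ⟨fun i => (v i).cast, by funext i; simp [hr]⟩

end CfsgLeech
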