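/-
Indices of the lattice and of a sublattice by reduction modulo 8.
-/
import Cfsg.Agent.Lib.Leech.Basic

set_option autoImplicit false

namespace CfsgLeech

open Cfsg CfsgGolay

attribute [local irreducible] codeL octadL dodecadL

/-- The vector with given parity, class set and quotient part. -/
def vecOf (e : ℤ) (c : Finset GolayPt) (y : GolayPt → ℤ) : GolayPt → ℤ :=
  fun i => e + 2 * chi c i + 4 * y i

/-- Coordinatewise reduction modulo 8. -/
def red : (GolayPt → ℤ) →+ (GolayPt → ZMod 8) where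
  toFun x i := (x i : ZMod 8)
  map_zero' := by funext i; simp
  map_add' x y := by funext i; simp

/-- A quotient part with prescribed residues on the 23 points and total `e`. -/
def liftY (e : ℤ) (u : ZMod 23 → ZMod 2) : GolayPt → ℤ
  | some a => (u a).val
  | none => e - ∑ a, ((u a).val : ℤ)

theorem sum_liftY (e : ℤ) (u : ZMod 23 → ZMod 2) : ∑ i, liftY e u i = e := by
  rw [Fintype.sum_option]
  simp [liftY]

theorem index_count (A : AddSubgroup (GolayPt → ℤ)) (S : Set (ℤ × Finset GolayPt))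
    (hS : ∀ p ∈ S, (p.1 = 0 ∨ p.1 = 1) ∧ p.2 ∈ CW)
    (hA : ∀ x, x ∈ A ↔ ∃ p ∈ S, ∃ y, x = vecOf p.1 p.2 y ∧ (2 : ℤ) ∣ (∑ i, y i) - p.1)
    (h8 : ∀ x : GolayPt → ℤ, (∀ i, (8 : ℤ) ∣ x i) → x ∈ A) :
    A.index * (S.ncard * 2 ^ 23) = 2 ^ 72 := by
  have hsurj : Function.Surjective red := fun v => ⟨fun i => (v i).cast, by funext i; simp [red]⟩
  have hker : red.ker ≤ A := fun x hx => h8 x fun i => by
    have := congrFun (AddMonoidHom.mem_ker.mp hx) i
    simpa [red, ZMod.intCast_zmod_eq_zero_iff_dvd] using this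
  have hidx : (A.map red).index = A.index := AddSubgroup.index_map_eq _ hsurj hker
  set Ψ : S × (ZMod 23 → ZMod 2) → (GolayPt → ZMod 8) := fun q =>
    red (vecOf q.1.1.1 q.1.1.2 (liftY q.1.1.1 q.2)) with hΨ
  have hinj : Function.Injective Ψ := by
    rintro ⟨⟨⟨e, c⟩, hp⟩, u⟩ ⟨⟨⟨e', c'⟩, hp'⟩, u'⟩ h
    have hd : ∀ i, (8 : ℤ) ∣ vecOf e c (liftY e u) i - vecOf e' c' (liftY e' u') i := fun i => by
      have h' := congrFun h i
      simp only [hΨ, red, AddMonoidHom.coe_mk, ZeroHom.coe_mk, ZMod.intCast_eq_intCast_iff_dvd_sub,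
        Nat.cast_ofNat] at h'
      omega
    have he : e = e' := by
      have := hd none
      have := (hS _ hp).1
      have := (hS _ hp').1
      simp only [vecOf] at *
      omega
    subst he
    have hc : c = c' := by
      ext i
      have := hd i
      by_cases h1 : i ∈ c <;> by_cases h2 : i ∈ c' <;> simp [vecOf, chi, h1, h2] at this ⊢ <;> omega
    subst hc
    have hu : u = u' := by
      funext a
      have := hd (some a)
      simp only [vecOf, liftY] at this
      have l1 := ZMod.val_lt (u a)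
      have l2 := ZMod.val_lt (u' a)
      exact ZMod.val_injective 2 (by omega)
    subst hu
    rfl
  have hrange : Set.range Ψ = (A.map red : Set (GolayPt → ZMod 8)) := by
    ext v
    constructor
    · rintro ⟨⟨⟨p, hp⟩, u⟩, rfl⟩
      refine ⟨vecOf p.1 p.2 (liftY p.1 u), (hA _).mpr ⟨p, hp, liftY p.1 u, rfl, ?_⟩, rfl⟩
      rw [sum_liftY, sub_self]; exact dvd_zero _
    · rintro ⟨x, hx, rfl⟩
      obtain ⟨⟨e, c⟩, hp, y, rfl, hs⟩ := (hA x).mp hx
      refine ⟨⟨⟨(e, c), hp⟩, fun a => (y (some a) : ZMod 2)⟩, ?_⟩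
      funext i
      simp only [hΨ, red, AddMonoidHom.coe_mk, ZeroHom.coe_mk, ZMod.intCast_eq_intCast_iff_dvd_sub,
        Nat.cast_ofNat, vecOf]
      have hv : ∀ a, (((y (some a) : ZMod 2)).val : ℤ) = y (some a) % 2 := fun a => by
        have := ZMod.val_intCast (n := 2) (y (some a)); simpa using this
      cases i with
      | some a => simp only [liftY, hv]; omega
      | none =>
        rw [Fintype.sum_option] at hs
        simp only [liftY, hv]
        have h2 : (2 : ℤ) ∣ (∑ a, y (some a)) - ∑ a, y (some a) % 2 := by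
          rw [← Finset.sum_sub_distrib]
          exact Finset.dvd_sum fun a _ => Int.dvd_self_sub_emod
        omega
  have hcard : Nat.card (A.map red) = S.ncard * 2 ^ 23 := by
    rw [← Nat.card_coe_set_eq]
    rw [← SetLike.coe_sort_coe, ← hrange, Nat.card_congr (Equiv.ofInjective Ψ hinj).symm, Nat.card_prod]
    simp [Nat.card_eq_fintype_card, ZMod.card]
  rw [← hidx, ← hcard, AddSubgroup.index_mul_card]
  simp [Nat.card_eq_fintype_card, ZMod.card]

theorem leech_index : leechLattice.index = 2 ^ 36 := by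
  have h := index_count leechLattice (({0, 1} : Set ℤ) ×ˢ CW) (fun p hp => ⟨by simpa using hp.1, hp.2⟩)
    (fun x => by
      rw [mem_leech]
      constructor
      · intro hx
        obtain ⟨e, c, y, he, hc, hxy, hs⟩ := hx.normal
        exact ⟨(e, c), ⟨by simpa using he, hc⟩, y, funext hxy, hs⟩
      · rintro ⟨⟨e, c⟩, ⟨-, hc⟩, y, rfl, hs⟩
        exact ⟨e, c, y, hc, fun i => rfl, hs⟩)
    (fun x hx => mem_leech.mpr ⟨0, ∅, fun i => x i / 4, CW_empty, fun i => by
      have := hx i; simp [chi]; omega, by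
      have : (2 : ℤ) ∣ ∑ i, x i / 4 := Finset.dvd_sum fun i _ => by have := hx i; omega
      simpa using this⟩)
  rw [Set.ncard_prod, CW_ncard, Set.ncard_pair (by norm_num)] at h
  refine Nat.eq_of_mul_eq_mul_right (show 0 < 2 * 4096 * 2 ^ 23 by norm_num) ?_
  rw [h]; norm_num

/-- The sublattice of even vectors with all coordinates in one class modulo 4. -/
def leechA : AddSubgroup (GolayPt → ℤ) where
  carrier := {x | x ∈ leechLattice ∧ (∀ i, (2 : ℤ) ∣ x i) ∧ ∀ i j, (4 : ℤ) ∣ x i - x j}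
  zero_mem' := ⟨zero_mem _, fun i => by simp, fun i j => by simp⟩
  add_mem' := fun {a b} ha hb => ⟨add_mem ha.1 hb.1, fun i => dvd_add (ha.2.1 i) (hb.2.1 i), fun i j => by
    rw [show (a + b) i - (a + b) j = (a i - a j) + (b i - b j) by simp only [Pi.add_apply]; ring]
    exact dvd_add (ha.2.2 i j) (hb.2.2 i j)⟩
  neg_mem' := fun {a} ha => ⟨neg_mem ha.1, fun i => (ha.2.1 i).neg_right, fun i j => by
    rw [show (-a) i - (-a) j = -(a i - a j) by simp only [Pi.neg_apply]; ring]
    exact (ha.2.2 i j).neg_right⟩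

theorem mem_leechA {x : GolayPt → ℤ} : x ∈ leechA ↔ ∃ p ∈ ({0} : Set ℤ) ×ˢ ({∅, Finset.univ} : Set (Finset GolayPt)),
    ∃ y, x = vecOf p.1 p.2 y ∧ (2 : ℤ) ∣ (∑ i, y i) - p.1 := by
  constructor
  · rintro ⟨hx, h2, h4⟩
    obtain ⟨e, c, y, he, -, hxy, hs⟩ := (mem_leech.mp hx).normal
    have he0 : e = 0 := by
      have := h2 none; rw [hxy] at this; omega
    subst he0
    refine ⟨(0, c), ⟨rfl, ?_⟩, y, funext hxy, hs⟩
    by_cases hc : ∃ a, a ∈ c
    · obtain ⟨a, ha⟩ := hc
      refine Or.inr (Finset.eq_univ_of_forall fun i => ?_)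
      have := h4 a i
      rw [hxy, hxy] at this
      by_contra hi
      simp [chi, ha, hi] at this
      omega
    · exact Or.inl (Finset.eq_empty_of_forall_notMem fun a ha => hc ⟨a, ha⟩)
  · rintro ⟨⟨e, c⟩, ⟨he, hc⟩, y, rfl, hs⟩
    obtain rfl : e = 0 := he
    have hcw : c ∈ CW := by
      rcases hc with rfl | rfl
      exacts [CW_empty, CW_univ]
    refine ⟨mem_leech.mpr ⟨0, c, y, hcw, fun i => rfl, hs⟩, fun i => by simp only [vecOf]; omega, fun i j => ?_⟩
    rcases hc with rfl | rfl <;> simp [vecOf, chi] <;> omega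

theorem leechA_index : leechA.index = 2 ^ 48 := by
  have h := index_count leechA (({0} : Set ℤ) ×ˢ ({∅, Finset.univ} : Set (Finset GolayPt))) ?_
    (fun x => mem_leechA) ?_
  · rw [Set.ncard_prod, Set.ncard_singleton, Set.ncard_pair] at h
    · refine Nat.eq_of_mul_eq_mul_right (show 0 < 1 * 2 * 2 ^ 23 by norm_num) ?_
      rw [h]; norm_num
    · exact fun he => Finset.univ_nonempty.ne_empty he.symm
  · rintro p ⟨h1, h2⟩
    refine ⟨Or.inl h1, ?_⟩
    rcases h2 with h2 | h2 <;> rw [h2]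
    exacts [CW_empty, CW_univ]
  · intro x hx
    refine mem_leechA.mpr ⟨(0, ∅), ⟨rfl, Or.inl rfl⟩, fun i => x i / 4, funext fun i => ?_, ?_⟩
    · have := hx i; simp [vecOf, chi]; omega
    · have : (2 : ℤ) ∣ ∑ i, x i / 4 := Finset.dvd_sum fun i _ => by have := hx i; omega
      simpa using this

theorem leechA_norm {x : GolayPt → ℤ} (hx : x ∈ leechA) : (32 : ℤ) ∣ sqNorm x := by
  obtain ⟨⟨e, c⟩, ⟨he, hc⟩, y, rfl, hs⟩ := mem_leechA.mp hx
  obtain rfl : e = 0 := he
  obtain ⟨u, hu⟩ := hs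
  obtain ⟨w, hw⟩ := two_dvd_sum_sq_sub y
  rcases hc with rfl | rfl
  · refine ⟨w + u, ?_⟩
    have hn : sqNorm (vecOf 0 ∅ y) = 16 * ∑ i, y i ^ 2 := by
      rw [sqNorm, Finset.mul_sum]
      exact Finset.sum_congr rfl fun i _ => by simp [vecOf, chi]; ring
    simp only at hu
    rw [hn]; omega
  · refine ⟨3 + w + 2 * u, ?_⟩
    have hn : sqNorm (vecOf 0 Finset.univ y) = 96 + 16 * (∑ i, y i) + 16 * ∑ i, y i ^ 2 := by
      rw [sqNorm, Finset.mul_sum, Finset.mul_sum, show (96 : ℤ) = ∑ _i : GolayPt, (4 : ℤ) by simp [card_univ_pt],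
        ← Finset.sum_add_distrib, ← Finset.sum_add_distrib]
      exact Finset.sum_congr rfl fun i _ => by simp [vecOf, chi]; ring
    simp only at hu
    rw [hn]; omega

end CfsgLeech
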