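/-
The class count for the lattice itself.
-/
import Cfsg.Agent.Lib.Leech.Frames
import Cfsg.Agent.Lib.Leech.Index
import Cfsg.Agent.Lib.Leech.Counts
import Cfsg.Agent.Lib.Leech.Shapes64
import Cfsg.Prelude.Def_SporadicCombinatorics

set_option autoImplicit false

namespace CfsgLeech

open Cfsg CfsgGolay

theorem sub_ncard (P : (GolayPt → ℤ) → Prop) :
    {x : ↥leechLattice | P (x : GolayPt → ℤ)}.ncard = {x : GolayPt → ℤ | x ∈ leechLattice ∧ P x}.ncard := by
  rw [← Set.ncard_image_of_injective _ Subtype.val_injective]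
  congr 1
  ext x
  constructor
  · rintro ⟨y, hy, rfl⟩; exact ⟨y.2, hy⟩
  · rintro ⟨h, hy⟩; exact ⟨⟨x, h⟩, hy, rfl⟩

theorem leech_two_index : (nsmulAddMonoidHom (α := ↥leechLattice) 2).range.index = 2 ^ 24 := by
  set f := nsmulAddMonoidHom (α := GolayPt → ℤ) 2 with hf
  have hmap : (nsmulAddMonoidHom (α := ↥leechLattice) 2).range.map leechLattice.subtype =
      leechLattice.map f := by
    ext x
    simp only [AddSubgroup.mem_map, AddMonoidHom.mem_range, nsmulAddMonoidHom_apply, hf]
    constructor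
    · rintro ⟨_, ⟨v, rfl⟩, rfl⟩; exact ⟨v, v.2, rfl⟩
    · rintro ⟨v, hv, rfl⟩; exact ⟨_, ⟨⟨v, hv⟩, rfl⟩, rfl⟩
  have h1 := AddSubgroup.index_map_subtype (nsmulAddMonoidHom (α := ↥leechLattice) 2).range
  have hinj : Function.Injective f := fun a b hab => by
    funext i
    have := congrFun hab i
    simp only [hf, nsmulAddMonoidHom_apply, Pi.smul_apply, nsmul_eq_mul, Nat.cast_ofNat] at this
    omega
  rw [hmap, AddSubgroup.index_map_of_injective _ hinj, leech_index, index_two_mul, card_univ_pt] at h1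
  exact Nat.eq_of_mul_eq_mul_right (show 0 < 2 ^ 36 by norm_num) (h1.symm.trans (mul_comm _ _))

/-- The coordinate inner product on the lattice. -/
def dotHom : ↥leechLattice →+ ↥leechLattice →+ ℤ :=
  AddMonoidHom.mk' (fun x => AddMonoidHom.mk' (fun y => dotInt (x : GolayPt → ℤ) (y : GolayPt → ℤ))
    fun a b => by simp [dotInt, mul_add, Finset.sum_add_distrib])
    fun a b => by ext y; simp [dotInt, add_mul, Finset.sum_add_distrib]

theorem dotHom_self (x : ↥leechLattice) : dotHom x x = sqNorm (x : GolayPt → ℤ) := by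
  simp [dotHom, dotInt, sqNorm, sq]

/-- The lattice satisfies the hypotheses of the class count. -/
def leechFrames : FrameData ↥leechLattice where
  d := dotHom
  s := 8
  spos := by norm_num
  symm x y := by simp [dotHom, dotInt, mul_comm]
  pos x hx := by
    rw [dotHom_self]
    exact sqNorm_min (mem_leech.mp x.2) fun h => hx (Subtype.ext h)
  frame S h0 ho := by
    rw [← card_univ_pt]
    refine card_le_of_orthogonal leechLattice.subtype Subtype.val_injective dotHom S (fun x hx h => h0 x hx ?_) ho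
    rw [dotHom_self] at h
    exact Subtype.ext (sqNorm_eq_zero h)
  index := leech_two_index
  c4 := by simp only [dotHom_self]; rw [sub_ncard (fun x => sqNorm x = 4 * 8)]; exact min_count
  c6 := by simp only [dotHom_self]; rw [sub_ncard (fun x => sqNorm x = 6 * 8)]; exact second_count
  c8 := by simp only [dotHom_self]; rw [sub_ncard (fun x => sqNorm x = 8 * 8)]; exact third_count

theorem cross_ncard {x : GolayPt → ℤ} (hx : x ∈ leechLattice) (hn : sqNorm x = 64) : (cross x).ncard = 48 := by
  have h := leechFrames.count.1 ⟨x, hx⟩ ((dotHom_self _).trans hn)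
  rw [← h, ← Set.ncard_image_of_injective _ Subtype.val_injective]
  congr 1
  ext y
  constructor
  · rintro ⟨hy, hyn, z, hz, he⟩
    exact ⟨⟨y, hy⟩, ⟨(dotHom_self _).trans (hyn.trans hn), ⟨z, hz⟩, Subtype.ext he⟩, rfl⟩
  · rintro ⟨y', ⟨hyn, z, he⟩, rfl⟩
    exact ⟨y'.2, ((dotHom_self _).symm.trans hyn).trans hn.symm, z, z.2, congrArg Subtype.val he⟩

theorem exists_short_rep {x : GolayPt → ℤ} (hx : x ∈ leechLattice) :
    ∃ y ∈ leechLattice, sqNorm y ≤ 64 ∧ ∃ z ∈ leechLattice, x - y = 2 • z := by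
  obtain ⟨y, hy, z, he⟩ := leechFrames.count.2 ⟨x, hx⟩
  exact ⟨y, y.2, (dotHom_self y).symm.trans_le hy, z, z.2, congrArg Subtype.val he⟩

end CfsgLeech
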