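/-
The automorphism group of the lattice is transitive on its first three shells.
-/
import Cfsg.Agent.Lib.Leech.Fusion
import Cfsg.Agent.Lib.Leech.LeechFrames

set_option autoImplicit false

namespace CfsgLeech

open Cfsg CfsgGolay
open scoped Pointwise

attribute [local irreducible] codeL octadL dodecadL slpCodes

theorem link {A B : Set (GolayPt → ℤ)} {a b : GolayPt → ℤ} (hA : ∀ x ∈ A, Eqv x a) (hB : ∀ x ∈ B, Eqv x b)
    (hmem : ∀ x ∈ A, IsLeech x) (h : ∃ x y : GolayPt → ℤ, x ∈ A ∧ y ∈ B ∧ zeta x = y) : Eqv b a := by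
  obtain ⟨x, y, hx, hy, rfl⟩ := h
  exact ((hB _ hy).symm.trans (eqv_zeta (mem_leech.mpr (hmem x hx))).symm).trans (hA x hx)

theorem eqv32 {x : GolayPt → ℤ} (hx : x ∈ leechLattice) (hn : sqNorm x = 32) : Eqv x (ev O0 ∅ ∅) := by
  have oN : ∀ y ∈ odSet (-1) 1, Eqv y (od (-1) ∅ {none}) := fun y hy =>
    od_std (by norm_num) (by norm_num) hy (Finset.card_singleton _)
  rcases classify32.mp ⟨hx, hn⟩ with (h | h) | h
  · exact (ev02_std h).trans
      (link (A := evSet 0 2) (fun y hy => ev02_std hy) (fun y hy => ev80_std hy)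
        (fun y hy => (evSet_props hy).1) fuse0).symm
  · exact ev80_std h
  · exact (oN x h).trans
      (link (A := odSet (-1) 1) oN (fun y hy => ev80_std hy)
        (fun y hy => (odSet_props hy).1 (by norm_num)) fuse1).symm

theorem eqv48 {x : GolayPt → ℤ} (hx : x ∈ leechLattice) (hn : sqNorm x = 48) :
    Eqv x (ev O0 {pt 4} {pt 23}) := by
  have oM : ∀ y ∈ odSet (-1) 3, Eqv y (od (-1) ∅ (toSet 7)) := fun y hy =>
    od_std (by norm_num) (by norm_num) hy (by decide +kernel)
  have oP : ∀ y ∈ odSet 1 1, Eqv y (od 1 ∅ {none}) := fun y hy =>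
    od_std (by norm_num) (by norm_num) hy (Finset.card_singleton _)
  have hA : ∀ y ∈ evSet 8 1, IsLeech y := fun y hy => (evSet_props hy).1
  rcases classify48.mp ⟨hx, hn⟩ with ((h | h) | h) | h
  · exact (ev120_std h).trans (link (fun y hy => ev81_std hy) (fun y hy => ev120_std hy) hA fuse2)
  · exact ev81_std h
  · exact (oM x h).trans (link (fun y hy => ev81_std hy) oM hA fuse3)
  · exact (oP x h).trans (link (fun y hy => ev81_std hy) oP hA fuse4)

theorem eqv64_small {x : GolayPt → ℤ} (hx : x ∈ leechLattice) (hn : sqNorm x = 64) (hG : x ∉ evSet 16 0) :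
    Eqv x (Pi.single none 8) := by
  have o5 : ∀ y ∈ odSet (-1) 5, Eqv y (od (-1) ∅ (toSet 31)) := fun y hy =>
    od_std (by norm_num) (by norm_num) hy (by decide +kernel)
  have e04 : Eqv (ev ∅ (toSet 15) ∅) (Pi.single none 8) :=
    link (fun y hy => eight_std hy) (fun y hy => ev04_std hy) (fun y hy => (eightSet_props hy).1) fuse5
  have h4 : ∀ y ∈ evSet 0 4, IsLeech y := fun y hy => (evSet_props hy).1
  have e82 : Eqv (ev O0 {pt 4, pt 6} ∅) (Pi.single none 8) :=
    (link (fun y hy => ev04_std hy) (fun y hy => ev82_std hy) h4 fuse6).trans e04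
  have e6 : Eqv (ev O0 {pt 23} {pt 23}) (Pi.single none 8) :=
    (link (fun y hy => ev04_std hy) (fun y hy => six_std hy) h4 fuse7).trans e04
  have h8 : ∀ y ∈ evSet 8 2, IsLeech y := fun y hy => (evSet_props hy).1
  rcases classify64.mp ⟨hx, hn⟩ with (h | h | h | h | h | h) | h | h
  · exact eight_std h
  · exact (ev04_std h).trans e04
  · exact (ev82_std h).trans e82
  · exact (six_std h).trans e6
  · exact (ev121_std h).trans ((link (fun y hy => ev82_std hy) (fun y hy => ev121_std hy) h8 fuse8).trans e82)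
  · exact absurd h hG
  · exact (o5 x h).trans ((link (fun y hy => ev82_std hy) o5 h8 fuse9).trans e82)
  · exact (mix_std h).trans ((link (fun y hy => ev82_std hy) (fun y hy => mix_std hy) h8 fuse10).trans e82)

theorem cross_not_all_sixteen {x : GolayPt → ℤ} (hx : x ∈ leechLattice) (hn : sqNorm x = 64) :
    ∃ y ∈ cross x, y ∉ evSet 16 0 := by
  classical
  by_contra hall
  push_neg at hall
  have hxx : x ∈ cross x := ⟨hx, rfl, 0, zero_mem _, by simp⟩
  obtain ⟨c, T, N, -, hc, -, hT, -, -, hxe⟩ := mem_evSet.mp (hall x hxx)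
  obtain rfl := Finset.card_eq_zero.mp hT
  have hsupp : ∀ y ∈ cross x, ∀ i, i ∉ c → y i = 0 := by
    intro y hy
    obtain ⟨c', T', N', -, hc', -, hT', -, -, hye⟩ := mem_evSet.mp (hall y hy)
    obtain rfl := Finset.card_eq_zero.mp hT'
    obtain ⟨-, -, z, hz, he⟩ := hy
    obtain ⟨m, d, w, -, hzw, -⟩ := mem_leech.mp hz
    have hcase : ∀ i, (i ∈ c ↔ i ∈ c') ↔ m % 2 = 0 := fun i => by
      have h1 := congrFun he i
      simp only [Pi.sub_apply, Pi.smul_apply, nsmul_eq_mul, Nat.cast_ofNat, hxe, hye, hzw i] at h1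
      by_cases a1 : i ∈ c <;> by_cases a2 : i ∈ c' <;> by_cases a3 : i ∈ N <;> by_cases a4 : i ∈ N' <;>
        simp [ev, chi, a1, a2, a3, a4] at h1 ⊢ <;> omega
    have hm : m % 2 = 0 := by
      by_contra hm
      have : c' = cᶜ := by
        ext i
        have := hcase i
        rw [Finset.mem_compl]
        tauto
      rw [this, Finset.card_compl, card_univ_pt, hc] at hc'
      norm_num at hc'
    intro i hi
    have hi' : i ∉ c' := fun h => hi (((hcase i).mpr hm).mpr h)
    rw [hye]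
    simp [ev, chi, hi']
  -- at most sixteen mutually orthogonal vectors live on `c`
  have hfin : (cross x).Finite := Set.finite_of_ncard_ne_zero (by rw [cross_ncard hx hn]; norm_num)
  set F : Finset ↥leechLattice := hfin.toFinset.subtype (fun y => y ∈ leechLattice) with hF
  have hFc : F.card = 48 := by
    rw [hF, Finset.card_subtype, Finset.filter_true_of_mem fun y hy => (hfin.mem_toFinset.mp hy).1,
      ← Set.ncard_eq_toFinset_card _ hfin, cross_ncard hx hn]
  have hFm : ∀ v ∈ F, (v : GolayPt → ℤ) ∈ cross x := fun v hv =>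
    hfin.mem_toFinset.mp (Finset.mem_subtype.mp (hF ▸ hv))
  have hF0 : ∀ v ∈ F, v ≠ 0 := by
    intro v hv h0
    have := (hFm v hv).2.1
    rw [h0, hn] at this
    simp [sqNorm] at this
  obtain ⟨S, hS, hcard, hneg⟩ := leechFrames.exists_half F hF0
  let r : ↥leechLattice → (↥c → ℤ) := fun v i => (v : GolayPt → ℤ) i
  let d : (↥c → ℤ) →+ (↥c → ℤ) →+ ℤ :=
    AddMonoidHom.mk' (fun u => AddMonoidHom.mk' (fun v => ∑ i, u i * v i)
      fun a b => by simp [mul_add, Finset.sum_add_distrib])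
      fun a b => by ext v; simp [add_mul, Finset.sum_add_distrib]
  have hd : ∀ v ∈ F, ∀ w ∈ F, d (r v) (r w) = dotInt (v : GolayPt → ℤ) (w : GolayPt → ℤ) := by
    intro v hv w _
    show (∑ i : ↥c, (v : GolayPt → ℤ) i * (w : GolayPt → ℤ) i) = _
    rw [Finset.sum_coe_sort c fun i => (v : GolayPt → ℤ) i * (w : GolayPt → ℤ) i]
    exact Finset.sum_subset (Finset.subset_univ c) fun i _ hi => by rw [hsupp _ (hFm v hv) i hi, zero_mul]
  have hinj : Set.InjOn r (S : Set ↥leechLattice) := fun v hv w hw h => Subtype.ext (funext fun i => by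
    by_cases hi : i ∈ c
    · exact congrFun h ⟨i, hi⟩
    · rw [hsupp _ (hFm v (hS hv)) i hi, hsupp _ (hFm w (hS hw)) i hi])
  have hle := card_le_of_orthogonal (AddMonoidHom.id (↥c → ℤ)) Function.injective_id d (S.image r) ?_ ?_
  · rw [Finset.card_image_of_injOn hinj, Fintype.card_coe, hc] at hle
    omega
  · intro u hu
    obtain ⟨v, hv, rfl⟩ := Finset.mem_image.mp hu
    rw [hd v (hS hv) v (hS hv), show dotInt (v : GolayPt → ℤ) (v : GolayPt → ℤ) = sqNorm (v : GolayPt → ℤ) by
      simp [dotInt, sqNorm, sq], (hFm v (hS hv)).2.1, hn]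
    norm_num
  · intro u hu u' hu' hne
    obtain ⟨v, hv, rfl⟩ := Finset.mem_image.mp hu
    obtain ⟨w, hw, rfl⟩ := Finset.mem_image.mp hu'
    rw [hd v (hS hv) w (hS hw)]
    obtain ⟨-, hvn, z1, hz1, he1⟩ := hFm v (hS hv)
    obtain ⟨-, hwn, z2, hz2, he2⟩ := hFm w (hS hw)
    rcases class_short v.2 (fun h => hne (by rw [Subtype.ext h])) (hvn.trans hn).le (hwn.trans hn).le
        ⟨z2 - z1, sub_mem hz2 hz1, by rw [smul_sub, ← he1, ← he2]; abel⟩ with h | ⟨-, -, h⟩
    · have hvw : v = -w := Subtype.ext h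
      exact absurd hv (hvw ▸ hneg w hw)
    · exact h

theorem eightSet_eq_cross : cross (Pi.single none 8) = eightSet := by
  have h8 : (Pi.single none 8 : GolayPt → ℤ) ∈ eightSet := mem_eightSet.mpr ⟨none, 8, Or.inl rfl, rfl⟩
  have hx := mem_leech.mpr (eightSet_props h8).1
  have hn := (eightSet_props h8).2
  have hfin : (cross (Pi.single none 8 : GolayPt → ℤ)).Finite :=
    Set.finite_of_ncard_ne_zero (by rw [cross_ncard hx hn]; norm_num)
  refine (Set.eq_of_subset_of_ncard_le (fun y hy => ?_) (by rw [cross_ncard hx hn, eightSet_ncard]) hfin).symm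
  obtain ⟨i, s, hs, rfl⟩ := mem_eightSet.mp hy
  refine ⟨mem_leech.mpr (eightSet_props hy).1, (eightSet_props hy).2.trans hn.symm,
    fun a => 4 * chi {none} a - s / 8 * (4 * chi {i} a), mem_leech.mpr ?_, funext fun a => ?_⟩
  · refine ⟨0, ∅, fun a => chi {none} a - s / 8 * chi {i} a, CW_empty, fun a => by
      simp only [chi, Finset.notMem_empty, if_false]; split_ifs <;> ring, ?_⟩
    rw [Finset.sum_sub_distrib, ← Finset.mul_sum, sum_chi, sum_chi, Finset.card_singleton, Finset.card_singleton]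
    rcases hs with rfl | rfl <;> norm_num
  · simp only [Pi.sub_apply, Pi.smul_apply, nsmul_eq_mul, Nat.cast_ofNat, Pi.single_apply, chi, Finset.mem_singleton]
    rcases hs with rfl | rfl <;> split_ifs <;> norm_num

theorem eqv64 {x : GolayPt → ℤ} (hx : x ∈ leechLattice) (hn : sqNorm x = 64) : Eqv x (Pi.single none 8) := by
  obtain ⟨y, hy, hG⟩ := cross_not_all_sixteen hx hn
  obtain ⟨hyL, hyn, z, hz, he⟩ := hy
  obtain ⟨g, v, w, hv, hw, hgv⟩ := eqv64_small hyL (hyn.trans hn) hG
  set u : ↥leechLattice := ⟨x, hx⟩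
  set p : ↥leechLattice := ⟨z, hz⟩
  have hu : u = v + (p + p) := Subtype.ext (by
    show x = (v : GolayPt → ℤ) + (z + z)
    rw [hv, ← two_nsmul, ← he]; abel)
  have hgu : g • u = w + (g • p + g • p) := by
    show g.1 u = w + (g.1 p + g.1 p)
    rw [hu, g.2.1, g.2.1, show g.1 v = w from hgv]
  have hmem : ((g • u : ↥leechLattice) : GolayPt → ℤ) ∈ cross (Pi.single none 8 : GolayPt → ℤ) := by
    refine ⟨(g • u).2, ?_, -((g • p : ↥leechLattice) : GolayPt → ℤ), neg_mem (g • p).2, ?_⟩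
    · show sqNorm ((g.1 u : ↥leechLattice) : GolayPt → ℤ) = _
      rw [g.2.2 u, show (u : GolayPt → ℤ) = x from rfl, hn,
        (eightSet_props (mem_eightSet.mpr ⟨none, 8, Or.inl rfl, rfl⟩)).2]
    · rw [hgu, ← hw]
      simp only [AddSubgroup.coe_add, two_nsmul]
      abel
  rw [eightSet_eq_cross] at hmem
  exact Eqv.trans ⟨g, u, g • u, rfl, rfl, rfl⟩ (eight_std hmem)

theorem shell_transitive {n : ℤ} {a : GolayPt → ℤ}
    (h : ∀ x, x ∈ leechLattice → sqNorm x = n → Eqv x a) (v w : ↥leechLattice)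
    (hv : sqNorm (v : GolayPt → ℤ) = n) (hw : sqNorm (w : GolayPt → ℤ) = n) : ∃ g : ↥Co0, g • v = w := by
  obtain ⟨g, v', w', e1, e2, he⟩ := (h v v.2 hv).trans (h w w.2 hw).symm
  obtain rfl : v' = v := Subtype.ext e1
  obtain rfl : w' = w := Subtype.ext e2
  exact ⟨g, he⟩

end CfsgLeech
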