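/-
The stabiliser of the standard cross, the order and the centre of the automorphism group.
-/
import Cfsg.Agent.Lib.Leech.Transitive
import Cfsg.Agent.Lib.Golay.Std

set_option autoImplicit false

namespace CfsgLeech

open Cfsg CfsgGolay
open scoped Pointwise

attribute [local irreducible] codeL octadL dodecadL slpCodes

@[simp] theorem one_symm_apply' (i : GolayPt) : (1 : Equiv.Perm GolayPt).symm i = i := rfl

theorem stdCross_eq : (stdCross : Set (GolayPt → ℤ)) = eightSet := by
  ext x; rw [mem_eightSet]; rfl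

/-- The automorphism as an additive map. -/
def autHom (g : ↥Co0) : ↥leechLattice →+ ↥leechLattice :=
  AddMonoidHom.mk' (fun v => g • v) fun v w => g.2.1 v w

theorem aut_norm (g : ↥Co0) (v : ↥leechLattice) :
    sqNorm ((g • v : ↥leechLattice) : GolayPt → ℤ) = sqNorm (v : GolayPt → ℤ) := g.2.2 v

theorem aut_ext {g h : ↥Co0}
    (H : ∀ v : ↥leechLattice, ((g • v : ↥leechLattice) : GolayPt → ℤ) = ((h • v : ↥leechLattice) : GolayPt → ℤ)) :
    g = h :=
  Subtype.ext (Equiv.ext fun v => Subtype.ext (H v))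

/-- The axis vector at a point. -/
def ax (i : GolayPt) : ↥leechLattice :=
  ⟨Pi.single i 8, mem_leech.mpr (eightSet_props (mem_eightSet.mpr ⟨i, 8, Or.inl rfl, rfl⟩)).1⟩

theorem ax_coe (i : GolayPt) : (ax i : GolayPt → ℤ) = Pi.single i 8 := rfl

/-- Preservation of the standard cross. -/
def KeepsCross (g : ↥Co0) : Prop :=
  ∀ v : ↥leechLattice, (v : GolayPt → ℤ) ∈ stdCross → ((g • v : ↥leechLattice) : GolayPt → ℤ) ∈ stdCross

theorem od_one_mem : od (-1) ∅ {none} ∈ leechLattice :=
  mem_leech.mpr ((odSet_props (mem_odSet.mpr ⟨∅, {none}, CW_empty, Finset.card_singleton _, rfl⟩)).1 (by norm_num))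

theorem CW_of_signed_lattice {σ : Equiv.Perm GolayPt} {c : Finset GolayPt}
    (h : ∀ x ∈ leechLattice, signedPerm σ c x ∈ leechLattice) : c ∈ CW ∧ σ ∈ M24 := by
  have hmem : ∀ {x : GolayPt → ℤ}, x ∈ leechLattice → x ∈ leechSet := fun hx => isLeech_iff.mpr (mem_leech.mp hx)
  have hc : c ∈ CW := by
    obtain ⟨m, -, -, hk⟩ := hmem (h _ od_one_mem)
    have h3 : _ ∈ CW := hk 3
    convert h3 using 1
    ext i
    simp only [Finset.mem_filter, Finset.mem_univ, true_and, Int.ModEq, signedPerm, od, chi, Finset.notMem_empty,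
      if_false]
    by_cases hi : i ∈ c <;> by_cases hj : σ.symm i = none <;> simp [hi, hj]
  refine ⟨hc, ?_⟩
  have himg : ∀ o ∈ CW, σ • o ∈ CW := by
    intro o ho
    have hx : (fun a => 2 * chi o a) ∈ leechLattice :=
      mem_leech.mpr ⟨0, o, 0, ho, fun i => by simp, by simp⟩
    obtain ⟨m, -, -, hk⟩ := hmem (h _ hx)
    have h2 : _ ∈ CW := hk 2
    convert h2 using 1
    ext i
    simp only [Finset.mem_filter, Finset.mem_univ, true_and, Int.ModEq, signedPerm, chi, mem_smul_symm]
    by_cases hi : i ∈ c <;> by_cases hj : i ∈ σ • o <;> simp [hi, hj]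
  rw [MulAction.mem_stabilizer_iff]
  show σ • CW = CW
  refine Set.eq_of_subset_of_ncard_le ?_ ?_ (Set.toFinite _)
  · rintro _ ⟨o, ho, rfl⟩; exact himg o ho
  · rw [← Set.image_smul, Set.ncard_image_of_injective _ (MulAction.injective σ)]

theorem keepsCross_monomial {g : ↥Co0} (h : KeepsCross g) :
    ∃ σ c, ∃ (hσ : σ ∈ M24) (hc : c ∈ CW), g = monoAut σ hσ c hc := by
  classical
  have him : ∀ i, ∃ j s, (s = 8 ∨ s = -8) ∧ ((g • ax i : ↥leechLattice) : GolayPt → ℤ) = Pi.single j s := fun i => by
    have := h (ax i) ⟨i, 8, Or.inl rfl, rfl⟩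
    exact this
  choose π s hs him using him
  have hinj : Function.Injective π := by
    intro i j hij
    have hsign : s i = s j ∨ s i = -s j := by
      rcases hs i with a | a <;> rcases hs j with b | b <;> rw [a, b] <;> norm_num
    rcases hsign with e | e
    · have : g • ax i = g • ax j := Subtype.ext (by rw [him i, him j, hij, e])
      have h2 := congrFun (congrArg Subtype.val (MulAction.injective g this)) i
      by_contra hne
      simp [ax_coe, hne] at h2
    · have hh : g • ax i = g • -ax j := by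
        rw [show g • -ax j = -(g • ax j) from map_neg (autHom g) _]
        exact Subtype.ext (by rw [AddSubgroup.coe_neg, him i, him j, hij, e, Pi.single_neg])
      have h2 := congrFun (congrArg Subtype.val (MulAction.injective g hh)) i
      by_contra hne
      simp [ax_coe, hne] at h2
  set σ : Equiv.Perm GolayPt := Equiv.ofBijective π ⟨hinj, Finite.injective_iff_surjective.mp hinj⟩ with hσ
  set c := Finset.univ.filter fun j => s (σ.symm j) = -8 with hc
  have hact : ∀ v : ↥leechLattice, ((g • v : ↥leechLattice) : GolayPt → ℤ) = signedPerm σ c v := by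
    intro v
    have h8 : (8 : ℕ) • v = ∑ i, (v : GolayPt → ℤ) i • ax i := Subtype.ext (by
      funext a
      simp only [AddSubgroup.coe_nsmul, AddSubgroup.val_finsetSum, AddSubgroup.coe_zsmul, Pi.smul_apply,
        Finset.sum_apply, ax_coe, Pi.single_apply, smul_eq_mul, nsmul_eq_mul, Nat.cast_ofNat]
      simp [mul_comm])
    have h8' := congrArg (autHom g) h8
    simp only [map_nsmul, map_sum, map_zsmul] at h8'
    funext a
    have ha := congrFun (congrArg Subtype.val h8') a
    simp only [AddSubgroup.coe_nsmul, AddSubgroup.val_finsetSum, AddSubgroup.coe_zsmul, Pi.smul_apply,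
      Finset.sum_apply, smul_eq_mul, nsmul_eq_mul, Nat.cast_ofNat,
      show ∀ i, (autHom g) (ax i) = g • ax i from fun _ => rfl, him, show (autHom g) v = g • v from rfl] at ha
    rw [Finset.sum_eq_single (σ.symm a)] at ha
    · have hπ : π (σ.symm a) = a := Equiv.apply_symm_apply σ a
      rw [hπ, Pi.single_eq_same] at ha
      by_cases hn : s (σ.symm a) = -8
      · rw [signedPerm, if_pos (by simp [hc, hn])]
        rw [hn] at ha; omega
      · rw [signedPerm, if_neg (by simp [hc, hn])]
        rw [(hs _).resolve_right hn] at ha; omega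
    · intro b _ hb
      rw [Pi.single_eq_of_ne (fun e => hb (by rw [e]; exact (Equiv.symm_apply_apply σ b).symm)), mul_zero]
    · exact fun hne => absurd (Finset.mem_univ _) hne
  obtain ⟨hcW, hσM⟩ := CW_of_signed_lattice (σ := σ) (c := c) fun x hx => by
    rw [← show _ = signedPerm σ c x from hact ⟨x, hx⟩]; exact SetLike.coe_mem _
  exact ⟨σ, c, hσM, hcW, aut_ext fun v => (hact v).trans (monoAut_apply σ hσM c hcW v).symm⟩

theorem monoAut_keeps {σ : Equiv.Perm GolayPt} (hσ : σ ∈ M24) {c : Finset GolayPt} (hc : c ∈ CW) :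
    KeepsCross (monoAut σ hσ c hc) := by
  rintro v ⟨i, s, hs, hv⟩
  refine ⟨σ i, if σ i ∈ c then -s else s, ?_, ?_⟩
  · split_ifs <;> omega
  · rw [monoAut_apply, hv]
    funext a
    obtain ⟨b, rfl⟩ := σ.surjective a
    simp only [signedPerm, Equiv.symm_apply_apply, Pi.single_apply, EmbeddingLike.apply_eq_iff_eq]
    by_cases hb : b = i
    · subst hb; simp
    · simp [hb]

theorem signedPerm_inj {σ σ' : Equiv.Perm GolayPt} {c c' : Finset GolayPt}
    (h : ∀ x ∈ leechLattice, signedPerm σ c x = signedPerm σ' c' x) : σ = σ' ∧ c = c' := by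
  have key : ∀ i, σ.symm i = σ'.symm i ∧ (i ∈ c ↔ i ∈ c') := by
    intro i
    have h1 := congrFun (h _ (ax (σ.symm i)).2) i
    simp only [signedPerm, ax_coe, Pi.single_eq_same] at h1
    by_cases hj : σ.symm i = σ'.symm i
    · rw [← hj, Pi.single_eq_same] at h1
      refine ⟨hj, ?_⟩
      by_cases a : i ∈ c <;> by_cases b : i ∈ c' <;> simp [a, b] at h1 ⊢
    · rw [Pi.single_eq_of_ne (Ne.symm hj)] at h1
      split_ifs at h1 <;> norm_num at h1
  exact ⟨Equiv.symm_bijective.injective (Equiv.ext fun i => (key i).1), Finset.ext fun i => (key i).2⟩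

theorem keeps_card : Nat.card {g : ↥Co0 // KeepsCross g} = 4096 * 244823040 := by
  let F : ↥M24 × ↥CW → {g : ↥Co0 // KeepsCross g} := fun q =>
    ⟨monoAut q.1.1 q.1.2 q.2.1 q.2.2, monoAut_keeps q.1.2 q.2.2⟩
  have hF : Function.Bijective F := by
    refine ⟨fun ⟨⟨σ, hσ⟩, ⟨c, hc⟩⟩ ⟨⟨σ', hσ'⟩, ⟨c', hc'⟩⟩ h => ?_, fun ⟨g, hg⟩ => ?_⟩
    · have he : ∀ x ∈ leechLattice, signedPerm σ c x = signedPerm σ' c' x := fun x hx => by
        have h1 := congrArg (fun q : {g : ↥Co0 // KeepsCross g} =>
          ((q.1 • (⟨x, hx⟩ : ↥leechLattice) : ↥leechLattice) : GolayPt → ℤ)) h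
        exact h1
      obtain ⟨rfl, rfl⟩ := signedPerm_inj he
      rfl
    · obtain ⟨σ, c, hσ, hc, rfl⟩ := keepsCross_monomial hg
      exact ⟨(⟨σ, hσ⟩, ⟨c, hc⟩), rfl⟩
  rw [← Nat.card_eq_of_bijective F hF, Nat.card_prod, card_M24, Nat.card_coe_set_eq, CW_ncard, mul_comm]

theorem cross_ax_none : cross (ax none : GolayPt → ℤ) = stdCross := by
  rw [stdCross_eq]; exact eightSet_eq_cross

theorem fix_ax_keeps {g : ↥Co0} (h : g • ax none = ax none) : KeepsCross g := by
  intro v hv
  rw [← cross_ax_none] at hv ⊢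
  obtain ⟨-, hn, z, hz, he⟩ := hv
  refine ⟨(g • v).2, by rw [aut_norm]; exact hn, ((g • (⟨z, hz⟩ : ↥leechLattice) : ↥leechLattice) : GolayPt → ℤ),
    SetLike.coe_mem _, ?_⟩
  have he' : ax none - v = 2 • (⟨z, hz⟩ : ↥leechLattice) := Subtype.ext he
  have h2 := congrArg (autHom g) he'
  rw [map_sub, map_nsmul] at h2
  have h3 : g • ax none - g • v = 2 • (g • (⟨z, hz⟩ : ↥leechLattice)) := h2
  rw [h] at h3
  exact congrArg Subtype.val h3

/-- The stabiliser of the standard cross. -/
def crossStab : Subgroup ↥Co0 where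
  carrier := {g | KeepsCross g}
  one_mem' := fun v hv => by rwa [one_smul]
  mul_mem' := fun {a b} ha hb v hv => by rw [mul_smul]; exact ha _ (hb v hv)
  inv_mem' := fun {a} ha v hv => by
    set T : Set ↥leechLattice := {v | (v : GolayPt → ℤ) ∈ stdCross}
    have hT : T.Finite := Set.Finite.of_finite_image (f := Subtype.val)
      (((Finset.finite_toSet _).image _ : eightSet.Finite).subset
        (by rintro _ ⟨w, hw, rfl⟩; exact stdCross_eq.subset hw)) Subtype.val_injective.injOn
    have himg : (fun w => a • w) '' T = T := Set.eq_of_subset_of_ncard_le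
      (by rintro _ ⟨w, hw, rfl⟩; exact ha w hw) (by rw [Set.ncard_image_of_injective _ (MulAction.injective a)]) hT
    have : v ∈ (fun w => a • w) '' T := by rw [himg]; exact hv
    obtain ⟨w, hw, rfl⟩ := this
    rw [inv_smul_smul]; exact hw

theorem mem_crossStab {g : ↥Co0} : g ∈ crossStab ↔ KeepsCross g := Iff.rfl

theorem crossStab_card : Nat.card ↥crossStab = 4096 * 244823040 := keeps_card

theorem co0_card : Nat.card ↥Co0 = 8315553613086720000 := by
  set H := MulAction.stabilizer ↥Co0 (ax none) with hH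
  have h1 : H.index = 398034000 := by
    rw [hH, MulAction.index_stabilizer]
    have : MulAction.orbit ↥Co0 (ax none) = {v : ↥leechLattice | sqNorm (v : GolayPt → ℤ) = 64} := by
      ext v
      constructor
      · rintro ⟨g, rfl⟩
        exact (aut_norm g (ax none)).trans (eightSet_props (mem_eightSet.mpr ⟨none, 8, Or.inl rfl, rfl⟩)).2
      · intro hv
        exact shell_transitive (fun _ h h' => eqv64 h h') (ax none) v
          (eightSet_props (mem_eightSet.mpr ⟨none, 8, Or.inl rfl, rfl⟩)).2 hv
    rw [this, sub_ncard (fun x => sqNorm x = 64)]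
    exact third_count
  have hle : H ≤ crossStab := fun g hg => fix_ax_keeps hg
  have h2 : (H.subgroupOf crossStab).index = 48 := by
    have hst : H.subgroupOf crossStab = MulAction.stabilizer ↥crossStab (ax none) := by
      ext g; rfl
    rw [hst, MulAction.index_stabilizer]
    have : MulAction.orbit ↥crossStab (ax none) = {v : ↥leechLattice | (v : GolayPt → ℤ) ∈ stdCross} := by
      ext v
      constructor
      · rintro ⟨g, rfl⟩; exact g.2 _ ⟨none, 8, Or.inl rfl, rfl⟩
      · rintro ⟨i, s, hs, hv⟩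
        obtain ⟨σ, hσ, hσx⟩ := exists_M24_map (k := 1) (by norm_num)
          (⟨fun _ => none, fun u v _ => Subsingleton.elim u v⟩ : Fin 1 ↪ GolayPt)
          (⟨fun _ => i, fun u v _ => Subsingleton.elim u v⟩ : Fin 1 ↪ GolayPt)
        have h0 : σ none = i := hσx 0
        subst h0
        rcases hs with rfl | rfl
        · refine ⟨⟨monoAut σ hσ ∅ CW_empty, monoAut_keeps hσ CW_empty⟩, Subtype.ext ?_⟩
          show ((monoAut σ hσ ∅ CW_empty • ax none : ↥leechLattice) : GolayPt → ℤ) = _
          rw [monoAut_apply, hv, ax_coe]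
          funext a
          obtain ⟨b, rfl⟩ := σ.surjective a
          simp [signedPerm, Pi.single_apply]
        · refine ⟨⟨monoAut σ hσ _ CW_univ, monoAut_keeps hσ CW_univ⟩, Subtype.ext ?_⟩
          show ((monoAut σ hσ _ CW_univ • ax none : ↥leechLattice) : GolayPt → ℤ) = _
          rw [monoAut_apply, hv, ax_coe]
          funext a
          obtain ⟨b, rfl⟩ := σ.surjective a
          by_cases hb : b = none <;> simp [signedPerm, Pi.single_apply, hb]
    rw [this, sub_ncard (fun x => x ∈ stdCross),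
      show {x : GolayPt → ℤ | x ∈ leechLattice ∧ x ∈ stdCross} = eightSet from Set.ext fun x =>
        ⟨fun h => stdCross_eq ▸ h.2, fun h => ⟨mem_leech.mpr (eightSet_props h).1, stdCross_eq ▸ h⟩⟩,
      eightSet_ncard]
  have h3 : Nat.card ↥H * 48 = 4096 * 244823040 := by
    rw [← h2, ← crossStab_card, ← Nat.card_congr (Subgroup.subgroupOfEquivOfLe hle).toEquiv, Subgroup.card_mul_index]
  rw [← Subgroup.card_mul_index H, h1]
  have h4 : Nat.card ↥H = 20891566080 := by omega
  rw [h4]

/-- Negation. -/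
noncomputable def negAut : ↥Co0 := monoAut 1 (one_mem _) Finset.univ CW_univ

theorem negAut_apply (v : ↥leechLattice) :
    ((negAut • v : ↥leechLattice) : GolayPt → ℤ) = -(v : GolayPt → ℤ) := by
  rw [negAut, monoAut_apply]; funext i; simp [signedPerm]

theorem negAut_central : negAut ∈ Subgroup.center ↥Co0 := by
  rw [Subgroup.mem_center_iff]
  intro g
  refine aut_ext fun v => ?_
  rw [mul_smul, mul_smul, negAut_apply]
  have : negAut • v = -v := Subtype.ext (negAut_apply v)
  rw [this, show g • -v = -(g • v) from map_neg (autHom g) v]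
  rfl

theorem negAut_ne_one : negAut ≠ 1 := fun h => by
  have h2 := congrArg (fun g : ↥Co0 => ((g • ax none : ↥leechLattice) : GolayPt → ℤ) none) h
  simp [negAut_apply, ax_coe] at h2

theorem separate {i j : GolayPt} (h : i ≠ j) : ∃ c ∈ CW, i ∉ c ∧ j ∈ c := by
  have key : ∀ a < 24, ∀ b < 24, a ≠ b → (sysBasis.any fun e => e.testBit a != e.testBit b) = true := by
    decide +kernel
  have := key _ (idx_lt i) _ (idx_lt j) (fun hh => h (idx_injective hh))
  obtain ⟨e, he, hne⟩ := List.any_eq_true.mp this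
  have hb : (sysBasis.all fun e => decide (e < 2 ^ 24) && inCode e) = true := by decide +kernel
  have hec := toSet_mem_CW (List.all_eq_true.mp hb e he)
  by_cases hj : j ∈ toSet e
  · refine ⟨toSet e, hec, fun hi => ?_, hj⟩
    rw [mem_toSet] at hi hj
    simp [hi, hj] at hne
  · refine ⟨(toSet e)ᶜ, CW_compl hec, fun hi => ?_, Finset.mem_compl.mpr hj⟩
    rw [Finset.mem_compl, mem_toSet] at hi
    rw [mem_toSet] at hj
    simp only [Bool.not_eq_true] at hi hj
    simp [hi, hj] at hne

theorem monoAut_scalar {σ : Equiv.Perm GolayPt} {hσ : σ ∈ M24} {c : Finset GolayPt} {hc : c ∈ CW}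
    (h1 : σ = 1) (h2 : c = ∅ ∨ c = Finset.univ) : monoAut σ hσ c hc = 1 ∨ monoAut σ hσ c hc = negAut := by
  subst h1
  rcases h2 with rfl | rfl
  · exact Or.inl (aut_ext fun v => by rw [monoAut_apply, one_smul]; funext i; simp [signedPerm])
  · exact Or.inr rfl

theorem center_eq {g : ↥Co0} (hg : g ∈ Subgroup.center ↥Co0) : g = 1 ∨ g = negAut := by
  rw [Subgroup.mem_center_iff] at hg
  have hk : KeepsCross g := by
    have hax : ∀ i, ((g • ax i : ↥leechLattice) : GolayPt → ℤ) ∈ stdCross := by
      intro i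
      set w := ((g • ax i : ↥leechLattice) : GolayPt → ℤ) with hw
      have hzero : ∀ j, j ≠ i → w j = 0 := by
        intro j hj
        obtain ⟨c, hc, hci, hcj⟩ := separate (Ne.symm hj)
        set m := monoAut 1 (one_mem _) c hc with hm
        have hfix : m • ax i = ax i := Subtype.ext (by
          rw [monoAut_apply]; funext a
          by_cases ha : a = i
          · subst ha; simp [signedPerm, ax_coe, hci]
          · simp [signedPerm, ax_coe, ha])
        have e1 : (m * g) • ax i = (g * m) • ax i := by rw [hg m]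
        rw [mul_smul, mul_smul, hfix] at e1
        have e2 := congrFun (congrArg Subtype.val e1) j
        rw [monoAut_apply] at e2
        simp only [signedPerm, hcj, if_true, one_symm_apply'] at e2
        rw [← hw] at e2
        omega
      have hn : sqNorm w = 64 := (aut_norm g (ax i)).trans (eightSet_props (mem_eightSet.mpr ⟨i, 8, Or.inl rfl, rfl⟩)).2
      rw [sqNorm, Finset.sum_eq_single i (fun b _ hb => by rw [hzero b hb]; norm_num)
        (fun h => absurd (Finset.mem_univ i) h)] at hn
      refine ⟨i, w i, ?_, funext fun a => ?_⟩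
      · have : (w i - 8) * (w i + 8) = 0 := by linarith
        rcases mul_eq_zero.mp this with h | h <;> omega
      · by_cases ha : a = i
        · subst ha; simp
        · simp [ha, hzero a ha]
    rintro v ⟨i, s, hs, hv⟩
    rcases hs with rfl | rfl
    · rw [show v = ax i from Subtype.ext hv]; exact hax i
    · rw [show v = -ax i from Subtype.ext (hv.trans (by rw [AddSubgroup.coe_neg, ax_coe, Pi.single_neg])),
        show g • -ax i = -(g • ax i) from map_neg (autHom g) _]
      obtain ⟨j, t, ht, he⟩ := hax i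
      exact ⟨j, -t, by omega, by rw [AddSubgroup.coe_neg, he, Pi.single_neg]⟩
  obtain ⟨σ, c, hσ, hc, rfl⟩ := keepsCross_monomial hk
  have hcomm : ∀ (τ : Equiv.Perm GolayPt) (hτ : τ ∈ M24) (d : Finset GolayPt) (hd : d ∈ CW),
      ∀ x ∈ leechLattice, signedPerm τ d (signedPerm σ c x) = signedPerm σ c (signedPerm τ d x) := by
    intro τ hτ d hd x hx
    have h1 := congrArg (fun q : ↥Co0 => ((q • (⟨x, hx⟩ : ↥leechLattice) : ↥leechLattice) : GolayPt → ℤ))
      (hg (monoAut τ hτ d hd))
    simp only [mul_smul, monoAut_apply] at h1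
    exact h1
  have hσ1 : σ = 1 := by
    refine Equiv.ext fun i => ?_
    rw [Equiv.Perm.one_apply]
    by_contra hne
    obtain ⟨d, hd, h1, h2⟩ := separate (Ne.symm hne)
    have h3 := congrFun (hcomm 1 (one_mem _) d hd _ (ax i).2) (σ i)
    simp only [signedPerm, Equiv.symm_apply_apply, ax_coe, Pi.single_eq_same, h1, h2, if_true, if_false,
      one_symm_apply'] at h3
    split_ifs at h3 <;> omega
  subst hσ1
  have hinv : ∀ i j, i ∈ c → j ∈ c := by
    intro i j hi
    obtain ⟨τ, hτ, hτx⟩ := exists_M24_map (k := 1) (by norm_num)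
      (⟨fun _ => i, fun u v _ => Subsingleton.elim u v⟩ : Fin 1 ↪ GolayPt)
      (⟨fun _ => j, fun u v _ => Subsingleton.elim u v⟩ : Fin 1 ↪ GolayPt)
    have h0 : τ i = j := hτx 0
    have h3 := congrFun (hcomm τ hτ ∅ CW_empty _ (ax i).2) j
    subst h0
    simp [signedPerm, ax_coe, hi] at h3
    exact h3
  refine monoAut_scalar rfl ?_
  by_cases he : ∃ a, a ∈ c
  · obtain ⟨a, ha⟩ := he
    exact Or.inr (Finset.eq_univ_of_forall fun j => hinv a j ha)
  · exact Or.inl (Finset.eq_empty_of_forall_notMem fun a ha => he ⟨a, ha⟩)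

theorem center_card : Nat.card ↥(Subgroup.center ↥Co0) = 2 := by
  rw [show Nat.card ↥(Subgroup.center ↥Co0) = ((Subgroup.center ↥Co0 : Subgroup ↥Co0) : Set ↥Co0).ncard from
      Nat.card_coe_set_eq _,
    show ((Subgroup.center ↥Co0 : Subgroup ↥Co0) : Set ↥Co0) = {1, negAut} from Set.ext fun g => ⟨center_eq, by
      rintro (rfl | rfl)
      exacts [one_mem _, negAut_central]⟩]
  exact Set.ncard_pair negAut_ne_one.symm

end CfsgLeech
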