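/-
Pairs of orthogonal minimal vectors and frames.
-/
import Cfsg.Agent.Lib.Leech.CrossStab

set_option autoImplicit false

namespace CfsgLeech

open Cfsg CfsgGolay
open scoped Pointwise

attribute [local irreducible] codeL octadL dodecadL slpCodes

theorem aut_add (g : ↥Co0) (v w : ↥leechLattice) : g • (v + w) = g • v + g • w := g.2.1 v w

theorem aut_sub (g : ↥Co0) (v w : ↥leechLattice) : g • (v - w) = g • v - g • w := map_sub (autHom g) v w

theorem aut_neg (g : ↥Co0) (v : ↥leechLattice) : g • -v = -(g • v) := map_neg (autHom g) v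

theorem dot_add_left (a b c : GolayPt → ℤ) : dotInt (a + b) c = dotInt a c + dotInt b c := by
  simp only [dotInt, Pi.add_apply, add_mul, Finset.sum_add_distrib]

theorem dot_neg_left (a c : GolayPt → ℤ) : dotInt (-a) c = -dotInt a c := by
  simp only [dotInt, Pi.neg_apply, neg_mul, Finset.sum_neg_distrib]

theorem dot_comm (a b : GolayPt → ℤ) : dotInt a b = dotInt b a := by
  simp only [dotInt, mul_comm]

theorem aut_dot (g : ↥Co0) (v w : ↥leechLattice) :
    dotInt ((g • v : ↥leechLattice) : GolayPt → ℤ) ((g • w : ↥leechLattice) : GolayPt → ℤ) =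
      dotInt (v : GolayPt → ℤ) (w : GolayPt → ℤ) := by
  have h := (sqNorm_sub_add ((g • v : ↥leechLattice) : GolayPt → ℤ) (g • w : ↥leechLattice)).2
  have h' := (sqNorm_sub_add (v : GolayPt → ℤ) (w : GolayPt → ℤ)).2
  rw [← AddSubgroup.coe_add, ← aut_add, aut_norm, aut_norm, aut_norm] at h
  rw [← AddSubgroup.coe_add] at h'
  linarith

theorem double_inj {a b : ↥leechLattice} (h : a + a = b + b) : a = b :=
  Subtype.ext (funext fun i => by
    have := congrFun (congrArg Subtype.val h) i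
    simp only [AddSubgroup.coe_add, Pi.add_apply] at this
    omega)

theorem frame_pair {u₁ u₂ : ↥leechLattice} (h1 : sqNorm (u₁ : GolayPt → ℤ) = 64)
    (h2 : sqNorm (u₂ : GolayPt → ℤ) = 64) (ho : dotInt (u₁ : GolayPt → ℤ) (u₂ : GolayPt → ℤ) = 0)
    (hc : ∃ z : ↥leechLattice, u₁ - u₂ = 2 • z) :
    ∃ g : ↥Co0, g • u₁ = ax none ∧ g • u₂ = ax (some 0) := by
  have h8 : ∀ i, sqNorm (ax i : GolayPt → ℤ) = 64 := fun i =>
    (eightSet_props (mem_eightSet.mpr ⟨i, 8, Or.inl rfl, rfl⟩)).2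
  obtain ⟨g, hg⟩ := shell_transitive (fun _ h h' => eqv64 h h') u₁ (ax none) h1 (h8 none)
  obtain ⟨z, hz⟩ := hc
  have hstd : ((g • u₂ : ↥leechLattice) : GolayPt → ℤ) ∈ stdCross := by
    rw [← cross_ax_none]
    refine ⟨(g • u₂).2, by rw [aut_norm, h2, h8], (g • z : ↥leechLattice), SetLike.coe_mem _, ?_⟩
    have e : g • u₁ - g • u₂ = 2 • (g • z) := by
      rw [← aut_sub, hz, two_nsmul, two_nsmul, aut_add]
    rw [hg] at e
    exact congrArg Subtype.val e
  obtain ⟨j, s, hs, hj⟩ := hstd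
  have hjne : j ≠ none := by
    intro e
    have hd := aut_dot g u₁ u₂
    rw [hg, hj, e, ho, ax_coe, dotInt, Finset.sum_eq_single none (fun b _ hb => by simp [hb])
      (fun h => absurd (Finset.mem_univ _) h)] at hd
    simp only [Pi.single_eq_same] at hd
    omega
  obtain ⟨σ, hσ, hσx⟩ := exists_M24_map (k := 2) (by norm_num)
    (⟨![none, j], by intro a b; fin_cases a <;> fin_cases b <;> simp [hjne, Ne.symm hjne]⟩ : Fin 2 ↪ GolayPt)
    (⟨![none, some 0], by decide +kernel⟩ : Fin 2 ↪ GolayPt)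
  have s0 : σ none = none := hσx 0
  have s1 : σ j = some 0 := hσx 1
  obtain ⟨c, hc, hc0, hc1⟩ := separate (show (none : GolayPt) ≠ some 0 by simp)
  have hm : ∀ (d : Finset GolayPt) (hd : d ∈ CW), none ∉ d → (if some 0 ∈ d then -s else s) = 8 →
      ∃ g : ↥Co0, g • u₁ = ax none ∧ g • u₂ = ax (some 0) := by
    intro d hd hd0 hsign
    refine ⟨monoAut σ hσ d hd * g, ?_, ?_⟩
    · rw [mul_smul, hg]
      refine Subtype.ext ?_
      rw [monoAut_apply, ax_coe]
      funext a
      obtain ⟨b, rfl⟩ := σ.surjective a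
      simp only [signedPerm, Equiv.symm_apply_apply]
      by_cases hb : b = none
      · subst hb; simp [s0, hd0]
      · have : σ b ≠ none := fun e => hb (σ.injective (e.trans s0.symm))
        simp [hb, this]
    · rw [mul_smul]
      refine Subtype.ext ?_
      rw [monoAut_apply, hj, ax_coe]
      funext a
      obtain ⟨b, rfl⟩ := σ.surjective a
      simp only [signedPerm, Equiv.symm_apply_apply]
      by_cases hb : b = j
      · subst hb; rw [s1]; simpa using hsign
      · have : σ b ≠ some 0 := fun e => hb (σ.injective (e.trans s1.symm))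
        simp [hb, this]
  rcases hs with rfl | rfl
  · exact hm ∅ CW_empty (by simp) (by simp)
  · exact hm c hc hc0 (by simp [hc1])

theorem orth_pairs {v w v' w' : ↥leechLattice} (hv : sqNorm (v : GolayPt → ℤ) = 32)
    (hw : sqNorm (w : GolayPt → ℤ) = 32) (hd : dotInt (v : GolayPt → ℤ) (w : GolayPt → ℤ) = 0)
    (hv' : sqNorm (v' : GolayPt → ℤ) = 32) (hw' : sqNorm (w' : GolayPt → ℤ) = 32)
    (hd' : dotInt (v' : GolayPt → ℤ) (w' : GolayPt → ℤ) = 0) : ∃ g : ↥Co0, g • v = v' ∧ g • w = w' := by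
  have main : ∀ {v w : ↥leechLattice}, sqNorm (v : GolayPt → ℤ) = 32 → sqNorm (w : GolayPt → ℤ) = 32 →
      dotInt (v : GolayPt → ℤ) (w : GolayPt → ℤ) = 0 →
      ∃ g : ↥Co0, g • v + g • v = ax none + ax (some 0) ∧ g • w + g • w = ax none - ax (some 0) := by
    intro v w hv hw hd
    obtain ⟨h3, h4⟩ := sqNorm_sub_add (v : GolayPt → ℤ) (w : GolayPt → ℤ)
    have ho : dotInt ((v + w : ↥leechLattice) : GolayPt → ℤ) ((v - w : ↥leechLattice) : GolayPt → ℤ) = 0 := by
      have : dotInt ((v : GolayPt → ℤ) + (w : GolayPt → ℤ)) ((v : GolayPt → ℤ) - (w : GolayPt → ℤ)) =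
          sqNorm (v : GolayPt → ℤ) - sqNorm (w : GolayPt → ℤ) := by
        simp only [dotInt, sqNorm, ← Finset.sum_sub_distrib]
        exact Finset.sum_congr rfl fun i _ => by simp only [Pi.add_apply, Pi.sub_apply]; ring
      rw [AddSubgroup.coe_add, AddSubgroup.coe_sub, this, hv, hw, sub_self]
    obtain ⟨g, g1, g2⟩ := frame_pair (u₁ := v + w) (u₂ := v - w)
      (by rw [AddSubgroup.coe_add]; omega) (by rw [AddSubgroup.coe_sub]; omega) ho
      ⟨w, by rw [two_nsmul]; abel⟩
    rw [aut_add] at g1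
    rw [aut_sub] at g2
    exact ⟨g, by rw [← g1, ← g2]; abel, by rw [← g1, ← g2]; abel⟩
  obtain ⟨g, g1, g2⟩ := main hv hw hd
  obtain ⟨h, h1, h2⟩ := main hv' hw' hd'
  refine ⟨h⁻¹ * g, ?_, ?_⟩
  · rw [mul_smul, inv_smul_eq_iff]; exact double_inj (g1.trans h1.symm)
  · rw [mul_smul, inv_smul_eq_iff]; exact double_inj (g2.trans h2.symm)

end CfsgLeech
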