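/-
Automorphisms given by words, and transitivity relative to fixed vectors.
-/
import Cfsg.Agent.Lib.Leech.Pairs
import Cfsg.Agent.Lib.Leech.ShapeOrbits
import Cfsg.Agent.Lib.Golay.Fast

set_option autoImplicit false

namespace CfsgLeech

open Cfsg CfsgGolay
open scoped Pointwise

attribute [local irreducible] codeL octadL dodecadL slpCodes

/-- One step of a word: the involution, or a coded monomial map. -/
abbrev Step : Type := Option (ℕ × ℕ)

/-- The map of a step. -/
def stepF : Step → (GolayPt → ℤ) → GolayPt → ℤ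
  | none, x => zeta x
  | some (c, m), x => fun i =>
    if m.testBit (idx i) then -x (pt (papp c (idx i))) else x (pt (papp c (idx i)))

/-- The map of a word, applied from the left. -/
def runW : List Step → (GolayPt → ℤ) → GolayPt → ℤ
  | [], x => x
  | s :: w, x => runW w (stepF s x)

/-- Validity of a word. -/
def wordOK : List Step → Bool
  | [] => true
  | none :: w => wordOK w
  | some (c, m) :: w => permOK c && gensKept c && decide (m < 2 ^ 24) && inCode m && wordOK w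

theorem exists_word_aut : ∀ {w : List Step}, wordOK w = true →
    ∃ g : ↥Co0, ∀ v : ↥leechLattice, ((g • v : ↥leechLattice) : GolayPt → ℤ) = runW w v
  | [], _ => ⟨1, fun v => by rw [one_smul]; rfl⟩
  | none :: w, h => by
    obtain ⟨g, hg⟩ := exists_word_aut (w := w) h
    exact ⟨g * zetaAut, fun v => by rw [mul_smul, hg]; rfl⟩
  | some (c, m) :: w, h => by
    simp only [wordOK, Bool.and_eq_true, decide_eq_true_eq] at h
    obtain ⟨⟨⟨⟨hp, hk⟩, hlt⟩, hm⟩, hw⟩ := h
    obtain ⟨g, hg⟩ := exists_word_aut (w := w) hw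
    obtain ⟨σ, hσ⟩ := exists_repr_of_permOK hp
    have hσM := mem_M24_of_gensKept hσ hk
    have hcw : toSet m ∈ CW := toSet_mem_CW (by rw [decide_eq_true hlt, hm]; rfl)
    refine ⟨g * monoAut σ⁻¹ (inv_mem hσM) _ hcw, fun v => ?_⟩
    rw [mul_smul, hg]
    show runW w ((monoAut σ⁻¹ (inv_mem hσM) _ hcw • v : ↥leechLattice) : GolayPt → ℤ) = runW w (stepF (some (c, m)) v)
    rw [monoAut_apply]
    congr 1
    funext i
    have hi : σ i = pt (papp c (idx i)) := by
      rw [← hσ.apply_pt (idx_lt i), pt_idx]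
    simp only [signedPerm, stepF, mem_toSet]
    rw [show (σ⁻¹ : Equiv.Perm GolayPt).symm i = σ i from rfl, hi]

/-- One vector is carried to another by an automorphism fixing all the listed vectors. -/
def EqvF (F : List (GolayPt → ℤ)) (x y : GolayPt → ℤ) : Prop :=
  ∃ g : ↥Co0, (∀ f ∈ F, ∀ v : ↥leechLattice, (v : GolayPt → ℤ) = f → g • v = v) ∧
    ∃ a b : ↥leechLattice, (a : GolayPt → ℤ) = x ∧ (b : GolayPt → ℤ) = y ∧ g • a = b

namespace EqvF

variable {F : List (GolayPt → ℤ)} {x y z : GolayPt → ℤ}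

theorem symm (h : EqvF F x y) : EqvF F y x := by
  obtain ⟨g, hF, a, b, ha, hb, he⟩ := h
  exact ⟨g⁻¹, fun f hf v hv => by rw [inv_smul_eq_iff, hF f hf v hv], b, a, hb, ha, by rw [← he, inv_smul_smul]⟩

theorem trans (h : EqvF F x y) (h' : EqvF F y z) : EqvF F x z := by
  obtain ⟨g, hF, a, b, ha, hb, he⟩ := h
  obtain ⟨g', hF', a', b', ha', hb', he'⟩ := h'
  obtain rfl : b = a' := Subtype.ext (hb.trans ha'.symm)
  exact ⟨g' * g, fun f hf v hv => by rw [mul_smul, hF f hf v hv, hF' f hf v hv], a, b', ha, hb',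
    by rw [mul_smul, he, he']⟩

theorem neg (h : EqvF F x y) : EqvF F (-x) (-y) := by
  obtain ⟨g, hF, a, b, ha, hb, he⟩ := h
  exact ⟨g, hF, -a, -b, by rw [AddSubgroup.coe_neg, ha], by rw [AddSubgroup.coe_neg, hb], by rw [aut_neg, he]⟩

theorem sub {f : GolayPt → ℤ} (hf : f ∈ F) (hfL : f ∈ leechLattice) (h : EqvF F x y) :
    EqvF F (f - x) (f - y) := by
  obtain ⟨g, hF, a, b, ha, hb, he⟩ := h
  exact ⟨g, hF, ⟨f, hfL⟩ - a, ⟨f, hfL⟩ - b, by rw [AddSubgroup.coe_sub, ha], by rw [AddSubgroup.coe_sub, hb],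
    by rw [aut_sub, he, hF f hf _ rfl]⟩

theorem of_word {w : List Step} (hw : wordOK w = true) (hF : ∀ f ∈ F, runW w f = f)
    (hx : x ∈ leechLattice) (h : runW w x = y) : EqvF F x y := by
  obtain ⟨g, hg⟩ := exists_word_aut hw
  exact ⟨g, fun f hf v hv => Subtype.ext (by rw [hg, hv, hF f hf]), ⟨x, hx⟩, g • ⟨x, hx⟩, rfl,
    by rw [hg]; exact h, rfl⟩

theorem of_signedPerm {σ : Equiv.Perm GolayPt} (hσ : σ ∈ M24) {c : Finset GolayPt} (hc : c ∈ CW)
    (hF : ∀ f ∈ F, signedPerm σ c f = f) (hx : x ∈ leechLattice) (h : signedPerm σ c x = y) : EqvF F x y :=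
  ⟨monoAut σ hσ c hc, fun f hf v hv => Subtype.ext (by rw [monoAut_apply, hv, hF f hf]), ⟨x, hx⟩,
    ⟨y, h ▸ signedPerm_mem hσ hc hx⟩, rfl, rfl, Subtype.ext h⟩

/-- From the relation to a group element. -/
theorem elem (h : EqvF F x y) {a b : ↥leechLattice} (ha : (a : GolayPt → ℤ) = x) (hb : (b : GolayPt → ℤ) = y) :
    ∃ g : ↥Co0, (∀ f ∈ F, ∀ v : ↥leechLattice, (v : GolayPt → ℤ) = f → g • v = v) ∧ g • a = b := by
  obtain ⟨g, hF, a', b', ha', hb', he⟩ := h
  obtain rfl : a = a' := Subtype.ext (ha.trans ha'.symm)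
  obtain rfl : b = b' := Subtype.ext (hb.trans hb'.symm)
  exact ⟨g, hF, he⟩

theorem join {r : GolayPt → ℤ} {P : (GolayPt → ℤ) → Prop} (h : ∀ x, P x → EqvF F x r)
    {a b : ↥leechLattice} (ha : P a) (hb : P b) :
    ∃ g : ↥Co0, (∀ f ∈ F, ∀ v : ↥leechLattice, (v : GolayPt → ℤ) = f → g • v = v) ∧ g • a = b :=
  ((h _ ha).trans (h _ hb).symm).elem rfl rfl

end EqvF

end CfsgLeech
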