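/-
Minimal vectors seen from a fixed vector of sum of squares 48.
-/
import Cfsg.Agent.Lib.Leech.Words
import Cfsg.Agent.Lib.Leech.Counts

set_option autoImplicit false

namespace CfsgLeech

open Cfsg CfsgGolay
open scoped Pointwise

attribute [local irreducible] codeL octadL dodecadL slpCodes

/-- The standard vector of sum of squares 48. -/
def uStd : GolayPt → ℤ := od 1 ∅ {none}

/-- A standard minimal vector with dot product 24. -/
def aStd : GolayPt → ℤ := ev ∅ {none, pt 0} ∅

/-- A standard minimal vector with dot product 16. -/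
def tStd : GolayPt → ℤ := ev ∅ {none, pt 0} {pt 0}

theorem std_facts : inLatB uStd = true ∧ inLatB aStd = true ∧ inLatB tStd = true ∧ sqNorm uStd = 48 ∧
    sqNorm aStd = 32 ∧ sqNorm tStd = 32 ∧ dotInt uStd aStd = 24 ∧ dotInt uStd tStd = 16 := by decide +kernel

theorem uStd_mem : uStd ∈ leechLattice := inLatB_sound std_facts.1

theorem aStd_mem : aStd ∈ leechLattice := inLatB_sound std_facts.2.1

theorem tStd_mem : tStd ∈ leechLattice := inLatB_sound std_facts.2.2.1

theorem dot_uStd (x : GolayPt → ℤ) : dotInt uStd x = (∑ i, x i) + 4 * x none := by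
  have h : (∑ i, 4 * (if i = none then x i else 0)) = 4 * x none := by
    rw [← Finset.mul_sum, Finset.sum_ite_eq' Finset.univ none x]; simp
  rw [dotInt, ← h, ← Finset.sum_add_distrib]
  refine Finset.sum_congr rfl fun i _ => ?_
  by_cases hi : i = none <;> simp [uStd, od, chi, hi]; ring

theorem sum_ev {c T N : Finset GolayPt} :
    ∑ i, ev c T N i = 2 * (c.card : ℤ) + 4 * T.card - 4 * (N ∩ c).card - 8 * (N ∩ T).card := by
  rw [← sum_chi c, ← sum_chi T, ← sum_chi (N ∩ c), ← sum_chi (N ∩ T), Finset.mul_sum, Finset.mul_sum,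
    Finset.mul_sum, Finset.mul_sum, ← Finset.sum_add_distrib, ← Finset.sum_sub_distrib, ← Finset.sum_sub_distrib]
  refine Finset.sum_congr rfl fun i _ => ?_
  by_cases a : i ∈ c <;> by_cases b : i ∈ T <;> by_cases d : i ∈ N <;> simp [ev, chi, a, b, d]

theorem sum_od {s : ℤ} {c T : Finset GolayPt} :
    ∑ i, od s c T i = 24 - 2 * (c.card : ℤ) + 4 * s * T.card - 8 * s * (c ∩ T).card := by
  rw [← sum_chi c, ← sum_chi T, ← sum_chi (c ∩ T), Finset.mul_sum, Finset.mul_sum, Finset.mul_sum,
    show (24 : ℤ) = ∑ _i : GolayPt, (1 : ℤ) by simp [card_univ_pt], ← Finset.sum_sub_distrib,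
    ← Finset.sum_add_distrib, ← Finset.sum_sub_distrib]
  refine Finset.sum_congr rfl fun i _ => ?_
  by_cases a : i ∈ c <;> by_cases b : i ∈ T <;> simp [od, chi, a, b] <;> ring

/-- The shapes of minimal vectors with dot product 24 against `uStd`. -/
inductive Is24 : (GolayPt → ℤ) → Prop
  | a (j : GolayPt) : j ≠ none → Is24 (ev ∅ {none, j} ∅)
  | b (j : GolayPt) : j ≠ none → Is24 (od (-1) ∅ {j})
  | c (O : Finset GolayPt) : O ∈ octads → none ∈ O → Is24 (ev O ∅ ∅)
  | d (O : Finset GolayPt) : O ∈ octads → none ∈ O → Is24 (od (-1) O {none})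

/-- The shapes of minimal vectors with dot product 16 against `uStd`. -/
inductive Is16 : (GolayPt → ℤ) → Prop
  | a (j : GolayPt) : j ≠ none → Is16 (ev ∅ {none, j} {j})
  | b (O : Finset GolayPt) : O ∈ octads → none ∉ O → Is16 (ev O ∅ ∅)
  | c (O N : Finset GolayPt) : O ∈ octads → none ∈ O → N ⊆ O → none ∉ N → N.card = 2 → Is16 (ev O ∅ N)
  | d (D : Finset GolayPt) : D ∈ dodecads → none ∈ D → Is16 (od (-1) D {none})
  | e (O : Finset GolayPt) (j : GolayPt) : O ∈ octads → none ∉ O → j ∈ O → Is16 (od (-1) O {j})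

theorem classify_dot {x : GolayPt → ℤ} (hx : x ∈ leechLattice) (hn : sqNorm x = 32) :
    (dotInt uStd x = 24 → Is24 x) ∧ (dotInt uStd x = 16 → Is16 x) := by
  rw [dot_uStd]
  rcases classify32.mp ⟨hx, hn⟩ with (h | h) | h
  · obtain ⟨c, T, N, -, hc, -, hT, hN, -, rfl⟩ := mem_evSet.mp h
    obtain rfl := Finset.card_eq_zero.mp hc
    rw [sum_ev, Finset.inter_empty, Finset.card_empty, hT]
    have hsub : N ⊆ T := fun i hi => by simpa using hN hi
    rw [Finset.inter_eq_left.mpr hsub]
    have hle : N.card ≤ 2 := hT ▸ Finset.card_le_card hsub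
    have hbig : (ev ∅ T N none = 4 ∧ none ∈ T ∧ none ∉ N) ∨ ev ∅ T N none ≤ 0 := by
      by_cases a : none ∈ N <;> by_cases b : none ∈ T <;> simp [ev, chi, a, b]
    rcases hbig with ⟨hv, hnT, hnN⟩ | hv
    · obtain ⟨j, hj⟩ := Finset.card_eq_one.mp (show (T.erase none).card = 1 by
        rw [Finset.card_erase_of_mem hnT, hT])
      have hjn : j ≠ none := (Finset.mem_erase.mp (hj ▸ Finset.mem_singleton_self j)).1
      have hTeq : T = {none, j} := by rw [← Finset.insert_erase hnT, hj]
      have hNj : N ⊆ {j} := hj ▸ fun i hi => Finset.mem_erase.mpr ⟨fun e => hnN (e ▸ hi), hsub hi⟩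
      rw [hv, hTeq]
      rcases Finset.subset_singleton_iff.mp hNj with hN0 | hN0 <;> subst hN0
      · exact ⟨fun _ => Is24.a j hjn, fun h16 => by simp at h16⟩
      · exact ⟨fun h24 => by simp at h24, fun _ => Is16.a j hjn⟩
    · constructor <;> intro h' <;> omega
  · obtain ⟨c, T, N, hcw, hc, -, hT, hN, hp, rfl⟩ := mem_evSet.mp h
    obtain rfl := Finset.card_eq_zero.mp hT
    have hsub : N ⊆ c := fun i hi => by simpa using hN hi
    rw [sum_ev, Finset.inter_empty, Finset.card_empty, hc, Finset.inter_eq_left.mpr hsub]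
    rw [Finset.inter_eq_left.mpr hsub] at hp
    have hcases : (ev c ∅ N none = 2 ∧ none ∈ c ∧ none ∉ N) ∨ (ev c ∅ N none = 0 ∧ none ∉ c) ∨
        (ev c ∅ N none = -2) := by
      by_cases b : none ∈ c <;> by_cases a : none ∈ N
      · simp [ev, chi, a, b]
      · simp [ev, chi, a, b]
      · exact absurd (hsub a) b
      · simp [ev, chi, a, b]
    rcases hcases with ⟨hv, hnc, hnN⟩ | ⟨hv, hnc⟩ | hv <;> rw [hv]
    · constructor <;> intro h'
      · obtain rfl := Finset.card_eq_zero.mp (show N.card = 0 by omega)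
        exact Is24.c c ⟨hcw, hc⟩ hnc
      · exact Is16.c c N ⟨hcw, hc⟩ hnc hsub hnN (by omega)
    · constructor <;> intro h'
      · omega
      · obtain rfl := Finset.card_eq_zero.mp (show N.card = 0 by omega)
        exact Is16.b c ⟨hcw, hc⟩ hnc
    · constructor <;> intro h' <;> omega
  · obtain ⟨c, T, hcw, hT, rfl⟩ := mem_odSet.mp h
    obtain ⟨j, rfl⟩ := Finset.card_eq_one.mp hT
    rw [sum_od, Finset.card_singleton]
    have hw := code_weight_cases hcw
    by_cases hjn : j = none
    · subst hjn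
      by_cases hnc : none ∈ c
      · rw [Finset.inter_singleton_of_mem hnc, Finset.card_singleton,
          show od (-1) c {none} none = 3 by simp [od, chi, hnc]]
        exact ⟨fun h' => Is24.d c ⟨hcw, by omega⟩ hnc, fun h' => Is16.d c ⟨hcw, by omega⟩ hnc⟩
      · rw [Finset.inter_singleton_of_notMem hnc, Finset.card_empty,
          show od (-1) c {none} none = -3 by simp [od, chi, hnc]]
        constructor <;> intro h' <;> omega
    · by_cases hnc : none ∈ c
      · rw [show od (-1) c {j} none = -1 by simp [od, chi, hnc, Ne.symm hjn]]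
        have hpos : 0 < c.card := Finset.card_pos.mpr ⟨none, hnc⟩
        by_cases hjc : j ∈ c
        · rw [Finset.inter_singleton_of_mem hjc, Finset.card_singleton]
          constructor <;> intro h' <;> omega
        · rw [Finset.inter_singleton_of_notMem hjc, Finset.card_empty]
          constructor <;> intro h' <;> omega
      · rw [show od (-1) c {j} none = 1 by simp [od, chi, hnc, Ne.symm hjn]]
        by_cases hjc : j ∈ c
        · rw [Finset.inter_singleton_of_mem hjc, Finset.card_singleton]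
          exact ⟨fun h' => by omega, fun h' => Is16.e c j ⟨hcw, by omega⟩ hnc hjc⟩
        · rw [Finset.inter_singleton_of_notMem hjc, Finset.card_empty]
          refine ⟨fun h' => ?_, fun h' => by omega⟩
          obtain rfl := Finset.card_eq_zero.mp (show c.card = 0 by omega)
          exact Is24.b j hjn

theorem Is24.facts {x : GolayPt → ℤ} (h : Is24 x) : x ∈ leechLattice ∧ sqNorm x = 32 ∧ dotInt uStd x = 24 := by
  rw [dot_uStd]
  cases h with
  | a j hj =>
    have hm : ev ∅ {none, j} ∅ ∈ evSet 0 2 := mem_evSet.mpr ⟨_, _, _, CW_empty, rfl,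
      Finset.disjoint_empty_right _, Finset.card_pair hj.symm, Finset.empty_subset _, by simp, rfl⟩
    exact ⟨mem_leech.mpr (evSet_props hm).1, (evSet_props hm).2.1.trans (by norm_num), by
      rw [sum_ev, Finset.card_pair hj.symm]; simp [ev, chi]⟩
  | b j hj =>
    have hm : od (-1) ∅ {j} ∈ odSet (-1) 1 := mem_odSet.mpr ⟨_, _, CW_empty, Finset.card_singleton _, rfl⟩
    exact ⟨mem_leech.mpr ((odSet_props hm).1 (by norm_num)), (odSet_props hm).2.1.trans (by norm_num), by
      rw [sum_od]; simp [od, chi, Ne.symm hj]⟩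
  | c O hO hn =>
    have hm : ev O ∅ ∅ ∈ evSet 8 0 := mem_evSet.mpr ⟨_, _, _, hO.1, hO.2,
      Finset.disjoint_empty_left _, rfl, Finset.empty_subset _, by simp, rfl⟩
    exact ⟨mem_leech.mpr (evSet_props hm).1, (evSet_props hm).2.1.trans (by norm_num), by
      rw [sum_ev, hO.2]; simp [ev, chi, hn]⟩
  | d O hO hn =>
    have hm : od (-1) O {none} ∈ odSet (-1) 1 := mem_odSet.mpr ⟨_, _, hO.1, Finset.card_singleton _, rfl⟩
    exact ⟨mem_leech.mpr ((odSet_props hm).1 (by norm_num)), (odSet_props hm).2.1.trans (by norm_num), by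
      rw [sum_od, hO.2]; simp [od, chi, hn]⟩

theorem Is16.facts {x : GolayPt → ℤ} (h : Is16 x) : x ∈ leechLattice ∧ sqNorm x = 32 ∧ dotInt uStd x = 16 := by
  rw [dot_uStd]
  cases h with
  | a j hj =>
    have hm : ev ∅ {none, j} {j} ∈ evSet 0 2 := mem_evSet.mpr ⟨_, _, _, CW_empty, rfl,
      Finset.disjoint_empty_right _, Finset.card_pair hj.symm, by simp, by simp, rfl⟩
    exact ⟨mem_leech.mpr (evSet_props hm).1, (evSet_props hm).2.1.trans (by norm_num), by
      rw [sum_ev, Finset.card_pair hj.symm, show ({j} : Finset GolayPt) ∩ {none, j} = {j} by simp]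
      simp [ev, chi, Ne.symm hj]⟩
  | b O hO hn =>
    have hm : ev O ∅ ∅ ∈ evSet 8 0 := mem_evSet.mpr ⟨_, _, _, hO.1, hO.2,
      Finset.disjoint_empty_left _, rfl, Finset.empty_subset _, by simp, rfl⟩
    exact ⟨mem_leech.mpr (evSet_props hm).1, (evSet_props hm).2.1.trans (by norm_num), by
      rw [sum_ev, hO.2]; simp [ev, chi, hn]⟩
  | c O N hO hn hN hnN h2 =>
    have hm : ev O ∅ N ∈ evSet 8 0 := mem_evSet.mpr ⟨_, _, _, hO.1, hO.2,
      Finset.disjoint_empty_left _, rfl, by simpa using hN, by rw [Finset.inter_eq_left.mpr hN, h2], rfl⟩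
    exact ⟨mem_leech.mpr (evSet_props hm).1, (evSet_props hm).2.1.trans (by norm_num), by
      rw [sum_ev, hO.2, Finset.inter_eq_left.mpr hN, h2]; simp [ev, chi, hn, hnN]⟩
  | d D hD hn =>
    have hm : od (-1) D {none} ∈ odSet (-1) 1 := mem_odSet.mpr ⟨_, _, hD.1, Finset.card_singleton _, rfl⟩
    exact ⟨mem_leech.mpr ((odSet_props hm).1 (by norm_num)), (odSet_props hm).2.1.trans (by norm_num), by
      rw [sum_od, hD.2]; simp [od, chi, hn]⟩
  | e O j hO hn hj =>
    have hjn : (none : GolayPt) ≠ j := fun e => hn (e ▸ hj)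
    have hm : od (-1) O {j} ∈ odSet (-1) 1 := mem_odSet.mpr ⟨_, _, hO.1, Finset.card_singleton _, rfl⟩
    exact ⟨mem_leech.mpr ((odSet_props hm).1 (by norm_num)), (odSet_props hm).2.1.trans (by norm_num), by
      rw [sum_od, hO.2, Finset.inter_singleton_of_mem hj]; simp [od, chi, hn, hjn]⟩

end CfsgLeech
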