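/-
Moves by coordinate permutations inside the classes of minimal vectors seen from a fixed vector.
-/
import Cfsg.Agent.Lib.Leech.Config
import Cfsg.Agent.Lib.Golay.OctPairs

set_option autoImplicit false

namespace CfsgLeech

open Cfsg CfsgGolay
open scoped Pointwise

attribute [local irreducible] codeL octadL dodecadL slpCodes

theorem smul_sing (σ : Equiv.Perm GolayPt) (a : GolayPt) : σ • ({a} : Finset GolayPt) = {σ a} := by
  rw [Finset.smul_finset_singleton]; rfl

theorem smul_two (σ : Equiv.Perm GolayPt) (a b : GolayPt) : σ • ({a, b} : Finset GolayPt) = {σ a, σ b} := by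
  rw [Finset.smul_finset_insert, smul_sing]; rfl

theorem perm_ev {σ : Equiv.Perm GolayPt} {c T N : Finset GolayPt} (hN : N ⊆ c ∪ T) :
    signedPerm σ ∅ (ev c T N) = ev (σ • c) (σ • T) (σ • N) :=
  signedPerm_ev hN (by rw [← Finset.smul_finset_union]; exact Finset.smul_finset_subset_smul_finset hN)
    (by rw [Finset.empty_inter, symmDiff_self]; rfl)

theorem perm_od {σ : Equiv.Perm GolayPt} {s : ℤ} {c T : Finset GolayPt} :
    signedPerm σ ∅ (od s c T) = od s (σ • c) (σ • T) := by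
  have h := signedPerm_od (σ := σ) (s := s) (c := c) (c' := σ • c) (T := T)
  rwa [symmDiff_self] at h

theorem fix_uStd {σ : Equiv.Perm GolayPt} (h : σ none = none) : signedPerm σ ∅ uStd = uStd := by
  rw [uStd, perm_od, Finset.smul_finset_empty, smul_sing, h]

theorem fix_aStd {σ : Equiv.Perm GolayPt} (h : σ none = none) (h0 : σ (pt 0) = pt 0) :
    signedPerm σ ∅ aStd = aStd := by
  rw [aStd, perm_ev (Finset.empty_subset _), Finset.smul_finset_empty, smul_two, h, h0]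

theorem fix_tStd {σ : Equiv.Perm GolayPt} (h : σ none = none) (h0 : σ (pt 0) = pt 0) :
    signedPerm σ ∅ tStd = tStd := by
  rw [tStd, perm_ev (by simp), Finset.smul_finset_empty, smul_two, smul_sing, h, h0]

theorem move_u {σ : Equiv.Perm GolayPt} (hσ : σ ∈ M24) (hn : σ none = none) {x y : GolayPt → ℤ}
    (hx : x ∈ leechLattice) (h : signedPerm σ ∅ x = y) : EqvF [uStd] x y :=
  EqvF.of_signedPerm hσ CW_empty (by simpa using fix_uStd hn) hx h

theorem move_ua {σ : Equiv.Perm GolayPt} (hσ : σ ∈ M24) (hn : σ none = none) (h0 : σ (pt 0) = pt 0)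
    {x y : GolayPt → ℤ} (hx : x ∈ leechLattice) (h : signedPerm σ ∅ x = y) : EqvF [uStd, aStd] x y :=
  EqvF.of_signedPerm hσ CW_empty (by simp [fix_uStd hn, fix_aStd hn h0]) hx h

theorem move_ut {σ : Equiv.Perm GolayPt} (hσ : σ ∈ M24) (hn : σ none = none) (h0 : σ (pt 0) = pt 0)
    {x y : GolayPt → ℤ} (hx : x ∈ leechLattice) (h : signedPerm σ ∅ x = y) : EqvF [uStd, tStd] x y :=
  EqvF.of_signedPerm hσ CW_empty (by simp [fix_uStd hn, fix_tStd hn h0]) hx h

theorem map_two_pts {p q p' q' : GolayPt} (h : p ≠ q) (h' : p' ≠ q') :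
    ∃ σ ∈ M24, σ p = p' ∧ σ q = q' := by
  obtain ⟨σ, hσ, hx⟩ := exists_M24_map (k := 2) (by norm_num)
    (⟨![p, q], by intro a b; fin_cases a <;> fin_cases b <;> simp [h, h.symm]⟩ : Fin 2 ↪ GolayPt)
    (⟨![p', q'], by intro a b; fin_cases a <;> fin_cases b <;> simp [h', h'.symm]⟩ : Fin 2 ↪ GolayPt)
  exact ⟨σ, hσ, hx 0, hx 1⟩

theorem map_three_pts {p q r p' q' r' : GolayPt} (h1 : p ≠ q) (h2 : p ≠ r) (h3 : q ≠ r)
    (h1' : p' ≠ q') (h2' : p' ≠ r') (h3' : q' ≠ r') : ∃ σ ∈ M24, σ p = p' ∧ σ q = q' ∧ σ r = r' := by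
  obtain ⟨σ, hσ, hx⟩ := exists_M24_map (k := 3) (by norm_num)
    (⟨![p, q, r], by intro a b; fin_cases a <;> fin_cases b <;> simp [h1, h2, h3, h1.symm, h2.symm, h3.symm]⟩ :
      Fin 3 ↪ GolayPt)
    (⟨![p', q', r'], by
      intro a b; fin_cases a <;> fin_cases b <;> simp [h1', h2', h3', h1'.symm, h2'.symm, h3'.symm]⟩ :
      Fin 3 ↪ GolayPt)
  exact ⟨σ, hσ, hx 0, hx 1, hx 2⟩

theorem octad_with_points {o o' : Finset GolayPt} (ho : o ∈ octads) (ho' : o' ∈ octads) {k : ℕ} (hk : k ≤ 5)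
    (x y : Fin k ↪ GolayPt) (hx : ∀ i, x i ∈ o) (hy : ∀ i, y i ∈ o') :
    ∃ σ ∈ M24, σ • o = o' ∧ ∀ i, σ (x i) = y i := by
  classical
  have ext5 : ∀ {o : Finset GolayPt}, o ∈ octads → ∀ x : Fin k ↪ GolayPt, (∀ i, x i ∈ o) →
      ∃ z : Fin 5 ↪ GolayPt, (∀ i, z i ∈ o) ∧ ∀ i : Fin k, z (Fin.castLE hk i) = x i := by
    intro o ho x hx
    obtain ⟨u, hu⟩ := exists_emb_of_card (k := 5 - k) (s := o \ Finset.univ.map x) (by
      have h8 := card_of_mem_octads ho
      have := Finset.le_card_sdiff (Finset.univ.map x) o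
      rw [Finset.card_map, Finset.card_univ, Fintype.card_fin] at this
      omega)
    refine ⟨⟨fun i => if h : (i : ℕ) < k then x ⟨i, h⟩ else u ⟨i - k, by omega⟩, fun i j hij => ?_⟩,
      fun i => ?_, fun i => ?_⟩
    · have hne : ∀ a b, x a ≠ u b := fun a b e => (Finset.mem_sdiff.mp (hu b)).2 (e ▸ Finset.mem_map_of_mem x (Finset.mem_univ a))
      dsimp only at hij
      split_ifs at hij with h1 h2 h2
      · exact Fin.ext (by simpa using congrArg Fin.val (x.injective hij))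
      · exact absurd hij (hne _ _)
      · exact absurd hij.symm (hne _ _)
      · exact Fin.ext (by
          have := congrArg Fin.val (u.injective hij)
          dsimp only at this
          omega)
    · show (if h : (i : ℕ) < k then x ⟨i, h⟩ else u ⟨i - k, _⟩) ∈ o
      split_ifs
      · exact hx _
      · exact (Finset.mem_sdiff.mp (hu _)).1
    · show (if h : ((Fin.castLE hk i : Fin 5) : ℕ) < k then x ⟨_, h⟩ else u ⟨_, _⟩) = x i
      exact (dif_pos (show ((Fin.castLE hk i : Fin 5) : ℕ) < k from i.isLt)).trans rfl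
  obtain ⟨a, ha, hax⟩ := ext5 ho x hx
  obtain ⟨b, hb, hby⟩ := ext5 ho' y hy
  obtain ⟨σ, hσ, hab⟩ := exists_M24_map le_rfl a b
  refine ⟨σ, hσ, octad_unique (smul_mem_octads hσ ho) ho' (s := Finset.univ.map b) (by simp) ?_ ?_, fun i => ?_⟩
  · intro p hp
    obtain ⟨i, -, rfl⟩ := Finset.mem_map.mp hp
    rw [← hab i]; exact pt_mem_smul.mpr (ha i)
  · intro p hp
    obtain ⟨i, -, rfl⟩ := Finset.mem_map.mp hp
    exact hb i
  · rw [← hax i, ← hby i, hab]

theorem oct_pt_in_reach : 8536111 &&& orbMask gOP 23 = 8536111 := by decide +kernel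

/-- An octad, a point in it and a point off it. -/
theorem octad_in_out {o : Finset GolayPt} (ho : o ∈ octads) {p q : GolayPt} (hp : p ∈ o) (hq : q ∉ o) :
    ∃ g ∈ M24, g • O0 = o ∧ g (pt 23) = p ∧ g (pt 4) = q := by
  obtain ⟨g, hg, hgo, hgq⟩ := octad_one_out ho hq
  obtain ⟨a, hag, ha⟩ := reach_of_orbMask gOP_ok (b := 23) (by norm_num) oct_pt_in_reach (g⁻¹ p)
    (show g⁻¹ p ∈ O0 from inv_apply_mem.mpr (by rw [hgo]; exact hp))
  obtain ⟨haO, ha4⟩ := gOP_fix hag
  refine ⟨g * a, mul_mem hg (Gr_le_M24 gOP_ok hag), by rw [mul_smul, haO, hgo], ?_, ?_⟩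
  · simp [Equiv.Perm.mul_apply, ha]
  · simp [Equiv.Perm.mul_apply, ha4, hgq]

end CfsgLeech
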