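/-
Fusion of the classes of minimal vectors seen from fixed vectors.
-/
import Cfsg.Agent.Lib.Leech.ConfigMoves

set_option autoImplicit false

namespace CfsgLeech

open Cfsg CfsgGolay

attribute [local irreducible] codeL octadL dodecadL slpCodes

theorem e24c : ∃ O ∈ octads, none ∈ O ∧ EqvF [uStd] aStd (ev O ∅ ∅) := by
  refine ⟨toSet 16056344, toSet_mem_octads' (by norm_num) (by decide +kernel), (by decide +kernel), ?_⟩
  refine EqvF.of_word (w := [some (2903086229118637015321682682067489, 13904221), none, some (758497920485601555149369425319796262, 13929893), none, some (519456092958385565495133828374104739, 4716684)])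
    (by decide +kernel) ?_ (inLatB_sound (by decide +kernel)) (funext fun i => by revert i; decide +kernel)
  intro f hf
  rw [List.mem_singleton] at hf
  subst hf
  exact funext fun i => by revert i; decide +kernel

theorem e24b : ∃ j, j ≠ none ∧ EqvF [uStd] aStd (od (-1) ∅ {j}) := by
  refine ⟨(pt 8), (by decide +kernel), ?_⟩
  refine EqvF.of_word (w := [some (272110089248606939437963574773195882, 3775820), none, some (766215111836237290564796808339439721, 1846461), none, some (6791488433594122035067102282763777, 9200031)])
    (by decide +kernel) ?_ (inLatB_sound (by decide +kernel)) (funext fun i => by revert i; decide +kernel)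
  intro f hf
  rw [List.mem_singleton] at hf
  subst hf
  exact funext fun i => by revert i; decide +kernel

theorem e16b : ∃ O ∈ octads, none ∉ O ∧ EqvF [uStd] tStd (ev O ∅ ∅) := by
  refine ⟨toSet 2627629, toSet_mem_octads' (by norm_num) (by decide +kernel), (by decide +kernel), ?_⟩
  refine EqvF.of_word (w := [some (852232797527633117137473364708084403, 3698756), none, some (651883633162945317569719395153488265, 16066854), none, some (355046289615713432827836872464636246, 15912826)])
    (by decide +kernel) ?_ (inLatB_sound (by decide +kernel)) (funext fun i => by revert i; decide +kernel)
  intro f hf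
  rw [List.mem_singleton] at hf
  subst hf
  exact funext fun i => by revert i; decide +kernel

theorem e16c : ∃ O N : Finset GolayPt, O ∈ octads ∧ none ∈ O ∧ N ⊆ O ∧ none ∉ N ∧ N.card = 2 ∧ EqvF [uStd] tStd (ev O ∅ N) := by
  refine ⟨toSet 13636881, toSet 4194320, toSet_mem_octads' (by norm_num) (by decide +kernel), (by decide +kernel), (by decide +kernel), (by decide +kernel), (by decide +kernel), ?_⟩
  refine EqvF.of_word (w := [some (2903086229118637015321682682067489, 13904221), none, some (758497920485601555149369425319796262, 13929893), none, some (519456092958385565495133828374104739, 4716684)])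
    (by decide +kernel) ?_ (inLatB_sound (by decide +kernel)) (funext fun i => by revert i; decide +kernel)
  intro f hf
  rw [List.mem_singleton] at hf
  subst hf
  exact funext fun i => by revert i; decide +kernel

theorem e16d : ∃ O ∈ dodecads, none ∈ O ∧ EqvF [uStd] tStd (od (-1) O {none}) := by
  refine ⟨toSet 12644542, toSet_mem_dodecads' (by norm_num) (by decide +kernel), (by decide +kernel), ?_⟩
  refine EqvF.of_word (w := [some (422549959792356368634315735587469728, 16262146), none, some (6817085829631323387220936275602931, 11246644), none, some (673920397403592863275840530118033046, 15271323)])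
    (by decide +kernel) ?_ (inLatB_sound (by decide +kernel)) (funext fun i => by revert i; decide +kernel)
  intro f hf
  rw [List.mem_singleton] at hf
  subst hf
  exact funext fun i => by revert i; decide +kernel

theorem e16e : ∃ O j, O ∈ octads ∧ none ∉ O ∧ j ∈ O ∧ EqvF [uStd] tStd (od (-1) O {j}) := by
  refine ⟨toSet 2269481, (pt 13), toSet_mem_octads' (by norm_num) (by decide +kernel), (by decide +kernel), (by decide +kernel), ?_⟩
  refine EqvF.of_word (w := [some (563660181052834577338059929077668002, 632881), none, some (321459054185990493801939559673672755, 6318842), none, some (594708854245180188786879704288767383, 12147228)])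
    (by decide +kernel) ?_ (inLatB_sound (by decide +kernel)) (funext fun i => by revert i; decide +kernel)
  intro f hf
  rw [List.mem_singleton] at hf
  subst hf
  exact funext fun i => by revert i; decide +kernel

theorem eMc : ∃ O ∈ octads, none ∈ O ∧ pt 0 ∈ O ∧ EqvF [uStd, aStd] (ev ∅ {none, pt 1} ∅) (ev O ∅ ∅) := by
  refine ⟨toSet 8471941, toSet_mem_octads' (by norm_num) (by decide +kernel), (by decide +kernel), (by decide +kernel), ?_⟩
  refine EqvF.of_word (w := [some (847013179001651360067501650375679021, 13047522), none, some (498641427194469448800430262755541613, 7518285), none, some (940197933399556031587828490938187847, 1600435), none, some (966147927259212374167650944366426786, 2201890), some (966676913552684087620020887151525059, 0)])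
    (by decide +kernel) ?_ (inLatB_sound (by decide +kernel)) (funext fun i => by revert i; decide +kernel)
  intro f hf
  simp only [List.mem_cons, List.not_mem_nil, or_false] at hf
  rcases hf with rfl | rfl <;> exact funext fun i => by revert i; decide +kernel

theorem eMd : ∃ O ∈ octads, none ∈ O ∧ pt 0 ∉ O ∧ EqvF [uStd, aStd] (ev ∅ {none, pt 1} ∅) (od (-1) O {none}) := by
  refine ⟨toSet 12638592, toSet_mem_octads' (by norm_num) (by decide +kernel), (by decide +kernel), (by decide +kernel), ?_⟩
  refine EqvF.of_word (w := [some (671702235300473124497424284309357590, 13860710), none, some (605084309931448147763786640070529634, 14019947), none, some (355268405177282487446832739238725699, 9626467), none, some (438885653396550227849245565234720902, 5030749), some (965283159431121555035281001635135497, 0)])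
    (by decide +kernel) ?_ (inLatB_sound (by decide +kernel)) (funext fun i => by revert i; decide +kernel)
  intro f hf
  simp only [List.mem_cons, List.not_mem_nil, or_false] at hf
  rcases hf with rfl | rfl <;> exact funext fun i => by revert i; decide +kernel

theorem eHb : ∃ j, j ≠ none ∧ j ≠ pt 0 ∧ EqvF [uStd, tStd] aStd (od (-1) ∅ {j}) := by
  refine ⟨(pt 3), (by decide +kernel), (by decide +kernel), ?_⟩
  refine EqvF.of_word (w := [some (508991552416954910507326962598861025, 13309141), none, some (627389614633062079788066256110229588, 15351184), none, some (17775774503701799181748999507134197, 10723919), none, some (46166196114793285220629618193610922, 7221256), some (963644457120784589599250043128531281, 0)])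
    (by decide +kernel) ?_ (inLatB_sound (by decide +kernel)) (funext fun i => by revert i; decide +kernel)
  intro f hf
  simp only [List.mem_cons, List.not_mem_nil, or_false] at hf
  rcases hf with rfl | rfl <;> exact funext fun i => by revert i; decide +kernel

theorem eHc : ∃ O ∈ octads, none ∈ O ∧ pt 0 ∈ O ∧ EqvF [uStd, tStd] aStd (ev O ∅ ∅) := by
  refine ⟨toSet 9347075, toSet_mem_octads' (by norm_num) (by decide +kernel), (by decide +kernel), (by decide +kernel), ?_⟩
  refine EqvF.of_word (w := [some (481972500533503413351366159726499141, 7305720), none, some (584140196827536409333717280904089073, 4726026), none, some (66860267004688247167617591072368770, 6678978), some (957178889504708050922436072764280002, 0)])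
    (by decide +kernel) ?_ (inLatB_sound (by decide +kernel)) (funext fun i => by revert i; decide +kernel)
  intro f hf
  simp only [List.mem_cons, List.not_mem_nil, or_false] at hf
  rcases hf with rfl | rfl <;> exact funext fun i => by revert i; decide +kernel

end CfsgLeech
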