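/-
Transitivity on the minimal vectors seen from a fixed vector.
-/
import Cfsg.Agent.Lib.Leech.ConfigData
import Cfsg.Agent.Lib.Leech.Transitive
import Cfsg.Agent.Lib.Golay.M12More

set_option autoImplicit false

namespace CfsgLeech

open Cfsg CfsgGolay
open scoped Pointwise

attribute [local irreducible] codeL octadL dodecadL slpCodes

/-- An embedding of one, two or three given points. -/
def emb1 (p : GolayPt) : Fin 1 ↪ GolayPt := ⟨fun _ => p, fun a b _ => Subsingleton.elim a b⟩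

/-- An embedding of two given points. -/
def emb2 {p q : GolayPt} (h : p ≠ q) : Fin 2 ↪ GolayPt :=
  ⟨![p, q], by intro a b; fin_cases a <;> fin_cases b <;> simp [h, h.symm]⟩

/-- An embedding of three given points. -/
def emb3 {p q r : GolayPt} (h1 : p ≠ q) (h2 : p ≠ r) (h3 : q ≠ r) : Fin 3 ↪ GolayPt :=
  ⟨![p, q, r], by intro a b; fin_cases a <;> fin_cases b <;> simp [h1, h2, h3, h1.symm, h2.symm, h3.symm]⟩

theorem move_octad {o o' : Finset GolayPt} (ho : o ∈ octads) (hn : none ∈ o) (ho' : o' ∈ octads) (hn' : none ∈ o') :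
    ∃ σ ∈ M24, σ none = none ∧ σ • o = o' := by
  obtain ⟨σ, hσ, he, hx⟩ := octad_with_points ho ho' (by norm_num) (emb1 none) (emb1 none) (fun _ => hn) (fun _ => hn')
  exact ⟨σ, hσ, hx 0, he⟩

theorem move_octad2 {o o' : Finset GolayPt} (ho : o ∈ octads) (hn : none ∈ o) (h0 : pt 0 ∈ o)
    (ho' : o' ∈ octads) (hn' : none ∈ o') (h0' : pt 0 ∈ o') :
    ∃ σ ∈ M24, σ none = none ∧ σ (pt 0) = pt 0 ∧ σ • o = o' := by
  have hne : (none : GolayPt) ≠ pt 0 := by decide +kernel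
  obtain ⟨σ, hσ, he, hx⟩ := octad_with_points ho ho' (by norm_num) (emb2 hne) (emb2 hne)
    (fun i => by fin_cases i <;> assumption) (fun i => by fin_cases i <;> assumption)
  exact ⟨σ, hσ, hx 0, hx 1, he⟩

theorem step_c {x O O' : Finset GolayPt} (hO : O ∈ octads) (hn : none ∈ O) (hO' : O' ∈ octads) (hn' : none ∈ O')
    (hx : x = ∅) : EqvF [uStd] (ev O x x) (ev O' x x) := by
  subst hx
  obtain ⟨σ, hσ, hs, he⟩ := move_octad hO hn hO' hn'
  exact move_u hσ hs (Is24.c O hO hn).facts.1 (by rw [perm_ev (Finset.empty_subset _), he, Finset.smul_finset_empty])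

theorem all24 {x : GolayPt → ℤ} (h : Is24 x) : EqvF [uStd] x aStd := by
  have hA : ∀ j, j ≠ none → EqvF [uStd] (ev ∅ {none, j} ∅) aStd := by
    intro j hj
    obtain ⟨σ, hσ, hs, h1⟩ := map_two_pts hj.symm (show (none : GolayPt) ≠ pt 0 by decide +kernel)
    exact move_u hσ hs (Is24.a j hj).facts.1
      (by rw [perm_ev (Finset.empty_subset _), Finset.smul_finset_empty, smul_two, hs, h1]; rfl)
  have hC : ∀ O ∈ octads, none ∈ O → EqvF [uStd] (ev O ∅ ∅) aStd := by
    intro O hO hn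
    obtain ⟨O', hO', hn', he⟩ := e24c
    exact (step_c hO hn hO' hn' rfl).trans he.symm
  have hB : ∀ j, j ≠ none → EqvF [uStd] (od (-1) ∅ {j}) aStd := by
    intro j hj
    obtain ⟨j', hj', he⟩ := e24b
    obtain ⟨σ, hσ, hs, h1⟩ := map_two_pts hj.symm hj'.symm
    exact (move_u hσ hs (Is24.b j hj).facts.1 (by rw [perm_od, Finset.smul_finset_empty, smul_sing, h1])).trans he.symm
  have hinv : EqvF [uStd] (uStd - aStd) aStd := by
    have h1 := hB (pt 0) (by decide +kernel)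
    have e : od (-1) ∅ {pt 0} = uStd - aStd := by funext i; revert i; decide +kernel
    rwa [e] at h1
  cases h with
  | a j hj => exact hA j hj
  | b j hj => exact hB j hj
  | c O hO hn => exact hC O hO hn
  | d O hO hn =>
    have h1 := (hC O hO hn).sub (List.mem_singleton_self _) uStd_mem
    have e : uStd - ev O ∅ ∅ = od (-1) O {none} := by
      funext i
      by_cases hi : i = none
      · subst hi; simp [uStd, od, ev, chi, hn]
      · by_cases hio : i ∈ O <;> simp [uStd, od, ev, chi, hi, hio]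
    rw [e] at h1
    exact h1.trans hinv

theorem all16 {x : GolayPt → ℤ} (h : Is16 x) : EqvF [uStd] x tStd := by
  cases h with
  | a j hj =>
    obtain ⟨σ, hσ, hs, h1⟩ := map_two_pts hj.symm (show (none : GolayPt) ≠ pt 0 by decide +kernel)
    exact move_u hσ hs (Is16.a j hj).facts.1
      (by rw [perm_ev (by simp), Finset.smul_finset_empty, smul_two, smul_sing, hs, h1]; rfl)
  | b O hO hn =>
    obtain ⟨O', hO', hn', he⟩ := e16b
    obtain ⟨g, hg, hgo, hgn⟩ := octad_one_out hO hn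
    obtain ⟨g', hg', hgo', hgn'⟩ := octad_one_out hO' hn'
    refine (move_u (σ := g' * g⁻¹) (mul_mem hg' (inv_mem hg)) ?_ (Is16.b O hO hn).facts.1 ?_).trans he.symm
    · rw [Equiv.Perm.mul_apply, show g⁻¹ none = pt 4 from Equiv.Perm.inv_eq_iff_eq.mpr hgn.symm, hgn']
    · rw [perm_ev (Finset.empty_subset _), mul_smul, inv_smul_eq_iff.mpr hgo.symm, hgo', Finset.smul_finset_empty]
  | c O N hO hn hN hnN h2 =>
    obtain ⟨O', N', hO', hn', hN', hnN', h2', he⟩ := e16c
    obtain ⟨a, b, hab, rfl⟩ := Finset.card_eq_two.mp h2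
    obtain ⟨a', b', hab', rfl⟩ := Finset.card_eq_two.mp h2'
    simp only [Finset.mem_insert, Finset.mem_singleton, not_or] at hnN hnN'
    obtain ⟨σ, hσ, ho, hx⟩ := octad_with_points hO hO' (by norm_num) (emb3 hnN.1 hnN.2 hab) (emb3 hnN'.1 hnN'.2 hab')
      (fun i => by fin_cases i <;> [exact hn; exact hN (Finset.mem_insert_self a {b}); exact hN (Finset.mem_insert_of_mem (Finset.mem_singleton_self b))])
      (fun i => by fin_cases i <;> [exact hn'; exact hN' (Finset.mem_insert_self a' {b'}); exact hN' (Finset.mem_insert_of_mem (Finset.mem_singleton_self b'))])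
    refine (move_u hσ (hx 0) (Is16.c O {a, b} hO hn hN (by simp [hnN.1, hnN.2]) h2).facts.1 ?_).trans he.symm
    rw [perm_ev (hN.trans Finset.subset_union_left), ho, Finset.smul_finset_empty, smul_two,
      show σ a = a' from hx 1, show σ b = b' from hx 2]
  | d D hD hn =>
    obtain ⟨D', hD', hn', he⟩ := e16d
    obtain ⟨σ, hσ, hσd, hx⟩ : ∃ σ ∈ M24, σ • D = D' ∧ σ none = none := by
      obtain ⟨g, hg, hgd⟩ := exists_smul_D0 hD
      obtain ⟨g', hg', hgd'⟩ := exists_smul_D0 hD'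
      have hk : (g' * g⁻¹) • D = D' := by rw [mul_smul, inv_smul_eq_iff.mpr hgd.symm, hgd']
      obtain ⟨k, hk1, hk2, hk3⟩ := dod_k_transitive hD' (k := 1) (by norm_num) (emb1 ((g' * g⁻¹) none)) (emb1 none)
        (fun _ => by rw [← hk]; exact pt_mem_smul.mpr hn) (fun _ => hn')
      exact ⟨k * (g' * g⁻¹), mul_mem hk1 (mul_mem hg' (inv_mem hg)), by rw [mul_smul, hk, hk2], hk3 0⟩
    refine (move_u hσ hx (Is16.d D hD hn).facts.1 ?_).trans he.symm
    rw [perm_od, hσd, smul_sing, hx]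
  | e O j hO hn hj =>
    obtain ⟨O', j', hO', hn', hj', he⟩ := e16e
    obtain ⟨g, hg, hgo, hgj, hgn⟩ := octad_in_out hO hj hn
    obtain ⟨g', hg', hgo', hgj', hgn'⟩ := octad_in_out hO' hj' hn'
    refine (move_u (σ := g' * g⁻¹) (mul_mem hg' (inv_mem hg)) ?_ (Is16.e O j hO hn hj).facts.1 ?_).trans he.symm
    · rw [Equiv.Perm.mul_apply, show g⁻¹ none = pt 4 from Equiv.Perm.inv_eq_iff_eq.mpr hgn.symm, hgn']
    · rw [perm_od, mul_smul, inv_smul_eq_iff.mpr hgo.symm, hgo', smul_sing, Equiv.Perm.mul_apply,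
        show g⁻¹ j = pt 23 from Equiv.Perm.inv_eq_iff_eq.mpr hgj.symm, hgj']

theorem config_pairs {u x u' x' : ↥leechLattice} {d : ℤ} (hd : d = 24 ∨ d = 16)
    (hu : sqNorm (u : GolayPt → ℤ) = 48) (hx : sqNorm (x : GolayPt → ℤ) = 32)
    (h : dotInt (u : GolayPt → ℤ) (x : GolayPt → ℤ) = d)
    (hu' : sqNorm (u' : GolayPt → ℤ) = 48) (hx' : sqNorm (x' : GolayPt → ℤ) = 32)
    (h' : dotInt (u' : GolayPt → ℤ) (x' : GolayPt → ℤ) = d) : ∃ g : ↥Co0, g • u = u' ∧ g • x = x' := by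
  obtain ⟨g, hg⟩ := shell_transitive (fun _ a b => eqv48 a b) u ⟨uStd, uStd_mem⟩ hu std_facts.2.2.2.1
  obtain ⟨g', hg'⟩ := shell_transitive (fun _ a b => eqv48 a b) u' ⟨uStd, uStd_mem⟩ hu' std_facts.2.2.2.1
  have key : ∀ {k : ↥Co0} {u x : ↥leechLattice}, k • u = ⟨uStd, uStd_mem⟩ → sqNorm (x : GolayPt → ℤ) = 32 →
      dotInt (u : GolayPt → ℤ) (x : GolayPt → ℤ) = d →
      EqvF [uStd] ((k • x : ↥leechLattice) : GolayPt → ℤ) (if d = 24 then aStd else tStd) := by
    intro k u x hk hx h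
    have hdot : dotInt uStd ((k • x : ↥leechLattice) : GolayPt → ℤ) = d := by
      have := aut_dot k u x
      rw [hk, h] at this
      exact this
    have hc := classify_dot (k • x).2 ((aut_norm k x).trans hx)
    rcases hd with rfl | rfl
    · rw [if_pos rfl]; exact all24 (hc.1 hdot)
    · rw [if_neg (by norm_num)]; exact all16 (hc.2 hdot)
  obtain ⟨f, hf, he⟩ := ((key hg hx h).trans (key hg' hx' h').symm).elem (a := g • x) (b := g' • x') rfl rfl
  refine ⟨g'⁻¹ * (f * g), ?_, ?_⟩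
  · rw [mul_smul, mul_smul, hg, hf uStd (List.mem_singleton_self _) _ rfl, inv_smul_eq_iff, hg']
  · rw [mul_smul, mul_smul, he, inv_smul_smul]

theorem dot_of_diff {u v : ↥leechLattice} (hu : sqNorm (u : GolayPt → ℤ) = 48)
    (hv : sqNorm (v : GolayPt → ℤ) = 32) :
    sqNorm ((u : GolayPt → ℤ) - (v : GolayPt → ℤ)) = 32 ↔ dotInt (u : GolayPt → ℤ) (v : GolayPt → ℤ) = 24 := by
  have := (sqNorm_sub_add (u : GolayPt → ℤ) (v : GolayPt → ℤ)).1
  omega

theorem pairs8 {v w v' w' : ↥leechLattice} (hv : sqNorm (v : GolayPt → ℤ) = 32) (hw : sqNorm (w : GolayPt → ℤ) = 32)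
    (hd : dotInt (v : GolayPt → ℤ) (w : GolayPt → ℤ) = -8)
    (hv' : sqNorm (v' : GolayPt → ℤ) = 32) (hw' : sqNorm (w' : GolayPt → ℤ) = 32)
    (hd' : dotInt (v' : GolayPt → ℤ) (w' : GolayPt → ℤ) = -8) : ∃ g : ↥Co0, g • v = v' ∧ g • w = w' := by
  have hn : ∀ {v w : ↥leechLattice}, sqNorm (v : GolayPt → ℤ) = 32 → sqNorm (w : GolayPt → ℤ) = 32 →
      dotInt (v : GolayPt → ℤ) (w : GolayPt → ℤ) = -8 →
      sqNorm ((v + w : ↥leechLattice) : GolayPt → ℤ) = 48 ∧
        dotInt ((v + w : ↥leechLattice) : GolayPt → ℤ) (v : GolayPt → ℤ) = 24 := by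
    intro v w hv hw hd
    refine ⟨?_, ?_⟩
    · rw [AddSubgroup.coe_add, (sqNorm_sub_add _ _).2, hv, hw, hd]; norm_num
    · rw [AddSubgroup.coe_add, dot_add_left, dot_comm (w : GolayPt → ℤ), hd,
        show dotInt (v : GolayPt → ℤ) (v : GolayPt → ℤ) = sqNorm (v : GolayPt → ℤ) by simp [dotInt, sqNorm, sq], hv]
      norm_num
  obtain ⟨g, g1, g2⟩ := config_pairs (Or.inl rfl) (hn hv hw hd).1 hv (hn hv hw hd).2
    (hn hv' hw' hd').1 hv' (hn hv' hw' hd').2
  rw [aut_add, g2] at g1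
  exact ⟨g, g2, add_left_cancel g1⟩

theorem swap48 {v w : ↥leechLattice} (hv : sqNorm (v : GolayPt → ℤ) = 48) (hw : sqNorm (w : GolayPt → ℤ) = 48)
    (hvw : dotInt (v : GolayPt → ℤ) (w : GolayPt → ℤ) = -32) : ∃ g : ↥Co0, g • v = w ∧ g • w = v := by
  have hself : ∀ x : GolayPt → ℤ, dotInt x x = sqNorm x := fun x => by simp [dotInt, sqNorm, sq]
  have hx : sqNorm ((v + w : ↥leechLattice) : GolayPt → ℤ) = 32 := by
    rw [AddSubgroup.coe_add, (sqNorm_sub_add _ _).2, hv, hw, hvw]; norm_num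
  have h1 : dotInt (v : GolayPt → ℤ) ((v + w : ↥leechLattice) : GolayPt → ℤ) = 16 := by
    rw [dot_comm, AddSubgroup.coe_add, dot_add_left, hself, dot_comm (w : GolayPt → ℤ), hv, hvw]; norm_num
  have h2 : dotInt (w : GolayPt → ℤ) ((v + w : ↥leechLattice) : GolayPt → ℤ) = 16 := by
    rw [dot_comm, AddSubgroup.coe_add, dot_add_left, hself, hw, hvw]; norm_num
  obtain ⟨g, g1, g2⟩ := config_pairs (Or.inr rfl) hv hx h1 hw hx h2
  rw [aut_add, g1] at g2
  exact ⟨g, g1, by rw [add_comm v w] at g2; exact add_left_cancel g2⟩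

end CfsgLeech
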