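/-
Numbers of minimal vectors seen from fixed vectors.
-/
import Cfsg.Agent.Lib.Leech.ConfigOrbits
import Cfsg.Agent.Lib.Leech.LeechFrames

set_option autoImplicit false

namespace CfsgLeech

open Cfsg CfsgGolay
open scoped Pointwise

attribute [local irreducible] codeL octadL dodecadL slpCodes

theorem weight_count (n : ℕ) (P : Finset GolayPt → Prop) (p : ℕ → Bool)
    (h : ∀ m, P (toSet m) ↔ p m = true) :
    {s | s ∈ wordsOfWeight (golayCode : Set (GolayPt → ZMod 2)) n ∧ P s}.ncard =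
      ((codeL.filter fun m => pc m == n).filter p).length := by
  have he : {s | s ∈ wordsOfWeight (golayCode : Set (GolayPt → ZMod 2)) n ∧ P s} =
      toSet '' {m | m ∈ (codeL.filter fun m => pc m == n).filter p} := by
    ext s
    constructor
    · rintro ⟨hs, hP⟩
      rw [wordsOfWeight_eq] at hs
      obtain ⟨m, hm, rfl⟩ := hs
      exact ⟨m, List.mem_filter.mpr ⟨hm, (h m).mp hP⟩, rfl⟩
    · rintro ⟨m, hm, rfl⟩
      obtain ⟨hm, hp⟩ := List.mem_filter.mp hm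
      exact ⟨by rw [wordsOfWeight_eq]; exact ⟨m, hm, rfl⟩, (h m).mpr hp⟩
  have hinj : Set.InjOn toSet {m | m ∈ (codeL.filter fun m => pc m == n).filter p} := fun a ha b hb h' =>
    toSet_injOn (codeL_lt a (List.mem_filter.mp (List.mem_filter.mp ha).1).1)
      (codeL_lt b (List.mem_filter.mp (List.mem_filter.mp hb).1).1) h'
  rw [he, hinj.ncard_image, ← List.toFinset_card_of_nodup ((codeL_nodup.filter _).filter _),
    ← Set.ncard_coe_finset]
  congr 1; ext m; simp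

theorem none_mem_toSet (m : ℕ) : none ∈ toSet m ↔ m.testBit 23 = true := mem_toSet

theorem pt0_mem_toSet (m : ℕ) : pt 0 ∈ toSet m ↔ m.testBit 0 = true := by
  rw [mem_toSet, idx_pt (by norm_num)]

theorem block_lists :
    ((codeL.filter fun m => pc m == 8).filter fun m => m.testBit 23).length = 253 ∧
    ((codeL.filter fun m => pc m == 8).filter fun m => !m.testBit 23).length = 506 ∧
    ((codeL.filter fun m => pc m == 12).filter fun m => m.testBit 23).length = 1288 ∧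
    ((codeL.filter fun m => pc m == 8).filter fun m => m.testBit 23 && m.testBit 0).length = 77 ∧
    ((codeL.filter fun m => pc m == 8).filter fun m => m.testBit 23 && !m.testBit 0).length = 176 := by
  decide +kernel

theorem count_in : {o | o ∈ octads ∧ none ∈ o}.ncard = 253 :=
  (weight_count 8 _ _ none_mem_toSet).trans block_lists.1

theorem count_out : {o | o ∈ octads ∧ none ∉ o}.ncard = 506 :=
  (weight_count 8 (fun o => none ∉ o) (fun m => !m.testBit 23) fun m => by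
    rw [none_mem_toSet]; cases m.testBit 23 <;> simp).trans block_lists.2.1

theorem count_dod : {d | d ∈ dodecads ∧ none ∈ d}.ncard = 1288 :=
  (weight_count 12 _ _ none_mem_toSet).trans block_lists.2.2.1

theorem count_both : {o | o ∈ octads ∧ none ∈ o ∧ pt 0 ∈ o}.ncard = 77 :=
  (weight_count 8 (fun o => none ∈ o ∧ pt 0 ∈ o) (fun m => m.testBit 23 && m.testBit 0) fun m => by
    rw [none_mem_toSet, pt0_mem_toSet]; cases m.testBit 23 <;> cases m.testBit 0 <;> simp).trans block_lists.2.2.2.1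

theorem count_one : {o | o ∈ octads ∧ none ∈ o ∧ pt 0 ∉ o}.ncard = 176 :=
  (weight_count 8 (fun o => none ∈ o ∧ pt 0 ∉ o) (fun m => m.testBit 23 && !m.testBit 0) fun m => by
    rw [none_mem_toSet, pt0_mem_toSet]; cases m.testBit 23 <;> cases m.testBit 0 <;> simp).trans block_lists.2.2.2.2

theorem ev_none {O : Finset GolayPt} : ev O ∅ ∅ none = if none ∈ O then 2 else 0 := by
  by_cases h : none ∈ O <;> simp [ev, chi, h]

theorem evA_inj {i j : GolayPt} {N N' : Finset GolayPt} (hi : i ≠ none)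
    (h : ev ∅ {none, i} N = ev ∅ {none, j} N') : i = j := by
  have h1 := congrFun h i
  by_contra hne
  by_cases a : i ∈ N <;> by_cases b : i ∈ N' <;> simp [ev, chi, a, b, hi, hne] at h1

theorem od_T_inj {c c' : Finset GolayPt} {i j : GolayPt} (h : od (-1) c {i} = od (-1) c' {j}) :
    c = c' ∧ i = j := by
  have key : ∀ a, (a ∈ c ↔ a ∈ c') ∧ (a = i ↔ a = j) := fun a => by
    have h1 := congrFun h a
    by_cases a1 : a ∈ c <;> by_cases a2 : a = i <;> by_cases b1 : a ∈ c' <;> by_cases b2 : a = j <;>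
      simp [od, chi, a1, a2, b1, b2] at h1 ⊢ <;> simp_all
  exact ⟨Finset.ext fun a => (key a).1, ((key i).2.mp rfl)⟩

theorem evO_inj {O O' N N' : Finset GolayPt} (hN : N ⊆ O) (hN' : N' ⊆ O') (h : ev O ∅ N = ev O' ∅ N') :
    O = O' ∧ N = N' := by
  have key : ∀ a, (a ∈ O ↔ a ∈ O') ∧ (a ∈ N ↔ a ∈ N') := fun a => by
    have h1 := congrFun h a
    have := @hN a
    have := @hN' a
    by_cases a1 : a ∈ O <;> by_cases a2 : a ∈ N <;> by_cases b1 : a ∈ O' <;> by_cases b2 : a ∈ N' <;>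
      simp_all [ev, chi]
  exact ⟨Finset.ext fun a => (key a).1, Finset.ext fun a => (key a).2⟩

/-- Images of the classes. -/
def fA (j : GolayPt) : GolayPt → ℤ := ev ∅ {none, j} ∅

/-- Images of the classes. -/
def fB (j : GolayPt) : GolayPt → ℤ := od (-1) ∅ {j}

/-- Images of the classes. -/
def fC (O : Finset GolayPt) : GolayPt → ℤ := ev O ∅ ∅

/-- Images of the classes. -/
def fD (O : Finset GolayPt) : GolayPt → ℤ := od (-1) O {none}

theorem Is24.cases_iff {x : GolayPt → ℤ} : Is24 x ↔ (x ∈ fA '' {j | j ≠ none} ∨ x ∈ fB '' {j | j ≠ none}) ∨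
    (x ∈ fC '' {o | o ∈ octads ∧ none ∈ o} ∨ x ∈ fD '' {o | o ∈ octads ∧ none ∈ o}) := by
  constructor
  · intro h
    cases h with
    | a j hj => exact Or.inl (Or.inl ⟨j, hj, rfl⟩)
    | b j hj => exact Or.inl (Or.inr ⟨j, hj, rfl⟩)
    | c O hO hn => exact Or.inr (Or.inl ⟨O, ⟨hO, hn⟩, rfl⟩)
    | d O hO hn => exact Or.inr (Or.inr ⟨O, ⟨hO, hn⟩, rfl⟩)
  · rintro ((⟨j, hj, rfl⟩ | ⟨j, hj, rfl⟩) | (⟨O, ⟨hO, hn⟩, rfl⟩ | ⟨O, ⟨hO, hn⟩, rfl⟩))
    exacts [Is24.a j hj, Is24.b j hj, Is24.c O hO hn, Is24.d O hO hn]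

theorem ne_none_count : {j : GolayPt | j ≠ none}.ncard = 23 := by
  rw [show {j : GolayPt | j ≠ none} = ↑((Finset.univ : Finset GolayPt).erase none) by ext; simp,
    Set.ncard_coe_finset, Finset.card_erase_of_mem (Finset.mem_univ _), Finset.card_univ, card_univ_pt]

theorem is24_count : {x | Is24 x}.ncard = 552 := by
  rw [show {x | Is24 x} = (fA '' {j | j ≠ none} ∪ fB '' {j | j ≠ none}) ∪
      (fC '' {o | o ∈ octads ∧ none ∈ o} ∪ fD '' {o | o ∈ octads ∧ none ∈ o}) from Set.ext fun _ => Is24.cases_iff]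
  rw [Set.ncard_union_eq _ (Set.toFinite _) (Set.toFinite _), Set.ncard_union_eq _ (Set.toFinite _) (Set.toFinite _),
    Set.ncard_union_eq _ (Set.toFinite _) (Set.toFinite _), Set.InjOn.ncard_image, Set.InjOn.ncard_image,
    Set.InjOn.ncard_image, Set.InjOn.ncard_image, ne_none_count, count_in]
  · exact fun a _ b _ h => (od_T_inj h).1
  · exact fun a _ b _ h => (evO_inj (Finset.empty_subset _) (Finset.empty_subset _) h).1
  · exact fun a _ b _ h => (od_T_inj h).2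
  · exact fun a ha b _ h => evA_inj ha h
  · exact Set.disjoint_left.mpr fun x ⟨a, ⟨_, ha⟩, hx⟩ ⟨b, ⟨_, hb⟩, hy⟩ => by
      have h1 := congrFun (hx.trans hy.symm) none
      simp [fC, fD, ev, od, chi, ha, hb] at h1
  · exact Set.disjoint_left.mpr fun x ⟨a, ha, hx⟩ ⟨b, hb, hy⟩ => by
      have h1 := congrFun (hx.trans hy.symm) none
      simp only [Set.mem_ofPred_eq] at ha hb
      simp [fA, fB, ev, od, chi, Ne.symm hb] at h1
  · refine Set.disjoint_left.mpr ?_
    rintro x (⟨a, ha, rfl⟩ | ⟨a, ha, rfl⟩) (⟨b, ⟨_, hb⟩, hy⟩ | ⟨b, ⟨_, hb⟩, hy⟩) <;>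
      (have h1 := congrFun hy none
       simp only [Set.mem_ofPred_eq] at ha
       simp [fA, fB, fC, fD, ev, od, chi, Ne.symm ha, hb] at h1)

/-- Images of the classes. -/
def gA (j : GolayPt) : GolayPt → ℤ := ev ∅ {none, j} {j}

/-- Images of the classes. -/
def gC (q : Σ _ : Finset GolayPt, Finset GolayPt) : GolayPt → ℤ := ev q.1 ∅ q.2

/-- Images of the classes. -/
def gE (q : Σ _ : Finset GolayPt, GolayPt) : GolayPt → ℤ := od (-1) q.1 {q.2}

/-- Parameters of the third class. -/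
noncomputable def cPar : Finset (Σ _ : Finset GolayPt, Finset GolayPt) :=
  (Set.toFinite {o | o ∈ octads ∧ none ∈ o}).toFinset.sigma fun o => (o.erase none).powersetCard 2

/-- Parameters of the fifth class. -/
noncomputable def ePar : Finset (Σ _ : Finset GolayPt, GolayPt) :=
  (Set.toFinite {o | o ∈ octads ∧ none ∉ o}).toFinset.sigma fun o => o

theorem mem_cPar {q : Σ _ : Finset GolayPt, Finset GolayPt} :
    q ∈ cPar ↔ (q.1 ∈ octads ∧ none ∈ q.1) ∧ (q.2 ⊆ q.1 ∧ none ∉ q.2) ∧ q.2.card = 2 := by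
  rw [cPar, Finset.mem_sigma, Set.Finite.mem_toFinset, Finset.mem_powersetCard, Finset.subset_erase]
  rfl

theorem mem_ePar {q : Σ _ : Finset GolayPt, GolayPt} :
    q ∈ ePar ↔ (q.1 ∈ octads ∧ none ∉ q.1) ∧ q.2 ∈ q.1 := by
  rw [ePar, Finset.mem_sigma, Set.Finite.mem_toFinset]
  rfl

theorem Is16.cases_iff {x : GolayPt → ℤ} : Is16 x ↔ x ∈ gA '' {j | j ≠ none} ∨
    x ∈ fC '' {o | o ∈ octads ∧ none ∉ o} ∨ x ∈ gC '' ↑cPar ∨ x ∈ fD '' {d | d ∈ dodecads ∧ none ∈ d} ∨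
    x ∈ gE '' ↑ePar := by
  constructor
  · intro h
    cases h with
    | a j hj => exact Or.inl ⟨j, hj, rfl⟩
    | b O hO hn => exact Or.inr (Or.inl ⟨O, ⟨hO, hn⟩, rfl⟩)
    | c O N hO hn hN hnN h2 =>
      exact Or.inr (Or.inr (Or.inl ⟨⟨O, N⟩, mem_cPar.mpr ⟨⟨hO, hn⟩, ⟨hN, hnN⟩, h2⟩, rfl⟩))
    | d D hD hn => exact Or.inr (Or.inr (Or.inr (Or.inl ⟨D, ⟨hD, hn⟩, rfl⟩)))
    | e O j hO hn hj => exact Or.inr (Or.inr (Or.inr (Or.inr ⟨⟨O, j⟩, mem_ePar.mpr ⟨⟨hO, hn⟩, hj⟩, rfl⟩)))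
  · rintro (⟨j, hj, rfl⟩ | ⟨O, ⟨hO, hn⟩, rfl⟩ | ⟨q, hq, rfl⟩ | ⟨D, ⟨hD, hn⟩, rfl⟩ | ⟨q, hq, rfl⟩)
    · exact Is16.a j hj
    · exact Is16.b O hO hn
    · obtain ⟨⟨h1, h2⟩, ⟨h3, h4⟩, h5⟩ := mem_cPar.mp hq
      exact Is16.c _ _ h1 h2 h3 h4 h5
    · exact Is16.d D hD hn
    · obtain ⟨⟨h1, h2⟩, h3⟩ := mem_ePar.mp hq
      exact Is16.e _ _ h1 h2 h3

theorem cPar_card : cPar.card = 5313 := by
  rw [cPar, Finset.card_sigma, Finset.sum_const_nat (m := 21), ← Set.ncard_eq_toFinset_card _, count_in]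
  intro o ho
  obtain ⟨ho, hn⟩ := (Set.Finite.mem_toFinset _).mp ho
  rw [Finset.card_powersetCard, Finset.card_erase_of_mem hn, card_of_mem_octads ho]; rfl

theorem ePar_card : ePar.card = 4048 := by
  rw [ePar, Finset.card_sigma, Finset.sum_const_nat (m := 8), ← Set.ncard_eq_toFinset_card _, count_out]
  intro o ho
  exact card_of_mem_octads ((Set.Finite.mem_toFinset _).mp ho).1

theorem is16_count : {x | Is16 x}.ncard = 11178 := by
  rw [show {x | Is16 x} = gA '' {j | j ≠ none} ∪ (fC '' {o | o ∈ octads ∧ none ∉ o} ∪ (gC '' ↑cPar ∪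
      (fD '' {d | d ∈ dodecads ∧ none ∈ d} ∪ gE '' ↑ePar))) from Set.ext fun _ => Is16.cases_iff]
  have vA : ∀ j ∈ {j : GolayPt | j ≠ none}, gA j none = 4 := fun j hj => by
    simp [gA, ev, chi, Ne.symm (show j ≠ none from hj)]
  have vB : ∀ o ∈ {o | o ∈ octads ∧ none ∉ o}, fC o none = 0 := fun o ho => by simp [fC, ev, chi, ho.2]
  have vC : ∀ q ∈ (cPar : Set (Σ _ : Finset GolayPt, Finset GolayPt)), gC q none = 2 := fun q hq => by
    obtain ⟨⟨-, h2⟩, ⟨-, h4⟩, -⟩ := mem_cPar.mp hq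
    simp [gC, ev, chi, h2, h4]
  have vD : ∀ d ∈ {d | d ∈ dodecads ∧ none ∈ d}, fD d none = 3 := fun d hd => by simp [fD, od, chi, hd.2]
  have vE : ∀ q ∈ (ePar : Set (Σ _ : Finset GolayPt, GolayPt)), gE q none = 1 := fun q hq => by
    obtain ⟨⟨-, h2⟩, h3⟩ := mem_ePar.mp hq
    have : (none : GolayPt) ≠ q.2 := fun e => h2 (e ▸ h3)
    simp [gE, od, chi, h2, this]
  rw [Set.ncard_union_eq _ (Set.toFinite _) (Set.toFinite _), Set.ncard_union_eq _ (Set.toFinite _) (Set.toFinite _),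
    Set.ncard_union_eq _ (Set.toFinite _) (Set.toFinite _), Set.ncard_union_eq _ (Set.toFinite _) (Set.toFinite _),
    Set.InjOn.ncard_image, Set.InjOn.ncard_image, Set.InjOn.ncard_image, Set.InjOn.ncard_image, Set.InjOn.ncard_image,
    ne_none_count, count_out, Set.ncard_coe_finset, cPar_card, count_dod, Set.ncard_coe_finset, ePar_card]
  · rintro ⟨a, i⟩ - ⟨b, j⟩ - h
    obtain ⟨rfl, rfl⟩ := od_T_inj h
    rfl
  · exact fun a _ b _ h => (od_T_inj h).1
  · rintro ⟨a, N⟩ ha ⟨b, N'⟩ hb h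
    obtain ⟨rfl, rfl⟩ := evO_inj (mem_cPar.mp ha).2.1.1 (mem_cPar.mp hb).2.1.1 h
    rfl
  · exact fun a _ b _ h => (evO_inj (Finset.empty_subset _) (Finset.empty_subset _) h).1
  · exact fun a ha b _ h => evA_inj ha h
  · refine Set.disjoint_left.mpr ?_
    rintro _ ⟨d, hd, rfl⟩ ⟨q, hq, hy⟩
    have h1 := congrFun hy none
    rw [vD d hd, vE q hq] at h1; omega
  · refine Set.disjoint_left.mpr ?_
    rintro _ ⟨q, hq, rfl⟩ (⟨b, hb, hy⟩ | ⟨b, hb, hy⟩) <;> have h1 := congrFun hy none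
    · rw [vC q hq, vD b hb] at h1; omega
    · rw [vC q hq, vE b hb] at h1; omega
  · refine Set.disjoint_left.mpr ?_
    rintro _ ⟨o, ho, rfl⟩ (⟨b, hb, hy⟩ | ⟨b, hb, hy⟩ | ⟨b, hb, hy⟩) <;> have h1 := congrFun hy none
    · rw [vB o ho, vC b hb] at h1; omega
    · rw [vB o ho, vD b hb] at h1; omega
    · rw [vB o ho, vE b hb] at h1; omega
  · refine Set.disjoint_left.mpr ?_
    rintro _ ⟨j, hj, rfl⟩ (⟨b, hb, hy⟩ | ⟨b, hb, hy⟩ | ⟨b, hb, hy⟩ | ⟨b, hb, hy⟩) <;> have h1 := congrFun hy none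
    · rw [vA j hj, vB b hb] at h1; omega
    · rw [vA j hj, vC b hb] at h1; omega
    · rw [vA j hj, vD b hb] at h1; omega
    · rw [vA j hj, vE b hb] at h1; omega

theorem image_count {k : ↥Co0} {S : Set ↥leechLattice} {P : (GolayPt → ℤ) → Prop}
    (hP : ∀ x, P x → x ∈ leechLattice)
    (h : ∀ x : ↥leechLattice, x ∈ S ↔ P ((k • x : ↥leechLattice) : GolayPt → ℤ)) : S.ncard = {x | P x}.ncard := by
  have h1 : (fun x : ↥leechLattice => ((k • x : ↥leechLattice) : GolayPt → ℤ)) '' S = {x | P x} := by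
    ext y
    constructor
    · rintro ⟨x, hx, rfl⟩; exact (h x).mp hx
    · intro hy
      refine ⟨k⁻¹ • ⟨y, hP y hy⟩, (h _).mpr ?_, ?_⟩
      · rw [smul_inv_smul]; exact hy
      · simp only [smul_inv_smul]
  rw [← h1]
  exact (Set.ncard_image_of_injective S (f := fun x : ↥leechLattice => ((k • x : ↥leechLattice) : GolayPt → ℤ))
    (Subtype.val_injective.comp (MulAction.injective k))).symm

theorem count24 {u : ↥leechLattice} (hu : sqNorm (u : GolayPt → ℤ) = 48) :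
    {v : ↥leechLattice | sqNorm (v : GolayPt → ℤ) = 32 ∧ sqNorm ((u : GolayPt → ℤ) - (v : GolayPt → ℤ)) = 32}.ncard = 552 := by
  obtain ⟨g, hg⟩ := shell_transitive (fun _ a b => eqv48 a b) u ⟨uStd, uStd_mem⟩ hu std_facts.2.2.2.1
  rw [← is24_count]
  refine image_count (k := g) (fun x hx => hx.facts.1) fun x => ?_
  have hd : dotInt uStd ((g • x : ↥leechLattice) : GolayPt → ℤ) = dotInt (u : GolayPt → ℤ) (x : GolayPt → ℤ) := by
    have := aut_dot g u x
    rwa [hg] at this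
  constructor
  · rintro ⟨h1, h2⟩
    exact (classify_dot (g • x).2 ((aut_norm g x).trans h1)).1 (hd.trans ((dot_of_diff hu h1).mp h2))
  · intro h
    obtain ⟨-, h1, h2⟩ := h.facts
    rw [aut_norm] at h1
    exact ⟨h1, (dot_of_diff hu h1).mpr (hd.symm.trans h2)⟩

theorem count16 {u : ↥leechLattice} (hu : sqNorm (u : GolayPt → ℤ) = 48) :
    {x : ↥leechLattice | sqNorm (x : GolayPt → ℤ) = 32 ∧ dotInt (u : GolayPt → ℤ) (x : GolayPt → ℤ) = -16}.ncard
      = 11178 := by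
  obtain ⟨g, hg⟩ := shell_transitive (fun _ a b => eqv48 a b) u ⟨uStd, uStd_mem⟩ hu std_facts.2.2.2.1
  rw [← is16_count]
  have hneg : sqNorm ((negAut • u : ↥leechLattice) : GolayPt → ℤ) = 48 := (aut_norm _ u).trans hu
  refine image_count (k := g * negAut) (fun x hx => hx.facts.1) fun x => ?_
  have hd : dotInt uStd (((g * negAut) • x : ↥leechLattice) : GolayPt → ℤ) =
      -dotInt (u : GolayPt → ℤ) (x : GolayPt → ℤ) := by
    have := aut_dot g u (negAut • x)
    rw [hg, ← mul_smul] at this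
    refine this.trans ?_
    rw [negAut_apply, dot_comm, dot_neg_left, dot_comm]
  constructor
  · rintro ⟨h1, h2⟩
    exact (classify_dot (((g * negAut) • x).2) ((aut_norm _ x).trans h1)).2 (by rw [hd, h2]; norm_num)
  · intro h
    obtain ⟨-, h1, h2⟩ := h.facts
    rw [aut_norm] at h1
    exact ⟨h1, by rw [hd] at h2; linarith⟩

theorem trans16 {u x x' : ↥leechLattice} (hu : sqNorm (u : GolayPt → ℤ) = 48)
    (hx : sqNorm (x : GolayPt → ℤ) = 32) (h : dotInt (u : GolayPt → ℤ) (x : GolayPt → ℤ) = -16)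
    (hx' : sqNorm (x' : GolayPt → ℤ) = 32) (h' : dotInt (u : GolayPt → ℤ) (x' : GolayPt → ℤ) = -16) :
    ∃ g : ↥Co0, g • u = u ∧ g • x = x' := by
  have hn : ∀ x : ↥leechLattice, dotInt (u : GolayPt → ℤ) ((-x : ↥leechLattice) : GolayPt → ℤ) =
      -dotInt (u : GolayPt → ℤ) (x : GolayPt → ℤ) := fun x => by
    rw [AddSubgroup.coe_neg, dot_comm, dot_neg_left, dot_comm]
  have hs : ∀ x : ↥leechLattice, sqNorm ((-x : ↥leechLattice) : GolayPt → ℤ) = sqNorm (x : GolayPt → ℤ) :=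
    fun x => by simp [sqNorm]
  obtain ⟨g, g1, g2⟩ := config_pairs (u := u) (u' := u) (x := -x) (x' := -x') (Or.inr rfl) hu ((hs x).trans hx)
    (by rw [hn, h]; norm_num) hu ((hs x').trans hx') (by rw [hn, h']; norm_num)
  rw [aut_neg, neg_inj] at g2
  exact ⟨g, g1, g2⟩

end CfsgLeech
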