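/-
The lattice modulo two as a module for its automorphism group.
-/
import Cfsg.Agent.Lib.Leech.CrossStab

set_option autoImplicit false

namespace CfsgLeech

open Cfsg CfsgGolay
open scoped Pointwise

attribute [local irreducible] codeL octadL dodecadL slpCodes

theorem trivial_mod_two {g : ↥Co0}
    (h : ∀ v : ↥leechLattice, ∃ w : ↥leechLattice,
      ((g • v : ↥leechLattice) : GolayPt → ℤ) - (v : GolayPt → ℤ) = 2 • (w : GolayPt → ℤ)) :
    g ∈ Subgroup.center ↥Co0 := by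
  have hk : KeepsCross g := by
    intro v hv
    have hv8 : (v : GolayPt → ℤ) ∈ eightSet := stdCross_eq.subset hv
    rw [← cross_ax_none] at hv ⊢
    obtain ⟨-, hn, z, hz, he⟩ := hv
    obtain ⟨w, hw⟩ := h v
    refine ⟨(g • v).2, (aut_norm g v).trans hn, z - (w : GolayPt → ℤ), sub_mem hz w.2, ?_⟩
    rw [smul_sub, ← he, ← hw]; abel
  obtain ⟨σ, c, hσ, hc, rfl⟩ := keepsCross_monomial hk
  have hpm : ∀ i, signedPerm σ c (od (-1) ∅ {i}) = od (-1) ∅ {i} ∨
      signedPerm σ c (od (-1) ∅ {i}) = -od (-1) ∅ {i} := by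
    intro i
    have hx : od (-1) ∅ {i} ∈ odSet (-1) 1 := mem_odSet.mpr ⟨∅, {i}, CW_empty, Finset.card_singleton _, rfl⟩
    have hxL := mem_leech.mpr ((odSet_props hx).1 (by norm_num))
    have hn : sqNorm (od (-1) ∅ {i}) = 32 := by rw [(odSet_props hx).2.1]; norm_num
    obtain ⟨w, hw⟩ := h ⟨_, hxL⟩
    rw [monoAut_apply] at hw
    by_cases he : signedPerm σ c (od (-1) ∅ {i}) = od (-1) ∅ {i}
    · exact Or.inl he
    rcases class_short (signedPerm_mem hσ hc hxL) he (by rw [signedPerm_norm, hn]; norm_num)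
      (by rw [hn]; norm_num) ⟨_, w.2, hw⟩ with e | ⟨e, -, -⟩
    · exact Or.inr e
    · rw [signedPerm_norm, hn] at e; norm_num at e
  have hσ1 : σ = 1 := by
    refine Equiv.ext fun i => ?_
    rw [Equiv.Perm.one_apply]
    by_contra hne
    rcases hpm i with e | e <;>
    · have h1 := congrFun e (σ i)
      simp [signedPerm, od, chi, hne] at h1
      split_ifs at h1 <;> omega
  subst hσ1
  have hinv : ∀ j, none ∈ c ↔ j ∈ c := by
    intro j
    rcases hpm none with e | e <;>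
    · have h1 := congrFun e none
      have h2 := congrFun e j
      by_cases hj : j = none
      · subst hj; exact Iff.rfl
      by_cases a : none ∈ c <;> by_cases b : j ∈ c <;> simp [signedPerm, od, chi, hj, a, b] at h1 h2 ⊢
  have hs : c = ∅ ∨ c = Finset.univ := by
    by_cases h0 : none ∈ c
    · exact Or.inr (Finset.eq_univ_of_forall fun j => (hinv j).mp h0)
    · exact Or.inl (Finset.eq_empty_of_forall_notMem fun a ha => h0 ((hinv a).mpr ha))
  rcases monoAut_scalar (hσ := hσ) (hc := hc) rfl hs with e | e <;> rw [e]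
  exacts [one_mem _, negAut_central]

theorem pairs_three {x y : GolayPt → ℤ} (hx : x ∈ leechLattice) (hy : y ∈ leechLattice)
    (hxn : sqNorm x = 32) (M : AddSubgroup (GolayPt → ℤ)) (hxM : x ∈ M)
    (hyn : sqNorm y = 32) (hinv : ∀ (g : ↥Co0) (v : ↥leechLattice),
      (v : GolayPt → ℤ) ∈ M → ((g • v : ↥leechLattice) : GolayPt → ℤ) ∈ M) : y ∈ M := by
  obtain ⟨g, hg⟩ := shell_transitive (fun _ h h' => eqv32 h h') ⟨x, hx⟩ ⟨y, hy⟩ hxn hyn
  have := hinv g ⟨x, hx⟩ hxM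
  rwa [hg] at this

theorem irreducible_mod_two (M : AddSubgroup (GolayPt → ℤ)) (h2 : ∀ v ∈ leechLattice, (2 : ℤ) • v ∈ M)
    (hle : M ≤ leechLattice) (hinv : ∀ (g : ↥Co0) (v : ↥leechLattice),
      (v : GolayPt → ℤ) ∈ M → ((g • v : ↥leechLattice) : GolayPt → ℤ) ∈ M) :
    (∀ x ∈ M, ∃ w ∈ leechLattice, x = (2 : ℤ) • w) ∨ M = leechLattice := by
  by_contra hc
  push_neg at hc
  obtain ⟨⟨x, hxM, hx2⟩, hne⟩ := hc
  refine hne (le_antisymm hle ?_)
  obtain ⟨y, hy, hyn, z, hz, he⟩ := exists_short_rep (hle hxM)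
  have hyM : y ∈ M := by
    have : y = x - (2 : ℤ) • z := by rw [show ((2 : ℤ) • z) = 2 • z from natCast_zsmul z 2, ← he]; abel
    rw [this]; exact sub_mem hxM (h2 z hz)
  have hy0 : y ≠ 0 := fun h0 => hx2 z hz (by
    rw [h0, sub_zero] at he; rw [he, show ((2 : ℤ) • z) = 2 • z from natCast_zsmul z 2])
  have h16 := sqNorm_dvd (mem_leech.mp hy)
  have h32 := sqNorm_min (mem_leech.mp hy) hy0
  have small : ∃ m, m ∈ M ∧ sqNorm m = 32 := by
    have trans : ∀ {n : ℤ} {a : GolayPt → ℤ}, (∀ u, u ∈ leechLattice → sqNorm u = n → Eqv u a) →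
        sqNorm y = n → ∀ u, u ∈ leechLattice → sqNorm u = n → u ∈ M := by
      intro n a h hn u hu hun
      obtain ⟨g, hg⟩ := shell_transitive h ⟨y, hy⟩ ⟨u, hu⟩ hn hun
      have := hinv g ⟨y, hy⟩ hyM
      rwa [hg] at this
    rcases (show sqNorm y = 32 ∨ sqNorm y = 48 ∨ sqNorm y = 64 by omega) with h | h | h
    · exact ⟨y, hyM, h⟩
    · have a1 : inLatB (od (-1) ∅ (toSet 7)) = true ∧ inLatB (od (-1) ∅ (toSet 11)) = true ∧
          sqNorm (od (-1) ∅ (toSet 7)) = 48 ∧ sqNorm (od (-1) ∅ (toSet 11)) = 48 ∧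
          sqNorm (od (-1) ∅ (toSet 7) - od (-1) ∅ (toSet 11)) = 32 := by decide +kernel
      obtain ⟨l1, l2, n1, n2, n3⟩ := a1
      exact ⟨_, sub_mem (trans (fun _ h h' => eqv48 h h') h _ (inLatB_sound l1) n1)
        (trans (fun _ h h' => eqv48 h h') h _ (inLatB_sound l2) n2), n3⟩
    · have a1 : inLatB (ev ∅ (toSet 15) ∅) = true ∧ inLatB (ev ∅ (toSet 23) ∅) = true ∧
          sqNorm (ev ∅ (toSet 15) ∅) = 64 ∧ sqNorm (ev ∅ (toSet 23) ∅) = 64 ∧
          sqNorm (ev ∅ (toSet 15) ∅ - ev ∅ (toSet 23) ∅) = 32 := by decide +kernel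
      obtain ⟨l1, l2, n1, n2, n3⟩ := a1
      exact ⟨_, sub_mem (trans (fun _ h h' => eqv64 h h') h _ (inLatB_sound l1) n1)
        (trans (fun _ h h' => eqv64 h h') h _ (inLatB_sound l2) n2), n3⟩
  obtain ⟨m, hmM, hmn⟩ := small
  rw [← minGrp_eq]
  exact (AddSubgroup.closure_le _).mpr fun u hu => pairs_three (hle hmM) hu.1 hmn M hmM hu.2 hinv

theorem no_complement (K : Subgroup ↥Co0) : ¬ (Subgroup.zpowers negAut).IsComplement' K := by
  intro hK
  have hsq : negAut * negAut = 1 := aut_ext fun v => by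
    rw [mul_smul, negAut_apply, negAut_apply, neg_neg, one_smul]
  have hord : orderOf negAut = 2 := orderOf_eq_prime (by rw [pow_two, hsq]) negAut_ne_one
  have hidx : K.index = 2 := by rw [hK.index_eq_card, Nat.card_zpowers, hord]
  have hσ : projInv ∈ M24 := genGroup_le (Subgroup.subset_closure (by simp))
  have hc : toSet 2343399 ∈ CW := toSet_mem_CW (by decide +kernel)
  have key : ∀ p, projInv.symm (projInv.symm p) = p ∧
      (p ∈ toSet 2343399 ↔ projInv.symm p ∉ toSet 2343399) := by decide +kernel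
  set g := monoAut projInv hσ (toSet 2343399) hc with hg
  have hgg : g ^ 2 = negAut := aut_ext fun v => by
    rw [pow_two, mul_smul, negAut_apply, monoAut_apply, monoAut_apply]
    funext p
    obtain ⟨k1, k2⟩ := key p
    by_cases hp : p ∈ toSet 2343399
    · simp [signedPerm, hp, k2.mp hp, k1]
    · have : projInv.symm p ∈ toSet 2343399 := by_contra fun h => hp (k2.mpr h)
      simp [signedPerm, hp, this, k1]
  have hmem : negAut ∈ K := hgg ▸ Subgroup.sq_mem_of_index_two hidx g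
  exact negAut_ne_one (Subgroup.disjoint_def.mp hK.disjoint (Subgroup.mem_zpowers _) hmem)

theorem dot_dvd {u v : GolayPt → ℤ} (hu : u ∈ leechLattice) (hv : v ∈ leechLattice) :
    (8 : ℤ) ∣ dotInt u v := by
  obtain ⟨-, h⟩ := sqNorm_sub_add u v
  have h1 := sqNorm_dvd (mem_leech.mp hu)
  have h2 := sqNorm_dvd (mem_leech.mp hv)
  have h3 := sqNorm_dvd ((mem_leech.mp hu).add (mem_leech.mp hv))
  omega

theorem invariant_form (Q : ↥leechLattice → ZMod 2)
    (hcoset : ∀ v w : ↥leechLattice, Q (v + (w + w)) = Q v)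
    (hquad : ∀ u v w : ↥leechLattice, Q (u + v + w) + Q u + Q v + Q w = Q (u + v) + Q (u + w) + Q (v + w))
    (hinv : ∀ (g : ↥Co0) (v : ↥leechLattice), Q (g • v) = Q v)
    (hne : ∃ v : ↥leechLattice, Q v ≠ 0) (v : ↥leechLattice) :
    Q v = ((sqNorm (v : GolayPt → ℤ) / 16 : ℤ) : ZMod 2) := by
  have hq0 : Q 0 = 0 := by
    have h := hquad 0 0 0
    simp only [add_zero] at h
    revert h; generalize Q 0 = q; revert q; decide
  let mk : (x : GolayPt → ℤ) → inLatB x = true → ↥leechLattice := fun x h => ⟨x, inLatB_sound h⟩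
  let u32 : GolayPt → ℤ := ev ∅ (toSet 3) ∅
  let u48 : GolayPt → ℤ := od 1 ∅ {none}
  let u64 : GolayPt → ℤ := ev ∅ (toSet 15) ∅
  have hu : inLatB u32 = true ∧ inLatB u48 = true ∧ inLatB u64 = true ∧
      sqNorm u32 = 32 ∧ sqNorm u48 = 48 ∧ sqNorm u64 = 64 := by decide +kernel
  obtain ⟨l32, l48, l64, n32, n48, n64⟩ := hu
  set A := Q (mk u32 l32) with hA
  set B := Q (mk u48 l48) with hB
  set D := Q (mk u64 l64) with hD
  have val : ∀ w : ↥leechLattice, (sqNorm (w : GolayPt → ℤ) = 32 → Q w = A) ∧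
      (sqNorm (w : GolayPt → ℤ) = 48 → Q w = B) ∧ (sqNorm (w : GolayPt → ℤ) = 64 → Q w = D) := by
    intro w
    refine ⟨fun h => ?_, fun h => ?_, fun h => ?_⟩
    · obtain ⟨g, hg⟩ := shell_transitive (fun _ h h' => eqv32 h h') (mk u32 l32) w n32 h
      rw [← hg, hinv]
    · obtain ⟨g, hg⟩ := shell_transitive (fun _ h h' => eqv48 h h') (mk u48 l48) w n48 h
      rw [← hg, hinv]
    · obtain ⟨g, hg⟩ := shell_transitive (fun _ h h' => eqv64 h h') (mk u64 l64) w n64 h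
      rw [← hg, hinv]
  -- a triple of minimal vectors
  let a1 : GolayPt → ℤ := fun i => 4 * chi {pt 0} i - 4 * chi {pt 1} i
  let a2 : GolayPt → ℤ := fun i => 4 * chi {pt 1} i - 4 * chi {pt 2} i
  let a3 : GolayPt → ℤ := fun i => 4 * chi {pt 2} i - 4 * chi {pt 3} i
  let b1 : GolayPt → ℤ := fun i => -4 * chi {pt 4} i - 4 * chi {pt 5} i
  let b2 : GolayPt → ℤ := od (-1) ∅ (toSet 14)
  let b3 : GolayPt → ℤ := fun i => 4 * chi {pt 1} i + 4 * chi {pt 4} i
  have hn : (inLatB a1 && inLatB a2 && inLatB a3 && inLatB b1 && inLatB b2 && inLatB b3) = true ∧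
      (sqNorm a1 = 32 ∧ sqNorm a2 = 32 ∧ sqNorm a3 = 32 ∧ sqNorm (a1 + a2 + a3) = 32 ∧
        sqNorm (a1 + a2) = 32 ∧ sqNorm (a1 + a3) = 64 ∧ sqNorm (a2 + a3) = 32) ∧
      (sqNorm b1 = 32 ∧ sqNorm b2 = 48 ∧ sqNorm b3 = 32 ∧ sqNorm (b1 + b2 + b3) = 48 ∧
        sqNorm (b1 + b2) = 64 ∧ sqNorm (b1 + b3) = 32 ∧ sqNorm (b2 + b3) = 64) := by decide +kernel
  obtain ⟨hL, ⟨p1, p2, p3, p123, p12, p13, p23⟩, ⟨q1, q2, q3, q123, q12, q13, q23⟩⟩ := hn
  simp only [Bool.and_eq_true] at hL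
  obtain ⟨⟨⟨⟨⟨la1, la2⟩, la3⟩, lb1⟩, lb2⟩, lb3⟩ := hL
  have e1 := hquad (mk a1 la1) (mk a2 la2) (mk a3 la3)
  rw [(val (mk a1 la1 + mk a2 la2 + mk a3 la3)).1 p123, (val (mk a1 la1)).1 p1, (val (mk a2 la2)).1 p2,
    (val (mk a3 la3)).1 p3, (val (mk a1 la1 + mk a2 la2)).1 p12, (val (mk a1 la1 + mk a3 la3)).2.2 p13,
    (val (mk a2 la2 + mk a3 la3)).1 p23] at e1
  have e2 := hquad (mk b1 lb1) (mk b2 lb2) (mk b3 lb3)
  rw [(val (mk b1 lb1 + mk b2 lb2 + mk b3 lb3)).2.1 q123, (val (mk b1 lb1)).1 q1, (val (mk b2 lb2)).2.1 q2,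
    (val (mk b3 lb3)).1 q3, (val (mk b1 lb1 + mk b2 lb2)).2.2 q12, (val (mk b1 lb1 + mk b3 lb3)).1 q13,
    (val (mk b2 lb2 + mk b3 lb3)).2.2 q23] at e2
  have hrep : ∀ w : ↥leechLattice, ∃ y z : ↥leechLattice, w = y + (z + z) ∧
      (sqNorm (y : GolayPt → ℤ) = 32 ∨ sqNorm (y : GolayPt → ℤ) = 48 ∨ sqNorm (y : GolayPt → ℤ) = 64 ∨ y = 0) := by
    intro w
    obtain ⟨y, hy, hyn, z, hz, he⟩ := exists_short_rep w.2
    refine ⟨⟨y, hy⟩, ⟨z, hz⟩, Subtype.ext (by rw [AddSubgroup.coe_add, AddSubgroup.coe_add, ← two_nsmul, ← he]; abel), ?_⟩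
    by_cases h0 : y = 0
    · exact Or.inr (Or.inr (Or.inr (Subtype.ext h0)))
    have h16 := sqNorm_dvd (mem_leech.mp hy)
    have h32 := sqNorm_min (mem_leech.mp hy) h0
    show sqNorm y = 32 ∨ sqNorm y = 48 ∨ sqNorm y = 64 ∨ _
    omega
  have hvals : A = 0 ∧ B = 1 ∧ D = 0 := by
    have hsome : A ≠ 0 ∨ B ≠ 0 ∨ D ≠ 0 := by
      obtain ⟨w, hw⟩ := hne
      obtain ⟨y, z, rfl, h | h | h | h⟩ := hrep w <;> rw [hcoset] at hw
      · exact Or.inl ((val y).1 h ▸ hw)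
      · exact Or.inr (Or.inl ((val y).2.1 h ▸ hw))
      · exact Or.inr (Or.inr ((val y).2.2 h ▸ hw))
      · exact absurd (h ▸ hq0) hw
    revert e1 e2 hsome
    generalize A = a; generalize B = b; generalize D = d
    revert a b d; decide
  obtain ⟨hA0, hB1, hD0⟩ := hvals
  obtain ⟨y, z, rfl, hcases⟩ := hrep v
  rw [hcoset]
  have hnorm : ((sqNorm ((y + (z + z) : ↥leechLattice) : GolayPt → ℤ) / 16 : ℤ) : ZMod 2) =
      ((sqNorm (y : GolayPt → ℤ) / 16 : ℤ) : ZMod 2) := by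
    rw [ZMod.intCast_eq_intCast_iff_dvd_sub]
    obtain ⟨k, hk⟩ := dot_dvd y.2 z.2
    obtain ⟨t, ht⟩ := sqNorm_dvd (mem_leech.mp z.2)
    have hexp : sqNorm ((y + (z + z) : ↥leechLattice) : GolayPt → ℤ) =
        sqNorm (y : GolayPt → ℤ) + 4 * dotInt (y : GolayPt → ℤ) z + 4 * sqNorm (z : GolayPt → ℤ) := by
      simp only [sqNorm, dotInt, Finset.mul_sum, ← Finset.sum_add_distrib, AddSubgroup.coe_add, Pi.add_apply]
      exact Finset.sum_congr rfl fun i _ => by ring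
    rw [hexp, hk, ht]
    omega
  rw [hnorm]
  rcases hcases with h | h | h | h
  · rw [(val y).1 h, hA0, h]; decide
  · rw [(val y).2.1 h, hB1, h]; decide
  · rw [(val y).2.2 h, hD0, h]; decide
  · subst h; rw [hq0]; simp [sqNorm]

end CfsgLeech
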