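/-
Minimal vectors by their inner product with a fixed one.
-/
import Cfsg.Agent.Lib.Leech.ConfigCount
import Cfsg.Agent.Lib.Leech.ModTwo

set_option autoImplicit false

namespace CfsgLeech

open Cfsg CfsgGolay
open scoped Pointwise

attribute [local irreducible] codeL octadL dodecadL slpCodes

theorem dot_self (x : GolayPt → ℤ) : dotInt x x = sqNorm x := by simp [dotInt, sqNorm, sq]

theorem dot_sub_right (a b c : GolayPt → ℤ) : dotInt a (b - c) = dotInt a b - dotInt a c := by
  simp only [dotInt, Pi.sub_apply, mul_sub, Finset.sum_sub_distrib]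

theorem card_two_step (v w : ↥leechLattice) :
    Nat.card ↥Co0 = (MulAction.orbit ↥Co0 v).ncard *
      (MulAction.orbit ↥(MulAction.stabilizer ↥Co0 v) w).ncard *
      Nat.card ↥(MulAction.stabilizer ↥Co0 v ⊓ MulAction.stabilizer ↥Co0 w) := by
  set H := MulAction.stabilizer ↥Co0 v with hH
  have h1 : Nat.card ↥Co0 = Nat.card ↥H * (MulAction.orbit ↥Co0 v).ncard := by
    rw [← MulAction.index_stabilizer, ← hH, Subgroup.card_mul_index]
  have h2 : Nat.card ↥H = Nat.card ↥(MulAction.stabilizer ↥H w) * (MulAction.orbit ↥H w).ncard := by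
    rw [← MulAction.index_stabilizer, Subgroup.card_mul_index]
  have h3 : Nat.card ↥(MulAction.stabilizer ↥H w) = Nat.card ↥(H ⊓ MulAction.stabilizer ↥Co0 w) := by
    have e : MulAction.stabilizer ↥H w = (H ⊓ MulAction.stabilizer ↥Co0 w).subgroupOf H := by
      ext g
      exact ⟨fun h => ⟨g.2, h⟩, fun h => h.2⟩
    rw [e, Nat.card_congr (Subgroup.subgroupOfEquivOfLe inf_le_left).toEquiv]
  rw [h1, h2, h3]; ring

theorem orbit_shell {n : ℤ} {a : GolayPt → ℤ} (h : ∀ x, x ∈ leechLattice → sqNorm x = n → Eqv x a)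
    (v : ↥leechLattice) (hv : sqNorm (v : GolayPt → ℤ) = n) :
    MulAction.orbit ↥Co0 v = {w : ↥leechLattice | sqNorm (w : GolayPt → ℤ) = n} := by
  ext w
  constructor
  · rintro ⟨g, rfl⟩; exact (aut_norm g v).trans hv
  · intro hw; exact shell_transitive h v w hv hw

theorem shell32 : {w : ↥leechLattice | sqNorm (w : GolayPt → ℤ) = 32}.ncard = 196560 := by
  rw [sub_ncard (fun x => sqNorm x = 32)]; exact min_count

theorem shell48 : {w : ↥leechLattice | sqNorm (w : GolayPt → ℤ) = 48}.ncard = 16773120 := by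
  rw [sub_ncard (fun x => sqNorm x = 48)]; exact second_count

theorem shell64 : {w : ↥leechLattice | sqNorm (w : GolayPt → ℤ) = 64}.ncard = 398034000 := by
  rw [sub_ncard (fun x => sqNorm x = 64)]; exact third_count

theorem inf_pos (v w : ↥leechLattice) :
    0 < Nat.card ↥(MulAction.stabilizer ↥Co0 v ⊓ MulAction.stabilizer ↥Co0 w) := by
  haveI : Finite ↥Co0 := Nat.finite_of_card_ne_zero (by rw [co0_card]; norm_num)
  exact Nat.card_pos

/-- Minimal vectors with a given dot product against `v`. -/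
def minDot (v : ↥leechLattice) (d : ℤ) : Set ↥leechLattice :=
  {w | sqNorm (w : GolayPt → ℤ) = 32 ∧ dotInt (v : GolayPt → ℤ) (w : GolayPt → ℤ) = d}

theorem minDot_orbit {v w : ↥leechLattice} {d : ℤ} (hv : sqNorm (v : GolayPt → ℤ) = 32)
    (hw : w ∈ minDot v d)
    (htr : ∀ {v w v' w' : ↥leechLattice}, sqNorm (v : GolayPt → ℤ) = 32 → sqNorm (w : GolayPt → ℤ) = 32 →
      dotInt (v : GolayPt → ℤ) (w : GolayPt → ℤ) = d → sqNorm (v' : GolayPt → ℤ) = 32 →
      sqNorm (w' : GolayPt → ℤ) = 32 → dotInt (v' : GolayPt → ℤ) (w' : GolayPt → ℤ) = d →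
      ∃ g : ↥Co0, g • v = v' ∧ g • w = w') :
    MulAction.orbit ↥(MulAction.stabilizer ↥Co0 v) w = minDot v d := by
  ext x
  constructor
  · rintro ⟨⟨g, hg⟩, rfl⟩
    refine ⟨(aut_norm g w).trans hw.1, ?_⟩
    have := aut_dot g v w
    rw [show g • v = v from hg] at this
    exact this.trans hw.2
  · rintro ⟨hx, hd⟩
    obtain ⟨g, g1, g2⟩ := htr hv hw.1 hw.2 hv hx hd
    exact ⟨⟨g, g1⟩, g2⟩

theorem count_orth {v : ↥leechLattice} (hv : sqNorm (v : GolayPt → ℤ) = 32) : (minDot v 0).ncard = 93150 := by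
  set a : ↥leechLattice := ⟨aStd, aStd_mem⟩ with ha
  set t : ↥leechLattice := ⟨tStd, tStd_mem⟩ with ht
  have hnum : sqNorm aStd = 32 ∧ sqNorm tStd = 32 ∧ dotInt aStd tStd = 0 ∧
      (∀ i, aStd i + tStd i = (Pi.single none 8 : GolayPt → ℤ) i) ∧
      (∀ i, aStd i - tStd i = (Pi.single (some 0) 8 : GolayPt → ℤ) i) := by decide +kernel
  obtain ⟨hna, hnt, hdat, hp, hm⟩ := hnum
  have h1 : a + t = ax none := Subtype.ext (funext hp)
  have h2 : a - t = ax (some 0) := Subtype.ext (funext hm)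
  have hst : MulAction.stabilizer ↥Co0 a ⊓ MulAction.stabilizer ↥Co0 t =
      MulAction.stabilizer ↥Co0 (ax none) ⊓ MulAction.stabilizer ↥Co0 (ax (some 0)) := by
    ext g
    simp only [Subgroup.mem_inf, MulAction.mem_stabilizer_iff]
    constructor
    · rintro ⟨e1, e2⟩
      rw [← h1, ← h2, aut_add, aut_sub, e1, e2]
      exact ⟨rfl, rfl⟩
    · rintro ⟨e1, e2⟩
      rw [← h1, aut_add] at e1
      rw [← h2, aut_sub] at e2
      constructor <;> apply double_inj
      · calc g • a + g • a = (g • a + g • t) + (g • a - g • t) := by abel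
          _ = (a + t) + (a - t) := by rw [e1, e2]
          _ = a + a := by abel
      · calc g • t + g • t = (g • a + g • t) - (g • a - g • t) := by abel
          _ = (a + t) - (a - t) := by rw [e1, e2]
          _ = t + t := by abel
  have h8 : ∀ i, sqNorm (ax i : GolayPt → ℤ) = 64 := fun i =>
    (eightSet_props (mem_eightSet.mpr ⟨i, 8, Or.inl rfl, rfl⟩)).2
  set E : Set (GolayPt → ℤ) := {x | ∃ i s, i ≠ none ∧ (s = 8 ∨ s = -8) ∧ x = Pi.single i s} with hE
  have ho : MulAction.orbit ↥(MulAction.stabilizer ↥Co0 (ax none)) (ax (some 0)) =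
      {w : ↥leechLattice | (w : GolayPt → ℤ) ∈ E} := by
    ext w
    constructor
    · rintro ⟨⟨g, hg⟩, rfl⟩
      obtain ⟨j, s, hs, hj⟩ := fix_ax_keeps hg (ax (some 0)) ⟨some 0, 8, Or.inl rfl, rfl⟩
      refine ⟨j, s, ?_, hs, hj⟩
      rintro rfl
      have hd := aut_dot g (ax none) (ax (some 0))
      rw [show g • ax none = ax none from hg, hj] at hd
      simp only [ax_coe, dotInt] at hd
      rw [Finset.sum_eq_single none (fun b _ hb => by simp [hb]) (fun h => absurd (Finset.mem_univ _) h),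
        Finset.sum_eq_single none (fun b _ hb => by simp [hb]) (fun h => absurd (Finset.mem_univ _) h)] at hd
      simp at hd
      omega
    · rintro ⟨j, s, hj, hs, hw⟩
      have hw8 : (w : GolayPt → ℤ) ∈ eightSet := mem_eightSet.mpr ⟨j, s, hs, hw⟩
      have hwc : (w : GolayPt → ℤ) ∈ cross (ax none : GolayPt → ℤ) := by rw [cross_ax_none, stdCross_eq]; exact hw8
      obtain ⟨-, -, z, hz, he⟩ := hwc
      have hd : dotInt (ax none : GolayPt → ℤ) (w : GolayPt → ℤ) = 0 := by
        rw [hw, ax_coe, dotInt]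
        refine Finset.sum_eq_zero fun b _ => ?_
        by_cases hb : b = none
        · subst hb; simp [Ne.symm hj]
        · simp [hb]
      obtain ⟨g, g1, g2⟩ := frame_pair (h8 none) (eightSet_props hw8).2 hd
        ⟨⟨z, hz⟩, Subtype.ext he⟩
      exact ⟨⟨g⁻¹, inv_smul_eq_iff.mpr g1.symm⟩, inv_smul_eq_iff.mpr g2.symm⟩
  have hEc : {w : ↥leechLattice | (w : GolayPt → ℤ) ∈ E}.ncard = 46 := by
    rw [sub_ncard (fun x => x ∈ E)]
    have he : {x | x ∈ leechLattice ∧ x ∈ E} = (fun q : GolayPt × ℤ => Pi.single q.1 q.2) ''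
        ↑(((Finset.univ : Finset GolayPt).erase none) ×ˢ ({8, -8} : Finset ℤ)) := by
      ext x
      constructor
      · rintro ⟨-, i, s, hi, hs, rfl⟩
        exact ⟨(i, s), by simpa [hi] using hs, rfl⟩
      · rintro ⟨⟨i, s⟩, hq, rfl⟩
        simp only [Finset.mem_coe, Finset.mem_product, Finset.mem_erase, Finset.mem_univ, and_true,
          Finset.mem_insert, Finset.mem_singleton] at hq
        exact ⟨mem_leech.mpr (eightSet_props (mem_eightSet.mpr ⟨i, s, hq.2, rfl⟩)).1, i, s, hq.1, hq.2, rfl⟩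
    rw [he, Set.InjOn.ncard_image, Set.ncard_coe_finset, Finset.card_product,
      Finset.card_erase_of_mem (Finset.mem_univ _), Finset.card_univ, card_univ_pt, Finset.card_pair (by norm_num)]
    rintro ⟨i, s⟩ hq ⟨i', s'⟩ hq' h
    simp only [Finset.mem_coe, Finset.mem_product, Finset.mem_insert, Finset.mem_singleton] at hq hq'
    have h1 := congrFun h i
    simp only [Pi.single_eq_same] at h1
    by_cases hi : i = i'
    · subst hi; simp at h1; rw [h1]
    · simp [hi] at h1; omega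
  obtain ⟨g, hg⟩ := shell_transitive (fun _ x y => eqv32 x y) v a hv hna
  have hva : (minDot v 0).ncard = (minDot a 0).ncard := by
    rw [← Set.ncard_image_of_injective (minDot v 0) (MulAction.injective g)]
    congr 1
    ext x
    constructor
    · rintro ⟨y, ⟨hy, hd⟩, rfl⟩
      refine ⟨(aut_norm g y).trans hy, ?_⟩
      have := aut_dot g v y
      rw [hg] at this
      exact this.trans hd
    · rintro ⟨hx, hd⟩
      refine ⟨g⁻¹ • x, ⟨(aut_norm _ x).trans hx, ?_⟩, smul_inv_smul g x⟩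
      have := aut_dot g v (g⁻¹ • x)
      rw [hg, smul_inv_smul] at this
      exact this.symm.trans hd
  have e1 := card_two_step a t
  rw [orbit_shell (fun _ x y => eqv32 x y) a hna, shell32,
    minDot_orbit hna ⟨hnt, hdat⟩ (fun a b c d e f => orth_pairs a b c d e f), hst] at e1
  have e2 := card_two_step (ax none) (ax (some 0))
  rw [orbit_shell (fun _ x y => eqv64 x y) (ax none) (h8 none), shell64, ho, hEc] at e2
  have e3 := inf_pos (ax none) (ax (some 0))
  rw [hva]
  refine Nat.eq_of_mul_eq_mul_left (show 0 < 196560 by norm_num) ?_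
  refine Nat.eq_of_mul_eq_mul_right e3 ?_
  rw [← e1, e2]

theorem count_eight {v : ↥leechLattice} (hv : sqNorm (v : GolayPt → ℤ) = 32) : (minDot v (-8)).ncard = 47104 := by
  obtain ⟨g, hg⟩ := shell_transitive (fun _ x y => eqv32 x y) ⟨aStd, aStd_mem⟩ v std_facts.2.2.2.2.1 hv
  set u : ↥leechLattice := g • ⟨uStd, uStd_mem⟩ with hu
  have hun : sqNorm (u : GolayPt → ℤ) = 48 := (aut_norm g _).trans std_facts.2.2.2.1
  have huv : dotInt (u : GolayPt → ℤ) (v : GolayPt → ℤ) = 24 := by
    rw [hu, ← hg, aut_dot]; exact std_facts.2.2.2.2.2.2.1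
  have hwn : sqNorm ((u - v : ↥leechLattice) : GolayPt → ℤ) = 32 := by
    rw [AddSubgroup.coe_sub]; exact (dot_of_diff hun hv).mpr huv
  have hwd : dotInt (v : GolayPt → ℤ) ((u - v : ↥leechLattice) : GolayPt → ℤ) = -8 := by
    rw [AddSubgroup.coe_sub, dot_sub_right, dot_comm, huv, dot_self, hv]; norm_num
  have hst : MulAction.stabilizer ↥Co0 v ⊓ MulAction.stabilizer ↥Co0 (u - v) =
      MulAction.stabilizer ↥Co0 u ⊓ MulAction.stabilizer ↥Co0 v := by
    ext g
    simp only [Subgroup.mem_inf, MulAction.mem_stabilizer_iff]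
    constructor
    · rintro ⟨e1, e2⟩
      rw [aut_sub, e1] at e2
      exact ⟨sub_left_inj.mp e2, e1⟩
    · rintro ⟨e1, e2⟩
      exact ⟨e2, by rw [aut_sub, e1, e2]⟩
  have ho : MulAction.orbit ↥(MulAction.stabilizer ↥Co0 u) v =
      {x : ↥leechLattice | sqNorm (x : GolayPt → ℤ) = 32 ∧ sqNorm ((u : GolayPt → ℤ) - (x : GolayPt → ℤ)) = 32} := by
    ext x
    constructor
    · rintro ⟨⟨k, hk⟩, rfl⟩
      refine ⟨(aut_norm k v).trans hv, (dot_of_diff hun ((aut_norm k v).trans hv)).mpr ?_⟩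
      have := aut_dot k u v
      rw [show k • u = u from hk] at this
      exact this.trans huv
    · rintro ⟨hx, hd⟩
      obtain ⟨k, k1, k2⟩ := config_pairs (Or.inl rfl) hun hv huv hun hx ((dot_of_diff hun hx).mp hd)
      exact ⟨⟨k, k1⟩, k2⟩
  have e1 := card_two_step v (u - v)
  rw [orbit_shell (fun _ x y => eqv32 x y) v hv, shell32,
    minDot_orbit hv ⟨hwn, hwd⟩ (fun a b c d e f => pairs8 a b c d e f), hst] at e1
  have e2 := card_two_step u v
  rw [orbit_shell (fun _ x y => eqv48 x y) u hun, shell48, ho, count24 hun] at e2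
  refine Nat.eq_of_mul_eq_mul_left (show 0 < 196560 by norm_num) ?_
  refine Nat.eq_of_mul_eq_mul_right (inf_pos u v) ?_
  rw [← e1, e2]

theorem dot_range {v w : ↥leechLattice} (hv : sqNorm (v : GolayPt → ℤ) = 32) (hw : sqNorm (w : GolayPt → ℤ) = 32) :
    (w = v ∨ dotInt (v : GolayPt → ℤ) (w : GolayPt → ℤ) ≠ 32) ∧
    (w = -v ∨ dotInt (v : GolayPt → ℤ) (w : GolayPt → ℤ) ≠ -32) ∧
    dotInt (v : GolayPt → ℤ) (w : GolayPt → ℤ) ∈ ({32, -32, 16, -16, 8, -8, 0} : Finset ℤ) := by
  obtain ⟨h3, h4⟩ := sqNorm_sub_add (v : GolayPt → ℤ) (w : GolayPt → ℤ)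
  have hd := dot_dvd v.2 w.2
  have hm : ∀ x : ↥leechLattice, sqNorm (x : GolayPt → ℤ) = 0 ∧ x = 0 ∨ 32 ≤ sqNorm (x : GolayPt → ℤ) := fun x => by
    by_cases h : x = 0
    · exact Or.inl ⟨by simp [h, sqNorm], h⟩
    · exact Or.inr (sqNorm_min' x.2 fun e => h (Subtype.ext e))
  refine ⟨?_, ?_, ?_⟩
  · rcases hm (v - w) with ⟨-, h⟩ | h
    · exact Or.inl (sub_eq_zero.mp h).symm
    · rw [AddSubgroup.coe_sub] at h; exact Or.inr (by omega)
  · rcases hm (v + w) with ⟨-, h⟩ | h
    · exact Or.inl (eq_neg_of_add_eq_zero_right h)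
    · rw [AddSubgroup.coe_add] at h; exact Or.inr (by omega)
  · simp only [Finset.mem_insert, Finset.mem_singleton]
    rcases hm (v - w) with ⟨h, -⟩ | h <;> rcases hm (v + w) with ⟨h', -⟩ | h' <;>
      rw [AddSubgroup.coe_sub] at h <;> rw [AddSubgroup.coe_add] at h' <;> omega

theorem neg_count {v : ↥leechLattice} (d : ℤ) : (minDot v (-d)).ncard = (minDot v d).ncard := by
  rw [← Set.ncard_image_of_injective (minDot v d) neg_injective]
  congr 1
  ext x
  have hn : sqNorm ((-x : ↥leechLattice) : GolayPt → ℤ) = sqNorm (x : GolayPt → ℤ) := by simp [sqNorm]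
  have hd : dotInt (v : GolayPt → ℤ) ((-x : ↥leechLattice) : GolayPt → ℤ) =
      -dotInt (v : GolayPt → ℤ) (x : GolayPt → ℤ) := by
    rw [AddSubgroup.coe_neg, dot_comm, dot_neg_left, dot_comm]
  constructor
  · rintro ⟨h1, h2⟩
    exact ⟨-x, ⟨hn.trans h1, by rw [hd, h2]; ring⟩, neg_neg x⟩
  · rintro ⟨y, ⟨h1, h2⟩, rfl⟩
    refine ⟨by rw [AddSubgroup.coe_neg, ← h1]; simp [sqNorm], ?_⟩
    rw [AddSubgroup.coe_neg, dot_comm, dot_neg_left, dot_comm, h2]

theorem count_sixteen {v : ↥leechLattice} (hv : sqNorm (v : GolayPt → ℤ) = 32) : (minDot v (-16)).ncard = 4600 := by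
  classical
  have hfin : {w : ↥leechLattice | sqNorm (w : GolayPt → ℤ) = 32}.Finite :=
    Set.finite_of_ncard_ne_zero (by rw [shell32]; norm_num)
  set F := hfin.toFinset with hF
  have hFc : F.card = 196560 := by rw [hF, ← Set.ncard_eq_toFinset_card _ hfin, shell32]
  have hsum := Finset.card_eq_sum_card_fiberwise (s := F) (t := ({32, -32, 16, -16, 8, -8, 0} : Finset ℤ))
    (f := fun w : ↥leechLattice => dotInt (v : GolayPt → ℤ) (w : GolayPt → ℤ))
    (fun w hw => Finset.mem_coe.mpr (dot_range hv (hfin.mem_toFinset.mp (Finset.mem_coe.mp hw))).2.2)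
  have hfib : ∀ d : ℤ, (F.filter fun w : ↥leechLattice => dotInt (v : GolayPt → ℤ) (w : GolayPt → ℤ) = d).card =
      (minDot v d).ncard := fun d => by
    rw [← Set.ncard_coe_finset]
    congr 1
    ext w
    simp only [Finset.coe_filter, hF, Set.Finite.mem_toFinset]
    rfl
  have h32 : (minDot v 32).ncard = 1 := by
    rw [show minDot v 32 = {v} from Set.ext fun w => ⟨fun h => ((dot_range hv h.1).1).resolve_right (fun hh => hh h.2),
      fun h => by rw [show w = v from h]; exact ⟨hv, (dot_self _).trans hv⟩⟩]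
    exact Set.ncard_singleton v
  rw [hFc] at hsum
  simp only [hfib] at hsum
  rw [Finset.sum_insert (by decide), Finset.sum_insert (by decide), Finset.sum_insert (by decide),
    Finset.sum_insert (by decide), Finset.sum_insert (by decide), Finset.sum_insert (by decide),
    Finset.sum_singleton, h32, neg_count 32, h32, neg_count 16, neg_count 8, count_orth hv] at hsum
  rw [neg_count 16]
  have := count_eight hv
  rw [neg_count 8] at this
  omega

theorem census {v : GolayPt → ℤ} (hv : v ∈ leechLattice) (hn : sqNorm v = 32) (d : ℤ) (k : ℕ)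
    (h : (minDot ⟨v, hv⟩ d).ncard = k) :
    {w : GolayPt → ℤ | w ∈ leechLattice ∧ sqNorm w = 32 ∧ dotInt v w = d}.ncard = k := by
  rw [← h, minDot, sub_ncard (fun x => sqNorm x = 32 ∧ dotInt v x = d)]

end CfsgLeech
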