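/-
A simplicity criterion: a simple subgroup containing the normaliser of a Sylow subgroup of prime order.
-/
import Mathlib

set_option autoImplicit false

namespace CfsgLeech

open scoped Pointwise

variable {G : Type*} [Group G] [Finite G]

/-- An element of prime order acting freely on a normal subgroup. -/
theorem sylow_part_congr {N : Subgroup G} [N.Normal] {p : ℕ} [hp : Fact p.Prime] {y : G} (hy : orderOf y = p)
    (hfree : ∀ n ∈ N, y * n * y⁻¹ = n → n = 1) (hpN : ¬ p ∣ Nat.card N) (q : ℕ) [hq : Fact q.Prime] :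
    q ^ (Nat.card N).factorization q ≡ 1 [MOD p] := by
  set Z := Subgroup.zpowers y
  have hZ : IsPGroup p Z := IsPGroup.of_card (n := 1) (by rw [Nat.card_zpowers, hy, pow_one])
  letI : MulDistribMulAction ↥Z ↥N :=
    MulDistribMulAction.compHom ↥N ((MulAut.conjNormal (H := N)).comp Z.subtype)
  have hcoe : ∀ (z : ↥Z) (n : ↥N), ((z • n : ↥N) : G) = (z : G) * n * (z : G)⁻¹ := fun z n =>
    MulAut.conjNormal_apply (z : G) n
  obtain ⟨Q, hQ⟩ : ∃ Q : Sylow q ↥N, ∀ z : ↥Z, z • Q = Q := by
    have hne : ¬ p ∣ Nat.card (Sylow q ↥N) := by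
      intro h
      obtain ⟨S⟩ : Nonempty (Sylow q ↥N) := inferInstance
      refine hpN (h.trans ?_)
      rw [S.card_eq_index_normalizer]
      exact Subgroup.index_dvd_card _
    exact (hZ.nonempty_fixed_point_of_prime_not_dvd_card (Sylow q ↥N) hne)
  have hmem : ∀ (z : ↥Z) (x : ↥N), x ∈ (Q : Subgroup ↥N) → z • x ∈ (Q : Subgroup ↥N) := fun z x hx => by
    have h := Subgroup.smul_mem_pointwise_smul x z (Q : Subgroup ↥N) hx
    rwa [← Sylow.pointwise_smul_def, hQ z] at h
  letI : MulAction ↥Z ↥(Q : Subgroup ↥N) :=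
    { smul := fun z x => ⟨z • (x : ↥N), hmem z x x.2⟩
      one_smul := fun x => Subtype.ext (one_smul ↥Z (x : ↥N))
      mul_smul := fun a b x => Subtype.ext (mul_smul a b (x : ↥N)) }
  have h := hZ.card_modEq_card_fixedPoints (α := ↥(Q : Subgroup ↥N))
  have hfix : MulAction.fixedPoints ↥Z ↥(Q : Subgroup ↥N) = {1} := by
    ext x
    constructor
    · intro hx
      have h1 := congrArg (fun a : ↥(Q : Subgroup ↥N) => ((a : ↥N) : G)) (hx ⟨y, Subgroup.mem_zpowers y⟩)
      rw [show ((( (⟨y, Subgroup.mem_zpowers y⟩ : ↥Z) • x : ↥(Q : Subgroup ↥N)) : ↥N) : G) =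
        ((((⟨y, Subgroup.mem_zpowers y⟩ : ↥Z) • (x : ↥N)) : ↥N) : G) from rfl, hcoe] at h1
      exact Subtype.ext (Subtype.ext (hfree _ (x : ↥N).2 h1))
    · intro hx z
      rw [show x = 1 from hx]
      exact Subtype.ext (smul_one z)
  rw [hfix, Nat.card_coe_set_eq, Set.ncard_singleton] at h
  rwa [Q.card_eq_multiplicity] at h

/-- The criterion. -/
theorem simple_criterion {M : Subgroup G} (hM : IsSimpleGroup ↥M) {p : ℕ} [hp : Fact p.Prime] {y : G}
    (hy : orderOf y = p) (hyM : y ∈ M) (hp2 : ¬ p ^ 2 ∣ Nat.card G)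
    (hnorm : ∀ k : G, k * y * k⁻¹ ∈ Subgroup.zpowers y → k ∈ M)
    (hsmall : ∀ N : Subgroup G, N.Normal → ∀ _ : N ⊓ M = ⊥, Nat.card N ∣ M.index →
      (∀ q : ℕ, q.Prime → q ^ (Nat.card N).factorization q ≡ 1 [MOD p]) → N = ⊥) :
    IsSimpleGroup G := by
  haveI : Nontrivial G := ⟨⟨y, 1, fun h => hp.1.ne_one (by rw [← hy, h, orderOf_one])⟩⟩
  refine ⟨fun N hN => ?_⟩
  rcases (hN.subgroupOf M).eq_bot_or_eq_top with h | h
  · left
    have hNM : N ⊓ M = ⊥ := disjoint_iff.mp (Subgroup.subgroupOf_eq_bot.mp h)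
    have hdisj : ∀ g ∈ N, g ∈ M → g = 1 := fun g h1 h2 => by
      have : g ∈ N ⊓ M := ⟨h1, h2⟩
      rwa [hNM, Subgroup.mem_bot] at this
    have hindex : Nat.card N ∣ M.index := by
      have h1 : Nat.card ↥(N.subgroupOf M) = 1 := by rw [h, Subgroup.card_bot]
      have h2 := Subgroup.card_mul_index (N.subgroupOf M)
      rw [h1, one_mul] at h2
      have h3 : Nat.card M ∣ N.index := by
        rw [← h2, show (N.subgroupOf M).index = N.relIndex M from rfl]
        exact Subgroup.relIndex_dvd_index_of_normal N M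
      obtain ⟨k, hk⟩ := h3
      have h4 := Subgroup.card_mul_index N
      have h5 := Subgroup.card_mul_index M
      rw [hk, ← h5] at h4
      refine ⟨k, Nat.eq_of_mul_eq_mul_left (Nat.card_pos (α := M)) ?_⟩
      rw [← h4]; ring
    refine hsmall N hN hNM hindex fun q hq => ?_
    haveI : Fact q.Prime := ⟨hq⟩
    refine sylow_part_congr hy (fun n hn he => ?_) ?_ q
    · refine hdisj n hn (hnorm n ?_)
      have : n * y * n⁻¹ = y := by
        calc n * y * n⁻¹ = (y * n * y⁻¹) * y * n⁻¹ := by rw [he]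
          _ = y := by group
      rw [this]; exact Subgroup.mem_zpowers y
    · intro hd
      refine hp2 ?_
      rw [← Subgroup.card_mul_index M, pow_two]
      exact mul_dvd_mul (by rw [← hy]; exact Subgroup.orderOf_dvd_natCard M hyM) (hd.trans hindex)
  · right
    have hle : M ≤ N := Subgroup.subgroupOf_eq_top.mp h
    refine top_unique fun g _ => ?_
    set Z := Subgroup.zpowers y
    have hZN : Z ≤ N := by rw [Subgroup.zpowers_le]; exact hle hyM
    have hcard : Nat.card ↥(Z.subgroupOf N) = p := by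
      rw [Nat.card_congr (Subgroup.subgroupOfEquivOfLe hZN).toEquiv, Nat.card_zpowers, hy]
    set Z' : Subgroup G := Z.map (MulAut.conj g).toMonoidHom with hZ'
    have hZ'N : Z' ≤ N := by
      rintro _ ⟨z, hz, rfl⟩
      exact hN.conj_mem z (hZN hz) g
    have hcard' : Nat.card ↥(Z'.subgroupOf N) = p := by
      rw [Nat.card_congr (Subgroup.subgroupOfEquivOfLe hZ'N).toEquiv, hZ',
        Subgroup.card_map_of_injective (MulAut.conj g).injective, Nat.card_zpowers, hy]
    have hpart : p ^ (Nat.card N).factorization p = p := by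
      have h1 : p ∣ Nat.card N := by rw [← hy]; exact Subgroup.orderOf_dvd_natCard N (hle hyM)
      have h2 : ¬ p ^ 2 ∣ Nat.card N := fun hh => hp2 (hh.trans (Subgroup.card_subgroup_dvd_card N))
      have h3 := (hp.1.dvd_iff_one_le_factorization (Nat.card_pos (α := N)).ne').mp h1
      have h4 : (Nat.card N).factorization p < 2 := by
        by_contra hh
        exact h2 ((hp.1.pow_dvd_iff_le_factorization (Nat.card_pos (α := N)).ne').mpr (by omega))
      rw [show (Nat.card N).factorization p = 1 by omega, pow_one]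
    set A : Sylow p ↥N := Sylow.ofCard (Z.subgroupOf N) (hcard.trans hpart.symm) with hA
    set B : Sylow p ↥N := Sylow.ofCard (Z'.subgroupOf N) (hcard'.trans hpart.symm) with hB
    obtain ⟨n, hn⟩ := MulAction.exists_smul_eq ↥N A B
    have hgy : (⟨g * y * g⁻¹, hN.conj_mem y (hle hyM) g⟩ : ↥N) ∈ (B : Subgroup ↥N) := by
      rw [hB, Sylow.coe_ofCard, Subgroup.mem_subgroupOf]
      exact ⟨y, Subgroup.mem_zpowers y, rfl⟩
    rw [← hn, Sylow.smul_def, Sylow.pointwise_smul_def, Subgroup.mem_pointwise_smul_iff_inv_smul_mem,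
      hA, Sylow.coe_ofCard, Subgroup.mem_subgroupOf] at hgy
    simp only [← map_inv, MulAut.smul_def, MulAut.conj_apply, inv_inv, Subgroup.coe_mul,
      InvMemClass.coe_inv] at hgy
    have hk : (n : G)⁻¹ * g ∈ M := hnorm _ (by
      convert hgy using 1; group)
    have := N.mul_mem n.2 (hle hk)
    simpa using this

end CfsgLeech
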