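/-
Simplicity of stabilisers in the automorphism group of the lattice, through a Mathieu subgroup.
-/
import Cfsg.Agent.Lib.Leech.SimpleCrit
import Cfsg.Agent.Lib.Leech.Census
import Cfsg.Agent.Lib.Leech.ConfigCount
import Cfsg.Agent.Lib.Golay.Mathieu

set_option autoImplicit false

namespace CfsgLeech

open Cfsg CfsgGolay
open scoped Pointwise

attribute [local irreducible] codeL octadL dodecadL slpCodes

theorem co0_finite : Finite ↥Co0 := Nat.finite_of_card_ne_zero (by rw [co0_card]; norm_num)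

/-- Coordinate permutations as automorphisms. -/
noncomputable def permHom : ↥M24 →* ↥Co0 :=
  MonoidHom.mk' (fun σ => monoAut σ.1 σ.2 ∅ CW_empty) fun σ τ => aut_ext fun v => by
    rw [mul_smul]
    simp only [monoAut_apply]
    funext i
    simp only [signedPerm, Finset.notMem_empty, if_false]
    rfl

theorem permHom_apply (σ : ↥M24) (v : ↥leechLattice) (i : GolayPt) :
    ((permHom σ • v : ↥leechLattice) : GolayPt → ℤ) i = (v : GolayPt → ℤ) (σ.1.symm i) := by
  show ((monoAut σ.1 σ.2 ∅ CW_empty • v : ↥leechLattice) : GolayPt → ℤ) i = _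
  rw [monoAut_apply]
  simp [signedPerm]

theorem permHom_injective : Function.Injective permHom := fun σ τ h => by
  have h1 : ∀ x ∈ leechLattice, signedPerm σ.1 ∅ x = signedPerm τ.1 ∅ x := fun x hx =>
    congrArg (fun g : ↥Co0 => ((g • (⟨x, hx⟩ : ↥leechLattice) : ↥leechLattice) : GolayPt → ℤ)) h
  exact Subtype.ext (signedPerm_inj h1).1

/-- A minimal vector fixed by all permutations fixing a point. -/
def vStd : GolayPt → ℤ := od (-1) ∅ {none}

theorem vStd_mem : vStd ∈ leechLattice := inLatB_sound (by decide +kernel)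

theorem vStd_norm : sqNorm vStd = 32 := by decide +kernel

theorem perm_code_fixed {c : ℕ} {σ : ↥M24} (hσ : Repr c σ.1) {v : ↥leechLattice} (h : permHom σ • v = v)
    {i : ℕ} (hi : i < 24) : (v : GolayPt → ℤ) (pt (papp c i)) = (v : GolayPt → ℤ) (pt i) := by
  have h1 := congrFun (congrArg Subtype.val h) (σ.1 (pt i))
  rw [permHom_apply, Equiv.symm_apply_apply, hσ.apply_pt hi] at h1
  exact h1.symm

theorem orbit_const {c : ℕ} {σ : ↥M24} (hσ : Repr c σ.1) {v : ↥leechLattice} (h : permHom σ • v = v)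
    {b : ℕ} (hb : b < 24) (hok : permOK c = true) : ∀ k, (papp c)^[k] b < 24 ∧
      (v : GolayPt → ℤ) (pt ((papp c)^[k] b)) = (v : GolayPt → ℤ) (pt b)
  | 0 => ⟨hb, rfl⟩
  | k + 1 => by
    obtain ⟨h1, h2⟩ := orbit_const hσ h hb hok k
    rw [Function.iterate_succ_apply']
    refine ⟨?_, by rw [perm_code_fixed hσ h h1, h2]⟩
    simp only [permOK, Bool.and_eq_true, List.all_eq_true, List.mem_map, List.mem_range, Nat.blt_eq,
      decide_eq_true_eq] at hok
    exact hok.1 _ ⟨_, h1, rfl⟩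

theorem order_of_code {c p : ℕ} [hp : Fact p.Prime] {σ : ↥M24} (hσ : Repr c σ.1)
    (hpow : ((List.range 24).all fun i => Nat.beq ((papp c)^[p] i) i) = true)
    (hlt : ((List.range 24).all fun i => Nat.blt (papp c i) 24) = true)
    (hmove : ∃ i, i < 24 ∧ papp c i ≠ i) : orderOf (permHom σ) = p := by
  rw [orderOf_injective permHom permHom_injective σ]
  refine orderOf_eq_prime ?_ ?_
  · have key : ∀ n i, i < 24 → (papp c)^[n] i < 24 ∧ (σ ^ n).1 (pt i) = pt ((papp c)^[n] i) := by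
      intro n
      induction n with
      | zero => exact fun i hi => ⟨hi, rfl⟩
      | succ n ih =>
        intro i hi
        obtain ⟨h1, h2⟩ := ih i hi
        rw [Function.iterate_succ_apply', pow_succ', Subgroup.coe_mul, Equiv.Perm.mul_apply, h2, hσ.apply_pt h1]
        exact ⟨Nat.blt_eq.mp (List.all_eq_true.mp hlt _ (List.mem_range.mpr h1)), rfl⟩
    refine Subtype.ext (Equiv.ext fun x => ?_)
    have hx := (key p (idx x) (idx_lt x)).2
    rw [pt_idx] at hx
    rw [hx, Nat.eq_of_beq_eq_true (List.all_eq_true.mp hpow _ (List.mem_range.mpr (idx_lt x))), pt_idx]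
    rfl
  · intro h
    obtain ⟨i, hi, hne⟩ := hmove
    have h1 := hσ.apply_pt hi
    rw [h] at h1
    have h2 := congrArg idx h1
    by_cases hlt' : papp c i < 24
    · rw [show ((1 : ↥M24) : Equiv.Perm GolayPt) (pt i) = pt i from rfl, idx_pt hi, idx_pt hlt'] at h2
      exact hne h2.symm
    · exact hlt' (Nat.blt_eq.mp (List.all_eq_true.mp hlt _ (List.mem_range.mpr hi)))

/-- Simplicity of a subgroup containing a Mathieu group, the axis being determined inside it. -/
theorem simple_in_co0 {G : Subgroup ↥Co0} {M0 : Subgroup ↥M24} (hMG : M0.map permHom ≤ G)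
    (hsimp : IsSimpleGroup ↥M0) {p : ℕ} [hp : Fact p.Prime] {σ : ↥M24} (hσM : σ ∈ M0)
    (hord : orderOf (permHom σ) = p) (hσn : σ.1 none = none) (hp2 : ¬ p ^ 2 ∣ Nat.card ↥G)
    (huniq : ∀ z : ↥leechLattice, permHom σ • z = z → sqNorm (z : GolayPt → ℤ) = 64 →
      (∀ f : ↥leechLattice, (∀ g ∈ G, g • f = f) → dotInt (f : GolayPt → ℤ) (z : GolayPt → ℤ) =
        dotInt (f : GolayPt → ℤ) (ax none : GolayPt → ℤ)) → z = ax none)
    (hmono : ∀ g ∈ G, g • ax none = ax none → g ∈ M0.map permHom)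
    (hsmall : ∀ N : Subgroup ↥G, N.Normal → N ⊓ (M0.map permHom).subgroupOf G = ⊥ →
      Nat.card ↥N ∣ ((M0.map permHom).subgroupOf G).index →
      (∀ q : ℕ, q.Prime → q ^ (Nat.card ↥N).factorization q ≡ 1 [MOD p]) → N = ⊥) :
    IsSimpleGroup ↥G := by
  haveI := co0_finite
  set y : ↥G := ⟨permHom σ, hMG ⟨σ, hσM, rfl⟩⟩
  have hy : orderOf y = p := by rw [← hord]; exact (orderOf_injective G.subtype G.subtype_injective y).symm
  have hfix0 : permHom σ • ax none = ax none := Subtype.ext (funext fun i => by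
    rw [permHom_apply, ax_coe, Pi.single_apply, Pi.single_apply]
    by_cases hi : i = none
    · subst hi
      rw [if_pos rfl, if_pos (by rw [Equiv.symm_apply_eq]; exact hσn.symm)]
    · rw [if_neg hi, if_neg (fun h => hi (by rw [Equiv.symm_apply_eq] at h; rw [h, hσn]))])
  refine simple_criterion (M := (M0.map permHom).subgroupOf G) ?_ hy ⟨σ, hσM, rfl⟩ hp2 ?_
    (fun N hN hd h1 h2 => hsmall N hN hd h1 h2)
  · exact isSimple_congr ((M0.equivMapOfInjective permHom permHom_injective).trans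
      (Subgroup.subgroupOfEquivOfLe hMG).symm) hsimp
  intro k hk
  set y' := k * y * k⁻¹ with hy'
  have hy'o : orderOf y' = p := by
    rw [← hy]; exact orderOf_injective (MulAut.conj k).toMonoidHom (MulAut.conj k).injective y
  have heq : Subgroup.zpowers y' = Subgroup.zpowers y :=
    Subgroup.eq_of_le_of_card_ge (by rwa [Subgroup.zpowers_le]) (by rw [Nat.card_zpowers, Nat.card_zpowers, hy, hy'o])
  have hfix : permHom σ • ((k : ↥Co0) • ax none) = (k : ↥Co0) • ax none := by
    have hle : Subgroup.zpowers y' ≤ (MulAction.stabilizer ↥Co0 ((k : ↥Co0) • ax none)).comap G.subtype := by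
      rw [Subgroup.zpowers_le, Subgroup.mem_comap, MulAction.mem_stabilizer_iff]
      show ((k : ↥Co0) * permHom σ * (k : ↥Co0)⁻¹) • ((k : ↥Co0) • ax none) = _
      rw [mul_smul, mul_smul, inv_smul_smul, hfix0]
    exact hle (heq ▸ Subgroup.mem_zpowers y)
  have hk0 : (k : ↥Co0) • ax none = ax none := by
    refine huniq _ hfix ((aut_norm _ _).trans
      (eightSet_props (mem_eightSet.mpr ⟨none, 8, Or.inl rfl, rfl⟩)).2) fun f hf => ?_
    have := aut_dot (k : ↥Co0) f (ax none)
    rwa [hf _ k.2] at this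
  exact hmono _ k.2 hk0

/-- An element fixing the axis, as a signed permutation fixing the axis. -/
theorem axis_mono {g : ↥Co0} (h : g • ax none = ax none) :
    ∃ (σ : ↥M24) (c : Finset GolayPt) (hc : c ∈ CW), g = monoAut σ.1 σ.2 c hc ∧ σ.1 none = none ∧ none ∉ c := by
  obtain ⟨σ, c, hσ, hc, rfl⟩ := keepsCross_monomial (fix_ax_keeps h)
  have h1 := congrFun (congrArg Subtype.val h) (σ none)
  rw [monoAut_apply] at h1
  simp only [signedPerm, Equiv.symm_apply_apply, ax_coe, Pi.single_eq_same] at h1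
  have hn : σ none = none := by
    by_contra hne
    rw [Pi.single_eq_of_ne hne] at h1
    split_ifs at h1 <;> norm_num at h1
  refine ⟨⟨σ, hσ⟩, c, hc, rfl, hn, fun hin => ?_⟩
  rw [hn] at h1
  simp [hin] at h1

theorem axis_perm {g : ↥Co0} (h : g • ax none = ax none) {f : ↥leechLattice}
    (hf : ∀ i, i ≠ none → (f : GolayPt → ℤ) i = 1) (hfix : g • f = f) :
    ∃ σ : ↥M24, σ.1 none = none ∧ g = permHom σ := by
  obtain ⟨σ, c, hc, rfl, hn, hnc⟩ := axis_mono h
  have hce : c = ∅ := by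
    refine Finset.eq_empty_of_forall_notMem fun i hi => ?_
    have hin : i ≠ none := fun e => hnc (e ▸ hi)
    have h1 := congrFun (congrArg Subtype.val hfix) i
    rw [monoAut_apply] at h1
    simp only [signedPerm, if_pos hi] at h1
    rw [hf _ (fun e => hin (by rw [Equiv.symm_apply_eq] at e; rw [e, hn])), hf _ hin] at h1
    norm_num at h1
  subst hce
  exact ⟨σ, hn, rfl⟩

theorem fix_const_off {σ : ↥M24} (hn : σ.1 none = none) {f : ↥leechLattice}
    (hf : ∀ i, i ≠ none → (f : GolayPt → ℤ) i = 1) : permHom σ • f = f := by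
  refine Subtype.ext (funext fun i => ?_)
  rw [permHom_apply]
  by_cases hi : i = none
  · subst hi
    rw [show σ.1.symm none = none by rw [Equiv.symm_apply_eq]; exact hn.symm]
  · rw [hf _ (fun e => hi (by rw [Equiv.symm_apply_eq] at e; rw [e, hn])), hf _ hi]

theorem fix_on_two {σ : ↥M24} (hn : σ.1 none = none) (h0 : σ.1 (pt 0) = pt 0) {f : ↥leechLattice}
    (hf : ∀ i, i ≠ none → i ≠ pt 0 → (f : GolayPt → ℤ) i = 0) : permHom σ • f = f := by
  refine Subtype.ext (funext fun i => ?_)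
  rw [permHom_apply]
  by_cases hi : i = none
  · subst hi
    rw [show σ.1.symm none = none by rw [Equiv.symm_apply_eq]; exact hn.symm]
  by_cases hi0 : i = pt 0
  · subst hi0
    rw [show σ.1.symm (pt 0) = pt 0 by rw [Equiv.symm_apply_eq]; exact h0.symm]
  rw [hf i hi hi0, hf _ (fun e => hi (by rw [Equiv.symm_apply_eq] at e; rw [e, hn]))
    (fun e => hi0 (by rw [Equiv.symm_apply_eq] at e; rw [e, h0]))]

theorem uStd_off : ∀ i : GolayPt, i ≠ none → uStd i = 1 := by decide +kernel

theorem vStd_off : ∀ i : GolayPt, i ≠ none → vStd i = 1 := by decide +kernel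

theorem aStd_off : ∀ i : GolayPt, i ≠ none → i ≠ pt 0 → aStd i = 0 := by decide +kernel

theorem tStd_off : ∀ i : GolayPt, i ≠ none → i ≠ pt 0 → tStd i = 0 := by decide +kernel

theorem card_stab_shell {n : ℤ} {a : GolayPt → ℤ} (h : ∀ x, x ∈ leechLattice → sqNorm x = n → Eqv x a)
    (v : ↥leechLattice) (hv : sqNorm (v : GolayPt → ℤ) = n) {k : ℕ}
    (hk : {w : ↥leechLattice | sqNorm (w : GolayPt → ℤ) = n}.ncard = k) :
    k * Nat.card ↥(MulAction.stabilizer ↥Co0 v) = 8315553613086720000 := by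
  rw [← co0_card, ← Subgroup.index_mul_card (MulAction.stabilizer ↥Co0 v), MulAction.index_stabilizer,
    orbit_shell h v hv, hk]

theorem card_co2 {v : ↥leechLattice} (hv : sqNorm (v : GolayPt → ℤ) = 32) :
    Nat.card ↥(MulAction.stabilizer ↥Co0 v) = 42305421312000 := by
  have := card_stab_shell (fun _ a b => eqv32 a b) v hv shell32
  omega

theorem card_co3 {v : ↥leechLattice} (hv : sqNorm (v : GolayPt → ℤ) = 48) :
    Nat.card ↥(MulAction.stabilizer ↥Co0 v) = 495766656000 := by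
  have := card_stab_shell (fun _ a b => eqv48 a b) v hv shell48
  omega

theorem card_inf_std {x : ↥leechLattice} {d : ℤ} (hd : d = 24 ∨ d = 16) (hx : sqNorm (x : GolayPt → ℤ) = 32)
    (hux : dotInt uStd (x : GolayPt → ℤ) = d) {P : (GolayPt → ℤ) → Prop}
    (hP : ∀ y, P y ↔ y ∈ leechLattice ∧ sqNorm y = 32 ∧ dotInt uStd y = d) {k : ℕ} (hk : {y | P y}.ncard = k) :
    16773120 * k * Nat.card ↥(MulAction.stabilizer ↥Co0 (⟨uStd, uStd_mem⟩ : ↥leechLattice) ⊓
      MulAction.stabilizer ↥Co0 x) = 8315553613086720000 := by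
  set u : ↥leechLattice := ⟨uStd, uStd_mem⟩
  have horb : MulAction.orbit ↥(MulAction.stabilizer ↥Co0 u) x =
      {y : ↥leechLattice | sqNorm (y : GolayPt → ℤ) = 32 ∧ dotInt uStd (y : GolayPt → ℤ) = d} := by
    ext y
    constructor
    · rintro ⟨⟨g, hg⟩, rfl⟩
      refine ⟨(aut_norm g x).trans hx, ?_⟩
      have := aut_dot g u x
      rw [show g • u = u from hg] at this
      exact this.trans hux
    · rintro ⟨h1, h2⟩
      obtain ⟨g, g1, g2⟩ := config_pairs (u := u) hd std_facts.2.2.2.1 hx hux (u' := u) (x' := y) std_facts.2.2.2.1 h1 h2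
      exact ⟨⟨g, g1⟩, g2⟩
  have hcount : {y : ↥leechLattice | sqNorm (y : GolayPt → ℤ) = 32 ∧ dotInt uStd (y : GolayPt → ℤ) = d}.ncard = k := by
    refine (image_count (k := 1) (P := P) (fun y hy => ((hP y).mp hy).1) fun y => ?_).trans hk
    rw [one_smul, hP]
    exact ⟨fun h => ⟨y.2, h⟩, fun h => h.2⟩
  have h := card_two_step u x
  rw [orbit_shell (fun _ a b => eqv48 a b) u std_facts.2.2.2.1, shell48, horb, hcount, co0_card] at h
  exact h.symm

theorem is24_iff (y : GolayPt → ℤ) : Is24 y ↔ y ∈ leechLattice ∧ sqNorm y = 32 ∧ dotInt uStd y = 24 :=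
  ⟨Is24.facts, fun h => (classify_dot h.1 h.2.1).1 h.2.2⟩

theorem is16_iff (y : GolayPt → ℤ) : Is16 y ↔ y ∈ leechLattice ∧ sqNorm y = 32 ∧ dotInt uStd y = 16 :=
  ⟨Is16.facts, fun h => (classify_dot h.1 h.2.1).2 h.2.2⟩

theorem card_mcl : Nat.card ↥(MulAction.stabilizer ↥Co0 (⟨uStd, uStd_mem⟩ : ↥leechLattice) ⊓
    MulAction.stabilizer ↥Co0 (⟨aStd, aStd_mem⟩ : ↥leechLattice)) = 898128000 := by
  have := card_inf_std (x := ⟨aStd, aStd_mem⟩) (Or.inl rfl) std_facts.2.2.2.2.1 std_facts.2.2.2.2.2.2.1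
    (P := Is24) is24_iff is24_count
  omega

theorem card_hs : Nat.card ↥(MulAction.stabilizer ↥Co0 (⟨uStd, uStd_mem⟩ : ↥leechLattice) ⊓
    MulAction.stabilizer ↥Co0 (⟨tStd, tStd_mem⟩ : ↥leechLattice)) = 44352000 := by
  have := card_inf_std (x := ⟨tStd, tStd_mem⟩) (Or.inr rfl) std_facts.2.2.2.2.2.1 std_facts.2.2.2.2.2.2.2
    (P := Is16) is16_iff is16_count
  omega

theorem index_of_mul {G : Subgroup ↥Co0} {M : Subgroup ↥Co0} (h : M ≤ G) {m n k : ℕ} (hM : Nat.card ↥M = m)
    (hG : Nat.card ↥G = n) (hk : n = m * k) (hm : 0 < m) : (M.subgroupOf G).index = k := by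
  have h1 := Subgroup.card_mul_index (M.subgroupOf G)
  rw [Nat.card_congr (Subgroup.subgroupOfEquivOfLe h).toEquiv, hM, hG, hk] at h1
  exact Nat.eq_of_mul_eq_mul_left hm h1

theorem card_map_perm (M0 : Subgroup ↥M24) : Nat.card ↥(M0.map permHom) = Nat.card ↥M0 :=
  Subgroup.card_map_of_injective permHom_injective

end CfsgLeech
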