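/-
The stabilisers of one or two short vectors are simple.
-/
import Cfsg.Agent.Lib.Leech.StabSimple

set_option autoImplicit false

namespace CfsgLeech

open Cfsg CfsgGolay
open scoped Pointwise

attribute [local irreducible] codeL octadL dodecadL slpCodes

/-- The code of a permutation with one fixed point and one cycle of length 23. -/
def c23 : ℕ := 957179775508106065141594510856297994

/-- The code of a permutation with two fixed points and two cycles of length 11. -/
def c11 : ℕ := 958873183716461163563352673855455776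

theorem c_facts : (permOK c23 = true ∧ gensKept c23 = true ∧ papp c23 23 = 23 ∧
      (((List.range 24).all fun i => Nat.beq ((papp c23)^[23] i) i) = true) ∧
      (((List.range 24).all fun i => Nat.blt (papp c23 i) 24) = true) ∧ papp c23 0 ≠ 0 ∧
      (∀ i, i < 23 → ∃ k, k < 23 ∧ (papp c23)^[k] 0 = i)) ∧
    (permOK c11 = true ∧ gensKept c11 = true ∧ papp c11 23 = 23 ∧ papp c11 0 = 0 ∧
      (((List.range 24).all fun i => Nat.beq ((papp c11)^[11] i) i) = true) ∧
      (((List.range 24).all fun i => Nat.blt (papp c11 i) 24) = true) ∧ papp c11 1 ≠ 1 ∧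
      (∀ i, i < 23 → i ≠ 0 → ∃ k, k < 11 ∧ ((papp c11)^[k] 1 = i ∨ (papp c11)^[k] 3 = i))) := by
  decide +kernel

theorem pt23 : pt 23 = (none : GolayPt) := by decide +kernel

theorem exists_sigma23 : ∃ σ : ↥M24, Repr c23 σ.1 ∧ σ.1 none = none ∧ orderOf (permHom σ) = 23 := by
  obtain ⟨⟨hp, hg, h23, hpow, hlt, h0, -⟩, -⟩ := c_facts
  haveI : Fact (Nat.Prime 23) := ⟨by norm_num⟩
  obtain ⟨g, hr⟩ := exists_repr_of_permOK hp
  refine ⟨⟨g, mem_M24_of_gensKept hr hg⟩, hr, ?_, order_of_code hr hpow hlt ⟨0, by norm_num, h0⟩⟩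
  have h := hr.apply_pt (show 23 < 24 by norm_num)
  rwa [h23, pt23] at h

theorem exists_sigma11 : ∃ σ : ↥M24, Repr c11 σ.1 ∧ σ.1 none = none ∧ σ.1 (pt 0) = pt 0 ∧
    orderOf (permHom σ) = 11 := by
  obtain ⟨-, hp, hg, h23, h00, hpow, hlt, h1, -⟩ := c_facts
  haveI : Fact (Nat.Prime 11) := ⟨by norm_num⟩
  obtain ⟨g, hr⟩ := exists_repr_of_permOK hp
  refine ⟨⟨g, mem_M24_of_gensKept hr hg⟩, hr, ?_, ?_, order_of_code hr hpow hlt ⟨1, by norm_num, h1⟩⟩
  · have h := hr.apply_pt (show 23 < 24 by norm_num)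
    rwa [h23, pt23] at h
  · have h := hr.apply_pt (show 0 < 24 by norm_num)
    rwa [h00] at h

theorem shape23 {σ : ↥M24} (hσ : Repr c23 σ.1) {z : ↥leechLattice} (h : permHom σ • z = z) :
    ∀ i, i ≠ none → (z : GolayPt → ℤ) i = (z : GolayPt → ℤ) (pt 0) := by
  intro i hi
  have hlt : idx i < 23 := by
    have h1 := idx_lt i
    by_contra hh
    exact hi (by rw [← pt_idx i, show idx i = 23 by omega]; exact pt23)
  obtain ⟨k, -, hk⟩ := c_facts.1.2.2.2.2.2.2 _ hlt
  have h2 := (orbit_const hσ h (show 0 < 24 by norm_num) c_facts.1.1 k).2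
  rwa [hk, pt_idx] at h2

theorem shape11 {σ : ↥M24} (hσ : Repr c11 σ.1) {z : ↥leechLattice} (h : permHom σ • z = z) :
    ∀ i, i ≠ none → i ≠ pt 0 → (z : GolayPt → ℤ) i = (z : GolayPt → ℤ) (pt 1) ∨
      (z : GolayPt → ℤ) i = (z : GolayPt → ℤ) (pt 3) := by
  intro i hi hi0
  have hlt : idx i < 23 := by
    have h1 := idx_lt i
    by_contra hh
    exact hi (by rw [← pt_idx i, show idx i = 23 by omega]; exact pt23)
  obtain ⟨k, -, hk⟩ := c_facts.2.2.2.2.2.2.2.2 _ hlt (fun e => hi0 (by rw [← pt_idx i, e]))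
  rcases hk with hk | hk
  · have h2 := (orbit_const hσ h (show 1 < 24 by norm_num) c_facts.2.1 k).2
    rw [hk, pt_idx] at h2
    exact Or.inl h2
  · have h2 := (orbit_const hσ h (show 3 < 24 by norm_num) c_facts.2.1 k).2
    rw [hk, pt_idx] at h2
    exact Or.inr h2

theorem sum_split_one (g : GolayPt → ℤ) : ∑ i, g i = g none + ∑ i ∈ Finset.univ.erase none, g i :=
  (Finset.add_sum_erase _ _ (Finset.mem_univ none)).symm

theorem erase_none_card : (Finset.univ.erase (none : GolayPt)).card = 23 := by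
  rw [Finset.card_erase_of_mem (Finset.mem_univ _), Finset.card_univ, card_univ_pt]

theorem axis_dot (f : GolayPt → ℤ) : dotInt f (ax none : GolayPt → ℤ) = 8 * f none := by
  rw [ax_coe, dotInt, Finset.sum_eq_single none (fun b _ hb => by simp [hb]) (fun h => absurd (Finset.mem_univ _) h),
    Pi.single_eq_same]
  ring

theorem eq_axis {z : ↥leechLattice} (hn : (z : GolayPt → ℤ) none = 8)
    (hz : sqNorm (z : GolayPt → ℤ) = 64) : z = ax none := by
  refine Subtype.ext (funext fun i => ?_)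
  rw [ax_coe]
  by_cases hi : i = none
  · subst hi; simp [hn]
  · rw [Pi.single_eq_of_ne hi]
    rw [sqNorm, sum_split_one, hn] at hz
    have h0 := (Finset.sum_eq_zero_iff_of_nonneg fun j _ => sq_nonneg ((z : GolayPt → ℤ) j)).mp
      (by linarith : ∑ j ∈ Finset.univ.erase none, (z : GolayPt → ℤ) j ^ 2 = 0) i (by simp [hi])
    exact pow_eq_zero_iff (n := 2) (by norm_num) |>.mp h0

theorem uniq23 {σ : ↥M24} (hσ : Repr c23 σ.1) {z : ↥leechLattice} (h : permHom σ • z = z)
    (hz : sqNorm (z : GolayPt → ℤ) = 64) {f : GolayPt → ℤ} {a : ℤ} (hfn : f none = a)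
    (hf : ∀ i, i ≠ none → f i = 1) (hd : dotInt f (z : GolayPt → ℤ) = dotInt f (ax none : GolayPt → ℤ))
    (ha : a = 5 ∨ a = -3) : z = ax none := by
  set x := (z : GolayPt → ℤ)
  set b := x (pt 0)
  have hs : ∀ i, i ≠ none → x i = b := shape23 hσ h
  have e1 : sqNorm x = x none ^ 2 + 23 * b ^ 2 := by
    rw [sqNorm, sum_split_one, Finset.sum_congr rfl (fun i hi => by rw [hs i (Finset.ne_of_mem_erase hi)]),
      Finset.sum_const, erase_none_card, nsmul_eq_mul]
    norm_num
  have e2 : dotInt f x = a * x none + 23 * b := by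
    rw [dotInt, sum_split_one, hfn, Finset.sum_congr rfl (fun i hi => by
      rw [hs i (Finset.ne_of_mem_erase hi), hf i (Finset.ne_of_mem_erase hi), one_mul]),
      Finset.sum_const, erase_none_card, nsmul_eq_mul]
    norm_num
  rw [e2, axis_dot, hfn] at hd
  have hz' : x none ^ 2 + 23 * b ^ 2 = 64 := e1.symm.trans hz
  suffices e : x none = 8 from eq_axis e hz
  have hb : -1 ≤ b ∧ b ≤ 1 := ⟨by nlinarith, by nlinarith⟩
  rcases (show b = -1 ∨ b = 0 ∨ b = 1 by omega) with e | e | e <;> rcases ha with rfl | rfl <;>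
    rw [e] at hd <;> omega

theorem uniq11 {σ : ↥M24} (hσ : Repr c11 σ.1) {z : ↥leechLattice} (h : permHom σ • z = z)
    (hz : sqNorm (z : GolayPt → ℤ) = 64) {g : GolayPt → ℤ} {b : ℤ} (hg : g none = 4) (hg0 : g (pt 0) = b)
    (hgo : ∀ i, i ≠ none → i ≠ pt 0 → g i = 0) (hb : b = 4 ∨ b = -4)
    (hd : dotInt uStd (z : GolayPt → ℤ) = dotInt uStd (ax none : GolayPt → ℤ))
    (hd' : dotInt g (z : GolayPt → ℤ) = dotInt g (ax none : GolayPt → ℤ)) : z = ax none := by
  set x := (z : GolayPt → ℤ)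
  set S := (Finset.univ.erase (none : GolayPt)).erase (pt 0)
  have hS : ∀ i ∈ S, i ≠ none ∧ i ≠ pt 0 := fun i hi =>
    ⟨Finset.ne_of_mem_erase (Finset.mem_of_mem_erase hi), Finset.ne_of_mem_erase hi⟩
  have hp0 : pt 0 ≠ (none : GolayPt) := by decide +kernel
  have split : ∀ w : GolayPt → ℤ, ∑ i, w i = w none + (w (pt 0) + ∑ i ∈ S, w i) := fun w => by
    rw [sum_split_one, ← Finset.add_sum_erase (Finset.univ.erase none) w
      (Finset.mem_erase.mpr ⟨hp0, Finset.mem_univ _⟩)]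
  have hshape : ∀ i, i ≠ none → i ≠ pt 0 → x i = x (pt 1) ∨ x i = x (pt 3) := shape11 hσ h
  set A := S.filter fun i => x i = x (pt 1) with hA
  set B := S.filter fun i => ¬ x i = x (pt 1) with hB
  have hAB : ∀ w : GolayPt → ℤ, ∑ i ∈ S, w i = ∑ i ∈ A, w i + ∑ i ∈ B, w i := fun w =>
    (Finset.sum_filter_add_sum_filter_not S _ w).symm
  have hBv : ∀ i ∈ B, x i = x (pt 3) := fun i hi => by
    obtain ⟨h1, h2⟩ := Finset.mem_filter.mp hi
    exact (hshape i (hS i h1).1 (hS i h1).2).resolve_left h2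
  have hAv : ∀ i ∈ A, x i = x (pt 1) := fun i hi => (Finset.mem_filter.mp hi).2
  rw [axis_dot, show uStd none = 5 by decide +kernel] at hd
  rw [axis_dot, hg] at hd'
  have e2 : dotInt g x = 4 * x none + b * x (pt 0) := by
    rw [dotInt, split, hg, hg0, Finset.sum_eq_zero fun i hi => by rw [hgo i (hS i hi).1 (hS i hi).2, zero_mul]]
    ring
  have e3 : dotInt uStd x = 5 * x none + x (pt 0) + ∑ i ∈ S, x i := by
    rw [dotInt, split, show uStd none = 5 by decide +kernel, uStd_off _ hp0,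
      Finset.sum_congr rfl (fun i hi => by rw [uStd_off i (hS i hi).1, one_mul])]
    ring
  have e4 : sqNorm x = x none ^ 2 + x (pt 0) ^ 2 + ∑ i ∈ S, x i ^ 2 := by
    rw [sqNorm, split]; ring
  rw [e2] at hd'
  rw [e3] at hd
  have hz' := e4.symm.trans hz
  -- the sum over the remaining points is divisible by 11
  have h11 : (11 : ℤ) ∣ ∑ i ∈ S, x i := by
    have horbit : A.card = 22 ∨ A.card = 11 := by
      have h1 : ∀ j : GolayPt, j ∈ S → j ∈ A ∨ j ∈ B := fun j hj => by
        by_cases hx : x j = x (pt 1)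
        · exact Or.inl (Finset.mem_filter.mpr ⟨hj, hx⟩)
        · exact Or.inr (Finset.mem_filter.mpr ⟨hj, hx⟩)
      have hScard : S.card = 22 := by
        rw [Finset.card_erase_of_mem (Finset.mem_erase.mpr ⟨hp0, Finset.mem_univ _⟩), erase_none_card]
      by_cases he : x (pt 3) = x (pt 1)
      · left
        rw [← hScard]
        congr 1
        refine Finset.filter_true_of_mem fun i hi => ?_
        rcases hshape i (hS i hi).1 (hS i hi).2 with e | e
        · exact e
        · rw [e, he]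
      · right
        have : A = S.filter fun i => ((List.range 11).any fun k => Nat.beq ((papp c11)^[k] 1) (idx i)) = true := by
          refine Finset.filter_congr fun i hi => ?_
          have hlt : idx i < 23 := by
            have h1 := idx_lt i
            by_contra hh
            exact (hS i hi).1 (by rw [← pt_idx i, show idx i = 23 by omega]; exact pt23)
          simp only [List.any_eq_true, List.mem_range, Nat.beq_eq]
          constructor
          · intro hx
            obtain ⟨k, hk, hk'⟩ := c_facts.2.2.2.2.2.2.2.2 _ hlt (fun e => (hS i hi).2 (by rw [← pt_idx i, e]))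
            rcases hk' with hk' | hk'
            · exact ⟨k, hk, hk'⟩
            · exfalso
              have h2 := (orbit_const hσ h (show 3 < 24 by norm_num) c_facts.2.1 k).2
              rw [hk', pt_idx] at h2
              exact he (h2.symm.trans hx)
          · rintro ⟨k, -, hk⟩
            have h2 := (orbit_const hσ h (show 1 < 24 by norm_num) c_facts.2.1 k).2
            rwa [hk, pt_idx] at h2
        rw [this]
        decide +kernel
    have hScard : S.card = 22 := by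
      rw [Finset.card_erase_of_mem (Finset.mem_erase.mpr ⟨hp0, Finset.mem_univ _⟩), erase_none_card]
    have hsum := Finset.card_filter_add_card_filter_not (s := S) fun i => x i = x (pt 1)
    rw [← hA, ← hB, hScard] at hsum
    rw [hAB, Finset.sum_congr rfl hAv, Finset.sum_congr rfl hBv, Finset.sum_const, Finset.sum_const,
      nsmul_eq_mul, nsmul_eq_mul]
    rcases horbit with e | e
    · rw [e, show B.card = 0 by omega]; norm_num; exact Dvd.intro _ (by ring : (11 : ℤ) * (2 * x (pt 1)) = _)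
    · rw [e, show B.card = 11 by omega]; exact ⟨x (pt 1) + x (pt 3), by push_cast; ring⟩
  obtain ⟨t, ht⟩ := h11
  have hge : 0 ≤ ∑ i ∈ S, x i ^ 2 := Finset.sum_nonneg fun i _ => sq_nonneg _
  suffices e : x none = 8 from eq_axis e hz
  rw [ht] at hd
  rcases hb with rfl | rfl
  · have hp : x (pt 0) = 8 - x none := by omega
    rw [hp] at hz' hd
    have h8 : 0 ≤ x none ∧ x none ≤ 8 := ⟨by nlinarith, by nlinarith⟩
    omega
  · have hp : x (pt 0) = x none - 8 := by omega
    rw [hp] at hz' hd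
    have h8 : 0 ≤ x none ∧ x none ≤ 8 := ⟨by nlinarith, by nlinarith⟩
    omega

theorem no_prime_part {n p m : ℕ} (hn : n ∣ m) (hm : m ≠ 0)
    (h : ∀ q : ℕ, q.Prime → q ^ n.factorization q ≡ 1 [MOD p])
    (hbad : ∀ q e : ℕ, q.Prime → q ^ e ∣ m → 0 < e → ¬ q ^ e ≡ 1 [MOD p]) : n = 1 := by
  by_contra hne
  obtain ⟨q, hq, hdvd⟩ := Nat.exists_prime_and_dvd hne
  have hn0 : n ≠ 0 := fun e => hm (by subst e; simpa using hn)
  exact hbad q _ hq ((Nat.ordProj_dvd n q).trans hn) (Nat.Prime.factorization_pos_of_dvd hq hn0 hdvd) (h q hq)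

theorem bad_co3 : ∀ q e : ℕ, q.Prime → q ^ e ∣ 48600 → 0 < e → ¬ q ^ e ≡ 1 [MOD 23] := by
  intro q e hq hd he
  have h1 : q ∣ 48600 := (dvd_pow_self q he.ne').trans hd
  rw [show (48600 : ℕ) = 2 ^ 3 * 3 ^ 5 * 5 ^ 2 by norm_num] at h1
  rcases (show q = 2 ∨ q = 3 ∨ q = 5 by
    rcases hq.dvd_mul.mp h1 with h | h
    · rcases hq.dvd_mul.mp h with h | h
      · exact Or.inl ((Nat.prime_dvd_prime_iff_eq hq Nat.prime_two).mp (hq.dvd_of_dvd_pow h))
      · exact Or.inr (Or.inl ((Nat.prime_dvd_prime_iff_eq hq Nat.prime_three).mp (hq.dvd_of_dvd_pow h)))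
    · exact Or.inr (Or.inr ((Nat.prime_dvd_prime_iff_eq hq Nat.prime_five).mp (hq.dvd_of_dvd_pow h)))) with
    rfl | rfl | rfl <;>
  · have hb : e < 16 := by
      by_contra hge
      have h2 := Nat.le_of_dvd (by norm_num) hd
      have h3 := Nat.pow_le_pow_right (show 1 ≤ 2 by norm_num) (not_lt.mp hge)
      have h4 := Nat.pow_le_pow_left (show 2 ≤ _ from hq.two_le) e
      omega
    interval_cases e <;> revert hd <;> decide +kernel

theorem bad_pair (m : ℕ) (hm : m = 2025 ∨ m = 100) :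
    ∀ q e : ℕ, q.Prime → q ^ e ∣ m → 0 < e → ¬ q ^ e ≡ 1 [MOD 11] := by
  intro q e hq hd he
  have hlt : q ^ e ≤ 2025 ∧ q ^ e ∣ 3 ^ 4 * 5 ^ 2 * 2 ^ 2 := by
    rcases hm with rfl | rfl
    · exact ⟨Nat.le_of_dvd (by norm_num) hd, hd.trans (by norm_num)⟩
    · exact ⟨(Nat.le_of_dvd (by norm_num) hd).trans (by norm_num), hd.trans (by norm_num)⟩
  have h1 : q ∣ 3 ^ 4 * 5 ^ 2 * 2 ^ 2 := (dvd_pow_self q he.ne').trans hlt.2
  rcases (show q = 2 ∨ q = 3 ∨ q = 5 by
    rcases hq.dvd_mul.mp h1 with h | h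
    · rcases hq.dvd_mul.mp h with h | h
      · exact Or.inr (Or.inl ((Nat.prime_dvd_prime_iff_eq hq Nat.prime_three).mp (hq.dvd_of_dvd_pow h)))
      · exact Or.inr (Or.inr ((Nat.prime_dvd_prime_iff_eq hq Nat.prime_five).mp (hq.dvd_of_dvd_pow h)))
    · exact Or.inl ((Nat.prime_dvd_prime_iff_eq hq Nat.prime_two).mp (hq.dvd_of_dvd_pow h))) with
    rfl | rfl | rfl <;>
  · have hb : e < 11 := by
      by_contra hge
      have h3 := Nat.pow_le_pow_right (show 1 ≤ 2 by norm_num) (not_lt.mp hge)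
      have h4 := Nat.pow_le_pow_left (show 2 ≤ _ from hq.two_le) e
      omega
    rcases hm with rfl | rfl <;> interval_cases e <;> revert hd <;> decide +kernel

theorem mem_stab_inf {g : ↥Co0} {v w : ↥leechLattice} :
    g ∈ MulAction.stabilizer ↥Co0 v ⊓ MulAction.stabilizer ↥Co0 w ↔ g • v = v ∧ g • w = w := Iff.rfl

theorem co3_simple : IsSimpleGroup ↥(MulAction.stabilizer ↥Co0 (⟨uStd, uStd_mem⟩ : ↥leechLattice)) := by
  haveI : Fact (Nat.Prime 23) := ⟨by norm_num⟩
  obtain ⟨σ, hr, hn, ho⟩ := exists_sigma23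
  have hle : (MulAction.stabilizer ↥M24 (none : GolayPt)).map permHom ≤
      MulAction.stabilizer ↥Co0 (⟨uStd, uStd_mem⟩ : ↥leechLattice) := by
    rintro _ ⟨τ, hτ, rfl⟩
    exact fix_const_off hτ (f := ⟨uStd, uStd_mem⟩) uStd_off
  refine simple_in_co0 hle (isSimple_pointStab none) hn ho hn
    (by rw [card_co3 std_facts.2.2.2.1]; norm_num) ?_ ?_ ?_
  · intro z h1 h2 h3
    exact uniq23 hr h1 h2 (f := uStd) (a := 5) (by decide +kernel) uStd_off
      (h3 ⟨uStd, uStd_mem⟩ fun g hg => hg) (Or.inl rfl)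
  · intro g hg hax
    obtain ⟨τ, hτ, rfl⟩ := axis_perm hax (f := ⟨uStd, uStd_mem⟩) uStd_off hg
    exact ⟨τ, hτ, rfl⟩
  · intro N _ _ hd hc
    haveI := co0_finite
    rw [index_of_mul hle ((card_map_perm _).trans (card_pointStab none)) (card_co3 std_facts.2.2.2.1)
      (k := 48600) (by norm_num) (by norm_num)] at hd
    exact Subgroup.eq_bot_of_card_eq N (no_prime_part hd (by norm_num) hc bad_co3)

theorem pair_simple {g : GolayPt → ℤ} (hgL : g ∈ leechLattice) {b : ℤ} (hg : g none = 4) (hg0 : g (pt 0) = b)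
    (hgo : ∀ i, i ≠ none → i ≠ pt 0 → g i = 0) (hb : b = 4 ∨ b = -4) {n : ℕ}
    (hcard : Nat.card ↥(MulAction.stabilizer ↥Co0 (⟨uStd, uStd_mem⟩ : ↥leechLattice) ⊓
      MulAction.stabilizer ↥Co0 (⟨g, hgL⟩ : ↥leechLattice)) = 443520 * n) (hn : n = 2025 ∨ n = 100) :
    IsSimpleGroup ↥(MulAction.stabilizer ↥Co0 (⟨uStd, uStd_mem⟩ : ↥leechLattice) ⊓
      MulAction.stabilizer ↥Co0 (⟨g, hgL⟩ : ↥leechLattice)) := by
  haveI : Fact (Nat.Prime 11) := ⟨by norm_num⟩
  obtain ⟨σ, hr, hσn, hσ0, ho⟩ := exists_sigma11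
  have hne : (none : GolayPt) ≠ pt 0 := by decide +kernel
  have hle : (MulAction.stabilizer ↥M24 (none : GolayPt) ⊓ MulAction.stabilizer ↥M24 (pt 0)).map permHom ≤
      MulAction.stabilizer ↥Co0 (⟨uStd, uStd_mem⟩ : ↥leechLattice) ⊓
        MulAction.stabilizer ↥Co0 (⟨g, hgL⟩ : ↥leechLattice) := by
    rintro _ ⟨τ, hτ, rfl⟩
    exact ⟨fix_const_off hτ.1 (f := ⟨uStd, uStd_mem⟩) uStd_off, fix_on_two hτ.1 hτ.2 (f := ⟨g, hgL⟩) hgo⟩
  refine simple_in_co0 hle (isSimple_pairStab hne) (show σ ∈ _ from ⟨hσn, hσ0⟩) ho hσn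
    (by rw [hcard]; rcases hn with rfl | rfl <;> norm_num) ?_ ?_ ?_
  · intro z h1 h2 h3
    exact uniq11 hr h1 h2 hg hg0 hgo hb (h3 ⟨uStd, uStd_mem⟩ fun k hk => hk.1) (h3 ⟨g, hgL⟩ fun k hk => hk.2)
  · rintro k ⟨hk1, hk2⟩ hax
    obtain ⟨τ, hτ, rfl⟩ := axis_perm hax (f := ⟨uStd, uStd_mem⟩) uStd_off hk1
    refine ⟨τ, ⟨hτ, ?_⟩, rfl⟩
    have h1 := congrFun (congrArg Subtype.val hk2) (τ.1 (pt 0))
    rw [permHom_apply, Equiv.symm_apply_apply] at h1
    change g (pt 0) = g (τ.1 (pt 0)) at h1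
    by_contra hne'
    have : g (τ.1 (pt 0)) = 0 := hgo _ (fun e => hne (τ.1.injective (hτ.trans e.symm))) hne'
    rw [this, hg0] at h1
    rcases hb with rfl | rfl <;> norm_num at h1
  · intro N _ _ hd hc
    haveI := co0_finite
    rw [index_of_mul hle ((card_map_perm _).trans (card_pairStab hne)) hcard rfl (by norm_num)] at hd
    exact Subgroup.eq_bot_of_card_eq N (no_prime_part hd (by rcases hn with rfl | rfl <;> norm_num) hc
      (bad_pair n hn))

theorem mcl_simple : IsSimpleGroup ↥(MulAction.stabilizer ↥Co0 (⟨uStd, uStd_mem⟩ : ↥leechLattice) ⊓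
    MulAction.stabilizer ↥Co0 (⟨aStd, aStd_mem⟩ : ↥leechLattice)) :=
  pair_simple aStd_mem (b := 4) (by decide +kernel) (by decide +kernel) aStd_off (Or.inl rfl)
    (n := 2025) (card_mcl.trans (by norm_num)) (Or.inl rfl)

theorem hs_simple : IsSimpleGroup ↥(MulAction.stabilizer ↥Co0 (⟨uStd, uStd_mem⟩ : ↥leechLattice) ⊓
    MulAction.stabilizer ↥Co0 (⟨tStd, tStd_mem⟩ : ↥leechLattice)) :=
  pair_simple tStd_mem (b := -4) (by decide +kernel) (by decide +kernel) tStd_off (Or.inr rfl)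
    (n := 100) (card_hs.trans (by norm_num)) (Or.inr rfl)

end CfsgLeech
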