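/-
Words witnessing that the cross stabiliser is maximal.
-/
import Cfsg.Agent.Lib.Leech.Words

set_option autoImplicit false

namespace CfsgLeech

open Cfsg CfsgGolay

attribute [local irreducible] codeL octadL dodecadL slpCodes

/-- A word carrying the axis into `A`, followed by a monomial step and the word again, ends in `B`. -/
def Hop (A B : Set (GolayPt → ℤ)) : Prop :=
  ∃ (w : List Step) (c m : ℕ) (r y : GolayPt → ℤ), wordOK w = true ∧ wordOK [some (c, m)] = true ∧
    r ∈ A ∧ y ∈ B ∧ runW w (Pi.single none 8) = r ∧ runW w (stepF (some (c, m)) r) = y

theorem hop_e82 : Hop (evSet 8 2) (evSet 0 4) :=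
  ⟨[some (919508959447245862267865661373199863, 14687693), none, some (884887902654111241039959180624015088, 16162027), none], 693299132906676019122457317834365674, 2523006, ev (toSet 8536111) (toSet 2304) (toSet 2058), ev (toSet 0) (toSet 204832) (toSet 196608),
    (by decide +kernel), (by decide +kernel), mem_evSet.mpr ⟨_, _, _, (toSet_mem_CW (m := 8536111) (by decide +kernel)), (by decide +kernel), (by decide +kernel), (by decide +kernel), (by decide +kernel), (by decide +kernel), rfl⟩, mem_evSet.mpr ⟨_, _, _, (toSet_mem_CW (m := 0) (by decide +kernel)), (by decide +kernel), (by decide +kernel), (by decide +kernel), (by decide +kernel), (by decide +kernel), rfl⟩,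
    funext fun i => by revert i; decide +kernel, funext fun i => by revert i; decide +kernel⟩

theorem hop_o5 : Hop (odSet (-1) 5) (evSet 8 2) :=
  ⟨[some (17043967569808427306299818853341238, 12454951), none, some (333892138275762120516788952874013059, 13396944), none, some (3988680736797646529671070315367735, 10575474), none], 52345968523150658089000305976659177, 13052739, od (-1) (toSet 13084293) (toSet 575489), ev (toSet 75309) (toSet 4098) (toSet 1065),
    (by decide +kernel), (by decide +kernel), mem_odSet.mpr ⟨_, _, (toSet_mem_CW (m := 13084293) (by decide +kernel)), (by decide +kernel), rfl⟩, mem_evSet.mpr ⟨_, _, _, (toSet_mem_CW (m := 75309) (by decide +kernel)), (by decide +kernel), (by decide +kernel), (by decide +kernel), (by decide +kernel), (by decide +kernel), rfl⟩,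
    funext fun i => by revert i; decide +kernel, funext fun i => by revert i; decide +kernel⟩

theorem hop_e121 : Hop (evSet 12 1) (evSet 8 2) :=
  ⟨[some (147996049124485933500469847045872115, 109547), none, some (790062013101464443620367846040214222, 9471495), none, some (238046457598057707540582399593491987, 12876949), none], 13557788617225457877382291811581092, 9328263, ev (toSet 10643065) (toSet 65536) (toSet 8594448), ev (toSet 2854977) (toSet 1280) (toSet 2261249),
    (by decide +kernel), (by decide +kernel), mem_evSet.mpr ⟨_, _, _, (toSet_mem_CW (m := 10643065) (by decide +kernel)), (by decide +kernel), (by decide +kernel), (by decide +kernel), (by decide +kernel), (by decide +kernel), rfl⟩, mem_evSet.mpr ⟨_, _, _, (toSet_mem_CW (m := 2854977) (by decide +kernel)), (by decide +kernel), (by decide +kernel), (by decide +kernel), (by decide +kernel), (by decide +kernel), rfl⟩,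
    funext fun i => by revert i; decide +kernel, funext fun i => by revert i; decide +kernel⟩

theorem hop_six : Hop (sixSet) (evSet 12 1) :=
  ⟨[some (646708897881562967101622389114873873, 761641), none, some (384851407991930514029086586199218903, 2214750), none], 388212316982479332471174748461303468, 12553970, ev (toSet 4536592) {(pt 16)} (toSet 4456464), ev (toSet 12117352) (toSet 1) (toSet 2131209),
    (by decide +kernel), (by decide +kernel), mem_sixSet.mpr ⟨_, _, _, (toSet_mem_CW (m := 4536592) (by decide +kernel)), (by decide +kernel), (by decide +kernel), (by decide +kernel), (by decide +kernel), rfl⟩, mem_evSet.mpr ⟨_, _, _, (toSet_mem_CW (m := 12117352) (by decide +kernel)), (by decide +kernel), (by decide +kernel), (by decide +kernel), (by decide +kernel), (by decide +kernel), rfl⟩,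
    funext fun i => by revert i; decide +kernel, funext fun i => by revert i; decide +kernel⟩

theorem hop_mix : Hop (mixSet) (evSet 12 1) :=
  ⟨[some (879335768959252458190718030831759496, 11139408), none, some (931594553849578450537694501245289796, 2463951), none, some (483046518595030112489445281712383682, 11807866), none], 306772797925995946541042106658935376, 4963416, od2 (toSet 7922514) (pt 13) {(pt 6), (pt 16)}, ev (toSet 3334270) (toSet 512) (toSet 3334228),
    (by decide +kernel), (by decide +kernel), mem_mixSet.mpr ⟨_, _, _, (toSet_mem_CW (m := 7922514) (by decide +kernel)), (by decide +kernel), (by decide +kernel), rfl⟩, mem_evSet.mpr ⟨_, _, _, (toSet_mem_CW (m := 3334270) (by decide +kernel)), (by decide +kernel), (by decide +kernel), (by decide +kernel), (by decide +kernel), (by decide +kernel), rfl⟩,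
    funext fun i => by revert i; decide +kernel, funext fun i => by revert i; decide +kernel⟩

end CfsgLeech
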