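/-
Shapes as orbits of the monomial maps alone.
-/
import Cfsg.Agent.Lib.Leech.ShapeOrbits

set_option autoImplicit false

namespace CfsgLeech

open Cfsg CfsgGolay
open scoped Pointwise

attribute [local irreducible] codeL octadL dodecadL slpCodes

/-- A monomial automorphism carries one vector to the other. -/
def EqvM (x y : GolayPt → ℤ) : Prop :=
  ∃ (σ : Equiv.Perm GolayPt) (c : Finset GolayPt), σ ∈ M24 ∧ c ∈ CW ∧ x ∈ leechLattice ∧ signedPerm σ c x = y

theorem EqvM.mk {σ : Equiv.Perm GolayPt} (hσ : σ ∈ M24) {c : Finset GolayPt} (hc : c ∈ CW) {x y : GolayPt → ℤ}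
    (hx : x ∈ leechLattice) (h : signedPerm σ c x = y) : EqvM x y :=
  ⟨σ, c, hσ, hc, hx, h⟩

theorem ev_eqv_std_m {U C p : ℕ} (hp : p < 24) (hpC : C = 0 ∨ C.testBit p = true) (hCU : C &&& U = C)
    (hB : signsB U C p = true) {T0 N0 : Finset GolayPt} (hU : toSet C ∪ T0 = toSet U) (hN0 : N0 ⊆ toSet U)
    {g : Equiv.Perm GolayPt} (hg : g ∈ M24) {N : Finset GolayPt} (hN : N ⊆ g • toSet C ∪ g • T0)
    (hpar : (N ∩ g • toSet C).card % 2 = (N0 ∩ toSet C).card % 2)
    (hmem : ev (g • toSet C) (g • T0) N ∈ leechLattice) :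
    EqvM (ev (g • toSet C) (g • T0) N) (ev (toSet C) T0 N0) := by
  set N1 := g⁻¹ • N with hN1
  have hc : g⁻¹ • (g • toSet C) = toSet C := inv_smul_smul g _
  have hT : g⁻¹ • (g • T0) = T0 := inv_smul_smul g _
  have hsub : symmDiff N1 N0 ⊆ toSet U := by
    intro a ha
    rcases Finset.mem_symmDiff.mp ha with ⟨h1, -⟩ | ⟨h1, -⟩
    · rw [hN1, ← mem_smul_symm] at h1
      have h2 := hN h1
      rw [← hU]
      rcases Finset.mem_union.mp h2 with h3 | h3
      · exact Finset.mem_union_left _ (hc ▸ (mem_smul_symm a).mp h3)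
      · exact Finset.mem_union_right _ (hT ▸ (mem_smul_symm a).mp h3)
    · exact hN0 h1
  have hcard : (N1 ∩ toSet C).card = (N ∩ g • toSet C).card := by
    conv_lhs => rw [← hc]
    rw [hN1, card_inter_smul']
  have hev : 2 ∣ (symmDiff N1 N0 ∩ toSet C).card := by
    have key : ∀ a, chi (N1 ∩ toSet C) a + chi (N0 ∩ toSet C) a =
        chi (symmDiff N1 N0 ∩ toSet C) a + 2 * chi ((N1 ∩ toSet C) ∩ N0) a := fun a => by
      by_cases h1 : a ∈ N1 <;> by_cases h2 : a ∈ N0 <;> by_cases h3 : a ∈ toSet C <;>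
        simp [chi, Finset.mem_symmDiff, h1, h2, h3]
    have hs := Finset.sum_congr rfl fun a (_ : a ∈ Finset.univ) => key a
    simp only [Finset.sum_add_distrib, ← Finset.mul_sum, sum_chi] at hs
    omega
  obtain ⟨e, he, heU⟩ := reach_signs hp hpC hCU hB hsub hev
  refine EqvM.mk (inv_mem hg) he hmem ?_
  rw [signedPerm_ev (N' := N0) hN, hc, hT]
  · rw [hc, hT, hU]; exact hN0
  · rw [hc, hT, hU, heU]

theorem ev04_std_m {x : GolayPt → ℤ} (h : x ∈ evSet 0 4) : EqvM x (ev ∅ (toSet 15) ∅) := by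
  have hmem := mem_leech.mpr (evSet_props h).1
  obtain ⟨c, T, N, -, hc, -, hT, hN, hp, rfl⟩ := mem_evSet.mp h
  obtain rfl := Finset.card_eq_zero.mp hc
  obtain ⟨g, hg, rfl⟩ := exists_smul_set (s := toSet 15) (t := T) (by omega) (by rw [hT]; rfl)
  have e0 : (∅ : Finset GolayPt) = toSet 0 := (toSet_zero_empty).symm
  have e1 : g • toSet 0 = (∅ : Finset GolayPt) := by rw [toSet_zero_empty, Finset.smul_finset_empty]
  have := ev_eqv_std_m (U := 15) (C := 0) (p := 0) (by norm_num) (Or.inl rfl) rfl signs_std.2.1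
    (T0 := toSet 15) (N0 := ∅) (by rw [toSet_zero_empty, Finset.empty_union]) (Finset.empty_subset _) hg (N := N)
    (by rw [e1]; exact hN) (by simp [toSet_zero_empty]) (by rw [e1]; exact hmem)
  rwa [e1, ← e0] at this

theorem ev82_std_m {x : GolayPt → ℤ} (h : x ∈ evSet 8 2) : EqvM x (ev O0 {pt 4, pt 6} ∅) := by
  have hmem := mem_leech.mpr (evSet_props h).1
  obtain ⟨c, T, N, hcw, hc, hdis, hT, hN, hp, rfl⟩ := mem_evSet.mp h
  obtain ⟨a, b, hab, rfl⟩ := Finset.card_eq_two.mp hT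
  obtain ⟨g, hg, rfl, rfl, rfl⟩ := octad_two_out (o := c) ⟨hcw, hc⟩ (p := a) (q := b)
    (Finset.disjoint_left.mp hdis (Finset.mem_insert_self _ _))
    (Finset.disjoint_left.mp hdis (Finset.mem_insert_of_mem (Finset.mem_singleton_self _))) hab
  have e1 : g • ({pt 4, pt 6} : Finset GolayPt) = {g (pt 4), g (pt 6)} := by
    rw [Finset.smul_finset_insert, Finset.smul_finset_singleton]; rfl
  have := ev_eqv_std_m (U := 8536111 ||| 80) (C := 8536111) (p := 23) (by norm_num) (Or.inr (by decide +kernel))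
    (by decide +kernel) signs_std.2.2.2.2.1 (T0 := {pt 4, pt 6}) (N0 := ∅) (by decide +kernel)
    (Finset.empty_subset _) hg (N := N) (by rw [e1]; exact hN)
    (show (N ∩ g • O0).card % 2 = _ by simp; omega) (by rw [e1]; exact hmem)
  rwa [e1] at this

theorem six_std_m {x : GolayPt → ℤ} (h : x ∈ sixSet) : EqvM x (ev O0 {pt 23} {pt 23}) := by
  have hmem := mem_leech.mpr (sixSet_props h).1
  obtain ⟨c, a, N, hcw, hc, hi, hN, hp, rfl⟩ := mem_sixSet.mp h
  obtain ⟨g, hg, rfl, rfl⟩ := cfgA (o := c) ⟨hcw, hc⟩ hi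
  have e1 : g • ({pt 23} : Finset GolayPt) = {g (pt 23)} := by
    rw [Finset.smul_finset_singleton]; rfl
  have := ev_eqv_std_m (U := 8536111) (C := 8536111) (p := 23) (by norm_num) (Or.inr (by decide +kernel))
    (Nat.and_self _) signs_std.2.2.1 (T0 := {pt 23}) (N0 := {pt 23}) (by decide +kernel) (by decide +kernel) hg
    (N := N) (by rw [e1]; exact hN.trans Finset.subset_union_left)
    (show (N ∩ g • O0).card % 2 = _ by rw [show ({pt 23} ∩ toSet 8536111 : Finset GolayPt).card = 1 by decide +kernel]; omega)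
    (by rw [e1]; exact hmem)
  rwa [e1] at this

theorem ev121_std_m {x : GolayPt → ℤ} (h : x ∈ evSet 12 1) : EqvM x (ev D0 {pt 5} {pt 0}) := by
  have hmem := mem_leech.mpr (evSet_props h).1
  obtain ⟨c, T, N, hcw, hc, hdis, hT, hN, hp, rfl⟩ := mem_evSet.mp h
  obtain ⟨a, rfl⟩ := Finset.card_eq_one.mp hT
  obtain ⟨g, hg, rfl, rfl⟩ := dodecad_one_out (d := c) ⟨hcw, hc⟩ (p := a) (Finset.disjoint_singleton_left.mp hdis)
  have e1 : g • ({pt 5} : Finset GolayPt) = {g (pt 5)} := by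
    rw [Finset.smul_finset_singleton]; rfl
  have := ev_eqv_std_m (U := 340831 ||| 32) (C := 340831) (p := 0) (by norm_num) (Or.inr (by decide +kernel))
    (by decide +kernel) signs_std.2.2.2.2.2.2 (T0 := {pt 5}) (N0 := {pt 0}) (by decide +kernel) (by decide +kernel) hg
    (N := N) (by rw [e1]; exact hN)
    (show (N ∩ g • D0).card % 2 = _ by rw [show ({pt 0} ∩ toSet 340831 : Finset GolayPt).card = 1 by decide +kernel]; omega)
    (by rw [e1]; exact hmem)
  rwa [e1] at this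

theorem od_std_m {s : ℤ} {k : ℕ} (hk : k ≤ 5) (hs : (2 : ℤ) ∣ s * k - 1) {x : GolayPt → ℤ} (h : x ∈ odSet s k)
    {T0 : Finset GolayPt} (hT0 : T0.card = k) : EqvM x (od s ∅ T0) := by
  have hmem := mem_leech.mpr ((odSet_props h).1 hs)
  obtain ⟨c, T, hc, hT, rfl⟩ := mem_odSet.mp h
  obtain ⟨g, hg, rfl⟩ := exists_smul_set (s := T) (t := T0) (by omega) (hT.trans hT0.symm)
  refine EqvM.mk hg ?_ hmem (signedPerm_od (c' := ∅))
  exact CW_symmDiff (image_mem_supports hg hc) CW_empty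

theorem mix_std_m {x : GolayPt → ℤ} (h : x ∈ mixSet) : EqvM x (od2 ∅ (pt 0) {pt 1, pt 2}) := by
  have hmem := mem_leech.mpr (mixSet_props h).1
  obtain ⟨c, i, T, hc, hT, hi, rfl⟩ := mem_mixSet.mp h
  obtain ⟨a, b, hab, rfl⟩ := Finset.card_eq_two.mp hT
  simp only [Finset.mem_insert, Finset.mem_singleton, not_or] at hi
  obtain ⟨g, hg, hgx⟩ := exists_M24_map (k := 3) (by norm_num)
    (⟨![i, a, b], by intro u v; fin_cases u <;> fin_cases v <;>
      simp [hab, hab.symm, hi.1, hi.2, Ne.symm hi.1, Ne.symm hi.2]⟩ : Fin 3 ↪ GolayPt)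
    (⟨![pt 0, pt 1, pt 2], by decide +kernel⟩ : Fin 3 ↪ GolayPt)
  have g0 : g i = pt 0 := hgx 0
  have g1 : g a = pt 1 := hgx 1
  have g2 : g b = pt 2 := hgx 2
  refine EqvM.mk hg (c := g • c) (image_mem_supports hg hc) hmem (funext fun p => ?_)
  obtain ⟨q, rfl⟩ := g.surjective p
  simp only [signedPerm, od2, chi, Equiv.symm_apply_apply, pt_mem_smul, Finset.mem_insert, Finset.mem_singleton,
    Finset.notMem_empty, if_false, ← g0, ← g1, ← g2, EmbeddingLike.apply_eq_iff_eq]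
  split_ifs <;> ring

theorem eight_std_m {x : GolayPt → ℤ} (h : x ∈ eightSet) : EqvM x (Pi.single none 8) := by
  have hmem := mem_leech.mpr (eightSet_props h).1
  obtain ⟨i, s, hs, rfl⟩ := mem_eightSet.mp h
  obtain ⟨g, hg, hgx⟩ := exists_M24_map (k := 1) (by norm_num)
    (⟨fun _ => i, fun u v _ => Subsingleton.elim u v⟩ : Fin 1 ↪ GolayPt)
    (⟨fun _ => none, fun u v _ => Subsingleton.elim u v⟩ : Fin 1 ↪ GolayPt)
  have g0 : g i = none := hgx 0
  rcases hs with rfl | rfl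
  · refine EqvM.mk hg CW_empty hmem (funext fun p => ?_)
    obtain ⟨q, rfl⟩ := g.surjective p
    simp only [signedPerm, Equiv.symm_apply_apply, Finset.notMem_empty, if_false, Pi.single_apply, ← g0,
      EmbeddingLike.apply_eq_iff_eq]
  · refine EqvM.mk hg CW_univ hmem (funext fun p => ?_)
    obtain ⟨q, rfl⟩ := g.surjective p
    simp only [signedPerm, Equiv.symm_apply_apply, Finset.mem_univ, if_true, Pi.single_apply, ← g0,
      EmbeddingLike.apply_eq_iff_eq]
    split_ifs <;> ring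

end CfsgLeech
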