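/-
The stabiliser of the standard cross is a maximal subgroup.
-/
import Cfsg.Agent.Lib.Leech.CrossStab
import Cfsg.Agent.Lib.Leech.MonOrbits
import Cfsg.Agent.Lib.Leech.MaxData

set_option autoImplicit false

namespace CfsgLeech

open Cfsg CfsgGolay
open scoped Pointwise

attribute [local irreducible] codeL octadL dodecadL slpCodes

/-- The vectors reached from the axis inside `K`. -/
def RK (K : Subgroup ↥Co0) (x : GolayPt → ℤ) : Prop :=
  ∃ k ∈ K, ((k • ax none : ↥leechLattice) : GolayPt → ℤ) = x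

variable {K : Subgroup ↥Co0}

theorem RK.mem {x : GolayPt → ℤ} (h : RK K x) : x ∈ leechLattice := by
  obtain ⟨k, -, rfl⟩ := h
  exact SetLike.coe_mem _

theorem RK.mon (hK : crossStab ≤ K) {x y : GolayPt → ℤ} (h : EqvM x y) : RK K x ↔ RK K y := by
  obtain ⟨σ, c, hσ, hc, hx, he⟩ := h
  have hm : monoAut σ hσ c hc ∈ K := hK (monoAut_keeps hσ hc)
  constructor
  · rintro ⟨k, hk, e⟩
    exact ⟨monoAut σ hσ c hc * k, mul_mem hm hk, by rw [mul_smul, monoAut_apply, e, he]⟩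
  · rintro ⟨k, hk, e⟩
    refine ⟨(monoAut σ hσ c hc)⁻¹ * k, mul_mem (inv_mem hm) hk, ?_⟩
    have : monoAut σ hσ c hc • (⟨x, hx⟩ : ↥leechLattice) = k • ax none :=
      Subtype.ext (by rw [monoAut_apply, e]; exact he)
    rw [mul_smul, ← this, inv_smul_smul]

theorem RK.eight (hK : crossStab ≤ K) {x : GolayPt → ℤ} (h : x ∈ eightSet) : RK K x :=
  (RK.mon hK (eight_std_m h)).mpr ⟨1, one_mem _, by rw [one_smul, ax_coe]⟩

theorem RK.cross (hK : crossStab ≤ K) {x y : GolayPt → ℤ} (h : RK K y) (hx : x ∈ leechLattice)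
    (hn : sqNorm x = 64) (hy : y ∈ Cfsg.cross x) : RK K x := by
  obtain ⟨k, hk, e⟩ := h
  obtain ⟨-, -, z, hz, he⟩ := hy
  set u : ↥leechLattice := ⟨x, hx⟩
  set p : ↥leechLattice := ⟨z, hz⟩
  have hu : u = k • ax none + (p + p) := Subtype.ext (by
    show x = ((k • ax none : ↥leechLattice) : GolayPt → ℤ) + (z + z)
    rw [e, ← two_nsmul, ← he]; abel)
  have hgu : k⁻¹ • u = ax none + (k⁻¹ • p + k⁻¹ • p) := by
    rw [hu, aut_add, aut_add, inv_smul_smul]
  have hmem : ((k⁻¹ • u : ↥leechLattice) : GolayPt → ℤ) ∈ Cfsg.cross (Pi.single none 8 : GolayPt → ℤ) := by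
    refine ⟨(k⁻¹ • u).2, ?_, -((k⁻¹ • p : ↥leechLattice) : GolayPt → ℤ), neg_mem (k⁻¹ • p).2, ?_⟩
    · rw [aut_norm, show (u : GolayPt → ℤ) = x from rfl, hn,
        (eightSet_props (mem_eightSet.mpr ⟨none, 8, Or.inl rfl, rfl⟩)).2]
    · rw [hgu]
      simp only [AddSubgroup.coe_add, ax_coe, two_nsmul]
      abel
  rw [eightSet_eq_cross] at hmem
  obtain ⟨h', hh', e'⟩ := RK.eight hK hmem
  refine ⟨k * h', mul_mem hk hh', ?_⟩
  rw [mul_smul, show h' • ax none = k⁻¹ • u from Subtype.ext e', smul_inv_smul]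

theorem RK.class_iff (hK : crossStab ≤ K) {A : Set (GolayPt → ℤ)} {a : GolayPt → ℤ}
    (hA : ∀ x ∈ A, EqvM x a) {x y : GolayPt → ℤ} (hx : x ∈ A) (hy : y ∈ A) (h : RK K x) : RK K y :=
  (RK.mon hK (hA y hy)).mpr ((RK.mon hK (hA x hx)).mp h)

theorem mem_of_axis (hK : crossStab ≤ K) {g : ↥Co0} {x : GolayPt → ℤ}
    (hg : ((g • ax none : ↥leechLattice) : GolayPt → ℤ) = x) (h : RK K x) : g ∈ K := by
  obtain ⟨k, hk, e⟩ := h
  have h1 : k⁻¹ * g ∈ K := hK (fix_ax_keeps (by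
    rw [mul_smul, inv_smul_eq_iff]; exact Subtype.ext (hg.trans e.symm)))
  simpa using mul_mem hk h1

theorem hop_step (hK : crossStab ≤ K) {A B : Set (GolayPt → ℤ)} {a : GolayPt → ℤ}
    (hA : ∀ x ∈ A, EqvM x a) (hop : Hop A B) {x : GolayPt → ℤ} (hx : x ∈ A) (h : RK K x) :
    ∃ y ∈ B, RK K y := by
  obtain ⟨w, c, m, r, y, hw, hstep, hr, hy, e1, e2⟩ := hop
  obtain ⟨g, hg⟩ := exists_word_aut hw
  have hgr : ((g • ax none : ↥leechLattice) : GolayPt → ℤ) = r := by rw [hg, ax_coe, e1]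
  have hgK : g ∈ K := mem_of_axis hK hgr (RK.class_iff hK hA hx hr h)
  have hs : ∃ t ∈ K, ∀ v : ↥leechLattice, ((t • v : ↥leechLattice) : GolayPt → ℤ) = stepF (some (c, m)) v := by
    simp only [wordOK, Bool.and_eq_true, decide_eq_true_eq] at hstep
    obtain ⟨⟨⟨⟨hp, hk⟩, hlt⟩, hm⟩, -⟩ := hstep
    obtain ⟨σ, hσ⟩ := exists_repr_of_permOK hp
    have hσM := mem_M24_of_gensKept hσ hk
    have hcw : toSet m ∈ CW := toSet_mem_CW (by rw [decide_eq_true hlt, hm]; rfl)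
    refine ⟨monoAut σ⁻¹ (inv_mem hσM) _ hcw, hK (monoAut_keeps _ hcw), fun v => ?_⟩
    rw [monoAut_apply]
    funext i
    have hi : σ i = pt (papp c (idx i)) := by
      rw [← hσ.apply_pt (idx_lt i), pt_idx]
    simp only [signedPerm, stepF, mem_toSet]
    rw [show (σ⁻¹ : Equiv.Perm GolayPt).symm i = σ i from rfl, hi]
  obtain ⟨t, htK, ht⟩ := hs
  exact ⟨y, hy, g * (t * g), mul_mem hgK (mul_mem htK hgK), by rw [mul_smul, mul_smul, hg, ht, hgr, e2]⟩

theorem zeta_mem_of_four (hK : crossStab ≤ K) {x : GolayPt → ℤ} (hx : x ∈ evSet 0 4) (h : RK K x) :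
    zetaAut ∈ K := by
  obtain ⟨p, q, hp, hq, e⟩ := fuse5
  obtain ⟨k, hk, hkp⟩ := RK.eight (K := crossStab) le_rfl hp
  have h1 : zetaAut * k ∈ K := mem_of_axis hK (x := q)
    (by
      rw [mul_smul]
      show zeta ((k • ax none : ↥leechLattice) : GolayPt → ℤ) = q
      rw [hkp, e]) (RK.class_iff hK (fun y hy => ev04_std_m hy) hx hq h)
  simpa using mul_mem h1 (inv_mem (hK hk))

theorem RK.zeta (hz : zetaAut ∈ K) {x : GolayPt → ℤ} (h : RK K x) : RK K (CfsgLeech.zeta x) := by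
  obtain ⟨k, hk, rfl⟩ := h
  exact ⟨zetaAut * k, mul_mem hz hk, by rw [mul_smul]; rfl⟩

theorem std5 (x : GolayPt → ℤ) (h : x ∈ odSet (-1) 5) : EqvM x (od (-1) ∅ (toSet 31)) :=
  od_std_m (by norm_num) (by norm_num) h (by decide +kernel)

theorem RK.all (hK : crossStab ≤ K) (hz : zetaAut ∈ K) {x : GolayPt → ℤ} (hx : x ∈ leechLattice)
    (hn : sqNorm x = 64) : RK K x := by
  obtain ⟨y, hy, hG⟩ := cross_not_all_sixteen hx hn
  refine RK.cross hK ?_ hx hn hy
  have f04 : ∀ z ∈ evSet 0 4, RK K z := by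
    obtain ⟨p, q, hp, hq, rfl⟩ := fuse5
    exact fun z hz' => RK.class_iff hK (fun w hw => ev04_std_m hw) hq hz' (RK.zeta hz (RK.eight hK hp))
  have f82 : ∀ z ∈ evSet 8 2, RK K z := by
    obtain ⟨p, q, hp, hq, rfl⟩ := fuse6
    exact fun z hz' => RK.class_iff hK (fun w hw => ev82_std_m hw) hq hz' (RK.zeta hz (f04 p hp))
  have step : ∀ {A B : Set (GolayPt → ℤ)} {b : GolayPt → ℤ}, (∀ z ∈ A, RK K z) → (∀ z ∈ B, EqvM z b) →
      (∃ p q, p ∈ A ∧ q ∈ B ∧ CfsgLeech.zeta p = q) → ∀ z ∈ B, RK K z := by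
    intro A B b hA hB hex z hz'
    obtain ⟨p, q, hp, hq, rfl⟩ := hex
    exact RK.class_iff hK hB hq hz' (RK.zeta hz (hA p hp))
  obtain ⟨hyL, hyn, -⟩ := hy
  rcases classify64.mp ⟨hyL, hyn.trans hn⟩ with (h | h | h | h | h | h) | h | h
  · exact RK.eight hK h
  · exact f04 y h
  · exact f82 y h
  · exact step f04 (fun w hw => six_std_m hw) fuse7 y h
  · exact step f82 (fun w hw => ev121_std_m hw) fuse8 y h
  · exact absurd h hG
  · exact step f82 std5 fuse9 y h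
  · exact step f82 (fun w hw => mix_std_m hw) fuse10 y h

theorem crossStab_coatom : IsCoatom crossStab := by
  refine ⟨fun h => ?_, fun K hlt => ?_⟩
  · have h1 := co0_card
    rw [← Subgroup.card_top, ← h, crossStab_card] at h1
    norm_num at h1
  obtain ⟨g, hgK, hgH⟩ := SetLike.exists_of_lt hlt
  have hK : crossStab ≤ K := hlt.le
  set x : GolayPt → ℤ := ((g • ax none : ↥leechLattice) : GolayPt → ℤ) with hxdef
  have hx : x ∈ leechLattice := SetLike.coe_mem _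
  have hn : sqNorm x = 64 := (aut_norm g _).trans (eightSet_props (mem_eightSet.mpr ⟨none, 8, Or.inl rfl, rfl⟩)).2
  have hxK : RK K x := ⟨g, hgK, rfl⟩
  obtain ⟨y, hy, hG⟩ := cross_not_all_sixteen hx hn
  have hyK : RK K y := by
    obtain ⟨hyL, hyn, z, hz, he⟩ := hy
    exact RK.cross hK hxK hyL (hyn.trans hn) ⟨hx, hyn.symm, -z, neg_mem hz, by
      rw [smul_neg, ← he]; abel⟩
  have e8 : y ∉ eightSet := fun h =>
    hgH (mem_of_axis (K := crossStab) le_rfl rfl (RK.cross le_rfl (RK.eight le_rfl h) hx hn hy))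
  have to82 : ∀ z ∈ evSet 8 2, RK K z → zetaAut ∈ K := fun z hz h => by
    obtain ⟨w, hw, hwK⟩ := hop_step hK (fun v hv => ev82_std_m hv) hop_e82 hz h
    exact zeta_mem_of_four hK hw hwK
  have to121 : ∀ z ∈ evSet 12 1, RK K z → zetaAut ∈ K := fun z hz h => by
    obtain ⟨w, hw, hwK⟩ := hop_step hK (fun v hv => ev121_std_m hv) hop_e121 hz h
    exact to82 w hw hwK
  have hzeta : zetaAut ∈ K := by
    obtain ⟨hyL, hyn, -⟩ := hy
    rcases classify64.mp ⟨hyL, hyn.trans hn⟩ with (h | h | h | h | h | h) | h | h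
    · exact absurd h e8
    · exact zeta_mem_of_four hK h hyK
    · exact to82 y h hyK
    · obtain ⟨w, hw, hwK⟩ := hop_step hK (fun v hv => six_std_m hv) hop_six h hyK
      exact to121 w hw hwK
    · exact to121 y h hyK
    · exact absurd h hG
    · obtain ⟨w, hw, hwK⟩ := hop_step hK std5 hop_o5 h hyK
      exact to82 w hw hwK
    · obtain ⟨w, hw, hwK⟩ := hop_step hK (fun v hv => mix_std_m hv) hop_mix h hyK
      exact to121 w hw hwK
  refine top_unique fun k _ => mem_of_axis hK rfl (RK.all hK hzeta (SetLike.coe_mem _) ?_)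
  exact (aut_norm k _).trans (eightSet_props (mem_eightSet.mpr ⟨none, 8, Or.inl rfl, rfl⟩)).2

theorem crossStab_unique {H : Subgroup ↥Co0} (hH : (H : Set ↥Co0) = {g : ↥Co0 | KeepsCross g}) :
    H = crossStab := SetLike.coe_injective hH

end CfsgLeech
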