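/-
Simplicity of the automorphism group modulo its centre.
-/
import Cfsg.Agent.Lib.Leech.Maximal
import Cfsg.Agent.Lib.Golay.Subgroups

set_option autoImplicit false

namespace CfsgLeech

open Cfsg CfsgGolay
open scoped Pointwise commutatorElement

attribute [local irreducible] codeL octadL dodecadL slpCodes

/-- The sign change on a codeword. -/
noncomputable def sgn (c : Finset GolayPt) (hc : c ∈ CW) : ↥Co0 := monoAut 1 (one_mem _) c hc

theorem signs_apply {c : Finset GolayPt} (x : GolayPt → ℤ) (i : GolayPt) :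
    signedPerm 1 c x i = if i ∈ c then -x i else x i := rfl

theorem smul_CW {σ : Equiv.Perm GolayPt} (hσ : σ ∈ M24) {c : Finset GolayPt} (hc : c ∈ CW) : σ • c ∈ CW :=
  image_mem_supports hσ hc

theorem sgn_congr {c d : Finset GolayPt} {hc : c ∈ CW} {hd : d ∈ CW} (h : c = d) : sgn c hc = sgn d hd := by
  subst h; rfl

theorem sgn_cast {N : Subgroup ↥Co0} {c d : Finset GolayPt} {hc : c ∈ CW} {hd : d ∈ CW} (h : c = d)
    (hm : sgn c hc ∈ N) : sgn d hd ∈ N := by
  subst h; exact hm

theorem sgn_keeps {c : Finset GolayPt} (hc : c ∈ CW) : sgn c hc ∈ crossStab := monoAut_keeps _ hc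

theorem sgn_mul {c d : Finset GolayPt} (hc : c ∈ CW) (hd : d ∈ CW) :
    sgn c hc * sgn d hd = sgn (symmDiff c d) (CW_symmDiff hc hd) := by
  refine aut_ext fun v => ?_
  rw [mul_smul]
  simp only [sgn, monoAut_apply]
  funext i
  rw [signs_apply, signs_apply, signs_apply]
  by_cases a : i ∈ c <;> by_cases b : i ∈ d <;> simp [Finset.mem_symmDiff, a, b]

theorem sgn_empty : sgn ∅ CW_empty = 1 := (monoAut_scalar rfl (Or.inl rfl)).elim id fun h => by
  refine absurd (congrArg (fun g : ↥Co0 => ((g • ax none : ↥leechLattice) : GolayPt → ℤ) none) h) ?_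
  simp [monoAut_apply, negAut_apply, signedPerm, ax_coe]

theorem mono_conj_sgn {σ : Equiv.Perm GolayPt} (hσ : σ ∈ M24) {e c : Finset GolayPt} (he : e ∈ CW) (hc : c ∈ CW) :
    monoAut σ hσ e he * sgn c hc * (monoAut σ hσ e he)⁻¹ = sgn (σ • c) (smul_CW hσ hc) := by
  rw [mul_inv_eq_iff_eq_mul]
  refine aut_ext fun v => ?_
  rw [mul_smul, mul_smul]
  simp only [sgn, monoAut_apply]
  funext i
  rw [signs_apply]
  simp only [signedPerm, ← mem_smul_symm, one_symm_apply']
  by_cases a : i ∈ e <;> by_cases b : σ.symm i ∈ c <;> simp [a, b]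

theorem sgn_comm {c d : Finset GolayPt} (hc : c ∈ CW) (hd : d ∈ CW) :
    sgn c hc * sgn d hd = sgn d hd * sgn c hc := by
  rw [sgn_mul hc hd, sgn_mul hd hc]
  congr 1
  exact symmDiff_comm c d

theorem code_induction {P : Finset GolayPt → Prop} (h0 : P ∅) (ho : ∀ o ∈ octads, P o)
    (ha : ∀ c ∈ CW, ∀ d ∈ CW, P c → P d → P (symmDiff c d)) {c : Finset GolayPt} (hc : c ∈ CW) : P c := by
  obtain ⟨w, hw, rfl⟩ := hc
  have hs : toMask (support₂ w) ∈ spanList sysBasis := by
    have := toMask_support_mem hw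
    rwa [show codeL = spanList sysBasis from by unfold codeL; rfl] at this
  have hb : (sysBasis.all fun e => decide (e < 2 ^ 24) && (inCode e && Nat.beq (pc e) 8)) = true := by
    decide +kernel
  suffices H : ∀ l : List ℕ, (∀ e ∈ l, toSet e ∈ octads) → ∀ m ∈ spanList l, toSet m ∈ CW ∧ P (toSet m) by
    have h := (H sysBasis (fun e he => by
      have h1 := List.all_eq_true.mp hb e he
      simp only [Bool.and_eq_true, decide_eq_true_eq, Nat.beq_eq] at h1
      exact toSet_mem_octads' h1.1 ⟨h1.2.1, h1.2.2⟩) _ hs).2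
    rwa [toSet_toMask] at h
  intro l
  induction l with
  | nil =>
    intro _ m hm
    simp only [spanList, List.mem_singleton] at hm
    subst hm
    rw [toSet_zero_empty]
    exact ⟨CW_empty, h0⟩
  | cons e es ih =>
    intro h m hm
    simp only [spanList, List.mem_flatMap, List.mem_cons, List.not_mem_nil, or_false] at hm
    obtain ⟨y, hy, rfl | rfl⟩ := hm
    · exact ih (fun z hz => h z (List.mem_cons_of_mem _ hz)) _ hy
    · obtain ⟨hyc, hyP⟩ := ih (fun z hz => h z (List.mem_cons_of_mem _ hz)) _ hy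
      have heo := h e (by simp)
      have hx : toSet (e ^^^ y) = symmDiff (toSet e) (toSet y) := by
        ext p
        simp only [mem_toSet, Nat.testBit_xor, Finset.mem_symmDiff]
        cases e.testBit (idx p) <;> cases y.testBit (idx p) <;> simp
      exact hx ▸ ⟨CW_symmDiff heo.1 hyc, ha _ heo.1 _ hyc (ho _ heo) hyP⟩

/-- The conjugated sign changes that move the cross or the points. -/
theorem witnesses :
    (toSet 1302533 ∈ octads ∧
      (∀ i, ∃ j, zeta (signedPerm 1 (toSet 1302533) (zeta (Pi.single i 8))) = Pi.single j 8 ∨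
        zeta (signedPerm 1 (toSet 1302533) (zeta (Pi.single i 8))) = Pi.single j (-8)) ∧
      zeta (signedPerm 1 (toSet 1302533) (zeta (Pi.single none 8))) none = 0) ∧
    (toSet 9347075 ∈ octads ∧
      (∀ j, zeta (signedPerm 1 (toSet 9347075) (zeta (Pi.single none 8))) ≠ Pi.single j 8 ∧
        zeta (signedPerm 1 (toSet 9347075) (zeta (Pi.single none 8))) ≠ Pi.single j (-8))) := by
  refine ⟨⟨toSet_mem_octads' (by norm_num) (by decide +kernel), fun i => ?_, by decide +kernel⟩,
    toSet_mem_octads' (by norm_num) (by decide +kernel), fun j => ?_⟩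
  · have key : ∀ i : GolayPt, ∃ j : GolayPt,
        (∀ a, zeta (signedPerm 1 (toSet 1302533) (zeta (Pi.single i 8))) a = (Pi.single j 8 : GolayPt → ℤ) a) ∨
        (∀ a, zeta (signedPerm 1 (toSet 1302533) (zeta (Pi.single i 8))) a = (Pi.single j (-8) : GolayPt → ℤ) a) := by
      decide +kernel
    obtain ⟨j, h | h⟩ := key i
    exacts [⟨j, Or.inl (funext h)⟩, ⟨j, Or.inr (funext h)⟩]
  · have key : ∀ j : GolayPt,
        (∃ a, zeta (signedPerm 1 (toSet 9347075) (zeta (Pi.single none 8))) a ≠ (Pi.single j 8 : GolayPt → ℤ) a) ∧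
        (∃ a, zeta (signedPerm 1 (toSet 9347075) (zeta (Pi.single none 8))) a ≠ (Pi.single j (-8) : GolayPt → ℤ) a) := by
      decide +kernel
    obtain ⟨⟨a, ha⟩, b, hb⟩ := key j
    exact ⟨fun h => ha (congrFun h a), fun h => hb (congrFun h b)⟩

theorem zeta_conj_apply {c : Finset GolayPt} (hc : c ∈ CW) (i : GolayPt) :
    (((zetaAut * sgn c hc * zetaAut) • ax i : ↥leechLattice) : GolayPt → ℤ) =
      zeta (signedPerm 1 c (zeta (Pi.single i 8))) := by
  rw [mul_smul, mul_smul]; rfl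

theorem zeta_inv : zetaAut⁻¹ * zetaAut = 1 := inv_mul_cancel _

theorem zeta_invol : zetaAut * zetaAut = 1 := by
  refine aut_ext fun v => ?_
  rw [mul_smul, one_smul]
  show zeta (zeta (v : GolayPt → ℤ)) = _
  obtain ⟨v, hv⟩ := v
  let P : AddSubgroup (GolayPt → ℤ) :=
    { carrier := {x | x ∈ leechLattice ∧ zeta (zeta x) = x}
      zero_mem' := ⟨zero_mem _, by funext i; simp [zeta, bsum]⟩
      add_mem' := fun {a b} ha hb => ⟨add_mem ha.1 hb.1, by
        rw [zeta_add ha.1 hb.1, zeta_add (zeta_mem ha.1) (zeta_mem hb.1), ha.2, hb.2]⟩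
      neg_mem' := fun {a} ha => ⟨neg_mem ha.1, by
        have h0 : zeta (0 : GolayPt → ℤ) = 0 := by funext i; simp [zeta, bsum]
        have h := zeta_add ha.1 (neg_mem ha.1)
        rw [add_neg_cancel, h0] at h
        have h' := zeta_add (zeta_mem ha.1) (zeta_mem (neg_mem ha.1))
        rw [← h, h0, ha.2] at h'
        exact eq_neg_of_add_eq_zero_right h'.symm⟩ }
  have key : ∀ j < zetaGens.length, ∀ i, zeta (zeta (zetaGens.getD j 0)) i = zetaGens.getD j 0 i := by
    decide +kernel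
  have hg : ∀ x ∈ zetaGens, x ∈ P := fun x hx => by
    have := List.all_eq_true.mp zetaGens_ok x hx
    rw [Bool.and_eq_true] at this
    obtain ⟨j, hj, rfl⟩ := List.getElem_of_mem hx
    refine ⟨inLatB_sound this.1, funext fun i => ?_⟩
    have := key j hj i
    rwa [List.getD_eq_getElem _ _ hj] at this
  exact (leech_induction P (hg _ (by simp [zetaGens]))
    (fun e he => hg _ (List.mem_cons_of_mem _ (List.mem_cons_of_mem _
      (List.mem_append_left _ (List.mem_map.mpr ⟨e, he, rfl⟩)))))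
    (fun i => hg _ (List.mem_cons_of_mem _ (List.mem_cons_of_mem _
      (List.mem_append_right _ (List.mem_map.mpr ⟨idx i, List.mem_range.mpr (idx_lt i), by rw [pt_idx]⟩)))))
    (hg _ (by simp [zetaGens])) hv).2

variable {N : Subgroup ↥Co0}

theorem zeta_conj_mem [N.Normal] {c : Finset GolayPt} (hc : c ∈ CW) (h : sgn c hc ∈ N) :
    zetaAut * sgn c hc * zetaAut ∈ N := by
  have hi : zetaAut⁻¹ = zetaAut := inv_eq_of_mul_eq_one_right zeta_invol
  have := Subgroup.Normal.conj_mem ‹N.Normal› _ h zetaAut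
  rwa [hi] at this

/-- One octad sign gives all of them. -/
theorem all_octads [N.Normal] {o : Finset GolayPt} (ho : o ∈ octads) (h : sgn o ho.1 ∈ N) :
    ∀ o' : Finset GolayPt, ∀ ho' : o' ∈ octads, sgn o' ho'.1 ∈ N := by
  intro o' ho'
  obtain ⟨g, hg, hgo⟩ := exists_smul_O0 ho
  obtain ⟨g', hg', hgo'⟩ := exists_smul_O0 ho'
  have hσ : g' * g⁻¹ ∈ M24 := mul_mem hg' (inv_mem hg)
  have hc := Subgroup.Normal.conj_mem ‹N.Normal› _ h (monoAut _ hσ ∅ CW_empty)
  rw [mono_conj_sgn hσ CW_empty ho.1] at hc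
  exact sgn_cast (show (g' * g⁻¹) • o = o' by rw [mul_smul, inv_smul_eq_iff.mpr hgo.symm, hgo']) hc

theorem all_signs [N.Normal] (ho : ∀ o : Finset GolayPt, ∀ ho : o ∈ octads, sgn o ho.1 ∈ N)
    {c : Finset GolayPt} (hc : c ∈ CW) : sgn c hc ∈ N := by
  have := code_induction (P := fun c => ∀ hc : c ∈ CW, sgn c hc ∈ N)
    (fun _ => by rw [sgn_empty]; exact one_mem _) (fun o h _ => ho o h)
    (fun a ha b hb pa pb _ => by
      have := mul_mem (pa ha) (pb hb)
      rwa [sgn_mul ha hb] at this) hc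
  exact this hc

/-- A normal subgroup with the octad signs is everything. -/
theorem top_of_octads [N.Normal] (ho : ∀ o : Finset GolayPt, ∀ ho : o ∈ octads, sgn o ho.1 ∈ N) : N = ⊤ := by
  obtain ⟨⟨w1, hw1, hw0⟩, w2, hw2⟩ := witnesses
  -- the permutation parts met inside `N`
  let P : Subgroup ↥M24 :=
    { carrier := {σ | ∃ c, ∃ hc : c ∈ CW, monoAut σ.1 σ.2 c hc ∈ N}
      one_mem' := ⟨∅, CW_empty, by
        show sgn ∅ CW_empty ∈ N
        rw [sgn_empty]; exact one_mem _⟩
      mul_mem' := by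
        rintro σ τ ⟨c, hc, h1⟩ ⟨d, hd, h2⟩
        refine ⟨symmDiff c (σ.1 • d), CW_symmDiff hc (smul_CW σ.2 hd), ?_⟩
        convert mul_mem h1 h2 using 1
        refine aut_ext fun v => ?_
        rw [mul_smul]
        simp only [monoAut_apply]
        funext i
        simp only [signedPerm, Finset.mem_symmDiff, ← mem_smul_symm, Subgroup.coe_mul]
        by_cases a : i ∈ c <;> by_cases b : σ.1.symm i ∈ d <;>
          simp [a, b, show (σ.1 * τ.1 : Equiv.Perm GolayPt).symm i = τ.1.symm (σ.1.symm i) from rfl]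
      inv_mem' := by
        rintro σ ⟨c, hc, h1⟩
        refine ⟨σ.1⁻¹ • c, smul_CW (inv_mem σ.2) hc, ?_⟩
        convert inv_mem h1 using 1
        refine eq_inv_of_mul_eq_one_left (aut_ext fun v => ?_)
        rw [mul_smul, one_smul]
        simp only [monoAut_apply]
        funext i
        simp only [signedPerm, ← mem_smul_symm, show ((σ⁻¹ : ↥M24).1).symm i = σ.1 i from rfl,
          show (σ.1⁻¹ : Equiv.Perm GolayPt).symm i = σ.1 i from rfl, Equiv.symm_apply_apply]
        by_cases a : σ.1 i ∈ c <;> simp [a] }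
  haveI hPn : P.Normal := ⟨by
    rintro σ ⟨c, hc, h1⟩ τ
    have h2 := Subgroup.Normal.conj_mem ‹N.Normal› _ h1 (monoAut τ.1 τ.2 ∅ CW_empty)
    refine ⟨τ.1 • c, smul_CW τ.2 hc, ?_⟩
    convert h2 using 1
    rw [eq_mul_inv_iff_mul_eq]
    refine aut_ext fun v => ?_
    rw [mul_smul, mul_smul]
    simp only [monoAut_apply]
    funext i
    simp only [signedPerm, ← mem_smul_symm, Finset.notMem_empty, if_false,
      show (τ * σ * τ⁻¹ : ↥M24).1.symm i = τ.1 (σ.1.symm (τ.1.symm i)) from rfl, Equiv.symm_apply_apply]⟩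
  have hg := zeta_conj_mem w1.1 (ho _ w1)
  have hk : KeepsCross (zetaAut * sgn _ w1.1 * zetaAut) := by
    rintro v ⟨i, s, hs, hv⟩
    obtain ⟨j, hj⟩ := hw1 i
    rcases hs with rfl | rfl
    · rw [show v = ax i from Subtype.ext hv, zeta_conj_apply w1.1]
      rcases hj with h | h
      exacts [⟨j, 8, Or.inl rfl, h⟩, ⟨j, -8, Or.inr rfl, h⟩]
    · rw [show v = -ax i from Subtype.ext (hv.trans (by rw [AddSubgroup.coe_neg, ax_coe, Pi.single_neg])),
        aut_neg, AddSubgroup.coe_neg, zeta_conj_apply w1.1]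
      rcases hj with h | h
      exacts [⟨j, -8, Or.inr rfl, by rw [h, Pi.single_neg]⟩, ⟨j, 8, Or.inl rfl, by rw [h, Pi.single_neg, neg_neg]⟩]
  obtain ⟨σ, c, hσ, hc, hgσ⟩ := keepsCross_monomial hk
  have hσP : (⟨σ, hσ⟩ : ↥M24) ∈ P := ⟨c, hc, hgσ ▸ hg⟩
  have hσ1 : σ ≠ 1 := by
    rintro rfl
    have h := zeta_conj_apply w1.1 none
    rw [hgσ, monoAut_apply] at h
    have h' := congrFun h none
    rw [hw0] at h'
    simp [signedPerm, ax_coe] at h'; split_ifs at h' <;> omega
  haveI : IsSimpleGroup M24 := isSimple_M24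
  have hP : P = ⊤ := (Subgroup.Normal.eq_bot_or_eq_top hPn).resolve_left fun h => hσ1 (by
    rw [h, Subgroup.mem_bot] at hσP
    exact congrArg Subtype.val hσP)
  have hH : crossStab ≤ N := by
    intro g hg'
    obtain ⟨τ, d, hτ, hd, rfl⟩ := keepsCross_monomial hg'
    obtain ⟨e, he, h1⟩ : (⟨τ, hτ⟩ : ↥M24) ∈ P := hP ▸ Subgroup.mem_top _
    have h2 := mul_mem (all_signs ho (CW_symmDiff hd he)) h1
    convert h2 using 1
    refine aut_ext fun v => ?_
    rw [mul_smul]
    simp only [sgn, monoAut_apply]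
    funext i
    rw [signs_apply]
    simp only [signedPerm, Finset.mem_symmDiff]
    by_cases a : i ∈ d <;> by_cases b : i ∈ e <;> simp [a, b]
  rcases hH.eq_or_lt with h | h
  · exfalso
    have hm : KeepsCross (zetaAut * sgn _ w2.1 * zetaAut) := by
      rw [← mem_crossStab, h]; exact zeta_conj_mem w2.1 (ho _ w2)
    obtain ⟨j, s, hs, hv⟩ := hm (ax none) ⟨none, 8, Or.inl rfl, rfl⟩
    rw [zeta_conj_apply w2.1] at hv
    rcases hs with rfl | rfl
    exacts [(hw2 j).1 hv, (hw2 j).2 hv]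
  · exact crossStab_coatom.2 _ h

theorem octad_split : toSet 3006551 ∈ dodecads ∧ symmDiff D0 (toSet 3006551) ∈ octads ∧
    toSet 9347075 ∈ octads ∧ symmDiff O0 (toSet 9347075) ∈ octads := by
  refine ⟨toSet_mem_dodecads' (by norm_num) (by decide +kernel), ?_,
    toSet_mem_octads' (by norm_num) (by decide +kernel), ?_⟩
  · rw [show symmDiff D0 (toSet 3006551) = toSet (340831 ^^^ 3006551) by decide +kernel]
    exact toSet_mem_octads' (by decide +kernel) (by decide +kernel)
  · rw [show symmDiff O0 (toSet 9347075) = toSet (8536111 ^^^ 9347075) by decide +kernel]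
    exact toSet_mem_octads' (by decide +kernel) (by decide +kernel)

/-- A proper sign inside a normal subgroup over the centre gives an octad sign. -/
theorem octad_of_sign [N.Normal] (hz : negAut ∈ N) {c : Finset GolayPt} (hc : c ∈ CW)
    (h0 : c ≠ ∅) (h1 : c ≠ Finset.univ) (h : sgn c hc ∈ N) :
    ∃ o : Finset GolayPt, ∃ ho : o ∈ octads, sgn o ho.1 ∈ N := by
  rcases code_weight_cases hc with e | e | e | e | e
  · exact absurd (Finset.card_eq_zero.mp e) h0
  · exact ⟨c, ⟨hc, e⟩, h⟩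
  · have all12 : ∀ d : Finset GolayPt, ∀ hd : d ∈ dodecads, sgn d hd.1 ∈ N := by
      intro d hd
      obtain ⟨g, hg, hgo⟩ := exists_smul_D0 (o := c) ⟨hc, e⟩
      obtain ⟨g', hg', hgo'⟩ := exists_smul_D0 hd
      have hσ : g' * g⁻¹ ∈ M24 := mul_mem hg' (inv_mem hg)
      have hh := Subgroup.Normal.conj_mem ‹N.Normal› _ h (monoAut _ hσ ∅ CW_empty)
      rw [mono_conj_sgn hσ CW_empty hc] at hh
      exact sgn_cast (show (g' * g⁻¹) • c = d by rw [mul_smul, inv_smul_eq_iff.mpr hgo.symm, hgo']) hh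
    have h2 := mul_mem (all12 D0 D0_mem) (all12 _ octad_split.1)
    rw [sgn_mul D0_mem.1 octad_split.1.1] at h2
    exact ⟨_, octad_split.2.1, h2⟩
  · have h2 := mul_mem hz h
    rw [show negAut = sgn Finset.univ CW_univ from rfl, sgn_mul CW_univ hc] at h2
    refine ⟨_, ⟨CW_symmDiff CW_univ hc, ?_⟩, h2⟩
    rw [show symmDiff Finset.univ c = cᶜ from top_symmDiff' c, Finset.card_compl, card_univ_pt, e]
  · exact absurd (Finset.eq_univ_of_card c (by rw [e, card_univ_pt])) h1

theorem octad_separate {i j : GolayPt} (h : i ≠ j) : ∃ o ∈ octads, i ∈ o ∧ j ∉ o := by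
  obtain ⟨σ, hσ, hx⟩ := exists_M24_map (k := 2) (by norm_num)
    (⟨![pt 23, pt 4], by decide +kernel⟩ : Fin 2 ↪ GolayPt)
    (⟨![i, j], by intro a b; fin_cases a <;> fin_cases b <;> simp [h, h.symm]⟩ : Fin 2 ↪ GolayPt)
  have a1 : pt 23 ∈ O0 := by decide +kernel
  have a2 : pt 4 ∉ O0 := by decide +kernel
  have e1 : σ (pt 23) = i := hx 0
  have e2 : σ (pt 4) = j := hx 1
  refine ⟨σ • O0, smul_mem_octads hσ (toSet_mem_octads' (by norm_num) (by decide +kernel)), ?_, ?_⟩
  · rw [← e1, pt_mem_smul]; exact a1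
  · rw [← e2, pt_mem_smul]; exact a2

/-- A normal subgroup properly over the centre. -/
theorem top_or_outside [N.Normal] (hz : negAut ∈ N) {g : ↥Co0} (hg : g ∈ N) (hne : g ≠ 1) (hne' : g ≠ negAut) :
    N = ⊤ ∨ ¬ N ≤ crossStab := by
  by_cases hle : N ≤ crossStab
  · left
    obtain ⟨σ, c, hσ, hc, rfl⟩ := keepsCross_monomial (hle hg)
    suffices H : ∃ o : Finset GolayPt, ∃ ho : o ∈ octads, sgn o ho.1 ∈ N by
      obtain ⟨o, ho, h⟩ := H
      exact top_of_octads (all_octads ho h)
    by_cases hs : σ = 1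
    · subst hs
      refine octad_of_sign hz hc (fun h => ?_) (fun h => ?_) hg
      · subst h; exact hne sgn_empty
      · subst h; exact hne' rfl
    · obtain ⟨i, hi⟩ : ∃ i, σ i ≠ i := by
        by_contra hall
        push Not at hall
        exact hs (Equiv.ext hall)
      obtain ⟨o, ho, ho1, ho2⟩ := octad_separate (i := i) (j := σ i) (Ne.symm hi)
      have h1 := Subgroup.Normal.conj_mem ‹N.Normal› _ (inv_mem hg) (sgn o ho.1)
      have h2 := mul_mem hg h1
      have sinv : (sgn o ho.1)⁻¹ = sgn o ho.1 :=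
        inv_eq_of_mul_eq_one_right (by rw [sgn_mul ho.1 ho.1, sgn_congr (symmDiff_self o)]; exact sgn_empty)
      have e3 : monoAut σ hσ c hc * (sgn o ho.1 * (monoAut σ hσ c hc)⁻¹ * (sgn o ho.1)⁻¹) =
          sgn (symmDiff (σ • o) o) (CW_symmDiff (smul_CW hσ ho.1) ho.1) := by
        rw [sinv, ← mul_assoc, ← mul_assoc, mono_conj_sgn hσ hc ho.1, sgn_mul (smul_CW hσ ho.1) ho.1]
      rw [e3] at h2
      refine octad_of_sign hz _ (fun h => ?_) (fun h => ?_) h2
      · have : σ i ∈ symmDiff (σ • o) o := Finset.mem_symmDiff.mpr (Or.inl ⟨pt_mem_smul.mpr ho1, ho2⟩)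
        rw [h] at this; exact absurd this (Finset.notMem_empty _)
      · have h3 := congrArg Finset.card h
        rw [Finset.card_univ, card_univ_pt] at h3
        have h4 := Finset.card_union_le (σ • o) o
        have h5 : (symmDiff (σ • o) o).card ≤ (σ • o ∪ o).card := Finset.card_le_card (by
          intro a ha
          rcases Finset.mem_symmDiff.mp ha with ⟨ha, -⟩ | ⟨ha, -⟩
          exacts [Finset.mem_union_left _ ha, Finset.mem_union_right _ ha])
        rw [Finset.card_smul_finset, ho.2] at h4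
        omega
  · exact Or.inr hle

theorem co0_perfect : commutator ↥Co0 = ⊤ := by
  obtain ⟨-, -, h8, h8'⟩ := octad_split
  have hO : O0 ∈ octads := toSet_mem_octads' (by norm_num) (by decide +kernel)
  obtain ⟨g, hg, hgo⟩ := exists_smul_O0 h8
  refine top_of_octads (all_octads h8' ?_)
  have h2 := Subgroup.commutator_mem_commutator (Subgroup.mem_top (monoAut g hg ∅ CW_empty))
    (Subgroup.mem_top (sgn O0 hO.1))
  rw [← commutator_def] at h2
  have sinv : (sgn O0 hO.1)⁻¹ = sgn O0 hO.1 :=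
    inv_eq_of_mul_eq_one_right (by rw [sgn_mul hO.1 hO.1, sgn_congr (symmDiff_self O0)]; exact sgn_empty)
  rw [commutatorElement_def, mono_conj_sgn hg CW_empty hO.1, sinv, sgn_mul (smul_CW hg hO.1) hO.1] at h2
  exact sgn_cast (show symmDiff (g • O0) O0 = symmDiff O0 (toSet 9347075) by rw [hgo, symmDiff_comm]) h2

/-- The signs as a subgroup. -/
noncomputable def signSub : Subgroup ↥Co0 where
  carrier := {g | ∃ c, ∃ hc : c ∈ CW, g = sgn c hc}
  one_mem' := ⟨∅, CW_empty, sgn_empty.symm⟩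
  mul_mem' := by
    rintro _ _ ⟨c, hc, rfl⟩ ⟨d, hd, rfl⟩
    exact ⟨_, CW_symmDiff hc hd, sgn_mul hc hd⟩
  inv_mem' := by
    rintro _ ⟨c, hc, rfl⟩
    exact ⟨c, hc, inv_eq_of_mul_eq_one_right (by rw [sgn_mul hc hc, sgn_congr (symmDiff_self c)]; exact sgn_empty)⟩

theorem normal_top {N : Subgroup ↥Co0} [hN : N.Normal] (hz : negAut ∈ N) {g : ↥Co0} (hg : g ∈ N)
    (hne : g ≠ 1) (hne' : g ≠ negAut) : N = ⊤ := by
  rcases top_or_outside hz hg hne hne' with h | h
  · exact h
  have hNH : N ⊔ crossStab = ⊤ := crossStab_coatom.2 _ (lt_of_le_not_ge le_sup_right fun h' => h (le_sup_left.trans h'))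
  have hsH : signSub ≤ crossStab := by rintro _ ⟨c, hc, rfl⟩; exact sgn_keeps hc
  haveI hn : (N ⊔ signSub).Normal := by
    rw [← Subgroup.normalizer_eq_top_iff, eq_top_iff, ← hNH, sup_le_iff]
    refine ⟨(le_sup_left (b := signSub)).trans Subgroup.le_normalizer, fun m hm => ?_⟩
    obtain ⟨σ, c, hσ, hc, rfl⟩ := keepsCross_monomial hm
    have fwd : ∀ {m : ↥Co0}, m ∈ crossStab → ∀ x ∈ N ⊔ signSub, m * x * m⁻¹ ∈ N ⊔ signSub := by
      intro m hm x hx
      obtain ⟨τ, e, hτ, he, rfl⟩ := keepsCross_monomial hm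
      rw [Subgroup.sup_eq_closure_mul] at hx
      refine Subgroup.closure_induction (fun y hy => ?_) ?_ (fun a b _ _ ha hb => ?_) (fun a _ ha => ?_) hx
      · obtain ⟨n, hn', s, ⟨d, hd, rfl⟩, rfl⟩ := hy
        rw [show monoAut τ hτ e he * (n * sgn d hd) * (monoAut τ hτ e he)⁻¹ =
            monoAut τ hτ e he * n * (monoAut τ hτ e he)⁻¹ * (monoAut τ hτ e he * sgn d hd * (monoAut τ hτ e he)⁻¹) by
          group, mono_conj_sgn hτ he hd]
        exact mul_mem (Subgroup.mem_sup_left (hN.conj_mem _ hn' _)) (Subgroup.mem_sup_right ⟨_, _, rfl⟩)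
      · simp
      · have := mul_mem ha hb
        simpa [mul_assoc] using this
      · have := inv_mem ha
        simpa [mul_assoc] using this
    have hm' : monoAut σ hσ c hc ∈ crossStab := hm
    rw [Subgroup.mem_normalizer_iff]
    refine fun x => ⟨fun hx => fwd hm' x hx, fun hx => ?_⟩
    have := fwd (inv_mem hm') _ hx
    simpa [mul_assoc] using this
  have htop : N ⊔ signSub = ⊤ := top_of_octads fun o ho => Subgroup.mem_sup_right ⟨o, ho.1, rfl⟩
  have hab : ∀ x : ↥Co0 ⧸ N, ∃ c, ∃ hc : c ∈ CW, x = QuotientGroup.mk (sgn c hc) := by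
    intro x
    obtain ⟨y, rfl⟩ := QuotientGroup.mk_surjective x
    have hy : y ∈ ((N ⊔ signSub : Subgroup ↥Co0) : Set ↥Co0) := by rw [htop]; exact Subgroup.mem_top y
    rw [Subgroup.normal_mul] at hy
    obtain ⟨n, hn', s, ⟨c, hc, rfl⟩, rfl⟩ := hy
    refine ⟨c, hc, ?_⟩
    rw [QuotientGroup.mk_mul, (QuotientGroup.eq_one_iff n).mpr hn', one_mul]
  have hle : commutator ↥Co0 ≤ N := by
    rw [commutator_def, Subgroup.commutator_le]
    intro a _ b _
    rw [← QuotientGroup.eq_one_iff]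
    obtain ⟨c, hc, ea⟩ := hab (QuotientGroup.mk a)
    obtain ⟨d, hd, eb⟩ := hab (QuotientGroup.mk b)
    have hcomm : (QuotientGroup.mk a : ↥Co0 ⧸ N) * QuotientGroup.mk b = QuotientGroup.mk b * QuotientGroup.mk a := by
      rw [ea, eb, ← QuotientGroup.mk_mul, ← QuotientGroup.mk_mul, sgn_comm]
    rw [commutatorElement_def, QuotientGroup.mk_mul, QuotientGroup.mk_mul, QuotientGroup.mk_mul,
      QuotientGroup.mk_inv, QuotientGroup.mk_inv, hcomm]
    group
  exact top_unique (co0_perfect ▸ hle)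

theorem co1_simple : IsSimpleGroup (↥Co0 ⧸ Subgroup.center ↥Co0) := by
  set Z := Subgroup.center ↥Co0
  haveI : Finite ↥Co0 := Nat.finite_of_card_ne_zero (by rw [co0_card]; norm_num)
  haveI : Nontrivial (↥Co0 ⧸ Z) := by
    rw [← Finite.one_lt_card_iff_nontrivial, ← Subgroup.index_eq_card]
    have h := Subgroup.card_mul_index Z
    rw [center_card, co0_card] at h
    omega
  refine ⟨fun N hN => ?_⟩
  by_cases hb : ∀ x ∈ N, x = 1
  · exact Or.inl ((Subgroup.eq_bot_iff_forall N).mpr hb)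
  push Not at hb
  obtain ⟨x, hxN, hx⟩ := hb
  obtain ⟨g, rfl⟩ := QuotientGroup.mk_surjective x
  right
  have hg : g ∉ Z := fun h => hx ((QuotientGroup.eq_one_iff g).mpr h)
  haveI := hN.comap (QuotientGroup.mk' Z)
  have h := normal_top (N := N.comap (QuotientGroup.mk' Z))
    (by
      rw [Subgroup.mem_comap, show QuotientGroup.mk' Z negAut = 1 from (QuotientGroup.eq_one_iff _).mpr negAut_central]
      exact one_mem _) (g := g) hxN
    (fun h => hg (h ▸ one_mem _)) (fun h => hg (h ▸ negAut_central))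
  rw [← Subgroup.map_comap_eq_self_of_surjective (QuotientGroup.mk'_surjective Z) N, h, Subgroup.map_top_of_surjective _
    (QuotientGroup.mk'_surjective Z)]

theorem co1_card : Nat.card (↥Co0 ⧸ Subgroup.center ↥Co0) = 4157776806543360000 := by
  rw [← Subgroup.index_eq_card]
  have h := Subgroup.card_mul_index (Subgroup.center ↥Co0)
  rw [center_card, co0_card] at h
  omega

end CfsgLeech
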