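/-
The sublattice on an octad modulo twice itself, as a quadratic space of plus type.
-/
import Cfsg.Agent.Lib.Leech.Co1
import Cfsg.Agent.Lib.Leech.Words
import Cfsg.Prelude.Def_Classical

set_option autoImplicit false

namespace CfsgLeech.OctInv

open Cfsg CfsgGolay
open scoped Pointwise Matrix

attribute [local irreducible] codeL octadL dodecadL slpCodes

/-- Vectors over the field of two elements. -/
abbrev Vec8 := Fin 4 ⊕ Fin 4 → ZMod 2

/-- The form of plus type. -/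
abbrev Q8 : Vec8 → ZMod 2 := Cfsg.quadFormPlus 4 (ZMod 2)

/-- An integer vector from its list of coordinates. -/
def ofL (l : List ℤ) (i : GolayPt) : ℤ := l.getD (idx i) 0

/-- A hyperbolic basis modulo two, four singular pairs. -/
def basL : List (List ℤ) :=
  [[0, 0, 0, 0, 0, 0, 0, 0, 0, 0, 0, 0, 0, 0, 0, 0, 0, 0, 0, 0, 0, 0, 0, 8],
   [4, 4, 4, 4, 0, 0, 0, 0, 0, 0, 0, 0, 0, 0, 0, 0, 0, 0, 0, 0, 0, 0, 0, 0],
   [4, 0, 0, 4, 0, 4, 0, 0, 0, 0, 0, 0, 0, 0, 4, 0, 0, 0, 0, 0, 0, 0, 0, 0],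
   [0, 0, 4, 4, 0, 4, 0, 0, 0, 0, 0, 0, 0, 0, 0, 0, 0, 4, 0, 0, 0, 0, 0, 0],
   [-6, 2, 2, 2, 0, 2, 0, 0, 0, 0, 0, 0, 0, 0, 2, 0, 0, 2, 0, 0, 0, 0, 0, 2],
   [4, 4, 4, 0, 0, 4, 0, 0, 0, 0, 0, 0, 0, 0, 0, 0, 0, 0, 0, 0, 0, 0, 0, 0],
   [0, 4, 0, 4, 0, 4, 0, 0, 0, 0, 0, 0, 0, 0, 4, 0, 0, 0, 0, 0, 0, 0, 0, 0],
   [4, 4, 0, 0, 0, 0, 0, 0, 0, 0, 0, 0, 0, 0, 4, 0, 0, 4, 0, 0, 0, 0, 0, 0]]

/-- The basis vectors. -/
def bas (s : Fin 4 ⊕ Fin 4) : GolayPt → ℤ := ofL (basL.getD (finSumFinEquiv s : Fin 8) [])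

/-- The sublattice of vectors supported in the octad. -/
def L8 : AddSubgroup ↥leechLattice where
  carrier := {v | ∀ i, i ∉ O0 → (v : GolayPt → ℤ) i = 0}
  zero_mem' := fun i _ => rfl
  add_mem' := fun {a b} ha hb i hi => by
    show (a : GolayPt → ℤ) i + (b : GolayPt → ℤ) i = 0
    rw [ha i hi, hb i hi, add_zero]
  neg_mem' := fun {a} ha i hi => by
    show -((a : GolayPt → ℤ) i) = 0
    rw [ha i hi, neg_zero]

/-- The underlying integer vector. -/
abbrev co (v : ↥L8) : GolayPt → ℤ := ((v : ↥leechLattice) : GolayPt → ℤ)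

theorem co_zero_out (v : ↥L8) {i : GolayPt} (hi : i ∉ O0) : co v i = 0 := v.2 i hi

theorem O0_CW : O0 ∈ CW := toSet_mem_CW (by decide +kernel)

theorem none_mem : (none : GolayPt) ∈ O0 := by decide +kernel

theorem O0_card : O0.card = 8 := by decide +kernel

/-- Normal form of the vectors supported in the octad. -/
theorem form (v : ↥L8) : ∃ (t : ℤ) (y : GolayPt → ℤ), (∀ i, co v i = 2 * t * chi O0 i + 4 * y i) ∧
    (∀ i, i ∉ O0 → y i = 0) ∧ (2 : ℤ) ∣ ∑ i, y i := by
  obtain ⟨e, c, y, he, hc, hx, hs⟩ := (mem_leech.mp (v : ↥leechLattice).2).normal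
  obtain ⟨p, hp⟩ := exists_notMem_octad (o := O0) ⟨O0_CW, O0_card⟩
  have he0 : e = 0 := by
    have h := hx p
    rw [show ((v : ↥leechLattice) : GolayPt → ℤ) p = 0 from v.2 p hp] at h
    omega
  subst he0
  have hout : ∀ i, i ∉ O0 → i ∉ c ∧ y i = 0 := fun i hi => by
    have h := hx i
    rw [show ((v : ↥leechLattice) : GolayPt → ℤ) i = 0 from v.2 i hi] at h
    by_cases hic : i ∈ c <;> simp only [chi, hic, if_true, if_false] at h
    · omega
    · exact ⟨hic, by omega⟩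
  have hsub : c ⊆ O0 := fun i hi => by
    by_contra hi'
    exact (hout i hi').1 hi
  have hcase : c = ∅ ∨ c = O0 := by
    have hle := Finset.card_le_card hsub
    rw [O0_card] at hle
    rcases CW_weights hc with h | h | h | h | h
    · exact Or.inl h
    · exact Or.inr (Finset.eq_of_subset_of_card_le hsub (by rw [O0_card, h]))
    all_goals first | omega | (exfalso; rw [h, Finset.card_univ, card_univ_pt] at hle; omega)
  refine ⟨if c = ∅ then 0 else 1, y, fun i => ?_, fun i hi => (hout i hi).2, by simpa using hs⟩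
  show ((v : ↥leechLattice) : GolayPt → ℤ) i = _
  rw [hx i]
  rcases hcase with rfl | rfl
  · simp [chi]
  · rw [if_neg (fun h => by rw [← Finset.card_eq_zero, O0_card] at h; omega)]; ring

theorem sum_chi_mul {y : GolayPt → ℤ} (h : ∀ i, i ∉ O0 → y i = 0) : ∑ i, chi O0 i * y i = ∑ i, y i :=
  Finset.sum_congr rfl fun i _ => by by_cases hi : i ∈ O0 <;> simp [chi, hi, h i]

theorem dot_dvd16 (v w : ↥L8) : (16 : ℤ) ∣ dotInt (co v) (co w) := by
  obtain ⟨t, y, hv, hy, hs⟩ := form v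
  obtain ⟨t', y', hw, hy', hs'⟩ := form w
  have h : dotInt (co v) (co w) = 4 * t * t' * ∑ i, chi O0 i + 8 * t * ∑ i, chi O0 i * y' i +
      8 * t' * ∑ i, chi O0 i * y i + 16 * ∑ i, y i * y' i := by
    rw [dotInt, Finset.mul_sum, Finset.mul_sum, Finset.mul_sum, Finset.mul_sum, ← Finset.sum_add_distrib,
      ← Finset.sum_add_distrib, ← Finset.sum_add_distrib]
    refine Finset.sum_congr rfl fun i _ => ?_
    rw [hv i, hw i]
    linear_combination 4 * t * t' * chi_sq O0 i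
  rw [h, sum_chi, O0_card, sum_chi_mul hy, sum_chi_mul hy']
  obtain ⟨a, ha⟩ := hs
  obtain ⟨b, hb⟩ := hs'
  rw [ha, hb]
  exact ⟨2 * t * t' + t * b + t' * a + ∑ i, y i * y' i, by push_cast; ring⟩

theorem norm_dvd32 (v : ↥L8) : (32 : ℤ) ∣ sqNorm (co v) := by
  obtain ⟨t, y, hv, hy, hs⟩ := form v
  have h : sqNorm (co v) = 4 * t ^ 2 * ∑ i, chi O0 i + 16 * t * ∑ i, chi O0 i * y i + 16 * ∑ i, y i ^ 2 := by
    rw [sqNorm, Finset.mul_sum, Finset.mul_sum, Finset.mul_sum, ← Finset.sum_add_distrib, ← Finset.sum_add_distrib]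
    refine Finset.sum_congr rfl fun i _ => ?_
    rw [hv i]
    linear_combination 4 * t ^ 2 * chi_sq O0 i
  rw [h, sum_chi, O0_card, sum_chi_mul hy]
  obtain ⟨a, ha⟩ := hs
  obtain ⟨b, hb⟩ := two_dvd_sum_sq_sub y
  rw [ha, show ∑ i, y i ^ 2 = 2 * b + 2 * a by omega]
  exact ⟨t ^ 2 + t * a + b + a, by push_cast; ring⟩

/-- A test for membership. -/
def Mem8 (x : GolayPt → ℤ) : Prop :=
  (∀ i, i ∉ O0 → x i = 0) ∧ (2 : ℤ) ∣ x none ∧ (∀ i, i ∈ O0 → (4 : ℤ) ∣ x i - x none) ∧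
    (2 : ℤ) ∣ ∑ i ∈ O0, (x i - x none) / 4

instance (x : GolayPt → ℤ) : Decidable (Mem8 x) := by unfold Mem8; infer_instance

theorem Mem8.leech {x : GolayPt → ℤ} (h : Mem8 x) : x ∈ leechLattice := by
  obtain ⟨hout, ⟨t, ht⟩, h4, hs⟩ := h
  have h1 : (fun i => 2 * chi O0 i) ∈ leechLattice :=
    mem_leech.mpr ⟨0, O0, 0, O0_CW, fun i => by simp, by simp⟩
  have h2 : (fun i => if i ∈ O0 then 4 * ((x i - x none) / 4) else 0) ∈ leechLattice := by
    refine mem_leech.mpr ⟨0, ∅, fun i => if i ∈ O0 then (x i - x none) / 4 else 0, CW_empty,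
      fun i => by simp [chi], ?_⟩
    rw [sub_zero]
    simpa [Finset.sum_ite_mem] using hs
  convert add_mem (AddSubgroup.zsmul_mem _ h1 t) h2 using 1
  funext i
  simp only [Pi.add_apply, Pi.smul_apply, smul_eq_mul]
  by_cases hi : i ∈ O0
  · have := h4 i hi
    simp only [chi, hi, if_true]
    omega
  · simp [chi, hi, hout i hi]

/-- An element of the sublattice from the test. -/
def mk8 (x : GolayPt → ℤ) (h : Mem8 x) : ↥L8 := ⟨⟨x, h.leech⟩, h.1⟩

theorem co_mk8 (x : GolayPt → ℤ) (h : Mem8 x) : co (mk8 x h) = x := rfl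

theorem co_ext {v w : ↥L8} (h : co v = co w) : v = w := Subtype.ext (Subtype.ext h)

theorem bas_mem : ∀ s, Mem8 (bas s) := by decide +kernel

/-- The basis in the sublattice. -/
def basV (s : Fin 4 ⊕ Fin 4) : ↥L8 := mk8 (bas s) (bas_mem s)

/-- Coordinates of an integer vector modulo two. -/
def pi0 (x : GolayPt → ℤ) : Vec8 := fun s => ((dotInt x (bas s.swap) / 16 : ℤ) : ZMod 2)

/-- The reduction map. -/
def piH : ↥L8 →+ Vec8 :=
  AddMonoidHom.mk' (fun v => pi0 (co v)) fun v w => funext fun s => by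
    have h : dotInt (co (v + w)) (bas s.swap) = dotInt (co v) (bas s.swap) + dotInt (co w) (bas s.swap) := by
      simp only [dotInt, co, AddSubgroup.coe_add, Pi.add_apply, add_mul, Finset.sum_add_distrib]
    show ((dotInt (co (v + w)) (bas s.swap) / 16 : ℤ) : ZMod 2) = _
    rw [h, Int.add_ediv_of_dvd_left (show (16 : ℤ) ∣ dotInt (co v) (bas s.swap) from dot_dvd16 v (basV s.swap)),
      Int.cast_add]
    rfl

theorem piH_apply (v : ↥L8) : piH v = pi0 (co v) := rfl

theorem piH_two (z : ↥L8) : piH (2 • z) = 0 := by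
  rw [map_nsmul]
  funext s
  rw [Pi.smul_apply, two_nsmul, CharTwo.add_self_eq_zero]
  rfl

/-- The integer vector with given coordinates. -/
def liftF (a : Vec8) : GolayPt → ℤ := fun i => ∑ s, ((a s).val : ℤ) * bas s i

/-- The element with given coordinates. -/
def lift (a : Vec8) : ↥L8 := ∑ s, (a s).val • basV s

theorem co_lift (a : Vec8) : co (lift a) = liftF a := by
  funext i
  simp only [co, lift, liftF, AddSubgroup.val_finsetSum, AddSubgroup.coe_nsmul, Finset.sum_apply, Pi.smul_apply,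
    nsmul_eq_mul]
  rfl

theorem pi_basV : ∀ s t, pi0 (bas s) t = if t = s then 1 else 0 := by decide +kernel

theorem piH_basV (s : Fin 4 ⊕ Fin 4) : piH (basV s) = Pi.single s 1 := by
  funext t
  rw [piH_apply, show co (basV s) = bas s from rfl, pi_basV, Pi.single_apply]

theorem piH_lift (a : Vec8) : piH (lift a) = a := by
  rw [lift, map_sum, Finset.sum_congr rfl fun s _ => show piH ((a s).val • basV s) = Pi.single s (a s) by
    rw [map_nsmul, piH_basV, ← Pi.single_smul', nsmul_eq_mul, mul_one, ZMod.natCast_zmod_val],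
    Finset.univ_sum_single]

/-- The class modulo two. -/
abbrev cl : ↥L8 →+ ↥L8 ⧸ (nsmulAddMonoidHom (α := ↥L8) 2).range := QuotientAddGroup.mk' _

theorem cl_eq_iff {x y : ↥L8} : cl x = cl y ↔ ∃ z : ↥L8, x - y = 2 • z := by
  simp only [cl, QuotientAddGroup.mk'_apply, QuotientAddGroup.eq_iff_sub_mem, AddMonoidHom.mem_range,
    nsmulAddMonoidHom_apply, eq_comm]

theorem cl_two (x : ↥L8) : cl x + cl x = 0 := by
  rw [← map_add, ← two_nsmul, ← map_zero cl]
  exact cl_eq_iff.mpr ⟨x, by simp⟩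

/-- The lift as a homomorphism to classes. -/
def liftH : Vec8 →+ ↥L8 ⧸ (nsmulAddMonoidHom (α := ↥L8) 2).range :=
  AddMonoidHom.mk' (fun a => cl (lift a)) fun a b => by
    simp only [lift, map_sum, map_nsmul, ← Finset.sum_add_distrib]
    refine Finset.sum_congr rfl fun s _ => ?_
    have h := cl_two (basV s)
    rw [Pi.add_apply, ← add_nsmul]
    have key : ∀ x y : ZMod 2, x.val + y.val = (x + y).val + 2 * (x.val * y.val) := by decide
    rw [key, add_nsmul, mul_comm 2, mul_nsmul', two_nsmul, h, nsmul_zero, add_zero]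

/-- Generators of the sublattice: the doubled octad, the differences, twice a point. -/
def dV (i : GolayPt) : GolayPt → ℤ := fun a => 4 * chi {i} a - 4 * chi {none} a

/-- The congruence test. -/
def Cong (x : GolayPt → ℤ) : Prop :=
  Mem8 x ∧ (∀ i, (2 : ℤ) ∣ x i - liftF (pi0 x) i) ∧ Mem8 fun i => (x i - liftF (pi0 x) i) / 2

instance (x : GolayPt → ℤ) : Decidable (Cong x) := by unfold Cong; infer_instance

theorem gen_checks : Cong (fun i => 2 * chi O0 i) ∧ Cong (fun i => 8 * chi {none} i) ∧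
    ∀ i, i ∈ O0 → Cong (dV i) := by decide +kernel

theorem Cong.mem {x : GolayPt → ℤ} (h : Cong x) : liftH (piH (mk8 x h.1)) = cl (mk8 x h.1) := by
  refine (cl_eq_iff.mpr ⟨mk8 _ h.2.2, co_ext (funext fun i => ?_)⟩).symm
  have hd := h.2.1 i
  have hl := congrFun (co_lift (piH (mk8 x h.1))) i
  show x i - co (lift (piH (mk8 x h.1))) i = (2 • co (mk8 _ h.2.2)) i
  rw [hl, piH_apply, co_mk8, co_mk8, Pi.smul_apply, nsmul_eq_mul]
  push_cast
  omega

theorem congruent (v : ↥L8) : ∃ z : ↥L8, v = lift (piH v) + 2 • z := by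
  suffices h : liftH (piH v) = cl v by
    obtain ⟨z, hz⟩ := cl_eq_iff.mp h.symm
    exact ⟨z, by rw [← hz]; abel⟩
  obtain ⟨t, y, hv, hy, k, hk⟩ := form v
  obtain ⟨c1, c2, c3⟩ := gen_checks
  have hdec : v = t • mk8 _ c1.1 + ∑ i : ↥O0, y i • mk8 _ (c3 i i.2).1 + k • mk8 _ c2.1 := by
    refine co_ext (funext fun a => ?_)
    simp only [co, AddSubgroup.coe_add, AddSubgroup.coe_zsmul, AddSubgroup.val_finsetSum, Pi.add_apply,
      Pi.smul_apply, Finset.sum_apply, mk8, smul_eq_mul]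
    rw [show ((v : ↥leechLattice) : GolayPt → ℤ) a = co v a from rfl, hv a,
      Finset.sum_coe_sort O0 fun i => y i * dV i a,
      Finset.sum_subset (Finset.subset_univ O0) fun i _ hi => by rw [hy i hi, zero_mul]]
    have e : ∑ i, y i * dV i a = 4 * y a - 4 * (∑ i, y i) * chi {none} a := by
      have e1 : ∀ i, y i * dV i a = (if a = i then 4 * y i else 0) - 4 * y i * chi {none} a := fun i => by
        simp only [dV, chi, Finset.mem_singleton]
        split_ifs <;> ring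
      rw [Finset.sum_congr rfl fun i _ => e1 i, Finset.sum_sub_distrib, Finset.sum_ite_eq,
        if_pos (Finset.mem_univ _), ← Finset.sum_mul, ← Finset.mul_sum]
    rw [e, hk]
    ring
  have hgen : ∀ {x : GolayPt → ℤ} (h : Cong x), (liftH.comp piH) (mk8 x h.1) = cl (mk8 x h.1) := fun h => h.mem
  show (liftH.comp piH) v = cl v
  rw [hdec]
  simp only [map_add, map_zsmul, map_sum, hgen c1, hgen c2]
  congr 2
  exact Finset.sum_congr rfl fun i _ => by rw [hgen (c3 i i.2)]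

theorem pi_eq_iff {v w : ↥L8} : piH v = piH w ↔ ∃ z : ↥L8, v - w = 2 • z := by
  constructor
  · intro h
    obtain ⟨a, ha⟩ := congruent v
    obtain ⟨b, hb⟩ := congruent w
    exact ⟨a - b, by rw [ha, hb, h, smul_sub]; abel⟩
  · rintro ⟨z, hz⟩
    rw [← sub_eq_zero, ← map_sub, hz, piH_two]

theorem form_checks : ∀ a : Vec8, ((sqNorm (liftF a) / 32 : ℤ) : ZMod 2) = Q8 a := by decide +kernel

theorem Q8_piH (v : ↥L8) : Q8 (piH v) = ((sqNorm (co v) / 32 : ℤ) : ZMod 2) := by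
  obtain ⟨z, hz⟩ := congruent v
  rw [← form_checks (piH v)]
  obtain ⟨a, ha⟩ := dot_dvd16 (lift (piH v)) z
  obtain ⟨b, hb⟩ := norm_dvd32 z
  have h : sqNorm (co v) = sqNorm (co (lift (piH v))) + 4 * dotInt (co (lift (piH v))) (co z) + 4 * sqNorm (co z) := by
    conv_lhs => rw [hz]
    simp only [sqNorm, dotInt, Finset.mul_sum, ← Finset.sum_add_distrib]
    refine Finset.sum_congr rfl fun i _ => ?_
    show (co (lift (piH v)) i + (2 • co z) i) ^ 2 = _
    rw [Pi.smul_apply, nsmul_eq_mul]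
    push_cast
    ring
  rw [h, ha, hb, ← co_lift (piH v), show
    sqNorm (co (lift (piH v))) + 4 * (16 * a) + 4 * (32 * b) = sqNorm (co (lift (piH v))) + 32 * (2 * (a + 2 * b)) by ring,
    Int.add_mul_ediv_left _ _ (by norm_num : (32 : ℤ) ≠ 0), Int.cast_add, Int.cast_mul]
  rw [show ((2 : ℤ) : ZMod 2) = 0 from by decide, zero_mul, add_zero]

/-- The sign change on the octad. -/
noncomputable def eps : ↥Co0 := sgn O0 O0_CW

/-- Its centraliser. -/
noncomputable abbrev C0 : Subgroup ↥Co0 := Subgroup.centralizer {eps}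

theorem eps_apply (v : ↥leechLattice) (i : GolayPt) :
    ((eps • v : ↥leechLattice) : GolayPt → ℤ) i = if i ∈ O0 then -(v : GolayPt → ℤ) i else (v : GolayPt → ℤ) i := by
  rw [eps, sgn, monoAut_apply, signs_apply]

theorem mem_L8_iff (v : ↥leechLattice) : v ∈ L8 ↔ eps • v = -v := by
  constructor
  · intro h
    refine Subtype.ext (funext fun i => ?_)
    rw [eps_apply]
    by_cases hi : i ∈ O0
    · simp [hi]
    · simp [hi, h i hi]
  · intro h i hi
    have := congrFun (congrArg Subtype.val h) i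
    rw [eps_apply, if_neg hi] at this
    simp only [AddSubgroup.coe_neg, Pi.neg_apply] at this
    omega

theorem C0_keeps {g : ↥Co0} (hg : g ∈ C0) {v : ↥leechLattice} (hv : v ∈ L8) : g • v ∈ L8 := by
  rw [mem_L8_iff] at hv ⊢
  rw [← mul_smul, ← Subgroup.mem_centralizer_singleton_iff.mp hg, mul_smul, hv, aut_neg]

/-- The action on the sublattice. -/
noncomputable def actL (g : ↥C0) : ↥L8 →+ ↥L8 :=
  AddMonoidHom.mk' (fun v => ⟨(g : ↥Co0) • (v : ↥leechLattice), C0_keeps g.2 v.2⟩) fun v w =>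
    Subtype.ext (map_add (autHom (g : ↥Co0)) _ _)

theorem actL_coe (g : ↥C0) (v : ↥L8) : ((actL g v : ↥L8) : ↥leechLattice) = (g : ↥Co0) • (v : ↥leechLattice) := rfl

theorem actL_one (v : ↥L8) : actL 1 v = v := Subtype.ext (one_smul _ _)

theorem actL_mul (g h : ↥C0) (v : ↥L8) : actL (g * h) v = actL g (actL h v) := Subtype.ext (mul_smul _ _ _)

/-- The matrix of an element. -/
noncomputable def matG (g : ↥C0) : Matrix (Fin 4 ⊕ Fin 4) (Fin 4 ⊕ Fin 4) (ZMod 2) :=
  Matrix.of fun t s => piH (actL g (basV s)) t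

theorem matG_mulVec (g : ↥C0) (v : ↥L8) : matG g *ᵥ piH v = piH (actL g v) := by
  obtain ⟨z, hz⟩ := congruent v
  conv_rhs => rw [hz, map_add, map_nsmul, map_add, piH_two, add_zero, lift, map_sum, map_sum]
  funext t
  simp only [Matrix.mulVec, dotProduct, matG, Matrix.of_apply, Finset.sum_apply]
  refine Finset.sum_congr rfl fun s _ => ?_
  rw [map_nsmul, map_nsmul, Pi.smul_apply, nsmul_eq_mul, ZMod.natCast_zmod_val, mul_comm]

theorem matG_ext {g : ↥C0} {M : Matrix (Fin 4 ⊕ Fin 4) (Fin 4 ⊕ Fin 4) (ZMod 2)}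
    (h : ∀ v, M *ᵥ piH v = piH (actL g v)) : M = matG g := by
  refine Matrix.ext_of_mulVec_single fun s => ?_
  rw [← piH_basV, h, matG_mulVec]

/-- The matrices as a homomorphism. -/
noncomputable def matHom : ↥C0 →* Matrix (Fin 4 ⊕ Fin 4) (Fin 4 ⊕ Fin 4) (ZMod 2) where
  toFun := matG
  map_one' := (matG_ext fun v => by rw [Matrix.one_mulVec, actL_one]).symm
  map_mul' g h := (matG_ext fun v => by
    rw [← Matrix.mulVec_mulVec, matG_mulVec, matG_mulVec, actL_mul]).symm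

theorem isometry (g : ↥C0) : matHom.toHomUnits g ∈ Cfsg.isometryGroup (ZMod 2) Q8 := fun a _ => by
  show Q8 (matG g *ᵥ a) = Q8 a
  conv_rhs => rw [← piH_lift a]
  conv_lhs => rw [← piH_lift a]
  rw [matG_mulVec, Q8_piH, Q8_piH]
  congr 2
  exact aut_norm (g : ↥Co0) (lift a).1

/-- The representation on the quadratic space. -/
noncomputable def phi : ↥C0 →* ↥(Cfsg.isometryGroup (ZMod 2) Q8) :=
  matHom.toHomUnits.codRestrict _ isometry

theorem phi_mulVec (g : ↥C0) (v : ↥L8) : (phi g).1.1 *ᵥ piH v = piH (actL g v) := matG_mulVec g v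

theorem mem_ker {g : ↥C0} : g ∈ phi.ker ↔ ∀ v : ↥L8, ∃ z : ↥L8, actL g v - v = 2 • z := by
  refine ⟨fun h v => pi_eq_iff.mp ?_, fun h => MonoidHom.mem_ker.mpr (Subtype.ext (Units.ext ?_))⟩
  · rw [← phi_mulVec, MonoidHom.mem_ker.mp h]
    simp
  · exact (matG_ext fun v => by rw [Subgroup.coe_one, Units.val_one, Matrix.one_mulVec, pi_eq_iff.mpr (h v)]).symm

end CfsgLeech.OctInv
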