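/-
The centraliser of the sign change on an octad: order, kernel and image on the quadratic space.
-/
import Cfsg.Agent.Lib.Leech.OctForm
import Cfsg.Agent.Lib.Golay.OctStab
import Cfsg.Agent.Lib.StemSylow.OEightModel
import Cfsg.Agent.Lib.OrthOrderBase

set_option autoImplicit false

namespace CfsgLeech.OctInv

open Cfsg CfsgGolay
open scoped Pointwise Matrix

attribute [local irreducible] codeL octadL dodecadL slpCodes

theorem mono_inj {σ σ' : Equiv.Perm GolayPt} {hσ : σ ∈ M24} {hσ' : σ' ∈ M24} {c c' : Finset GolayPt} {hc : c ∈ CW}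
    {hc' : c' ∈ CW} (h : monoAut σ hσ c hc = monoAut σ' hσ' c' hc') : σ = σ' ∧ c = c' := by
  refine signedPerm_inj fun x hx => ?_
  have := congrArg (fun g : ↥Co0 => ((g • (⟨x, hx⟩ : ↥leechLattice) : ↥leechLattice) : GolayPt → ℤ)) h
  simpa only [monoAut_apply] using this

theorem mono_mem_iff {σ : Equiv.Perm GolayPt} {hσ : σ ∈ M24} {c : Finset GolayPt} {hc : c ∈ CW} :
    monoAut σ hσ c hc ∈ C0 ↔ σ • O0 = O0 := by
  rw [Subgroup.mem_centralizer_singleton_iff, ← mul_inv_eq_iff_eq_mul, eps, mono_conj_sgn hσ hc O0_CW]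
  exact ⟨fun h => (mono_inj h).2, fun h => sgn_congr h⟩

/-- The class of twice a point. -/
def axV : ↥L8 := ⟨ax none, fun i hi => by
  rw [ax_coe, Pi.single_eq_of_ne fun h : i = none => hi (h ▸ none_mem)]⟩

theorem co_axV : co axV = Pi.single none 8 := rfl

theorem pi_axis : ∀ i, i ∈ O0 → pi0 (Pi.single i 8) = pi0 (Pi.single none 8) ∧
    pi0 (Pi.single i (-8)) = pi0 (Pi.single none 8) := by decide +kernel

theorem congr_keeps {g : ↥Co0} (h : ∃ z : ↥leechLattice, g • ax none - ax none = 2 • z) : KeepsCross g := by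
  obtain ⟨z, hz⟩ := h
  intro v hv
  rw [← cross_ax_none] at hv ⊢
  obtain ⟨-, hn, w, hw, he⟩ := hv
  refine ⟨(g • v).2, by rw [aut_norm]; exact hn,
    ((g • (⟨w, hw⟩ : ↥leechLattice) - z : ↥leechLattice) : GolayPt → ℤ), SetLike.coe_mem _, ?_⟩
  have he' : ax none - v = 2 • (⟨w, hw⟩ : ↥leechLattice) := Subtype.ext he
  have h2 := congrArg (autHom g) he'
  rw [map_sub, map_nsmul] at h2
  have h3 : g • ax none - g • v = 2 • (g • (⟨w, hw⟩ : ↥leechLattice)) := h2
  refine congrArg Subtype.val (show ax none - g • v = 2 • (g • (⟨w, hw⟩ : ↥leechLattice) - z) from ?_)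
  rw [smul_sub, ← h3, ← hz]
  abel

theorem axis_class {g : ↥C0} : piH (actL g axV) = piH axV ↔ (g : ↥Co0) ∈ crossStab := by
  constructor
  · intro h
    obtain ⟨z, hz⟩ := pi_eq_iff.mp h
    exact congr_keeps ⟨z, congrArg Subtype.val hz⟩
  · intro h
    obtain ⟨σ, c, hσ, hc, he⟩ := keepsCross_monomial h
    have hO : σ • O0 = O0 := (mono_mem_iff (hσ := hσ) (hc := hc)).mp (he ▸ g.2)
    have hm : σ none ∈ O0 := by
      have := Finset.smul_mem_smul_finset (a := σ) none_mem
      rwa [hO] at this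
    rw [piH_apply, piH_apply, co_axV]
    have e : co (actL g axV) = Pi.single (σ none) (if σ none ∈ c then -8 else 8) := by
      show (((g : ↥Co0) • ax none : ↥leechLattice) : GolayPt → ℤ) = _
      rw [he, monoAut_apply, ax_coe]
      funext i
      obtain ⟨j, rfl⟩ := σ.surjective i
      by_cases hj : j = none
      · subst hj; simp [signedPerm]
      · simp [signedPerm, hj]
    rw [e]
    split_ifs
    exacts [(pi_axis _ hm).2, (pi_axis _ hm).1]

/-- The sum of two quadrupled points of the octad. -/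
def pairF (i j : GolayPt) : GolayPt → ℤ := fun a => 4 * chi {i} a + 4 * chi {j} a

theorem pair_mem : ∀ i, i ∈ O0 → ∀ j, j ∈ O0 → Mem8 (pairF i j) := by decide +kernel

theorem pair_short : ∀ i, i ∈ O0 → ∀ j, j ∈ O0 → i ≠ j → sqNorm (pairF i j) = 32 := by decide +kernel

theorem exists_two_others : ∀ i, i ∈ O0 → ∃ j, j ∈ O0 ∧ ∃ k, k ∈ O0 ∧ i ≠ j ∧ i ≠ k ∧ j ≠ k := by decide +kernel

theorem pair_fixed {g : ↥C0} (hg : g ∈ phi.ker) {i j : GolayPt} (hi : i ∈ O0) (hj : j ∈ O0) (hij : i ≠ j) :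
    co (actL g (mk8 _ (pair_mem i hi j hj))) = pairF i j ∨
      co (actL g (mk8 _ (pair_mem i hi j hj))) = -pairF i j := by
  set v := mk8 _ (pair_mem i hi j hj) with hv
  obtain ⟨z, hz⟩ := mem_ker.mp hg v
  by_cases he : (actL g v : ↥leechLattice) = v
  · exact Or.inl (congrArg Subtype.val he)
  have hn : sqNorm (co v) = 32 := pair_short i hi j hj hij
  have hn' : sqNorm (co (actL g v)) = 32 := (aut_norm (g : ↥Co0) v).trans hn
  rcases leechFrames.short he (x := (actL g v : ↥leechLattice)) (y := (v : ↥leechLattice))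
    ((dotHom_self _).trans_le (hn'.trans_le (by norm_num [leechFrames])))
    ((dotHom_self _).trans_le (hn.trans_le (by norm_num [leechFrames])))
    (FrameData.cls_eq_iff.mpr ⟨(z : ↥leechLattice), congrArg Subtype.val hz⟩) with h | ⟨h, -⟩
  · exact Or.inr (congrArg Subtype.val h)
  · rw [show leechFrames.d = dotHom from rfl, dotHom_self, show leechFrames.s = 8 from rfl] at h
    rw [hn'] at h
    norm_num at h

theorem ker_shape {g : ↥C0} (hg : g ∈ phi.ker) : ∃ (σ : Equiv.Perm GolayPt) (hσ : σ ∈ M24) (c : Finset GolayPt)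
    (hc : c ∈ CW), (g : ↥Co0) = monoAut σ hσ c hc ∧ σ ∈ fixOct O0 ∧ (c ∩ O0 = ∅ ∨ c ∩ O0 = O0) := by
  obtain ⟨σ, c, hσ, hc, he⟩ := keepsCross_monomial (axis_class.mp (pi_eq_iff.mpr (mem_ker.mp hg axV)))
  have hval : ∀ {i j} (hi : i ∈ O0) (hj : j ∈ O0) a, co (actL g (mk8 _ (pair_mem i hi j hj))) (σ a) =
      if σ a ∈ c then -pairF i j a else pairF i j a := fun hi hj a => by
    show (((g : ↥Co0) • _ : ↥leechLattice) : GolayPt → ℤ) (σ a) = _
    rw [he, monoAut_apply]
    simp only [signedPerm, Equiv.symm_apply_apply]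
    rfl
  have hp : ∀ {i j}, i ≠ j → pairF i j i = 4 ∧ pairF i j j = 4 := fun h => by
    simp [pairF, chi, h, Ne.symm h]
  have hpair : ∀ {i j}, i ∈ O0 → j ∈ O0 → i ≠ j →
      (σ i = i ∨ σ i = j) ∧ (σ i ∈ c ↔ σ j ∈ c) := fun {i j} hi hj hij => by
    obtain ⟨h1, h2⟩ := hp hij
    have v1 := hval hi hj i
    have v2 := hval hi hj j
    rw [h1] at v1
    rw [h2] at v2
    have hs : ∀ a, pairF i j a ≠ 0 → a = i ∨ a = j := fun a => by
      by_cases e1 : a = i <;> by_cases e2 : a = j <;> simp [pairF, chi, e1, e2]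
    rcases pair_fixed hg hi hj hij with h | h <;> rw [h] at v1 v2 <;>
      (try simp only [Pi.neg_apply] at v1 v2) <;>
      (have hi' : pairF i j (σ i) ≠ 0 := fun e => by rw [e] at v1; split_ifs at v1 <;> omega
       have hj' : pairF i j (σ j) ≠ 0 := fun e => by rw [e] at v2; split_ifs at v2 <;> omega
       refine ⟨hs _ hi', ?_⟩
       have e1 : pairF i j (σ i) = 4 := by rcases hs _ hi' with a | a <;> rw [a] <;> assumption
       have e2 : pairF i j (σ j) = 4 := by rcases hs _ hj' with a | a <;> rw [a] <;> assumption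
       rw [e1] at v1
       rw [e2] at v2
       by_cases x : σ i ∈ c <;> by_cases y : σ j ∈ c <;> simp [x, y] at v1 v2 ⊢)
  have hfix : ∀ i, i ∈ O0 → σ i = i := fun i hi => by
    obtain ⟨j, hj, k, hk, h1, h2, h3⟩ := exists_two_others i hi
    rcases (hpair hi hj h1).1 with h | h
    · exact h
    · rcases (hpair hi hk h2).1 with h' | h'
      · exact h'
      · exact absurd (h.symm.trans h') h3
  refine ⟨σ, hσ, c, hc, he, ⟨hσ, (mem_fixingSubgroup_iff _).mpr fun p hp => hfix p (Finset.mem_coe.mp hp)⟩, ?_⟩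
  by_cases hn : (none : GolayPt) ∈ c
  · refine Or.inr (Finset.inter_eq_right.mpr fun i hi => ?_)
    by_cases hi' : i = none
    · exact hi' ▸ hn
    · have h := (hpair hi none_mem hi').2
      rw [hfix i hi, hfix none none_mem] at h
      exact h.mpr hn
  · refine Or.inl (Finset.eq_empty_of_forall_notMem fun i hi => ?_)
    rw [Finset.mem_inter] at hi
    by_cases hi' : i = none
    · exact hn (hi' ▸ hi.1)
    · have h := (hpair hi.2 none_mem hi').2
      rw [hfix i hi.2, hfix none none_mem] at h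
      exact hn (h.mp hi.1)

theorem fixOct_smul {σ : Equiv.Perm GolayPt} (hσ : σ ∈ fixOct O0) : σ • O0 = O0 := by
  refine Finset.eq_of_subset_of_card_le (fun a ha => ?_) (by rw [Finset.card_smul_finset])
  obtain ⟨b, hb, rfl⟩ := Finset.mem_smul_finset.mp ha
  rw [(mem_fixingSubgroup_iff _).mp hσ.2 b (Finset.mem_coe.mpr hb)]
  exact hb

theorem shape_ker {σ : Equiv.Perm GolayPt} (hσ : σ ∈ fixOct O0) {c : Finset GolayPt} (hc : c ∈ CW)
    (h : c ∩ O0 = ∅ ∨ c ∩ O0 = O0) :
    ∃ g : ↥C0, g ∈ phi.ker ∧ (g : ↥Co0) = monoAut σ hσ.1 c hc := by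
  refine ⟨⟨monoAut σ hσ.1 c hc, mono_mem_iff.mpr (fixOct_smul hσ)⟩, mem_ker.mpr fun v => ?_, rfl⟩
  have key : ∀ i, co (actL ⟨monoAut σ hσ.1 c hc, mono_mem_iff.mpr (fixOct_smul hσ)⟩ v) i =
      if i ∈ c then -co v i else co v i := fun i => by
    show signedPerm σ c (co v) i = _
    by_cases hi : i ∈ O0
    · have hfi : σ i = i := (mem_fixingSubgroup_iff _).mp hσ.2 i (Finset.mem_coe.mpr hi)
      rw [signedPerm, show σ.symm i = i from σ.symm_apply_eq.mpr hfi.symm]
    · have h0 : σ.symm i ∉ O0 := fun h' => hi (by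
        have hfi : σ (σ.symm i) = σ.symm i := (mem_fixingSubgroup_iff _).mp hσ.2 _ (Finset.mem_coe.mpr h')
        rw [Equiv.apply_symm_apply] at hfi
        rwa [hfi])
      simp [signedPerm, co_zero_out v hi, co_zero_out v h0]
  rcases h with h | h
  · refine ⟨0, co_ext (funext fun i => ?_)⟩
    have hk := key i
    simp only [co, AddSubgroup.coe_sub, Pi.sub_apply, smul_zero, AddSubgroup.coe_zero, Pi.zero_apply] at hk ⊢
    rw [hk]
    by_cases hi : i ∈ O0
    · have : i ∉ c := fun hic => by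
        have : i ∈ c ∩ O0 := Finset.mem_inter.mpr ⟨hic, hi⟩
        rw [h] at this; simp at this
      simp [this]
    · simp [show ((v : ↥leechLattice) : GolayPt → ℤ) i = 0 from v.2 i hi]
  · refine ⟨-v, co_ext (funext fun i => ?_)⟩
    have hk := key i
    simp only [co, AddSubgroup.coe_sub, Pi.sub_apply, AddSubgroup.coe_nsmul, Pi.smul_apply, AddSubgroup.coe_neg,
      Pi.neg_apply, nsmul_eq_mul, Nat.cast_ofNat] at hk ⊢
    rw [hk]
    by_cases hi : i ∈ O0
    · have : i ∈ c := Finset.inter_eq_right.mp h hi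
      simp [this]; ring
    · simp [show ((v : ↥leechLattice) : GolayPt → ℤ) i = 0 from v.2 i hi]

/-- The masks of the codewords containing or missing the octad. -/
def wordsK : List ℕ := codeL.filter fun m => Nat.beq (m &&& 8536111) 0 || Nat.beq (m &&& 8536111) 8536111

theorem wordsK_checks : wordsK.length = 64 ∧ wordsK.Nodup := by decide +kernel

theorem inter_O0 {m : ℕ} : toSet m ∩ O0 = toSet (m &&& 8536111) := by rw [O0, toSet_and]

theorem toSet_zero : toSet 0 = ∅ := by decide +kernel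

theorem mem_wordsK {m : ℕ} : m ∈ wordsK ↔ toSet m ∈ CW ∧ m < 2 ^ 24 ∧ (toSet m ∩ O0 = ∅ ∨ toSet m ∩ O0 = O0) := by
  simp only [wordsK, List.mem_filter, Bool.or_eq_true, inter_O0, CW, supports_eq]
  constructor
  · rintro ⟨hm, h⟩
    refine ⟨⟨m, hm, rfl⟩, codeL_lt m hm, h.imp (fun e => ?_) fun e => ?_⟩
    · rw [Nat.eq_of_beq_eq_true e, toSet_zero]
    · rw [Nat.eq_of_beq_eq_true e]; rfl
  · rintro ⟨⟨m', hm', he⟩, hlt, h⟩
    obtain rfl : m' = m := toSet_injOn (codeL_lt m' hm') hlt he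
    have hl : m' &&& 8536111 < 2 ^ 24 := lt_of_le_of_lt Nat.and_le_left hlt
    refine ⟨hm', h.imp (fun e => ?_) fun e => ?_⟩
    · rw [← toSet_zero] at e
      rw [toSet_injOn hl (show (0 : ℕ) < 2 ^ 24 by norm_num) e]; rfl
    · rw [O0] at e
      rw [toSet_injOn hl (show (8536111 : ℕ) < 2 ^ 24 by norm_num) e]; rfl

/-- The kernel consists of 1024 monomial maps. -/
theorem card_ker : Nat.card ↥phi.ker = 1024 := by
  classical
  let S : Set (Finset GolayPt) := {c | c ∈ CW ∧ (c ∩ O0 = ∅ ∨ c ∩ O0 = O0)}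
  have hS : S = toSet '' {m | m ∈ wordsK} := by
    ext c
    constructor
    · rintro ⟨hc, h⟩
      exact ⟨toMask c, mem_wordsK.mpr ⟨by rw [toSet_toMask]; exact hc, toMask_lt c, by rw [toSet_toMask]; exact h⟩,
        toSet_toMask c⟩
    · rintro ⟨m, hm, rfl⟩
      exact ⟨(mem_wordsK.mp hm).1, (mem_wordsK.mp hm).2.2⟩
  have hcS : Nat.card ↥S = 64 := by
    rw [Nat.card_coe_set_eq, hS,
      Set.InjOn.ncard_image (s := {m : ℕ | m ∈ wordsK}) (fun a ha b hb h => toSet_injOn (mem_wordsK.mp ha).2.1 (mem_wordsK.mp hb).2.1 h),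
      ← wordsK_checks.1, ← List.toFinset_card_of_nodup wordsK_checks.2, ← Set.ncard_coe_finset]
    congr 1; ext m; simp
  let F : ↥(fixOct O0) × ↥S → ↥phi.ker := fun q =>
    ⟨(shape_ker q.1.2 q.2.2.1 q.2.2.2).choose, (shape_ker q.1.2 q.2.2.1 q.2.2.2).choose_spec.1⟩
  have hF : ∀ q, ((F q : ↥C0) : ↥Co0) = monoAut q.1.1 q.1.2.1 q.2.1 q.2.2.1 :=
    fun q => (shape_ker q.1.2 q.2.2.1 q.2.2.2).choose_spec.2
  have hbij : Function.Bijective F := by
    refine ⟨fun a b h => ?_, fun g => ?_⟩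
    · have h' := congrArg (fun g : ↥phi.ker => ((g : ↥C0) : ↥Co0)) h
      simp only [hF] at h'
      exact Prod.ext (Subtype.ext (mono_inj h').1) (Subtype.ext (mono_inj h').2)
    · obtain ⟨σ, hσ, c, hc, he, hf, h⟩ := ker_shape g.2
      exact ⟨(⟨σ, hf⟩, ⟨c, hc, h⟩), Subtype.ext (Subtype.ext ((hF _).trans he.symm))⟩
  rw [← Nat.card_eq_of_bijective F hbij, Nat.card_prod, octFixGr_eq.2, hcS]

/-! ### The orbit of an axis -/

/-- The code of a vector. -/
def vecOf (c : ℕ) : Vec8 := CfsgLib.StemSylow.OEight.vec c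

/-- Three elements, as words. -/
def genW : List (List Step) :=
  [[some (605085936765952945290987061624144419, 0)],
   [some (984818244535754528103549039458486304, 14919680)], [none]]

/-- Their columns. -/
def genCol : List (List ℕ) :=
  [[1, 66, 64, 128, 16, 160, 36, 74], [1, 2, 4, 9, 153, 32, 64, 129], [231, 18, 20, 24, 16, 48, 80, 128]]

/-- The orbit. -/
def orbL : List ℕ :=
  [1, 231, 205, 230, 175, 59, 204, 105, 73, 115, 179, 174, 220, 5, 104, 159, 165, 72, 215, 250, 133, 185, 85, 190, 65, 243, 4, 120, 217, 22, 171, 164, 67, 125, 95, 33, 28, 11, 132, 123, 48, 117, 55, 37, 183, 157, 64, 20, 240, 255, 80, 63, 18, 41, 93, 170, 103, 245, 155, 161, 208, 148, 195, 10, 237, 87, 176, 32, 213, 252, 131, 193, 225, 249, 36, 222, 118, 9, 52, 51, 82, 2, 40, 207, 186, 135, 129, 3, 153, 235, 160, 126, 88, 192, 26, 45, 194, 15, 56, 30, 130, 111, 224, 7, 112, 150, 8, 189, 219, 66, 134, 97, 75, 128, 16, 13, 234, 246, 110, 180, 210, 146, 44, 14, 206, 24, 102, 74,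 12, 6, 60, 90, 96, 236, 144]

/-- Its tree. -/
def orbPar : List ℕ :=
  [0, 2, 4, 5, 8, 10, 12, 16, 18, 20, 21, 24, 26, 28, 29, 30, 32, 33, 36, 37, 38, 40, 42, 48, 52, 54, 56, 58, 60, 61, 64, 65, 66, 72, 73, 74, 76, 80, 81, 84, 85, 88, 93, 96, 98, 100, 104, 106, 109, 112, 113, 114, 116, 120, 122, 124, 128, 133, 134, 140, 144, 145, 148, 149, 150, 156, 160, 162, 164, 165, 166, 170, 172, 176, 184, 192, 197, 198, 200, 204, 208, 210, 213, 214, 222, 224, 226, 230, 232, 236, 237, 240, 241, 242, 244, 248, 249, 256, 265, 276, 281, 284, 289, 290, 293, 304, 309, 313, 321, 324, 341, 342, 344, 345, 353, 356, 360, 365, 366, 368, 376, 377, 381, 389, 408, 426, 436, 449, 461, 472, 477, 481, 488, 496, 500]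

theorem gen_checks' : ∀ a : Fin 3, wordOK (genW.getD a []) = true ∧
    ∀ s : Fin 4 ⊕ Fin 4, pi0 (runW (genW.getD a []) (bas s)) =
      vecOf ((genCol.getD a []).getD (finSumFinEquiv s : Fin 8) 0) := by decide +kernel

theorem perm_keep : ∀ i : GolayPt, (pt (papp 605085936765952945290987061624144419 (idx i)) ∈ O0 ↔ i ∈ O0) ∧
    (pt (papp 984818244535754528103549039458486304 (idx i)) ∈ O0 ↔ i ∈ O0) ∧
    ∀ j, j ∈ block i → (j ∈ O0 ↔ i ∈ O0) := by decide +kernel

/-- The sign change as a map of integer vectors. -/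
def sg (x : GolayPt → ℤ) : GolayPt → ℤ := fun i => if i ∈ O0 then -x i else x i

theorem sg_step (c m : ℕ) (h : ∀ i, pt (papp c (idx i)) ∈ O0 ↔ i ∈ O0) (x : GolayPt → ℤ) :
    stepF (some (c, m)) (sg x) = sg (stepF (some (c, m)) x) := by
  funext i
  simp only [stepF, sg, h i]
  split_ifs <;> ring

theorem sg_zeta {x : GolayPt → ℤ} (hx : x ∈ leechLattice) : zeta (sg x) = sg (zeta x) := by
  funext i
  have hb : bsum (sg x) i = if i ∈ O0 then -bsum x i else bsum x i := by
    by_cases hi : i ∈ O0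
    · rw [if_pos hi, bsum, bsum, ← Finset.sum_neg_distrib]
      exact Finset.sum_congr rfl fun j hj => by rw [sg, if_pos (((perm_keep i).2.2 j hj).mpr hi)]
    · rw [if_neg hi, bsum, bsum]
      exact Finset.sum_congr rfl fun j hj => by rw [sg, if_neg (mt ((perm_keep i).2.2 j hj).mp hi)]
  obtain ⟨k, hk⟩ := bsum_even hx i
  simp only [zeta, hb, sg, hk]
  split_ifs <;> omega

theorem gen_elem : ∀ a : Fin 3, ∃ g : ↥C0, ∀ s : Fin 4 ⊕ Fin 4,
    matG g *ᵥ (Pi.single s 1) = vecOf ((genCol.getD a []).getD (finSumFinEquiv s : Fin 8) 0) := by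
  intro a
  obtain ⟨hw, hcol⟩ := gen_checks' a
  obtain ⟨g, hg⟩ := exists_word_aut hw
  have hcomm : ∀ v : ↥leechLattice, runW (genW.getD a []) (sg v) = sg (runW (genW.getD a []) v) := by
    intro v
    fin_cases a
    · exact sg_step _ _ (fun i => (perm_keep i).1) _
    · exact sg_step _ _ (fun i => (perm_keep i).2.1) _
    · exact sg_zeta v.2
  have hsg : ∀ v : ↥leechLattice, ((eps • v : ↥leechLattice) : GolayPt → ℤ) = sg v := fun v =>
    funext fun i => eps_apply v i
  have hmem : g ∈ C0 := Subgroup.mem_centralizer_singleton_iff.mpr (aut_ext fun v => by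
    rw [mul_smul, mul_smul, hg, hsg, hsg, hg, hcomm])
  refine ⟨⟨g, hmem⟩, fun s => ?_⟩
  rw [← piH_basV, matG_mulVec, piH_apply, ← hcol s]
  exact congrArg pi0 (hg _)

/-- The image of a code under columns. -/
def colApp (cols : List ℕ) (c : ℕ) : Vec8 :=
  fun t => ∑ s : Fin 4 ⊕ Fin 4, vecOf (cols.getD (finSumFinEquiv s : Fin 8) 0) t * vecOf c s

theorem orb_checks : orbL.length = 135 ∧ (orbL.getD 0 0 = 1) ∧ pi0 (Pi.single none 8) = vecOf 1 ∧
    (∀ k < 134, orbPar.getD (k + 1) 0 / 4 < k + 1 ∧ orbPar.getD (k + 1) 0 % 4 < 3 ∧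
      colApp (genCol.getD (orbPar.getD (k + 1) 0 % 4) []) (orbL.getD (orbPar.getD (k + 1) 0 / 4) 0) =
        vecOf (orbL.getD (k + 1) 0)) ∧ orbL.Nodup ∧ (∀ c ∈ orbL, c < 256) := by decide +kernel

/-- Non-zero singular vectors. -/
def Sing : Finset Vec8 := Finset.univ.filter fun v => Q8 v = 0 ∧ v ≠ 0

theorem sing_card : Sing.card = 135 := by decide +kernel

/-- The action on vectors. -/
noncomputable def actV : ↥C0 →* Equiv.Perm Vec8 where
  toFun g :=
    { toFun := fun v => matG g *ᵥ v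
      invFun := fun v => matG g⁻¹ *ᵥ v
      left_inv := fun v => by
        show matHom g⁻¹ *ᵥ (matHom g *ᵥ v) = v
        rw [Matrix.mulVec_mulVec, ← map_mul, inv_mul_cancel, map_one, Matrix.one_mulVec]
      right_inv := fun v => by
        show matHom g *ᵥ (matHom g⁻¹ *ᵥ v) = v
        rw [Matrix.mulVec_mulVec, ← map_mul, mul_inv_cancel, map_one, Matrix.one_mulVec] }
  map_one' := Equiv.ext fun v => by
    show matHom 1 *ᵥ v = v
    rw [map_one, Matrix.one_mulVec]
  map_mul' g h := Equiv.ext fun v => by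
    show matHom (g * h) *ᵥ v = matHom g *ᵥ (matHom h *ᵥ v)
    rw [map_mul, Matrix.mulVec_mulVec]

theorem vec_inj : ∀ a : Fin 256, CfsgLib.StemSylow.OEight.cd (vecOf a) = a := by decide +kernel

theorem orbit_card : (MulAction.orbit (↥actV.range) (piH axV)).ncard = 135 := by
  classical
  obtain ⟨hlen, h0, hax, hstep, hnd, hlt⟩ := orb_checks
  set a0 := piH axV with ha0
  have ha : a0 = vecOf 1 := hax
  have hmem : ∀ k < 135, ∃ g : ↥C0, matG g *ᵥ a0 = vecOf (orbL.getD k 0) := by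
    intro k
    induction k using Nat.strong_induction_on with
    | _ k ih =>
      intro hk
      rcases k with _ | k
      · exact ⟨1, by rw [show matG 1 = matHom 1 from rfl, map_one, Matrix.one_mulVec, ha, h0]⟩
      · obtain ⟨hp, hq, he⟩ := hstep k (by omega)
        obtain ⟨g, hg⟩ := ih _ hp (by omega)
        obtain ⟨x, hx⟩ := gen_elem ⟨_, hq⟩
        refine ⟨x * g, ?_⟩
        rw [show matG (x * g) = matHom x * matHom g from map_mul matHom x g, ← Matrix.mulVec_mulVec,
          show matHom g *ᵥ a0 = vecOf _ from hg, ← he]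
        funext t
        simp only [colApp, Matrix.mulVec, dotProduct]
        refine Finset.sum_congr rfl fun s _ => ?_
        rw [← hx s, Matrix.mulVec_single_one]
        rfl
  have hup : MulAction.orbit (↥actV.range) a0 ⊆ (Sing : Set Vec8) := by
    rintro _ ⟨⟨_, g, rfl⟩, rfl⟩
    have h1 : Q8 (matG g *ᵥ a0) = Q8 a0 := (phi g).2 a0 a0
    have hs : Q8 a0 = 0 := by rw [ha]; decide +kernel
    have hne : matG g *ᵥ a0 ≠ 0 := fun e => by
      have := congrArg (fun v => matHom g⁻¹ *ᵥ v) e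
      rw [show matG g = matHom g from rfl] at this
      simp only [Matrix.mulVec_mulVec, ← map_mul, inv_mul_cancel, map_one, Matrix.one_mulVec,
        Matrix.mulVec_zero] at this
      rw [ha] at this
      exact absurd this (by decide +kernel)
    exact Finset.mem_coe.mpr (Finset.mem_filter.mpr ⟨Finset.mem_univ _, h1.trans hs, hne⟩)
  refine le_antisymm ((Set.ncard_le_ncard hup).trans_eq (by rw [Set.ncard_coe_finset, sing_card])) ?_
  have hlow : (((orbL.map vecOf).toFinset : Finset Vec8) : Set Vec8) ⊆ MulAction.orbit (↥actV.range) a0 := by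
    intro v hv
    rw [Finset.mem_coe, List.mem_toFinset, List.mem_map] at hv
    obtain ⟨c, hc, rfl⟩ := hv
    obtain ⟨k, hk, rfl⟩ := List.getElem_of_mem hc
    obtain ⟨g, hg⟩ := hmem k (hlen ▸ hk)
    rw [List.getD_eq_getElem _ _ hk] at hg
    exact ⟨⟨actV g, g, rfl⟩, hg⟩
  have h := Set.ncard_le_ncard hlow
  rw [Set.ncard_coe_finset, List.toFinset_card_of_nodup, List.length_map, hlen] at h
  · exact h
  · refine hnd.map_on fun a ha' b hb' hab => ?_
    have h1 := vec_inj ⟨a, hlt a ha'⟩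
    have h2 := vec_inj ⟨b, hlt b hb'⟩
    exact h1.symm.trans ((congrArg CfsgLib.StemSylow.OEight.cd hab).trans h2)

theorem card_C0 : Nat.card ↥C0 = 178362777600 := by
  classical
  letI : MulAction ↥C0 Vec8 := MulAction.compHom _ actV
  have horb : (MulAction.orbit ↥C0 (piH axV)).ncard = 135 := by
    rw [← orbit_card]
    congr 1
    ext v
    constructor
    · rintro ⟨g, rfl⟩; exact ⟨⟨actV g, g, rfl⟩, rfl⟩
    · rintro ⟨⟨_, g, rfl⟩, rfl⟩; exact ⟨g, rfl⟩
  have hstab : MulAction.stabilizer ↥C0 (piH axV) = crossStab.subgroupOf C0 := by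
    ext g
    rw [MulAction.mem_stabilizer_iff, Subgroup.mem_subgroupOf, ← axis_class, ← phi_mulVec]
    rfl
  have hcard : Nat.card ↥(crossStab.subgroupOf C0) = 322560 * 4096 := by
    let F : ↥(stabM O0) × ↥CW → ↥(crossStab.subgroupOf C0) := fun q =>
      ⟨⟨monoAut q.1.1 (mem_stabM.mp q.1.2).1 q.2.1 q.2.2, mono_mem_iff.mpr (mem_stabM.mp q.1.2).2⟩,
        monoAut_keeps (mem_stabM.mp q.1.2).1 q.2.2⟩
    have hF : Function.Bijective F := by
      refine ⟨fun a b h => ?_, fun g => ?_⟩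
      · have h' := mono_inj (hσ := (mem_stabM.mp a.1.2).1) (hσ' := (mem_stabM.mp b.1.2).1) (hc := a.2.2) (hc' := b.2.2)
          (congrArg (fun g : ↥(crossStab.subgroupOf C0) => ((g : ↥C0) : ↥Co0)) h)
        exact Prod.ext (Subtype.ext h'.1) (Subtype.ext h'.2)
      · obtain ⟨σ, c, hσ, hc, he⟩ := keepsCross_monomial g.2
        have hO : σ • O0 = O0 := (mono_mem_iff (hσ := hσ) (hc := hc)).mp (he ▸ (g : ↥C0).2)
        exact ⟨(⟨σ, mem_stabM.mpr ⟨hσ, hO⟩⟩, ⟨c, hc⟩), Subtype.ext (Subtype.ext he.symm)⟩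
    rw [← Nat.card_eq_of_bijective F hF, Nat.card_prod, stabO.2, Nat.card_coe_set_eq, CW_ncard]
  have h := (MulAction.stabilizer ↥C0 (piH axV)).card_mul_index
  rw [MulAction.index_stabilizer, horb, hstab, hcard] at h
  rw [← h]

theorem card_range : Nat.card ↥phi.range = 174182400 := by
  have h := phi.ker.card_mul_index
  rw [card_ker, Subgroup.index_ker, card_C0] at h
  omega

theorem range_eq : phi.range = Cfsg.Omega (ZMod 2) Q8 := by
  have hO : Nat.card ↥(Cfsg.isometryGroup (ZMod 2) Q8) = 2 * 174182400 := by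
    rw [CfsgLib.OrthOrder.card_O_plus 4 (by norm_num), ZMod.card]
    norm_num [Finset.prod_range_succ]
  have hidx : phi.range.index = 2 := by
    have h := phi.range.card_mul_index
    rw [card_range, hO] at h
    omega
  have hle : Cfsg.Omega (ZMod 2) Q8 ≤ phi.range := by
    refine Subgroup.commutator_le.mpr fun a _ b _ => ?_
    rw [commutatorElement_def, Subgroup.mul_mem_iff_of_index_two hidx, Subgroup.mul_mem_iff_of_index_two hidx,
      Subgroup.mul_mem_iff_of_index_two hidx, inv_mem_iff, inv_mem_iff]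
    tauto
  exact (Subgroup.eq_of_le_of_card_ge hle (by
    rw [card_range, (CfsgLib.StemSylow.OEight.card_omega (ZMod.card 2)).1])).symm

end CfsgLeech.OctInv
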