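/-
The centraliser of the octad involution modulo negation.
-/
import Cfsg.Agent.Lib.Leech.OctInvCount
import Cfsg.Agent.Lib.OmegaSimple
import Cfsg.Agent.Lib.LargeExtra.Odd
import Cfsg.Agent.Lib.Comp.Layer
import Cfsg.Prelude.Def_Spor_Conway

set_option autoImplicit false
set_option maxRecDepth 8000

namespace CfsgLeech.OctInv

open Cfsg CfsgGolay
open scoped Pointwise Matrix

attribute [local irreducible] codeL octadL dodecadL slpCodes

/-- The quotient map. -/
noncomputable abbrev prj : ↥Co0 →* Cfsg.Spor.Co1 := QuotientGroup.mk' (Subgroup.center ↥Co0)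

theorem prj_eq {a b : ↥Co0} : prj a = prj b ↔ b = a ∨ b = a * negAut := by
  rw [QuotientGroup.mk'_apply, QuotientGroup.mk'_apply, QuotientGroup.eq]
  constructor
  · intro h
    rcases center_eq h with e | e
    · exact Or.inl (inv_mul_eq_one.mp e).symm
    · exact Or.inr (by rw [← e, mul_inv_cancel_left])
  · rintro (rfl | rfl)
    · rw [inv_mul_cancel]; exact one_mem _
    · rw [inv_mul_cancel_left]; exact negAut_central

theorem neg_sgn : negAut = sgn Finset.univ CW_univ := rfl

theorem sgn_mul_neg {c : Finset GolayPt} (hc : c ∈ CW) : sgn c hc * negAut = sgn cᶜ (CW_compl hc) := by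
  rw [neg_sgn, sgn_mul]
  exact sgn_congr (by rw [← Finset.top_eq_univ, symmDiff_top, hnot_eq_compl])

theorem sgn_inj {c d : Finset GolayPt} {hc : c ∈ CW} {hd : d ∈ CW} (h : sgn c hc = sgn d hd) : c = d := (mono_inj h).2

/-- The involution. -/
noncomputable abbrev z1 : Cfsg.Spor.Co1 := prj eps

theorem eps_sq : eps * eps = 1 := by
  rw [eps, sgn_mul, sgn_congr (symmDiff_self O0) (hd := CW_empty)]
  exact sgn_empty

theorem O0_ne : O0 ≠ ∅ ∧ O0 ≠ Finset.univ := by
  constructor <;> intro h <;> have := congrArg Finset.card h <;> rw [O0_card] at this <;>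
    simp [card_univ_pt] at this

theorem z1_order : orderOf z1 = 2 := by
  refine orderOf_eq_prime (by rw [pow_two, ← map_mul, eps_sq, map_one]) fun h => ?_
  rw [← map_one prj, prj_eq] at h
  rcases h with h | h
  · rw [eps, ← sgn_empty] at h
    exact O0_ne.1 (sgn_inj h).symm
  · rw [eps, sgn_mul_neg, ← sgn_empty] at h
    have := (sgn_inj h).symm
    rw [Finset.compl_eq_empty_iff] at this
    exact O0_ne.2 this

/-- No automorphism negates the involution. -/
theorem not_negated (g : ↥Co0) : g * eps ≠ eps * negAut * g := by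
  intro h
  have hcard : (Finset.univ.filter fun i : GolayPt => i ∉ O0).card = 16 := by decide +kernel
  set T : Finset GolayPt := Finset.univ.filter fun i => i ∉ O0 with hT
  have hL : ∀ i ∈ T, g • ax i ∈ L8 := fun i hi => by
    rw [mem_L8_iff]
    have hfix : eps • ax i = ax i := Subtype.ext (funext fun a => by
      rw [eps_apply, ax_coe]
      by_cases ha : a ∈ O0
      · have hne : a ≠ i := fun e => (Finset.mem_filter.mp hi).2 (e ▸ ha)
        simp [hne]
      · simp [ha])
    have h2 := congrArg (fun k : ↥Co0 => k • ax i) h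
    simp only [mul_smul, hfix] at h2
    have hneg : ∀ v : ↥leechLattice, negAut • v = -v := fun v => Subtype.ext (negAut_apply v)
    rw [hneg, aut_neg] at h2
    exact (neg_eq_iff_eq_neg.mpr h2).symm
  classical
  let φ : ↥L8 →+ ↥O0 → ℤ :=
    AddMonoidHom.mk' (fun v i => co v i) fun a b => funext fun i => rfl
  have hφ : Function.Injective φ := fun a b e => co_ext (funext fun i => by
    by_cases hi : i ∈ O0
    · exact congrFun e ⟨i, hi⟩
    · rw [co_zero_out a hi, co_zero_out b hi])
  let d : ↥L8 →+ ↥L8 →+ ℤ := ((dotHom.comp L8.subtype).flip.comp L8.subtype).flip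
  let S : Finset ↥L8 := T.attach.image fun i => (⟨g • ax i.1, hL i.1 i.2⟩ : ↥L8)
  have hinj : Function.Injective fun i : {i // i ∈ T} => (⟨g • ax i.1, hL i.1 i.2⟩ : ↥L8) := fun a b e => by
    have h2 := congrFun (congrArg Subtype.val (MulAction.injective g (congrArg Subtype.val e))) a.1
    refine Subtype.ext ?_
    by_contra hne
    simp [ax_coe, hne] at h2
  have hdd : ∀ a b : ↥L8, d a b = dotInt (co a) (co b) := fun a b => rfl
  have hS : S.card = 16 := by
    rw [Finset.card_image_of_injective _ hinj, Finset.card_attach, hT, hcard]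
  have h0 : ∀ x ∈ S, d x x ≠ 0 := by
    intro x hx
    obtain ⟨i, -, rfl⟩ := Finset.mem_image.mp hx
    rw [hdd, co, aut_dot, ax_coe]
    simp [dotInt, Pi.single_apply]
  have ho : ∀ x ∈ S, ∀ y ∈ S, x ≠ y → d x y = 0 := by
    intro x hx y hy hxy
    obtain ⟨i, -, rfl⟩ := Finset.mem_image.mp hx
    obtain ⟨j, -, rfl⟩ := Finset.mem_image.mp hy
    have hij : (i : GolayPt) ≠ j := fun e => hxy (by
      obtain rfl : i = j := Subtype.ext e
      rfl)
    rw [hdd, co, co, aut_dot, ax_coe, ax_coe, dotInt]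
    refine Finset.sum_eq_zero fun a _ => ?_
    by_cases ha : a = (i : GolayPt)
    · subst ha
      rw [Pi.single_eq_of_ne hij, mul_zero]
    · rw [Pi.single_eq_of_ne ha, zero_mul]
  have hle := card_le_of_orthogonal φ hφ d S h0 ho
  rw [hS, Fintype.card_coe, O0_card] at hle
  omega

/-- The centraliser of the involution. -/
noncomputable abbrev C1 : Subgroup Cfsg.Spor.Co1 := Subgroup.centralizer {z1}

theorem prj_mem {g : ↥Co0} : prj g ∈ C1 ↔ g ∈ C0 := by
  rw [Subgroup.mem_centralizer_singleton_iff, Subgroup.mem_centralizer_singleton_iff, ← map_mul, ← map_mul, prj_eq]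
  constructor
  · rintro (h | h)
    · exact h.symm
    · refine absurd ?_ (not_negated g)
      have hn : negAut * negAut = 1 := by rw [neg_sgn, sgn_mul, sgn_congr (symmDiff_self _) (hd := CW_empty)]; exact sgn_empty
      rw [mul_assoc eps negAut g, ← Subgroup.mem_center_iff.mp negAut_central g, ← mul_assoc, h, mul_assoc,
        hn, mul_one]
  · exact fun h => Or.inl h.symm

/-- The reduction to the centraliser. -/
noncomputable def rho : ↥C0 →* ↥C1 := (prj.comp C0.subtype).codRestrict C1 fun g => prj_mem.mpr g.2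

theorem rho_surjective : Function.Surjective rho := by
  rintro ⟨x, hx⟩
  obtain ⟨g, rfl⟩ := QuotientGroup.mk'_surjective _ x
  exact ⟨⟨g, prj_mem.mp hx⟩, rfl⟩

theorem rho_eq {a b : ↥C0} : rho a = rho b ↔ (b : ↥Co0) = a ∨ (b : ↥Co0) = a * negAut := by
  rw [← prj_eq (a := (a : ↥Co0)) (b := b)]
  exact Subtype.ext_iff

theorem neg_mem : negAut ∈ C0 := mono_mem_iff.mpr (one_smul _ _)

theorem neg_ker : (⟨negAut, neg_mem⟩ : ↥C0) ∈ phi.ker :=
  mem_ker.mpr fun v => ⟨-v, Subtype.ext (by
    rw [AddSubgroupClass.coe_sub, actL_coe, AddSubgroupClass.coe_nsmul, AddSubgroup.coe_neg,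
      show negAut • (v : ↥leechLattice) = -(v : ↥leechLattice) from Subtype.ext (negAut_apply _), two_nsmul]
    abel)⟩

theorem rho_ker_le : rho.ker ≤ phi.ker := fun g hg => by
  rw [MonoidHom.mem_ker, ← map_one rho] at hg
  rcases rho_eq.mp hg.symm with h | h
  · rw [show g = 1 from Subtype.ext h]; exact one_mem _
  · rw [show g = ⟨negAut, neg_mem⟩ from Subtype.ext (by rw [h, Subgroup.coe_one, one_mul])]
    exact neg_ker

/-- The representation of the centraliser. -/
noncomputable def phi1 : ↥C1 →* ↥(Cfsg.Omega (ZMod 2) Q8) :=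
  rho.liftOfSurjective rho_surjective
    ⟨phi.codRestrict _ fun g => range_eq ▸ ⟨g, rfl⟩, fun g hg => by
      rw [MonoidHom.mem_ker]
      exact Subtype.ext (MonoidHom.mem_ker.mp (rho_ker_le hg))⟩

theorem phi1_rho (g : ↥C0) : ((phi1 (rho g)) : ↥(Cfsg.isometryGroup (ZMod 2) Q8)) = phi g :=
  congrArg Subtype.val (MonoidHom.liftOfRightInverse_comp_apply rho _
    (Function.rightInverse_surjInv rho_surjective) ⟨_, _⟩ g)

theorem phi1_surjective : Function.Surjective phi1 := by
  rintro ⟨y, hy⟩
  rw [← range_eq] at hy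
  obtain ⟨g, hg⟩ := hy
  exact ⟨rho g, Subtype.ext ((phi1_rho g).trans hg)⟩

/-- The normal subgroup. -/
noncomputable abbrev Q1 : Subgroup ↥C1 := phi1.ker

theorem mem_Q1 {x : ↥C1} : x ∈ Q1 ↔ ∃ g ∈ phi.ker, rho g = x := by
  constructor
  · intro h
    obtain ⟨g, rfl⟩ := rho_surjective x
    exact ⟨g, MonoidHom.mem_ker.mpr (by rw [← phi1_rho, MonoidHom.mem_ker.mp h]; rfl), rfl⟩
  · rintro ⟨g, hg, rfl⟩
    exact MonoidHom.mem_ker.mpr (Subtype.ext (by rw [phi1_rho, MonoidHom.mem_ker.mp hg]; rfl))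

theorem Q1_card : Nat.card ↥Q1 = 512 := by
  have h1 : Nat.card ↥rho.ker = 2 := by
    rw [Nat.card_eq_two_iff]
    refine ⟨⟨1, one_mem _⟩, ⟨⟨negAut, neg_mem⟩, MonoidHom.mem_ker.mpr ?_⟩, fun h => negAut_ne_one ?_,
      Set.eq_univ_of_forall fun k => ?_⟩
    · rw [← map_one rho]
      exact (rho_eq.mpr (Or.inr (by simp))).symm
    · exact (congrArg (fun k : ↥rho.ker => ((k : ↥C0) : ↥Co0)) h).symm
    · rcases rho_eq.mp ((MonoidHom.mem_ker.mp k.2).trans (map_one rho).symm).symm with h | h
      · exact Or.inl (Subtype.ext (Subtype.ext h))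
      · exact Or.inr (Subtype.ext (Subtype.ext (h.trans (one_mul _))))
  have h2 : Nat.card ↥C1 = 178362777600 / 2 := by
    have h := rho.ker.card_mul_index
    rw [h1, Subgroup.index_ker, MonoidHom.range_eq_top.mpr rho_surjective, Subgroup.card_top, card_C0] at h
    omega
  have h := Q1.card_mul_index
  rw [Subgroup.index_ker, MonoidHom.range_eq_top.mpr phi1_surjective, Subgroup.card_top,
    (CfsgLib.StemSylow.OEight.card_omega (ZMod.card 2)).1, h2] at h
  exact Nat.eq_of_mul_eq_mul_right (show 0 < 174182400 from Nat.succ_pos _) (h.trans (by norm_num))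

theorem omega_simple : IsSimpleGroup ↥(Cfsg.Omega (ZMod 2) Q8) := by
  haveI := CfsgLib.OmegaSimple.pomega_simple (CfsgLib.Lagrangian.Qp 4 (ZMod 2)) Q8
    (fun v => (CfsgLib.Lagrangian.Qp_apply v).symm) CfsgLib.Lagrangian.Qp_nondeg (by simp)
  exact ((QuotientGroup.quotientMulEquivOfEq (CfsgLib.StemSylow.OEight.card_omega (ZMod.card 2)).2).trans
    QuotientGroup.quotientBot).symm.isSimpleGroup

end CfsgLeech.OctInv
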