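/-
The normal two-subgroup of the involution centraliser is extraspecial and self-centralising.
-/
import Cfsg.Agent.Lib.Leech.OctInvCo1

set_option autoImplicit false
set_option maxRecDepth 8000

namespace CfsgLeech.OctInv

open Cfsg CfsgGolay
open scoped Pointwise Matrix

attribute [local irreducible] codeL octadL dodecadL slpCodes

/-- Codewords containing or missing the octad. -/
def SK (c : Finset GolayPt) : Prop := c ∈ CW ∧ (c ∩ O0 = ∅ ∨ c ∩ O0 = O0)

theorem SK.exists_mask {c : Finset GolayPt} (h : SK c) : ∃ m ∈ wordsK, c = toSet m :=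
  ⟨toMask c, mem_wordsK.mpr ⟨by rw [toSet_toMask]; exact h.1, toMask_lt c, by rw [toSet_toMask]; exact h.2⟩,
    (toSet_toMask c).symm⟩

theorem SK_mask {m : ℕ} (h : m ∈ wordsK) : SK (toSet m) := ⟨(mem_wordsK.mp h).1, (mem_wordsK.mp h).2.2⟩

theorem SK_smul {σ : Equiv.Perm GolayPt} (hσ : σ ∈ fixOct O0) {c : Finset GolayPt} (h : SK c) : SK (σ • c) := by
  refine ⟨smul_CW hσ.1 h.1, ?_⟩
  have e : σ • c ∩ O0 = σ • (c ∩ O0) := by
    conv_rhs => rw [Finset.smul_finset_inter, fixOct_smul hσ]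
  rw [e]
  rcases h.2 with h' | h' <;> rw [h']
  · exact Or.inl (Finset.smul_finset_empty σ)
  · exact Or.inr (fixOct_smul hσ)

theorem word_checks : (∀ code ∈ octFix, ∀ m ∈ wordsK,
      (∀ i < 24, m.testBit i = m.testBit (papp code i)) ∨
        (∀ i < 24, (m.testBit i != m.testBit (papp code i)) = !Nat.testBit 8536111 i)) ∧
    (∀ m ∈ wordsK, (∀ code ∈ octFix, ∀ i < 24, m.testBit i = m.testBit (papp code i)) →
      m = 0 ∨ m = 8536111 ∨ m = 8241104 ∨ m = 16777215) := by decide +kernel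

theorem separated : ∀ i : GolayPt, i ∉ O0 → ∀ j : GolayPt, j ≠ i → ∃ m ∈ wordsK, i ∈ toSet m ∧ j ∉ toSet m := by
  decide +kernel

theorem mem_smul_gen {code : ℕ} {σ : Equiv.Perm GolayPt} (hr : Repr code σ) (hinv : σ * σ = 1) (m : ℕ) (i : GolayPt) :
    i ∈ σ • toSet m ↔ m.testBit (papp code (idx i)) = true := by
  have hi : σ (σ i) = i := by rw [← Equiv.Perm.mul_apply, hinv]; rfl
  conv_lhs => rw [← hi, ← Equiv.Perm.smul_def σ (σ i), Finset.smul_mem_smul_finset_iff, mem_toSet, hr i]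

theorem gen_invol {code : ℕ} (hc : code ∈ octFix) {σ : Equiv.Perm GolayPt} (hr : Repr code σ) :
    σ ∈ fixOct O0 ∧ σ * σ = 1 :=
  have h : σ ∈ octFixGr := Subgroup.subset_closure ⟨code, hc, hr⟩
  ⟨octFixGr_le h, octFixGr_invol h⟩

theorem fix_invol {σ : Equiv.Perm GolayPt} (h : σ ∈ fixOct O0) : σ * σ = 1 :=
  octFixGr_invol (octFixGr_eq.1.ge h)

theorem compl_smul {σ : Equiv.Perm GolayPt} (hσ : σ ∈ fixOct O0) : σ • O0ᶜ = O0ᶜ := by
  rw [show O0ᶜ = Finset.univ \ O0 from (Finset.compl_eq_univ_sdiff O0), Finset.smul_finset_sdiff,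
    fixOct_smul hσ, Finset.smul_finset_univ]

theorem square_word {σ : Equiv.Perm GolayPt} (hσ : σ ∈ fixOct O0) :
    ∀ c, SK c → symmDiff c (σ • c) = ∅ ∨ symmDiff c (σ • c) = O0ᶜ := by
  have hmem : σ ∈ Subgroup.closure {g | ∃ code ∈ octFix, Repr code g} := octFixGr_eq.1.ge hσ
  clear hσ
  induction hmem using Subgroup.closure_induction with
  | mem g hg =>
    obtain ⟨code, hc, hr⟩ := hg
    intro c hcS
    obtain ⟨m, hm, rfl⟩ := hcS.exists_mask
    have hi := mem_smul_gen hr (gen_invol hc hr).2 m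
    rcases word_checks.1 code hc m hm with h | h
    · refine Or.inl (Finset.ext fun i => ?_)
      simp only [Finset.mem_symmDiff, hi, mem_toSet, h _ (idx_lt i), Finset.notMem_empty, iff_false]
      tauto
    · refine Or.inr (Finset.ext fun i => ?_)
      have hh := h _ (idx_lt i)
      simp only [Finset.mem_symmDiff, hi, mem_toSet, Finset.mem_compl, O0]
      revert hh
      cases m.testBit (idx i) <;> cases m.testBit (papp code (idx i)) <;>
        cases Nat.testBit 8536111 (idx i) <;> simp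
  | one => exact fun c _ => Or.inl (by rw [one_smul, symmDiff_self]; rfl)
  | mul a b ha hb iha ihb =>
    intro c hcS
    have haO : a ∈ fixOct O0 := octFixGr_le ha
    have key : symmDiff c ((a * b) • c) = symmDiff (symmDiff c (a • c)) (a • symmDiff c (b • c)) := by
      rw [Finset.smul_finset_symmDiff, ← mul_smul, ← symmDiff_assoc, symmDiff_symmDiff_cancel_right]
    rw [key]
    rcases iha c hcS with h1 | h1 <;> rcases ihb c hcS with h2 | h2 <;>
      simp only [h1, h2, Finset.smul_finset_empty, compl_smul haO]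
    · exact Or.inl (symmDiff_self _)
    · exact Or.inr (bot_symmDiff _)
    · exact Or.inr (symmDiff_bot _)
    · exact Or.inl (symmDiff_self _)
  | inv a ha iha =>
    rw [inv_eq_of_mul_eq_one_left (octFixGr_invol ha)]
    exact iha

theorem none_smul {σ : Equiv.Perm GolayPt} (hσ : σ ∈ fixOct O0) (c : Finset GolayPt) :
    (none : GolayPt) ∈ σ • c ↔ (none : GolayPt) ∈ c := by
  have h : σ none = none := (mem_fixingSubgroup_iff _).mp hσ.2 none (Finset.mem_coe.mpr none_mem)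
  conv_lhs => rw [← h, ← Equiv.Perm.smul_def σ none, Finset.smul_mem_smul_finset_iff]

/-- An element of the subgroup given by a permutation and a codeword. -/
theorem elem_ker {σ : Equiv.Perm GolayPt} (hσ : σ ∈ fixOct O0) {c : Finset GolayPt} (hc : SK c) :
    ∃ x : ↥Q1, ∃ g : ↥C0, rho g = x.1 ∧ (g : ↥Co0) = monoAut σ hσ.1 c hc.1 := by
  obtain ⟨g, hg, he⟩ := shape_ker hσ hc.1 hc.2
  exact ⟨⟨rho g, mem_Q1.mpr ⟨g, hg, rfl⟩⟩, g, rfl, he⟩

theorem Q_shape (x : ↥Q1) : ∃ (σ : Equiv.Perm GolayPt) (hσ : σ ∈ fixOct O0) (c : Finset GolayPt) (hc : SK c)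
    (g : ↥C0), rho g = x.1 ∧ (g : ↥Co0) = monoAut σ hσ.1 c hc.1 := by
  obtain ⟨g, hg, he⟩ := mem_Q1.mp x.2
  obtain ⟨σ, hσ, c, hc, e, hf, h⟩ := ker_shape hg
  exact ⟨σ, hf, c, ⟨hc, h⟩, g, he, e⟩

theorem SK_empty : SK ∅ := ⟨CW_empty, Or.inl (Finset.empty_inter _)⟩

theorem SK_O0 : SK O0 := ⟨O0_CW, Or.inr (Finset.inter_self _)⟩

theorem eps_mem : eps ∈ C0 := Subgroup.mem_centralizer_singleton_iff.mpr rfl

theorem eps_ker : (⟨eps, eps_mem⟩ : ↥C0) ∈ phi.ker := by
  obtain ⟨g, hg, he⟩ := shape_ker (one_mem (fixOct O0)) O0_CW (Or.inr (Finset.inter_self _))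
  rwa [show (⟨eps, eps_mem⟩ : ↥C0) = g from Subtype.ext he.symm]

/-- The central involution in the subgroup. -/
noncomputable def zQ : ↥Q1 := ⟨rho ⟨eps, eps_mem⟩, mem_Q1.mpr ⟨_, eps_ker, rfl⟩⟩

theorem zQ_coe : ((zQ : ↥C1) : Cfsg.Spor.Co1) = z1 := rfl

theorem zQ_ne : zQ ≠ 1 := fun h => by
  have : z1 = 1 := congrArg (fun x : ↥Q1 => ((x : ↥C1) : Cfsg.Spor.Co1)) h
  have h2 := z1_order
  rw [this, orderOf_one] at h2
  omega

theorem Q_ext_coe {x y : ↥Q1} (h : ((x : ↥C1) : Cfsg.Spor.Co1) = ((y : ↥C1) : Cfsg.Spor.Co1)) : x = y :=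
  Subtype.ext (Subtype.ext h)

theorem prj_sgn_or {d : Finset GolayPt} {hd : d ∈ CW} (h : d = ∅ ∨ d = O0ᶜ) :
    prj (sgn d hd) = 1 ∨ prj (sgn d hd) = z1 := by
  rcases h with rfl | rfl
  · exact Or.inl (by rw [sgn_empty, map_one])
  · exact Or.inr (prj_eq.mpr (Or.inr (by
      rw [eps, sgn_mul_neg]
      exact sgn_congr (compl_compl O0).symm)))

theorem squares (x : ↥Q1) : x * x = 1 ∨ x * x = zQ := by
  obtain ⟨σ, hσ, c, hc, g, he, hg⟩ := Q_shape x
  have hsq : (g : ↥Co0) * g = sgn (symmDiff c (σ • c)) (CW_symmDiff hc.1 (smul_CW hσ.1 hc.1)) := by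
    rw [hg]
    refine aut_ext fun v => ?_
    rw [mul_smul]
    simp only [sgn, monoAut_apply]
    funext i
    rw [signs_apply]
    have hi : σ.symm i = σ i := σ.symm_apply_eq.mpr (by rw [← Equiv.Perm.mul_apply, fix_invol hσ]; rfl)
    have hii : σ.symm (σ i) = i := σ.symm_apply_apply i
    have hm : i ∈ σ • c ↔ σ i ∈ c := by rw [← mem_smul_symm, hi]
    simp only [signedPerm, hi, hii, Finset.mem_symmDiff, hm]
    by_cases a : i ∈ c <;> by_cases b : σ i ∈ c <;> simp [a, b]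
  have hval : ((x * x : ↥Q1) : ↥C1).1 = prj ((g : ↥Co0) * g) := by
    rw [map_mul]; show ((x : ↥C1) : Cfsg.Spor.Co1) * _ = _; rw [← he]; rfl
  rcases prj_sgn_or (hd := CW_symmDiff hc.1 (smul_CW hσ.1 hc.1)) (square_word hσ c hc) with h | h
  · exact Or.inl (Q_ext_coe (by rw [hval, hsq, h]; rfl))
  · exact Or.inr (Q_ext_coe (by rw [hval, hsq, h]; rfl))

theorem zQ_central : zQ ∈ Subgroup.center ↥Q1 := Subgroup.mem_center_iff.mpr fun y => Q_ext_coe (by
  show ((y : ↥C1) : Cfsg.Spor.Co1) * z1 = z1 * ((y : ↥C1) : Cfsg.Spor.Co1)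
  exact Subgroup.mem_centralizer_singleton_iff.mp (y : ↥C1).2)

theorem center_shape {x : ↥Q1} (hx : x ∈ Subgroup.center ↥Q1) : x = 1 ∨ x = zQ := by
  obtain ⟨σ, hσ, c, hc, g, he, hg⟩ := Q_shape x
  have hcomm : ∀ {τ : Equiv.Perm GolayPt} (hτ : τ ∈ fixOct O0) {d : Finset GolayPt} (hd : SK d),
      monoAut σ hσ.1 c hc.1 * monoAut τ hτ.1 d hd.1 = monoAut τ hτ.1 d hd.1 * monoAut σ hσ.1 c hc.1 ∨
      monoAut σ hσ.1 c hc.1 * monoAut τ hτ.1 d hd.1 =
        monoAut τ hτ.1 d hd.1 * monoAut σ hσ.1 c hc.1 * negAut := by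
    intro τ hτ d hd
    obtain ⟨y, h, hy, hh⟩ := elem_ker hτ hd
    have e := Subgroup.mem_center_iff.mp hx y
    have e2 : rho (h * g) = rho (g * h) := by
      rw [map_mul, map_mul, hy, he]
      exact congrArg Subtype.val e
    rcases rho_eq.mp e2 with r | r <;> simp only [Subgroup.coe_mul, hh, hg] at r
    · exact Or.inl r
    · exact Or.inr r
  have hd : ∀ d, SK d → σ • d = d := fun d hdS => by
    have hS1 : sgn d hdS.1 = monoAut 1 (one_mem _) d hdS.1 := rfl
    have key := mono_conj_sgn hσ.1 hc.1 hdS.1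
    rw [mul_inv_eq_iff_eq_mul] at key
    rcases hcomm (one_mem _) hdS with r | r <;> rw [← hS1, key] at r
    · exact sgn_inj (mul_right_cancel r)
    · exfalso
      rw [mul_assoc, Subgroup.mem_center_iff.mp negAut_central, ← mul_assoc, sgn_mul_neg] at r
      have h2 := sgn_inj (mul_right_cancel r)
      have h3 := none_smul hσ d
      rw [h2, Finset.mem_compl] at h3
      tauto
  have hσ1 : σ = 1 := Equiv.ext fun i => by
    by_cases hi : i ∈ O0
    · exact (mem_fixingSubgroup_iff _).mp hσ.2 i (Finset.mem_coe.mpr hi)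
    · by_contra hne
      obtain ⟨m, hm, hin, hout⟩ := separated i hi (σ i) hne
      refine hout ?_
      have := Finset.smul_mem_smul_finset (a := σ) hin
      rwa [hd _ (SK_mask hm)] at this
  subst hσ1
  have hc1 : ∀ code ∈ octFix, ∀ τ : Equiv.Perm GolayPt, Repr code τ → τ • c = c := fun code hcode τ hr => by
    obtain ⟨hτ, -⟩ := gen_invol hcode hr
    have key := mono_conj_sgn hτ.1 CW_empty hc.1
    rw [mul_inv_eq_iff_eq_mul] at key
    rcases hcomm hτ SK_empty with r | r <;>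
      rw [show monoAut 1 (one_mem _) c hc.1 = sgn c hc.1 from rfl, key] at r
    · exact (sgn_inj (mul_right_cancel r)).symm
    · exfalso
      rw [mul_assoc, Subgroup.mem_center_iff.mp negAut_central, ← mul_assoc, sgn_mul_neg] at r
      have h2 := sgn_inj (mul_right_cancel r)
      have h3 := none_smul hτ c
      have h4 := congrArg (fun s : Finset GolayPt => (none : GolayPt) ∈ s) h2
      simp only [Finset.mem_compl, eq_iff_iff, h3] at h4
      tauto
  obtain ⟨m, hm, rfl⟩ := hc.exists_mask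
  have hm2 := word_checks.2 m hm fun code hcode i hi => by
    obtain ⟨τ, hτ, hr⟩ := octFix_le code hcode
    have h := Finset.ext_iff.mp (hc1 code hcode τ hr) (pt i)
    rw [mem_smul_gen hr (gen_invol hcode hr).2, mem_toSet, idx_pt hi] at h
    exact (Bool.eq_iff_iff.mpr h).symm
  have hval : ((x : ↥C1) : Cfsg.Spor.Co1) = prj (g : ↥Co0) := by rw [← he]; rfl
  have hfin : ∀ {d : Finset GolayPt} (hd : d ∈ CW), toSet m = d → prj (g : ↥Co0) = prj (sgn d hd) :=
    fun hd e => congrArg prj (hg.trans (sgn_congr (hd := hd) e))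
  rcases hm2 with rfl | rfl | rfl | rfl
  · exact Or.inl (Q_ext_coe (by rw [hval, hfin CW_empty toSet_zero, sgn_empty, map_one]; rfl))
  · exact Or.inr (Q_ext_coe (by rw [hval, hfin O0_CW rfl]; rfl))
  · refine Or.inr (Q_ext_coe ?_)
    rw [hval, hfin (CW_compl O0_CW) (by decide +kernel), zQ_coe]
    exact prj_eq.mpr (Or.inr (by rw [sgn_mul_neg, eps]; exact sgn_congr (compl_compl O0).symm))
  · refine Or.inl (Q_ext_coe ?_)
    rw [hval, hfin CW_univ (by decide +kernel)]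
    exact ((map_one prj).symm.trans (prj_eq.mpr (Or.inr (by rw [one_mul]; rfl)))).symm

theorem Q_ext2 : CfsgLib.ExtraTwo.Ext2 ↥Q1 zQ :=
  ⟨zQ_ne, fun _ => ⟨center_shape, fun h => h.elim (fun e => e ▸ one_mem _) fun e => e ▸ zQ_central⟩, squares⟩

theorem Q_extraspecial : IsExtraspecial 2 ↥Q1 := by
  by_cases h : ∀ a b : ↥Q1, a * b = b * a
  · exfalso
    have hall : (Set.univ : Set ↥Q1) ⊆ {1, zQ} := fun x _ =>
      center_shape (Subgroup.mem_center_iff.mpr fun y => h y x)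
    have h2 := Set.ncard_le_ncard hall (Set.toFinite _)
    rw [Set.ncard_univ, Q1_card, Set.ncard_pair zQ_ne.symm] at h2
    omega
  · push Not at h
    obtain ⟨a, b, hab⟩ := h
    haveI : Finite ↥Q1 := Nat.finite_of_card_ne_zero (by rw [Q1_card]; norm_num)
    exact CfsgLargeExtra.isExtraspecial_of_ext2 Q_ext2 hab

/-- A codeword moved by an element outside. -/
def moved : ℕ := 6889680

theorem moved_checks : permOK 605085936765952945290987061624144419 = true ∧
    gensKept 605085936765952945290987061624144419 = true ∧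
    (∀ i : GolayPt, (i ∈ toSet moved ↔ Nat.testBit 3421328 (papp 605085936765952945290987061624144419 (idx i)) = true)) ∧
    (∀ i : GolayPt, Nat.testBit 8536111 (papp 605085936765952945290987061624144419 (idx i)) =
      Nat.testBit 8536111 (idx i)) ∧
    moved ∈ wordsK ∧ toSet moved ∈ CW ∧
    (toSet 3421328 ≠ toSet moved ∧ toSet 3421328 ≠ (toSet moved)ᶜ ∧ toSet 3421328 ≠ symmDiff (toSet moved) O0 ∧
      toSet 3421328 ≠ symmDiff (toSet moved) O0ᶜ) := by
  refine ⟨by decide +kernel, by decide +kernel, by decide +kernel, by decide +kernel, by decide +kernel,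
    toSet_mem_CW (by decide +kernel), by decide +kernel, by decide +kernel, by decide +kernel, by decide +kernel⟩

theorem compl_symmDiff' (A B : Finset GolayPt) : (symmDiff A B)ᶜ = symmDiff B Aᶜ :=
  Finset.ext fun i => by simp only [Finset.mem_compl, Finset.mem_symmDiff]; tauto

theorem centraliser_le : Subgroup.centralizer (Q1 : Set ↥C1) ≤ Q1 := by
  set W := Subgroup.centralizer (Q1 : Set ↥C1) with hW
  haveI := omega_simple
  have hn : (W.map phi1).Normal := Subgroup.Normal.map inferInstance phi1 phi1_surjective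
  rcases hn.eq_bot_or_eq_top with hb | ht
  · exact fun x hx => MonoidHom.mem_ker.mpr (Subgroup.mem_bot.mp (hb ▸ Subgroup.mem_map_of_mem phi1 hx))
  exfalso
  obtain ⟨hp, hk, hmap, hO, hmW, hmC, hne⟩ := moved_checks
  obtain ⟨σ, hσ⟩ := exists_repr_of_permOK hp
  have hσM := mem_M24_of_gensKept hσ hk
  have hσO : σ • O0 = O0 := by
    refine Finset.eq_of_subset_of_card_le (fun a ha => ?_) (by rw [Finset.card_smul_finset])
    obtain ⟨b, hb, rfl⟩ := Finset.mem_smul_finset.mp ha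
    rw [O0, mem_toSet] at hb
    rw [Equiv.Perm.smul_def, O0, mem_toSet, hσ b, hO b, hb]
  have hσm : σ • toSet moved = toSet 3421328 := by
    ext a
    obtain ⟨b, rfl⟩ := σ.surjective a
    rw [← Equiv.Perm.smul_def, Finset.smul_mem_smul_finset_iff, hmap b, mem_toSet, Equiv.Perm.smul_def, hσ b]
  let g1 : ↥C0 := ⟨monoAut σ hσM ∅ CW_empty, mono_mem_iff.mpr hσO⟩
  obtain ⟨y, h, hy, hh⟩ := elem_ker (one_mem (fixOct O0)) (SK_mask hmW)
  obtain ⟨w, hw, hwe⟩ := (ht ▸ Subgroup.mem_top (phi1 (rho g1)) : phi1 (rho g1) ∈ W.map phi1)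
  have hk1 : w⁻¹ * rho g1 ∈ Q1 := MonoidHom.mem_ker.mpr (by rw [map_mul, map_inv, hwe, inv_mul_cancel])
  set k : ↥Q1 := ⟨_, hk1⟩ with hkdef
  have hconj : rho g1 * (y : ↥C1) * (rho g1)⁻¹ = ((k * y * k⁻¹ : ↥Q1) : ↥C1) := by
    have hwc := Subgroup.mem_centralizer_iff.mp hw _ (k * y * k⁻¹).2
    rw [show rho g1 = w * (k : ↥C1) by rw [hkdef]; exact (mul_inv_cancel_left w _).symm]
    calc w * (k : ↥C1) * (y : ↥C1) * (w * (k : ↥C1))⁻¹ = w * ((k * y * k⁻¹ : ↥Q1) : ↥C1) * w⁻¹ := by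
          simp only [Subgroup.coe_mul, InvMemClass.coe_inv]; group
      _ = _ := by rw [← hwc, mul_inv_cancel_right]
  have hky : k * y * k⁻¹ = y ∨ k * y * k⁻¹ = zQ * y := by
    rcases Q_ext2.comm_cases k y with e | e
    · exact Or.inl (by rw [commutatorElement_def] at e; exact mul_inv_eq_one.mp e)
    · exact Or.inr (by rw [commutatorElement_def] at e; exact mul_inv_eq_iff_eq_mul.mp e)
  have hL : rho g1 * (y : ↥C1) * (rho g1)⁻¹ = rho (g1 * h * g1⁻¹) := by rw [map_mul, map_mul, map_inv, hy]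
  have hL2 : ((g1 * h * g1⁻¹ : ↥C0) : ↥Co0) = sgn (toSet 3421328) (hσm ▸ smul_CW hσM hmC) := by
    rw [Subgroup.coe_mul, Subgroup.coe_mul, InvMemClass.coe_inv, hh]
    exact (mono_conj_sgn hσM CW_empty hmC).trans (sgn_congr hσm)
  have hhs : (h : ↥Co0) = sgn (toSet moved) hmC := hh
  rw [hL] at hconj
  obtain ⟨n1, n2, n3, n4⟩ := hne
  rcases hky with e | e <;> rw [e] at hconj
  · rw [← hy] at hconj
    rcases rho_eq.mp hconj with r | r <;> rw [hL2, hhs] at r
    · exact n1 (sgn_inj r).symm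
    · rw [sgn_mul_neg] at r
      exact n2 (by rw [sgn_inj r, compl_compl])
  · rw [Subgroup.coe_mul, ← hy, show (zQ : ↥C1) = rho ⟨eps, eps_mem⟩ from rfl,
      ← map_mul] at hconj
    rcases rho_eq.mp hconj with r | r <;> rw [Subgroup.coe_mul, hL2, hhs] at r
    · rw [show ((⟨eps, eps_mem⟩ : ↥C0) : ↥Co0) = sgn O0 O0_CW from rfl, sgn_mul] at r
      exact n3 (by rw [← sgn_inj r, symmDiff_comm])
    · rw [show ((⟨eps, eps_mem⟩ : ↥C0) : ↥Co0) = sgn O0 O0_CW from rfl, sgn_mul,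
        sgn_mul_neg] at r
      refine n4 ?_
      have h5 := sgn_inj r
      rw [← compl_compl (toSet 3421328), ← h5]
      exact compl_symmDiff' O0 (toSet moved)

theorem co1_finite : Finite Cfsg.Spor.Co1 :=
  haveI : Finite ↥Co0 := Nat.finite_of_card_ne_zero (by rw [co0_card]; norm_num)
  Quotient.finite _

theorem gfit_eq : generalizedFittingSubgroup ↥C1 = Q1 := by
  haveI : Fact (Nat.Prime 2) := ⟨Nat.prime_two⟩
  haveI := co1_finite
  have hp : IsPGroup 2 ↥Q1 := IsPGroup.of_card (n := 9) (by rw [Q1_card]; norm_num)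
  have hle : Q1 ≤ pCore 2 ↥C1 := le_sSup ⟨inferInstance, hp⟩
  have heq : pCore 2 ↥C1 = Q1 := by
    refine le_antisymm ?_ hle
    haveI : (pCore 2 ↥C1).Normal := Subgroup.sSup_normal _ (fun _ h => h.1)
    haveI := omega_simple
    have hn : ((pCore 2 ↥C1).map phi1).Normal := Subgroup.Normal.map inferInstance phi1 phi1_surjective
    rcases hn.eq_bot_or_eq_top with hb | ht
    · exact fun x hx => MonoidHom.mem_ker.mpr (Subgroup.mem_bot.mp (hb ▸ Subgroup.mem_map_of_mem phi1 hx))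
    · exfalso
      have h2 : IsPGroup 2 ↥((pCore 2 ↥C1).map phi1) := (CfsgLib.isPGroup_pCore 2).map phi1
      obtain ⟨n, hn⟩ := h2.exists_card_eq
      rw [ht, Subgroup.card_top, (CfsgLib.StemSylow.OEight.card_omega (ZMod.card 2)).1] at hn
      have h3 : 3 ∣ 2 ^ n := hn ▸ (by norm_num)
      exact absurd (Nat.prime_three.dvd_of_dvd_pow h3) (by norm_num)
  rw [← heq, CfsgLib.Comp.gfit_eq_pCore_iff, heq]
  exact centraliser_le

/-- A conjugate of the involution in the subgroup, different from it. -/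
theorem not_weakly_closed : ∃ g : Cfsg.Spor.Co1, ∃ hq : g * z1 * g⁻¹ ∈ C1,
    (⟨g * z1 * g⁻¹, hq⟩ : ↥C1) ∈ Q1 ∧ g * z1 * g⁻¹ ≠ z1 := by
  have hoct : toSet moved ∈ octads := ⟨moved_checks.2.2.2.2.2.1, by decide +kernel⟩
  obtain ⟨σ, hσ, he⟩ := exists_smul_O0 hoct
  obtain ⟨y, h, hy, hh⟩ := elem_ker (one_mem (fixOct O0)) (SK_mask moved_checks.2.2.2.2.1)
  refine ⟨prj (monoAut σ hσ ∅ CW_empty), ?_⟩
  have hc : prj (monoAut σ hσ ∅ CW_empty) * z1 * (prj (monoAut σ hσ ∅ CW_empty))⁻¹ = prj (h : ↥Co0) := by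
    rw [← map_inv, ← map_mul, ← map_mul, hh, eps, mono_conj_sgn hσ CW_empty O0_CW]
    exact congrArg prj (sgn_congr he)
  refine ⟨hc.symm ▸ prj_mem.mpr h.2, ?_, ?_⟩
  · have e2 : ∀ hq, (⟨_, hq⟩ : ↥C1) = (y : ↥C1) := fun hq => (Subtype.ext hc).trans hy
    rw [e2]
    exact y.2
  · rw [hc, hh]
    intro e
    rcases prj_eq.mp e with r | r
    · exact absurd (sgn_inj r) (by decide +kernel)
    · rw [show monoAut 1 _ (toSet moved) _ = sgn (toSet moved) moved_checks.2.2.2.2.2.1 from rfl, sgn_mul_neg] at r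
      exact absurd (sgn_inj r) (by decide +kernel)

end CfsgLeech.OctInv
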