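/-
Words evaluated on packed vectors, step by step along recorded paths.
-/
import Cfsg.Agent.Lib.Leech.Words
import Cfsg.Agent.Lib.Golay.Elems

set_option autoImplicit false

namespace CfsgLeech

open Cfsg CfsgGolay

attribute [local irreducible] codeL octadL dodecadL slpCodes

/-- The vector of a code: five bits a coordinate, shifted by sixteen. -/
def vecN (c : ℕ) (i : GolayPt) : ℤ := (papp c (idx i) : ℤ) - 16

/-- The points of the tetrad through each point. -/
def blockPts : List (List ℕ) :=
  [[0, 1, 2, 23], [0, 1, 2, 23], [0, 1, 2, 23], [3, 5, 14, 17], [4, 13, 16, 22], [3, 5, 14, 17], [6, 7, 19, 21], [6, 7, 19, 21], [8, 11, 12, 18], [9, 10, 15, 20], [9, 10, 15, 20], [8, 11, 12, 18], [8, 11, 12, 18], [4, 13, 16, 22], [3, 5, 14, 17], [9, 10, 15, 20], [4, 13, 16, 22], [3, 5, 14, 17], [8, 11, 12, 18], [6, 7, 19, 21], [9, 10, 15, 20], [6, 7, 19, 21], [4, 13, 16, 22], [0, 1, 2, 23]]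

theorem blockPts_ok : ∀ i : GolayPt, ((blockPts.getD (idx i) []).map pt).Nodup ∧
    block i = ((blockPts.getD (idx i) []).map pt).toFinset ∧ (∀ j ∈ blockPts.getD (idx i) [], j < 24) ∧
    (i ∈ negBlock ↔ (147496 : ℕ).testBit (idx i) = true) := by decide +kernel

/-- The sum of the fields at some indices. -/
def fieldSum (c : ℕ) : List ℕ → ℕ
  | [] => 0
  | j :: l => papp c j + fieldSum c l

theorem fieldSum_eq (c : ℕ) : ∀ l : List ℕ, (∀ j ∈ l, j < 24) →
    ((l.map pt).map (vecN c)).sum = (fieldSum c l : ℤ) - 16 * l.length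
  | [], _ => by simp [fieldSum]
  | j :: l, h => by
    rw [List.map_cons, List.map_cons, List.sum_cons, fieldSum_eq c l fun k hk => h k (List.mem_cons_of_mem j hk),
      vecN, idx_pt (h j (List.mem_cons_self ..)), fieldSum, List.length_cons]
    push_cast
    ring

/-- One step lands where recorded, on raw fields. -/
def stepChk : Step → ℕ → ℕ → Bool
  | none, c, d => (List.range 24).all fun k =>
    let b := blockPts.getD k []
    let h := Nat.div (fieldSum c b) 2
    Nat.beq b.length 4 &&
      cond ((147496 : ℕ).testBit k) (Nat.beq (papp d k + papp c k) h) (Nat.beq (papp d k + h) (papp c k + 32))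
  | some (g, m), c, d => (List.range 24).all fun k =>
    Nat.blt (papp g k) 24 &&
      cond (m.testBit k) (Nat.beq (papp d k + papp c (papp g k)) 32) (Nat.beq (papp d k) (papp c (papp g k)))

theorem stepChk_eq {s : Step} {c d : ℕ} (h : stepChk s c d = true) : stepF s (vecN c) = vecN d := by
  funext i
  match s with
  | none =>
    simp only [stepChk, List.all_eq_true, List.mem_range, Bool.and_eq_true] at h
    obtain ⟨h4, hk⟩ := h (idx i) (idx_lt i)
    obtain ⟨hnd, hb, hlt, hneg⟩ := blockPts_ok i
    have hs : bsum (vecN c) i = (fieldSum c (blockPts.getD (idx i) []) : ℤ) - 64 := by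
      rw [bsum, hb, List.sum_toFinset _ hnd, fieldSum_eq c _ hlt, Nat.eq_of_beq_eq_true h4]
      norm_num
    show zeta (vecN c) i = vecN d i
    rw [zeta, hs, vecN, vecN]
    by_cases hn : i ∈ negBlock
    · rw [hneg.mp hn, cond_true] at hk
      have hk' : papp d (idx i) + papp c (idx i) = fieldSum c (blockPts.getD (idx i) []) / 2 := Nat.eq_of_beq_eq_true hk
      rw [if_pos hn]
      omega
    · rw [Bool.not_eq_true _ |>.mp (fun e => hn (hneg.mpr e)), cond_false] at hk
      have hk' : papp d (idx i) + fieldSum c (blockPts.getD (idx i) []) / 2 = papp c (idx i) + 32 :=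
        Nat.eq_of_beq_eq_true hk
      rw [if_neg hn]
      omega
  | some (g, m) =>
    simp only [stepChk, List.all_eq_true, List.mem_range, Bool.and_eq_true, Nat.blt_eq] at h
    obtain ⟨hg, hk⟩ := h (idx i) (idx_lt i)
    simp only [stepF, vecN, idx_pt hg]
    cases hb : m.testBit (idx i) <;> rw [hb] at hk <;> simp only [cond_true, cond_false] at hk <;>
      have hk' := Nat.eq_of_beq_eq_true hk <;> simp only [Bool.false_eq_true, if_false, if_true] <;> omega

/-- A recorded path of a word. -/
def pathOK : List Step → ℕ → List ℕ → Bool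
  | [], _, [] => true
  | s :: w, c, d :: l => stepChk s c d && pathOK w d l
  | _, _, _ => false

/-- The end of a path. -/
def pathEnd : ℕ → List ℕ → ℕ
  | c, [] => c
  | _, d :: l => pathEnd d l

theorem runW_path : ∀ (w : List Step) (c : ℕ) (l : List ℕ), pathOK w c l = true →
    runW w (vecN c) = vecN (pathEnd c l)
  | [], c, [], _ => rfl
  | [], c, _ :: _, h => by simp [pathOK] at h
  | _ :: _, c, [], h => by simp [pathOK] at h
  | s :: w, c, d :: l, h => by
    simp only [pathOK, Bool.and_eq_true] at h
    rw [runW, stepChk_eq h.1, pathEnd]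
    exact runW_path w d l h.2

theorem vecN_inj {c d : ℕ} (hc : c < 2 ^ 120) (hd : d < 2 ^ 120) (h : vecN c = vecN d) : c = d :=
  eq_of_papp hc hd fun i hi => by
    have := congrFun h (pt i)
    rw [vecN, vecN, idx_pt hi] at this
    omega

end CfsgLeech
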