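/-
From recorded paths to an isomorphism with a permutation group.
-/
import Cfsg.Agent.Lib.PermChain.Model
import Cfsg.Agent.Lib.Leech.Paths

set_option autoImplicit false

namespace CfsgLeech.Models

open Cfsg CfsgGolay CfsgPC
open scoped Pointwise

attribute [local irreducible] codeL octadL dodecadL slpCodes

/-- The points are distinct as pairs. -/
def ptsOK (pts : List (ℕ × ℕ)) : Bool :=
  (List.range pts.length).all fun i =>
    let a := (pts.getD i (0, 0))
    Nat.blt a.1 (2 ^ 120) && Nat.blt a.2 (2 ^ 120) && inLatB (vecN a.1) && inLatB (vecN a.2) &&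
      (List.range pts.length).all fun j => Nat.beq i j ||
        (!Nat.beq a.1 (pts.getD j (0, 0)).1 && !Nat.beq a.1 (pts.getD j (0, 0)).2)

/-- A word fixes the recorded vectors. -/
def fixOK (w : List Step) (vs : List ℕ) (ps : List (List ℕ)) : Bool :=
  wordOK w && (List.range vs.length).all fun k =>
    pathOK w (vs.getD k 0) (ps.getD k []) && Nat.beq (pathEnd (vs.getD k 0) (ps.getD k [])) (vs.getD k 0)

/-- A word moves the pair at `i` to the pair at its image under the code. -/
def moveOK (pts : List (ℕ × ℕ)) (w : List Step) (c : ℕ) (paths : List (List ℕ × List ℕ)) (i : ℕ) : Bool :=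
  let a := pts.getD i (0, 0)
  let p := paths.getD i ([], [])
  let b := pts.getD (ap c i) (0, 0)
  Nat.blt (ap c i) pts.length && pathOK w a.1 p.1 && pathOK w a.2 p.2 &&
    ((Nat.beq (pathEnd a.1 p.1) b.1 && Nat.beq (pathEnd a.2 p.2) b.2) ||
      (Nat.beq (pathEnd a.1 p.1) b.2 && Nat.beq (pathEnd a.2 p.2) b.1))

/-- The lattice vector of a code, zero outside the lattice. -/
def vecL (c : ℕ) : ↥leechLattice :=
  if h : inLatB (vecN c) = true then ⟨vecN c, inLatB_sound h⟩ else 0

theorem vecL_coe {c : ℕ} (h : inLatB (vecN c) = true) : (vecL c : GolayPt → ℤ) = vecN c := by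
  rw [vecL, dif_pos h]

/-- A pair as a set of vectors. -/
def pairSet (pts : List (ℕ × ℕ)) (i : ℕ) : Set ↥leechLattice :=
  {vecL (pts.getD i (0, 0)).1, vecL (pts.getD i (0, 0)).2}

theorem pairSet_injective {pts : List (ℕ × ℕ)} (h : ptsOK pts = true) {i j : ℕ} (hi : i < pts.length)
    (hj : j < pts.length) (e : pairSet pts i = pairSet pts j) : i = j := by
  simp only [ptsOK, List.all_eq_true, List.mem_range, Bool.and_eq_true, Bool.or_eq_true, Bool.not_eq_true',
    Nat.blt_eq] at h
  obtain ⟨⟨⟨⟨a1, -⟩, l1⟩, -⟩, hd⟩ := h i hi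
  obtain ⟨⟨⟨⟨b1, b2⟩, m1⟩, m2⟩, -⟩ := h j hj
  have hmem : vecL (pts.getD i (0, 0)).1 ∈ pairSet pts j := e ▸ Or.inl rfl
  by_contra hne
  rcases hd j hj with hij | ⟨n1, n2⟩
  · exact hne (Nat.eq_of_beq_eq_true hij)
  rcases hmem with hm | hm
  · have := congrArg (fun v : ↥leechLattice => (v : GolayPt → ℤ)) hm
    simp only [vecL_coe l1, vecL_coe m1] at this
    rw [vecN_inj a1 b1 this, Nat.beq_refl] at n1
    simp at n1
  · have := congrArg (fun v : ↥leechLattice => (v : GolayPt → ℤ)) (Set.mem_singleton_iff.mp hm)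
    simp only [vecL_coe l1, vecL_coe m2] at this
    rw [vecN_inj a1 b2 this, Nat.beq_refl] at n2
    simp at n2

/-- All checks about the generators. -/
def GensOK (n : ℕ) (pts : List (ℕ × ℕ)) (vs : List ℕ) (words : List (List Step)) (codes : List ℕ) : Prop :=
  ∀ c ∈ codes, ∃ w ∈ words, ∃ ps : List (List ℕ), ∃ paths : List (List ℕ × List ℕ), ∃ ci : ℕ,
    fixOK w vs ps = true ∧ isPerm n c ci = true ∧ ∀ i < n, moveOK pts w c paths i = true

/-- A range of points is right. -/
def ptsPart (pts : List (ℕ × ℕ)) (a b : ℕ) : Bool :=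
  (List.range (b - a)).all fun d =>
    let i := a + d
    let x := (pts.getD i (0, 0))
    Nat.blt x.1 (2 ^ 120) && Nat.blt x.2 (2 ^ 120) && inLatB (vecN x.1) && inLatB (vecN x.2) &&
      (List.range pts.length).all fun j => Nat.beq i j ||
        (!Nat.beq x.1 (pts.getD j (0, 0)).1 && !Nat.beq x.1 (pts.getD j (0, 0)).2)

theorem ptsOK_of_parts {pts : List (ℕ × ℕ)} (h : ∀ i < pts.length, ∃ a b, a ≤ i ∧ i < b ∧ ptsPart pts a b = true) :
    ptsOK pts = true := by
  refine List.all_eq_true.mpr fun i hi => ?_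
  obtain ⟨a, b, ha, hb, hp⟩ := h i (List.mem_range.mp hi)
  have := List.all_eq_true.mp hp (i - a) (List.mem_range.mpr (by omega))
  simp only [Nat.add_sub_cancel' ha] at this
  exact this

/-- The generators act on the pairs as their codes say. -/
theorem gens_act {H : Subgroup ↥Co0} {n : ℕ} {pts : List (ℕ × ℕ)} (hlen : pts.length = n)
    {vs : List ℕ} {words : List (List Step)} {codes : List ℕ}
    (hp : ptsOK pts = true) (hvs : (vs.all fun v => inLatB (vecN v)) = true)
    (hH : ∀ g : ↥Co0, (∀ v ∈ vs, g • vecL v = vecL v) → g ∈ H)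
    (hg : GensOK n pts vs words codes) :
    Function.Injective (fun i : Fin n => pairSet pts i) ∧ ∀ c ∈ codes, ∃ g : ↥H, ∃ p : Equiv.Perm (Fin n),
      Rep n c p ∧ ∀ i : Fin n, g • pairSet pts (i : ℕ) = pairSet pts (p i : ℕ) := by
  refine ⟨?_, ?_⟩
  · exact fun i j e => Fin.ext (pairSet_injective hp (hlen ▸ i.2) (hlen ▸ j.2) e)
  · intro c hcm
    obtain ⟨w, -, ps, paths, ci, hfix, hperm, hmove⟩ := hg c hcm
    simp only [fixOK, Bool.and_eq_true, List.all_eq_true, List.mem_range] at hfix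
    obtain ⟨hw, hfix⟩ := hfix
    obtain ⟨g, hgw⟩ := exists_word_aut hw
    have hlat : ∀ a, inLatB (vecN a) = true → ∀ l, pathOK w a l = true → inLatB (vecN (pathEnd a l)) = true →
        g • vecL a = vecL (pathEnd a l) := fun a ha l hl he => Subtype.ext (by
      rw [hgw, vecL_coe ha, runW_path w a l hl, vecL_coe he])
    have hgH : g ∈ H := hH g fun v hvm => by
      obtain ⟨k, hk, rfl⟩ := List.getElem_of_mem hvm
      have hb := hfix k hk
      rw [List.getD_eq_getElem _ _ hk] at hb
      have hl : inLatB (vecN vs[k]) = true := List.all_eq_true.mp hvs _ (List.getElem_mem hk)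
      have he := Nat.eq_of_beq_eq_true hb.2
      rw [hlat _ hl _ hb.1 (by rw [he]; exact hl), he]
    refine ⟨⟨g, hgH⟩, decP n c, decP_rep hperm, fun i => ?_⟩
    have hm := hmove i i.2
    simp only [moveOK, Bool.and_eq_true, Nat.blt_eq] at hm
    obtain ⟨⟨⟨hlt, h1⟩, h2⟩, hend⟩ := hm
    simp only [ptsOK, List.all_eq_true, List.mem_range, Bool.and_eq_true] at hp
    obtain ⟨⟨⟨-, l1⟩, l2⟩, -⟩ := hp i (hlen ▸ i.2)
    obtain ⟨⟨⟨-, m1⟩, m2⟩, -⟩ := hp _ hlt
    rw [show ((decP n c i : Fin n) : ℕ) = ap c i from (decP_rep hperm i).symm]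
    show g • pairSet pts i = _
    rw [pairSet, pairSet, Set.smul_set_insert, Set.smul_set_singleton]
    simp only [Bool.or_eq_true, Bool.and_eq_true] at hend
    rcases hend with ⟨e1, e2⟩ | ⟨e1, e2⟩
    · have e1' := Nat.eq_of_beq_eq_true e1
      have e2' := Nat.eq_of_beq_eq_true e2
      rw [hlat _ l1 _ h1 (by rw [e1']; exact m1), hlat _ l2 _ h2 (by rw [e2']; exact m2), e1', e2']
    · have e1' := Nat.eq_of_beq_eq_true e1
      have e2' := Nat.eq_of_beq_eq_true e2
      rw [hlat _ l1 _ h1 (by rw [e1']; exact m2), hlat _ l2 _ h2 (by rw [e2']; exact m1), e1', e2', Set.pair_comm]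

/-- The stabiliser is the permutation group of the recorded generators. -/
theorem exists_iso {H : Subgroup ↥Co0} {n : ℕ} {pts : List (ℕ × ℕ)} (hlen : pts.length = n)
    {vs : List ℕ} {words : List (List Step)} {codes : List ℕ}
    (hp : ptsOK pts = true) (hvs : (vs.all fun v => inLatB (vecN v)) = true)
    (hH : ∀ g : ↥Co0, (∀ v ∈ vs, g • vecL v = vecL v) → g ∈ H)
    (hg : GensOK n pts vs words codes) [Finite ↥H] :
    Nat.card (genG n codes) ≤ Nat.card ↥H ∧
      (Nat.card ↥H ≤ Nat.card (genG n codes) → Nonempty (↥H ≃* genG n codes)) := by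
  obtain ⟨hinj, hact⟩ := gens_act hlen hp hvs hH hg
  exact ⟨card_model_le hinj hact, exists_model hinj hact⟩

end CfsgLeech.Models
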