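/-
The defined stabilisers as subgroups of the automorphism group of the lattice.
-/
import Cfsg.Agent.Lib.Leech.StabSimple
import Cfsg.Prelude.Def_Spor_Conway

set_option autoImplicit false

namespace CfsgLeech

open Cfsg CfsgGolay
open scoped Pointwise

attribute [local irreducible] codeL octadL dodecadL slpCodes

theorem leechV_eq : Spor.leechV = -(⟨uStd, uStd_mem⟩ : ↥leechLattice) := Subtype.ext (by
  rw [AddSubgroup.coe_neg]
  exact funext fun i => by revert i; decide +kernel)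

theorem leechU_eq : Spor.leechU = (⟨aStd, aStd_mem⟩ : ↥leechLattice) := Subtype.ext
  (funext fun i => by revert i; decide +kernel)

theorem leechU'_eq : Spor.leechU' = (⟨tStd, tStd_mem⟩ : ↥leechLattice) := Subtype.ext
  (funext fun i => by revert i; decide +kernel)

theorem smul_neg_iff (g : ↥Co0) (v : ↥leechLattice) : g • (-v) = -v ↔ g • v = v := by
  rw [aut_neg, neg_inj]

theorem spor_co3_equiv : Nonempty (↥Spor.Co3 ≃*
    ↥(MulAction.stabilizer ↥Co0 (⟨uStd, uStd_mem⟩ : ↥leechLattice))) := by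
  refine ⟨(MulEquiv.subgroupCongr ?_).symm.trans
    (Subgroup.equivMapOfInjective _ _ Co0.subtype_injective).symm⟩
  ext g
  simp only [Spor.Co3, Subgroup.mem_map, Subgroup.mem_inf, MulAction.mem_stabilizer_iff, leechV_eq]
  constructor
  · rintro ⟨k, hk, rfl⟩
    exact ⟨k.2, (smul_neg_iff k _).mpr hk⟩
  · rintro ⟨hg, h⟩
    exact ⟨⟨g, hg⟩, (smul_neg_iff ⟨g, hg⟩ _).mp h, rfl⟩

theorem spor_hs_equiv : Nonempty (↥Spor.HS ≃*
    ↥(MulAction.stabilizer ↥Co0 (⟨uStd, uStd_mem⟩ : ↥leechLattice) ⊓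
      MulAction.stabilizer ↥Co0 (⟨tStd, tStd_mem⟩ : ↥leechLattice))) := by
  refine ⟨(MulEquiv.subgroupCongr ?_).symm.trans
    (Subgroup.equivMapOfInjective _ _ Co0.subtype_injective).symm⟩
  ext g
  simp only [Spor.HS, Spor.Co3, Subgroup.mem_map, Subgroup.mem_inf, MulAction.mem_stabilizer_iff, leechV_eq,
    leechU'_eq]
  constructor
  · rintro ⟨k, ⟨h1, h2⟩, rfl⟩
    exact ⟨⟨k.2, (smul_neg_iff k _).mpr h1⟩, h2⟩
  · rintro ⟨⟨hg, h1⟩, h2⟩
    exact ⟨⟨g, hg⟩, ⟨(smul_neg_iff ⟨g, hg⟩ _).mp h1, h2⟩, rfl⟩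

theorem spor_mcl_equiv : Nonempty (↥Spor.McL ≃*
    ↥(MulAction.stabilizer ↥Co0 (⟨uStd, uStd_mem⟩ : ↥leechLattice) ⊓
      MulAction.stabilizer ↥Co0 (⟨aStd, aStd_mem⟩ : ↥leechLattice))) := by
  refine ⟨(MulEquiv.subgroupCongr ?_).symm.trans
    (Subgroup.equivMapOfInjective _ _ Co0.subtype_injective).symm⟩
  ext g
  simp only [Spor.McL, Spor.Co3, Subgroup.mem_map, Subgroup.mem_inf, MulAction.mem_stabilizer_iff, leechV_eq,
    leechU_eq]
  constructor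
  · rintro ⟨k, ⟨h1, h2⟩, rfl⟩
    exact ⟨⟨k.2, (smul_neg_iff k _).mpr h1⟩, h2⟩
  · rintro ⟨⟨hg, h1⟩, h2⟩
    exact ⟨⟨g, hg⟩, ⟨(smul_neg_iff ⟨g, hg⟩ _).mp h1, h2⟩, rfl⟩

end CfsgLeech
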