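/-
The group Co3 as a group of permutations of 276 points.
-/
import Cfsg.Agent.Lib.Leech.ModelCheck
import Cfsg.Agent.Lib.Leech.Co3PermData
import Cfsg.Agent.Lib.Leech.SporTransfer

set_option autoImplicit false
set_option maxRecDepth 30000
set_option maxHeartbeats 1000000

namespace CfsgLeech.Models

open Cfsg CfsgGolay CfsgPC
open scoped Pointwise

/-- The fixed vectors. -/
def co3Vs : List ℕ := [895084981032584478931192657527490097, 895084981032584478931192657527490097]

theorem co3_len : co3Pts.length = 276 := by decide +kernel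

theorem co3_pts0 : ptsPart co3Pts 0 50 = true := by decide +kernel

theorem co3_pts1 : ptsPart co3Pts 50 100 = true := by decide +kernel

theorem co3_pts2 : ptsPart co3Pts 100 150 = true := by decide +kernel

theorem co3_pts3 : ptsPart co3Pts 150 200 = true := by decide +kernel

theorem co3_pts4 : ptsPart co3Pts 200 250 = true := by decide +kernel

theorem co3_pts5 : ptsPart co3Pts 250 276 = true := by decide +kernel

theorem co3_vs_ok : (co3Vs.all fun v => inLatB (vecN v)) = true := by decide +kernel

theorem co3_vs_eq : (∀ i, vecN (co3Vs.getD 0 0) i = uStd i) ∧ (∀ i, vecN (co3Vs.getD 1 0) i = uStd i) := by decide +kernel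

theorem co3_fix : ∀ a < 3, fixOK (co3Words.getD a []) co3Vs (co3Fixed.getD a []) = true := by decide +kernel

theorem co3_len2 : co3Words.length = 3 ∧ co3Codes.length = 3 := by decide +kernel

theorem co3_move0 : ((List.range 276).all fun i => moveOK co3Pts (co3Words.getD 0 []) (co3Codes.getD 0 0) co3Paths0 i) = true := by
  decide +kernel

theorem co3_move1 : ((List.range 276).all fun i => moveOK co3Pts (co3Words.getD 1 []) (co3Codes.getD 1 0) co3Paths1 i) = true := by
  decide +kernel

theorem co3_move2 : ((List.range 276).all fun i => moveOK co3Pts (co3Words.getD 2 []) (co3Codes.getD 2 0) co3Paths2 i) = true := by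
  decide +kernel

/-- Codes of the inverses of the generators. -/
def co3CodesInv : List ℕ := co3Codes.map fun c => pk (fun i => (List.range 276).findIdx fun j => Nat.beq (ap c j) i) 276

theorem co3_perm : ∀ a < 3, isPerm 276 (co3Codes.getD a 0) (co3CodesInv.getD a 0) = true := by decide +kernel

theorem co3_slp : slpOK 276 co3Codes co3Slp co3Rigid.gens = true := by decide +kernel

theorem co3_shape : shapeOK 276 co3Chain co3Rigid.gens = true ∧ co3Chain.length = 6 ∧
    (co3Chain.map fun L => L.tr.length) = [276, 275, 162, 105, 64, 6] := by decide +kernel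

theorem co3_entries0_0 : entriesOK 276 co3Chain co3Rigid.gens 0 0 100 = true := by decide +kernel

theorem co3_entries0_1 : entriesOK 276 co3Chain co3Rigid.gens 0 100 200 = true := by decide +kernel

theorem co3_entries0_2 : entriesOK 276 co3Chain co3Rigid.gens 0 200 276 = true := by decide +kernel

theorem co3_entries1_0 : entriesOK 276 co3Chain co3Rigid.gens 1 0 100 = true := by decide +kernel

theorem co3_entries1_1 : entriesOK 276 co3Chain co3Rigid.gens 1 100 200 = true := by decide +kernel

theorem co3_entries1_2 : entriesOK 276 co3Chain co3Rigid.gens 1 200 275 = true := by decide +kernel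

theorem co3_entries2_0 : entriesOK 276 co3Chain co3Rigid.gens 2 0 100 = true := by decide +kernel

theorem co3_entries2_1 : entriesOK 276 co3Chain co3Rigid.gens 2 100 162 = true := by decide +kernel

theorem co3_entries3_0 : entriesOK 276 co3Chain co3Rigid.gens 3 0 100 = true := by decide +kernel

theorem co3_entries3_1 : entriesOK 276 co3Chain co3Rigid.gens 3 100 105 = true := by decide +kernel

theorem co3_entries4_0 : entriesOK 276 co3Chain co3Rigid.gens 4 0 64 = true := by decide +kernel

theorem co3_entries5_0 : entriesOK 276 co3Chain co3Rigid.gens 5 0 6 = true := by decide +kernel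

theorem co3_size : sizeOfChain co3Chain = 495766656000 := by decide +kernel

theorem co3_check : co3Rigid.check = true := by decide +kernel

attribute [local irreducible] codeL octadL dodecadL slpCodes co3Pts co3Words co3Codes co3CodesInv co3Fixed co3Paths0 co3Paths1 co3Paths2 co3Slp co3Chain vecN

theorem co3_pts_ok : ptsOK co3Pts = true := ptsOK_of_parts fun i hi => by
  rw [co3_len] at hi
  by_cases h0 : i < 50
  · exact ⟨0, 50, by omega, h0, co3_pts0⟩
  by_cases h1 : i < 100
  · exact ⟨50, 100, by omega, h1, co3_pts1⟩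
  by_cases h2 : i < 150
  · exact ⟨100, 150, by omega, h2, co3_pts2⟩
  by_cases h3 : i < 200
  · exact ⟨150, 200, by omega, h3, co3_pts3⟩
  by_cases h4 : i < 250
  · exact ⟨200, 250, by omega, h4, co3_pts4⟩
  exact ⟨250, 276, by omega, hi, co3_pts5⟩

theorem co3_valid : Valid 276 co3Codes := fun c hc => by
  obtain ⟨a, ha, rfl⟩ := List.getElem_of_mem hc
  have := co3_perm a (by rw [co3_len2.2] at ha; exact ha)
  rw [List.getD_eq_getElem _ _ ha] at this
  exact ⟨_, decP_rep this⟩

theorem co3_table : TableOK 276 co3Chain co3Rigid.gens := by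
  obtain ⟨hs, hl, hlens⟩ := co3_shape
  refine tableOK_of_checks hs fun j hj k hk => ?_
  rw [hl] at hj
  have hk' : k < (co3Chain.map fun L => L.tr.length).getD j 0 := by
    rw [List.getD_eq_getElem _ _ (hl.symm ▸ hj)] at hk
    rw [List.getD_eq_getElem _ _ (by rw [List.length_map, hl]; exact hj), List.getElem_map]
    exact hk
  rw [hlens] at hk'
  clear hk hs hl hlens
  interval_cases j
  · replace hk : k < 276 := hk'
    by_cases h0 : k < 100
    · exact of_entriesOK co3_entries0_0 (by omega) h0
    by_cases h100 : k < 200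
    · exact of_entriesOK co3_entries0_1 (by omega) h100
    exact of_entriesOK co3_entries0_2 (by omega) hk
  · replace hk : k < 275 := hk'
    by_cases h0 : k < 100
    · exact of_entriesOK co3_entries1_0 (by omega) h0
    by_cases h100 : k < 200
    · exact of_entriesOK co3_entries1_1 (by omega) h100
    exact of_entriesOK co3_entries1_2 (by omega) hk
  · replace hk : k < 162 := hk'
    by_cases h0 : k < 100
    · exact of_entriesOK co3_entries2_0 (by omega) h0
    exact of_entriesOK co3_entries2_1 (by omega) hk
  · replace hk : k < 105 := hk'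
    by_cases h0 : k < 100
    · exact of_entriesOK co3_entries3_0 (by omega) h0
    exact of_entriesOK co3_entries3_1 (by omega) hk
  · replace hk : k < 64 := hk'
    exact of_entriesOK co3_entries4_0 (by omega) hk
  · replace hk : k < 6 := hk'
    exact of_entriesOK co3_entries5_0 (by omega) hk

theorem co3_model : Valid 276 co3Rigid.gens ∧ co3Rigid.Good ∧ Nonempty (↥(MulAction.stabilizer ↥Co0 (⟨uStd, uStd_mem⟩ : ↥leechLattice)) ≃* co3Rigid.grp) := by
  have hmem := slp_sound (n := 276) (by norm_num) (genG 276 co3Codes) co3Slp co3Codes co3Rigid.gens co3_slp fun c hc => by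
    obtain ⟨g, hg⟩ := co3_valid c hc
    exact ⟨g, Subgroup.subset_closure ⟨c, hc, hg⟩, hg⟩
  have hv : Valid 276 co3Rigid.gens := fun c hc => ⟨_, (hmem c hc).choose_spec.2⟩
  have hsub : genG 276 co3Rigid.gens ≤ genG 276 co3Codes := by
    refine (Subgroup.closure_le _).mpr ?_
    rintro g ⟨c, hc, hg⟩
    obtain ⟨h, hh, hhr⟩ := hmem c hc
    exact hg.unique hhr ▸ hh
  haveI : Finite ↥(MulAction.stabilizer ↥Co0 (⟨uStd, uStd_mem⟩ : ↥leechLattice)) := Nat.finite_of_card_ne_zero (by rw [card_co3 std_facts.2.2.2.1]; norm_num)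
  obtain ⟨hle, hiso⟩ := exists_iso (n := 276) (H := (MulAction.stabilizer ↥Co0 (⟨uStd, uStd_mem⟩ : ↥leechLattice))) co3_len (words := co3Words) (codes := co3Codes) co3_pts_ok co3_vs_ok
    (fun g hg => by
      obtain ⟨h0, h1⟩ := co3_vs_eq
      have e0 : vecL (co3Vs.getD 0 0) = ⟨uStd, uStd_mem⟩ := Subtype.ext (by
        rw [vecL_coe (List.all_eq_true.mp co3_vs_ok _ (by simp [co3Vs]))]; exact funext h0)
      have e1 : vecL (co3Vs.getD 1 0) = ⟨uStd, uStd_mem⟩ := Subtype.ext (by
        rw [vecL_coe (List.all_eq_true.mp co3_vs_ok _ (by simp [co3Vs]))]; exact funext h1)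
      have g0 := hg (co3Vs.getD 0 0) (by simp [co3Vs])
      have g1 := hg (co3Vs.getD 1 0) (by simp [co3Vs])
      rw [e0] at g0
      rw [e1] at g1
      exact g0)
    (fun c hc => by
      obtain ⟨a, ha, rfl⟩ := List.getElem_of_mem hc
      have ha3 : a < 3 := by rw [co3_len2.2] at ha; exact ha
      have hw : co3Words.getD a [] ∈ co3Words := by
        rw [List.getD_eq_getElem _ _ (co3_len2.1.symm ▸ ha3)]; exact List.getElem_mem _
      rw [← List.getD_eq_getElem (d := 0) _ ha]
      refine ⟨_, hw, co3Fixed.getD a [], [co3Paths0, co3Paths1, co3Paths2].getD a [], _, co3_fix a ha3, co3_perm a ha3, ?_⟩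
      intro i hi
      interval_cases a
      · exact List.all_eq_true.mp co3_move0 i (List.mem_range.mpr hi)
      · exact List.all_eq_true.mp co3_move1 i (List.mem_range.mpr hi)
      · exact List.all_eq_true.mp co3_move2 i (List.mem_range.mpr hi))
  rw [card_co3 std_facts.2.2.2.1] at hle hiso
  have hcs : Nat.card (genG 276 co3Rigid.gens) ≤ Nat.card (genG 276 co3Codes) :=
    Nat.card_le_card_of_injective _ (Subgroup.inclusion_injective hsub)
  obtain ⟨heq, hcard⟩ := table_eq (n := 276) (by norm_num) co3_table hv ((hcs.trans hle).trans (le_of_eq co3_size.symm))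
  have hgrp : genG 276 co3Rigid.gens = genG 276 co3Codes :=
    Subgroup.eq_of_le_of_card_ge hsub (hle.trans (le_of_eq (hcard.trans co3_size).symm))
  obtain ⟨e⟩ := hiso (le_of_eq ((hgrp ▸ hcard : Nat.card (genG 276 co3Codes) = _).trans co3_size).symm)
  exact ⟨hv, ⟨co3_table, heq, hcard⟩, ⟨e.trans (MulEquiv.subgroupCongr hgrp.symm)⟩⟩

end CfsgLeech.Models
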