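/-
The stabiliser of a minimal vector is simple.
-/
import Cfsg.Agent.Lib.Leech.Conway

set_option autoImplicit false

namespace CfsgLeech

open Cfsg CfsgGolay
open scoped Pointwise

attribute [local irreducible] codeL octadL dodecadL slpCodes

/-- The minimal vector fixed by the Mathieu group, as a lattice point. -/
def vS : ↥leechLattice := ⟨vStd, vStd_mem⟩

theorem bad_co2 : ∀ q e : ℕ, q.Prime → q ≠ 2 → q ^ e ∣ 2025 → 0 < e → ¬ q ^ e ≡ 1 [MOD 23] := by
  intro q e hq h2 hd he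
  have h1 : q ∣ 3 ^ 4 * 5 ^ 2 := (dvd_pow_self q he.ne').trans (hd.trans (by norm_num))
  rcases (show q = 3 ∨ q = 5 by
    rcases hq.dvd_mul.mp h1 with h | h
    · exact Or.inl ((Nat.prime_dvd_prime_iff_eq hq Nat.prime_three).mp (hq.dvd_of_dvd_pow h))
    · exact Or.inr ((Nat.prime_dvd_prime_iff_eq hq Nat.prime_five).mp (hq.dvd_of_dvd_pow h))) with
    rfl | rfl <;>
  · have hb : e < 11 := by
      by_contra hge
      have h3 := Nat.le_of_dvd (by norm_num) hd
      have h4 := Nat.pow_le_pow_right (show 1 ≤ 2 by norm_num) (not_lt.mp hge)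
      have h5 := Nat.pow_le_pow_left (show 2 ≤ _ from hq.two_le) e
      omega
    interval_cases e <;> revert hd <;> decide +kernel

theorem two_power {n : ℕ} (hd : n ∣ 4147200) (hc : ∀ q : ℕ, q.Prime → q ^ n.factorization q ≡ 1 [MOD 23]) :
    ∃ k, n = 2 ^ k := by
  have hn0 : n ≠ 0 := fun e => by subst e; norm_num at hd
  refine ⟨_, Nat.eq_prime_pow_of_unique_prime_dvd hn0 fun {q} hq hdvd => ?_⟩
  by_contra hne
  have h1 : q ^ n.factorization q ∣ 2 ^ 11 * 2025 := ((Nat.ordProj_dvd n q).trans hd).trans (by norm_num)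
  have hcop : Nat.Coprime (q ^ n.factorization q) (2 ^ 11) :=
    ((Nat.coprime_primes hq Nat.prime_two).mpr hne).pow _ _
  exact bad_co2 q _ hq hne (hcop.dvd_of_dvd_mul_left h1) (Nat.Prime.factorization_pos_of_dvd hq hn0 hdvd)
    (hc q hq)

/-- The difference of two axis vectors, halved. -/
def w01 : ↥leechLattice := ⟨ev ∅ {pt 0, pt 1} {pt 1}, inLatB_sound (by decide +kernel)⟩

/-- An orthogonal minimal vector through the distinguished point. -/
def yOct : ↥leechLattice := ⟨ev O0 ∅ {pt 0, pt 1}, inLatB_sound (by decide +kernel)⟩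

theorem w_facts : sqNorm (ev ∅ {pt 0, pt 1} {pt 1}) = 32 ∧ dotInt vStd (ev ∅ {pt 0, pt 1} {pt 1}) = 0 ∧
    sqNorm (ev O0 ∅ {pt 0, pt 1}) = 32 ∧ dotInt vStd (ev O0 ∅ {pt 0, pt 1}) = 0 ∧
    (∀ i, 2 * ev ∅ {pt 0, pt 1} {pt 1} i = (Pi.single (pt 0) 8 : GolayPt → ℤ) i - (Pi.single (pt 1) 8 : GolayPt → ℤ) i) ∧
    (∀ i, i ≠ none → i ≠ pt 0 → i ≠ pt 1 → ev ∅ {pt 0, pt 1} {pt 1} i = 0) := by decide +kernel

/-- The stabiliser. -/
noncomputable def co2S : Subgroup ↥Co0 := MulAction.stabilizer ↥Co0 vS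

theorem orth_orbit : MulAction.orbit ↥co2S w01 = minDot vS 0 :=
  minDot_orbit (vStd_norm) ⟨w_facts.1, w_facts.2.1⟩ fun {v w v' w'} h1 h2 h3 h4 h5 h6 =>
    orth_pairs h1 h2 h3 h4 h5 h6

theorem permHom_ax (σ : ↥M24) (i : GolayPt) : permHom σ • ax i = ax (σ.1 i) := by
  refine Subtype.ext (funext fun a => ?_)
  rw [permHom_apply, ax_coe, ax_coe, Pi.single_apply, Pi.single_apply]
  exact if_congr (Equiv.symm_apply_eq _) rfl rfl

theorem perm_mem_co2 {σ : ↥M24} (hn : σ.1 none = none) : permHom σ ∈ co2S :=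
  fix_const_off hn (f := vS) vStd_off

/-- A normal subgroup of two-power order sends `w01` to itself or its negative. -/
theorem normal_pm {N : Subgroup ↥co2S} [N.Normal] {k : ℕ} (hk : Nat.card ↥N = 2 ^ k) {n : ↥co2S} (hn : n ∈ N) :
    n • w01 = w01 ∨ n • w01 = -w01 := by
  haveI := co0_finite
  set O := MulAction.orbit ↥N w01
  have hdvd : O.ncard ∣ 93150 := by
    rw [← count_orth (v := vS) vStd_norm, ← orth_orbit]
    set St := MulAction.stabilizer ↥co2S w01 with hSt
    have hidx : St.index = (MulAction.orbit ↥co2S w01).ncard := MulAction.index_stabilizer ..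
    have h1 : St.relIndex N = O.ncard := by
      rw [← MulAction.index_stabilizer]
      rfl
    have h2 := Subgroup.relIndex_mul_index (inf_le_right : St ⊓ N ≤ N)
    have h3 := Subgroup.relIndex_mul_index (inf_le_left : St ⊓ N ≤ St)
    rw [Subgroup.inf_relIndex_right, h1] at h2
    rw [Subgroup.inf_relIndex_left, ← h2] at h3
    obtain ⟨s, hs⟩ := Subgroup.relIndex_dvd_index_of_normal N St
    have hpos : 0 < N.relIndex St := Nat.pos_of_ne_zero fun h0 => by
      rw [h0, zero_mul] at hs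
      exact Subgroup.index_ne_zero_of_finite hs
    rw [hs, mul_comm O.ncard, mul_assoc] at h3
    exact ⟨s, by rw [← hidx, Nat.eq_of_mul_eq_mul_left hpos h3, mul_comm]⟩
  have hpow : ∃ j, O.ncard = 2 ^ j := by
    have h1 : O.ncard ∣ 2 ^ k := by
      rw [← hk, ← MulAction.index_stabilizer]; exact Subgroup.index_dvd_card _
    obtain ⟨j, -, hj⟩ := (Nat.dvd_prime_pow Nat.prime_two).mp h1
    exact ⟨j, hj⟩
  obtain ⟨j, hj⟩ := hpow
  have hle : O.ncard ≤ 2 := by
    rw [hj] at hdvd ⊢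
    by_contra hlt
    have hj2 : 2 ≤ j := by
      by_contra hh
      interval_cases j <;> norm_num at hlt
    have : 4 ∣ 93150 := (pow_dvd_pow 2 hj2).trans hdvd
    norm_num at this
  by_cases hw : n • w01 = w01
  · exact Or.inl hw
  right
  have hmem : n • w01 ∈ O := ⟨⟨n, hn⟩, rfl⟩
  have hO : O = {w01, n • w01} := by
    refine (Set.eq_of_subset_of_ncard_le (t := O) ?_ ?_ ?_).symm
    · rintro x (rfl | rfl)
      exacts [MulAction.mem_orbit_self _, hmem]
    · rwa [Set.ncard_pair (Ne.symm hw)]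
    · exact Set.finite_range _
  set z : ↥leechLattice := n • w01
  have hz : z ∈ minDot vS 0 := by rw [← orth_orbit]; exact ⟨n, rfl⟩
  obtain ⟨hz1, hz2⟩ := hz
  -- a symmetry fixing `w01` fixes `z`
  have key : ∀ h : ↥co2S, h • w01 = w01 → h • z = z := by
    intro h hh
    have h1 : h • z ∈ O := ⟨⟨h * n * h⁻¹, ‹N.Normal›.conj_mem n hn h⟩, by
      show (h * n * h⁻¹) • w01 = h • z
      rw [mul_smul, mul_smul, show h⁻¹ • w01 = w01 by rw [inv_smul_eq_iff, hh]]⟩
    rw [hO] at h1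
    rcases h1 with h1 | h1
    · exact absurd (MulAction.injective h (h1.trans hh.symm)) hw
    · exact h1
  have hne : (none : GolayPt) ≠ pt 0 ∧ (none : GolayPt) ≠ pt 1 ∧ pt 0 ≠ pt 1 := by decide +kernel
  set x := (z : GolayPt → ℤ) with hx
  have hconst : ∀ i, i ≠ none → i ≠ pt 0 → i ≠ pt 1 → x i = x (pt 2) := by
    intro i hi hi0 hi1
    obtain ⟨σ, hσ, hs⟩ := exists_M24_map (k := 4) (by norm_num)
      (⟨![none, pt 0, pt 1, pt 2], by decide +kernel⟩ : Fin 4 ↪ GolayPt)
      (⟨![none, pt 0, pt 1, i], by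
        intro a b
        fin_cases a <;> fin_cases b <;>
          simp [hne.1, hne.2.1, hne.2.2, hne.1.symm, hne.2.1.symm, hne.2.2.symm, hi, hi0, hi1, Ne.symm hi,
            Ne.symm hi0, Ne.symm hi1]⟩ : Fin 4 ↪ GolayPt)
    have e0 : σ none = none := hs 0
    have e1 : σ (pt 0) = pt 0 := hs 1
    have e2 : σ (pt 1) = pt 1 := hs 2
    have e3 : σ (pt 2) = i := hs 3
    have hfix : (⟨permHom ⟨σ, hσ⟩, perm_mem_co2 e0⟩ : ↥co2S) • w01 = w01 := by
      refine Subtype.ext (funext fun a => ?_)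
      show ((permHom ⟨σ, hσ⟩ • w01 : ↥leechLattice) : GolayPt → ℤ) a = _
      rw [permHom_apply]
      by_cases a0 : a = pt 0
      · subst a0; rw [show σ.symm (pt 0) = pt 0 by rw [Equiv.symm_apply_eq, e1]]
      by_cases a1 : a = pt 1
      · subst a1; rw [show σ.symm (pt 1) = pt 1 by rw [Equiv.symm_apply_eq, e2]]
      by_cases an : a = none
      · subst an; rw [show σ.symm none = none by rw [Equiv.symm_apply_eq, e0]]
      show ev ∅ {pt 0, pt 1} {pt 1} _ = ev ∅ {pt 0, pt 1} {pt 1} a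
      rw [w_facts.2.2.2.2.2 a an a0 a1, w_facts.2.2.2.2.2 _ (fun e => an (by rw [Equiv.symm_apply_eq] at e; rw [e, e0]))
        (fun e => a0 (by rw [Equiv.symm_apply_eq] at e; rw [e, e1]))
        (fun e => a1 (by rw [Equiv.symm_apply_eq] at e; rw [e, e2]))]
    have h2 := congrFun (congrArg Subtype.val (key _ hfix)) i
    change ((permHom ⟨σ, hσ⟩ • z : ↥leechLattice) : GolayPt → ℤ) i = x i at h2
    rw [permHom_apply, show σ.symm i = pt 2 by rw [Equiv.symm_apply_eq, e3]] at h2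
    exact h2.symm
  set S := ((Finset.univ.erase (none : GolayPt)).erase (pt 0)).erase (pt 1) with hSdef
  have hS : S.card = 21 := by rw [hSdef]; decide +kernel
  have hmemS : ∀ i ∈ S, x i = x (pt 2) := fun i hi =>
    hconst i (Finset.ne_of_mem_erase (Finset.mem_of_mem_erase (Finset.mem_of_mem_erase hi)))
      (Finset.ne_of_mem_erase (Finset.mem_of_mem_erase hi)) (Finset.ne_of_mem_erase hi)
  have split : ∀ w : GolayPt → ℤ, ∑ i, w i = w none + (w (pt 0) + (w (pt 1) + ∑ i ∈ S, w i)) := fun w => by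
    rw [sum_split_one, ← Finset.add_sum_erase (Finset.univ.erase none) w (a := pt 0) (by simp [hne.1.symm]),
      ← Finset.add_sum_erase ((Finset.univ.erase none).erase (pt 0)) w (a := pt 1)
        (by simp [hne.2.1.symm, hne.2.2.symm])]
  have hN : x none ^ 2 + (x (pt 0) ^ 2 + (x (pt 1) ^ 2 + 21 * x (pt 2) ^ 2)) = 32 := by
    rw [← hz1, sqNorm, split, Finset.sum_congr rfl (fun i hi => by rw [hmemS i hi]), Finset.sum_const, hS,
      nsmul_eq_mul]
    norm_num
  have hD : -3 * x none + (x (pt 0) + (x (pt 1) + 21 * x (pt 2))) = 0 := by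
    rw [← hz2]
    show _ = dotInt vStd x
    rw [dotInt, split, show vStd none = -3 by decide +kernel, vStd_off _ hne.1.symm, vStd_off _ hne.2.1.symm,
      Finset.sum_congr rfl (fun i hi => by
        rw [hmemS i hi, vStd_off i (Finset.ne_of_mem_erase (Finset.mem_of_mem_erase (Finset.mem_of_mem_erase hi))),
          one_mul]), Finset.sum_const, hS, nsmul_eq_mul]
    norm_num
  set a := x none
  set b := x (pt 0)
  set c := x (pt 1)
  set d := x (pt 2)
  have hd : d = 0 := by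
    have h1 : -1 ≤ d ∧ d ≤ 1 := ⟨by nlinarith, by nlinarith⟩
    rcases (show d = -1 ∨ d = 0 ∨ d = 1 by omega) with e | e | e
    · rw [e] at hN hD; nlinarith [sq_nonneg (b - c), sq_nonneg (a + 3 * b), sq_nonneg (a + 3 * c)]
    · exact e
    · rw [e] at hN hD; nlinarith [sq_nonneg (b - c), sq_nonneg (a + 3 * b), sq_nonneg (a + 3 * c)]
  rw [hd] at hN hD
  have ha : a = 0 := by
    have h1 : -2 ≤ a ∧ a ≤ 2 := ⟨by nlinarith [sq_nonneg (b - c)], by nlinarith [sq_nonneg (b - c)]⟩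
    have hb5 : -5 ≤ b ∧ b ≤ 5 := ⟨by nlinarith, by nlinarith⟩
    have hc : c = 3 * a - b := by linarith
    rw [hc] at hN
    obtain ⟨hb5a, hb5b⟩ := hb5
    obtain ⟨h1a, h1b⟩ := h1
    by_contra ha
    interval_cases a <;> first | omega | (interval_cases b <;> norm_num at hN)
  rw [ha] at hN hD
  have hc : c = -b := by linarith
  rw [hc] at hN
  have hb : b = 4 ∨ b = -4 := by
    have : (b - 4) * (b + 4) = 0 := by linarith
    rcases mul_eq_zero.mp this with h | h <;> omega
  have hz0 : ∀ i, i ≠ none → i ≠ pt 0 → i ≠ pt 1 → x i = 0 := fun i h1 h2 h3 => (hconst i h1 h2 h3).trans hd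
  have hw0 : ∀ {i}, i = none → ev ∅ {pt 0, pt 1} {pt 1} i = 0 ∧ ev ∅ {pt 0, pt 1} {pt 1} (pt 0) = 4 ∧
      ev ∅ {pt 0, pt 1} {pt 1} (pt 1) = -4 := by rintro i rfl; decide +kernel
  rcases hb with hb | hb
  · refine absurd (Subtype.ext (funext fun i => ?_)) hw
    show x i = ev ∅ {pt 0, pt 1} {pt 1} i
    by_cases i0 : i = pt 0
    · subst i0; rw [(hw0 rfl).2.1]; exact hb
    by_cases i1 : i = pt 1
    · subst i1; rw [(hw0 rfl).2.2]; show c = _; omega
    by_cases inn : i = none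
    · subst inn; rw [(hw0 rfl).1]; exact ha
    rw [hz0 i inn i0 i1, w_facts.2.2.2.2.2 i inn i0 i1]
  · refine Subtype.ext (funext fun i => ?_)
    show x i = -ev ∅ {pt 0, pt 1} {pt 1} i
    by_cases i0 : i = pt 0
    · subst i0; rw [(hw0 rfl).2.1]; exact hb
    by_cases i1 : i = pt 1
    · subst i1; rw [(hw0 rfl).2.2]; show c = _; omega
    by_cases inn : i = none
    · subst inn; rw [(hw0 rfl).1, neg_zero]; exact ha
    rw [hz0 i inn i0 i1, w_facts.2.2.2.2.2 i inn i0 i1, neg_zero]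

theorem orth_pm {N : Subgroup ↥co2S} [N.Normal] {k : ℕ} (hk : Nat.card ↥N = 2 ^ k) {n : ↥co2S} (hn : n ∈ N)
    {y : ↥leechLattice} (hy : y ∈ minDot vS 0) : n • y = y ∨ n • y = -y := by
  rw [← orth_orbit] at hy
  obtain ⟨g, rfl⟩ := hy
  have he : n • g • w01 = g • (g⁻¹ * n * g) • w01 := by rw [← mul_smul, ← mul_smul]; congr 1; group
  rcases normal_pm hk (by simpa using ‹N.Normal›.conj_mem n hn g⁻¹ : g⁻¹ * n * g ∈ N) with h | h
  · left; show n • g • w01 = g • w01; rw [he, h]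
  · right; show n • g • w01 = -(g • w01); rw [he, h]; exact aut_neg (g : ↥Co0) w01

theorem two_group_trivial {N : Subgroup ↥co2S} [N.Normal] {k : ℕ} (hk : Nat.card ↥N = 2 ^ k) : N = ⊥ := by
  refine (Subgroup.eq_bot_iff_forall N).mpr fun n hn => ?_
  set g : ↥Co0 := (n : ↥Co0)
  have hgv : g • vS = vS := n.2
  have hpm : ∀ y : ↥leechLattice, y ∈ minDot vS 0 → g • y = y ∨ g • y = -y := fun y hy => orth_pm hk hn hy
  -- the vectors through two axes
  have hpair : ∀ i j : GolayPt, i ≠ none → j ≠ none → i ≠ j → ∃ w : ↥leechLattice,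
      w + w = ax i - ax j ∧ w ∈ minDot vS 0 ∧
      dotInt (w : GolayPt → ℤ) (ax i : GolayPt → ℤ) = 32 := by
    intro i j hi hj hij
    obtain ⟨σ, hσ, hs⟩ := exists_M24_map (k := 3) (by norm_num)
      (⟨![none, pt 0, pt 1], by decide +kernel⟩ : Fin 3 ↪ GolayPt)
      (⟨![none, i, j], by
        intro a b; fin_cases a <;> fin_cases b <;> simp [hi, hj, hij, Ne.symm hi, Ne.symm hj, Ne.symm hij]⟩ :
        Fin 3 ↪ GolayPt)
    have e0 : σ none = none := hs 0
    have e1 : σ (pt 0) = i := hs 1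
    have e2 : σ (pt 1) = j := hs 2
    refine ⟨permHom ⟨σ, hσ⟩ • w01, ?_, ?_, ?_⟩
    · rw [← e1, ← e2, ← permHom_ax ⟨σ, hσ⟩, ← permHom_ax ⟨σ, hσ⟩, ← aut_add, ← aut_sub]
      congr 1
      refine Subtype.ext (funext fun a => ?_)
      show ev ∅ {pt 0, pt 1} {pt 1} a + ev ∅ {pt 0, pt 1} {pt 1} a = _
      rw [← two_mul, w_facts.2.2.2.2.1 a]
      rfl
    · rw [← orth_orbit]; exact ⟨⟨_, perm_mem_co2 e0⟩, rfl⟩
    · rw [← e1, ← permHom_ax ⟨σ, hσ⟩, aut_dot, ax_coe]
      decide +kernel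
  obtain ⟨w1, hw1, hm1, -⟩ := hpair (pt 0) (pt 1) (by decide +kernel) (by decide +kernel) (by decide +kernel)
  -- a common sign
  obtain ⟨ε, hε, hε1⟩ : ∃ ε : ℤ, (ε = 1 ∨ ε = -1) ∧ g • w1 = ε • w1 := by
    rcases hpm w1 hm1 with h | h
    exacts [⟨1, Or.inl rfl, by rw [h, one_zsmul]⟩, ⟨-1, Or.inr rfl, by rw [h, neg_one_zsmul]⟩]
  have coh : ∀ {y y' : ↥leechLattice}, y ∈ minDot vS 0 → y' ∈ minDot vS 0 →
      dotInt (y : GolayPt → ℤ) (y' : GolayPt → ℤ) ≠ 0 → g • y = ε • y → g • y' = ε • y' := by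
    intro y y' hy hy' hd h
    have h1 := aut_dot g y y'
    rcases hpm y' hy' with h' | h' <;> rw [h, h'] at h1 <;> rcases hε with rfl | rfl
    · rw [h', one_zsmul]
    · rw [neg_one_zsmul, AddSubgroup.coe_neg, dot_neg_left] at h1; omega
    · rw [one_zsmul, dot_comm, AddSubgroup.coe_neg, dot_neg_left, dot_comm] at h1; omega
    · rw [h', neg_one_zsmul]
  -- images of the axes
  set A : GolayPt → ↥leechLattice := fun i => g • ax i - ε • ax i with hA
  have hgw' : ∀ j, j ≠ none → j ≠ pt 0 → ∀ w : ↥leechLattice, w + w = ax (pt 0) - ax j → w ∈ minDot vS 0 →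
      dotInt (w : GolayPt → ℤ) (ax (pt 0) : GolayPt → ℤ) = 32 → g • w = ε • w := by
    intro j hj hj0 w hw hm hwd
    refine coh hm1 hm ?_ hε1
    intro h0
    have h1 : dotInt ((w1 + w1 : ↥leechLattice) : GolayPt → ℤ) (w : GolayPt → ℤ) = 0 := by
      rw [AddSubgroup.coe_add, dot_add_left, h0]; rfl
    rw [hw1, AddSubgroup.coe_sub, dot_comm, dot_sub_right, hwd] at h1
    have h2 : dotInt (w : GolayPt → ℤ) (ax (pt 1) : GolayPt → ℤ) = 8 * (w : GolayPt → ℤ) (pt 1) := by
      rw [ax_coe, dotInt, Finset.sum_eq_single (pt 1) (fun b _ hb => by simp [hb])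
        (fun h => absurd (Finset.mem_univ _) h), Pi.single_eq_same]
      ring
    have h3 : (w : GolayPt → ℤ) (pt 1) + (w : GolayPt → ℤ) (pt 1) ≤ 0 := by
      have h4 := congrFun (congrArg Subtype.val hw) (pt 1)
      simp only [AddSubgroup.coe_add, AddSubgroup.coe_sub, Pi.add_apply, Pi.sub_apply, ax_coe] at h4
      rw [h4, Pi.single_eq_of_ne (show pt 1 ≠ pt 0 by decide +kernel)]
      by_cases e : pt 1 = j
      · subst e; simp
      · rw [Pi.single_eq_of_ne e]; norm_num
    omega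
  have hstep : ∀ j, j ≠ none → j ≠ pt 0 → A j = A (pt 0) := by
    intro j hj hj0
    obtain ⟨w, hw, hm, hwd⟩ := hpair (pt 0) j (by decide +kernel) hj (Ne.symm hj0)
    have hgw := hgw' j hj hj0 w hw hm hwd
    have h5 : g • (w + w) = ε • (w + w) := by rw [aut_add, hgw, ← zsmul_add]
    rw [hw, aut_sub, zsmul_sub] at h5
    simp only [hA]
    rw [sub_eq_sub_iff_sub_eq_sub] at h5
    exact h5.symm
  have hall : ∀ j, j ≠ none → A j = A (pt 0) := fun j hj => by
    by_cases h : j = pt 0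
    · rw [h]
    · exact hstep j hj h
  have expand : ∀ v : ↥leechLattice, (8 : ℤ) • (g • v - ε • v) = ∑ i, (v : GolayPt → ℤ) i • A i := by
    intro v
    have h8 : (8 : ℤ) • v = ∑ i, (v : GolayPt → ℤ) i • ax i := Subtype.ext (by
      funext a
      simp only [AddSubgroup.coe_zsmul, AddSubgroup.val_finsetSum, Pi.smul_apply,
        Finset.sum_apply, ax_coe, Pi.single_apply, smul_eq_mul]
      simp [mul_comm])
    have h9 := congrArg (autHom g) h8
    simp only [map_sum, map_zsmul] at h9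
    rw [zsmul_sub, show (8 : ℤ) • g • v = _ from h9, smul_comm (8 : ℤ) ε v, h8, Finset.smul_sum,
      ← Finset.sum_sub_distrib]
    refine Finset.sum_congr rfl fun i _ => ?_
    rw [smul_comm ε, ← zsmul_sub]
    rfl
  have split2 : ∀ v : ↥leechLattice, (8 : ℤ) • (g • v - ε • v) =
      (v : GolayPt → ℤ) none • A none + (∑ i ∈ Finset.univ.erase none, (v : GolayPt → ℤ) i) • A (pt 0) := by
    intro v
    rw [expand, ← Finset.add_sum_erase _ _ (Finset.mem_univ none), Finset.sum_smul]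
    congr 1
    exact Finset.sum_congr rfl fun i hi => by rw [hall i (Finset.ne_of_mem_erase hi)]
  have hy : g • yOct = ε • yOct := by
    obtain ⟨w, hw, hm, hwd⟩ := hpair (pt 0) (pt 4) (by decide +kernel) (by decide +kernel) (by decide +kernel)
    refine coh hm ⟨w_facts.2.2.1, w_facts.2.2.2.1⟩ ?_
      (hgw' (pt 4) (by decide +kernel) (by decide +kernel) w hw hm hwd)
    intro h0
    have h1 : dotInt ((w + w : ↥leechLattice) : GolayPt → ℤ) (yOct : GolayPt → ℤ) = 0 := by
      rw [AddSubgroup.coe_add, dot_add_left, h0]; rfl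
    rw [hw] at h1
    revert h1
    decide +kernel
  have sums : (yOct : GolayPt → ℤ) none = 2 ∧ (∑ i ∈ Finset.univ.erase none, (yOct : GolayPt → ℤ) i) = 6 ∧
      (vS : GolayPt → ℤ) none = -3 ∧ (∑ i ∈ Finset.univ.erase none, (vS : GolayPt → ℤ) i) = 23 := by decide +kernel
  have ey := split2 yOct
  rw [hy, sub_self, smul_zero, sums.1, sums.2.1] at ey
  have ev' := split2 vS
  rw [hgv, sums.2.2.1, sums.2.2.2] at ev'
  rcases hε with rfl | rfl
  · simp only [one_zsmul, sub_self, smul_zero] at ev' ey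
    have hz : ∀ a : GolayPt, (A none : GolayPt → ℤ) a = 0 ∧ (A (pt 0) : GolayPt → ℤ) a = 0 := fun a => by
      have e1 := congrFun (congrArg Subtype.val ey) a
      have e2 := congrFun (congrArg Subtype.val ev') a
      simp only [AddSubgroup.coe_add, AddSubgroup.coe_zsmul, AddSubgroup.coe_zero, Pi.add_apply, Pi.smul_apply,
        Pi.zero_apply, smul_eq_mul] at e1 e2
      omega
    refine Subtype.ext (aut_ext fun v => ?_)
    have h := split2 v
    funext a
    have e3 := congrFun (congrArg Subtype.val h) a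
    simp only [AddSubgroup.coe_add, AddSubgroup.coe_zsmul, AddSubgroup.coe_sub, Pi.add_apply, Pi.smul_apply,
      Pi.sub_apply, smul_eq_mul, (hz a).1, (hz a).2, mul_zero, add_zero, one_mul] at e3
    rw [OneMemClass.coe_one, one_smul]
    show ((g • v : ↥leechLattice) : GolayPt → ℤ) a = _
    omega
  · exfalso
    have e1 := congrFun (congrArg Subtype.val ey) (pt 2)
    have e2 := congrFun (congrArg Subtype.val ev') (pt 2)
    have e3 : (vS : GolayPt → ℤ) (pt 2) = 1 := by decide +kernel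
    simp only [AddSubgroup.coe_add, AddSubgroup.coe_zsmul, AddSubgroup.coe_zero, AddSubgroup.coe_sub,
      Pi.add_apply, Pi.smul_apply, Pi.sub_apply, Pi.zero_apply, smul_eq_mul] at e1 e2
    rw [e3] at e2
    omega

theorem co2_simple : IsSimpleGroup ↥co2S := by
  haveI : Fact (Nat.Prime 23) := ⟨by norm_num⟩
  obtain ⟨σ, hr, hn, ho⟩ := exists_sigma23
  have hle : (MulAction.stabilizer ↥M24 (none : GolayPt)).map permHom ≤ co2S := by
    rintro _ ⟨τ, hτ, rfl⟩
    exact perm_mem_co2 hτ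
  refine simple_in_co0 hle (isSimple_pointStab none) hn ho hn
    (by rw [co2S, card_co2 (v := vS) vStd_norm]; norm_num) ?_ ?_ ?_
  · intro z h1 h2 h3
    exact uniq23 hr h1 h2 (f := vStd) (a := -3) (by decide +kernel) vStd_off
      (h3 vS fun g hg => hg) (Or.inr rfl)
  · intro g hg hax
    obtain ⟨τ, hτ, rfl⟩ := axis_perm hax (f := vS) vStd_off hg
    exact ⟨τ, hτ, rfl⟩
  · intro N hN _ hd hc
    haveI := hN
    rw [index_of_mul hle ((card_map_perm _).trans (card_pointStab none)) (card_co2 (v := vS) vStd_norm)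
      (k := 4147200) (by norm_num) (by norm_num)] at hd
    obtain ⟨k, hk⟩ := two_power hd hc
    exact two_group_trivial hk

end CfsgLeech
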