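/-
The four sporadic stabilisers in general position.
-/
import Cfsg.Agent.Lib.Leech.ConwayTwo
import Cfsg.Prelude.Def_Sporadic

set_option autoImplicit false

namespace CfsgLeech

open Cfsg CfsgGolay
open scoped Pointwise

attribute [local irreducible] codeL octadL dodecadL slpCodes

theorem stab_iso {v v' : ↥leechLattice} {g : ↥Co0} (h : v' = g • v) :
    Nonempty (↥(MulAction.stabilizer ↥Co0 v) ≃* ↥(MulAction.stabilizer ↥Co0 v')) :=
  ⟨MulAction.stabilizerEquivStabilizer h⟩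

theorem inf_iso {v w v' w' : ↥leechLattice} {g : ↥Co0} (hv : g • v = v') (hw : g • w = w') :
    Nonempty (↥(MulAction.stabilizer ↥Co0 v ⊓ MulAction.stabilizer ↥Co0 w) ≃*
      ↥(MulAction.stabilizer ↥Co0 v' ⊓ MulAction.stabilizer ↥Co0 w')) := by
  refine ⟨((MulAut.conj g).subgroupMap _).trans (MulEquiv.subgroupCongr ?_)⟩
  ext x
  rw [Subgroup.mem_map]
  constructor
  · rintro ⟨y, ⟨hy1, hy2⟩, rfl⟩
    constructor
    · show (g * y * g⁻¹) • v' = v'
      rw [mul_smul, mul_smul, ← hv, inv_smul_smul, show y • v = v from hy1]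
    · show (g * y * g⁻¹) • w' = w'
      rw [mul_smul, mul_smul, ← hw, inv_smul_smul, show y • w = w from hy2]
  · rintro ⟨hx1, hx2⟩
    refine ⟨g⁻¹ * x * g, ⟨?_, ?_⟩, by simp [mul_assoc]⟩
    · show (g⁻¹ * x * g) • v = v
      rw [mul_smul, mul_smul, hv, show x • v' = v' from hx1, inv_smul_eq_iff, hv]
    · show (g⁻¹ * x * g) • w = w
      rw [mul_smul, mul_smul, hw, show x • w' = w' from hx2, inv_smul_eq_iff, hw]

theorem isCo2_stab {v : ↥leechLattice} (hv : sqNorm (v : GolayPt → ℤ) = 32) :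
    IsCo2 (MulAction.stabilizer ↥Co0 v) := by
  obtain ⟨g, hg⟩ := shell_transitive (fun _ a b => eqv32 a b) vS v vStd_norm hv
  obtain ⟨e⟩ := stab_iso hg.symm
  exact ⟨isSimple_congr e co2_simple, card_co2 hv⟩

theorem isCo3_stab {v : ↥leechLattice} (hv : sqNorm (v : GolayPt → ℤ) = 48) :
    IsCo3 (MulAction.stabilizer ↥Co0 v) := by
  obtain ⟨g, hg⟩ := shell_transitive (fun _ a b => eqv48 a b) ⟨uStd, uStd_mem⟩ v std_facts.2.2.2.1 hv
  obtain ⟨e⟩ := stab_iso hg.symm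
  exact ⟨isSimple_congr e co3_simple, card_co3 hv⟩

theorem inf_sum (v w : ↥leechLattice) :
    MulAction.stabilizer ↥Co0 (v + w) ⊓ MulAction.stabilizer ↥Co0 v =
      MulAction.stabilizer ↥Co0 v ⊓ MulAction.stabilizer ↥Co0 w := by
  ext g
  simp only [Subgroup.mem_inf, MulAction.mem_stabilizer_iff]
  constructor
  · rintro ⟨h1, h2⟩
    rw [aut_add, h2] at h1
    exact ⟨h2, add_left_cancel h1⟩
  · rintro ⟨h1, h2⟩
    exact ⟨by rw [aut_add, h1, h2], h1⟩

theorem isMcL_stab {v w : ↥leechLattice} (hv : sqNorm (v : GolayPt → ℤ) = 32)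
    (hw : sqNorm (w : GolayPt → ℤ) = 32) (hd : dotInt (v : GolayPt → ℤ) (w : GolayPt → ℤ) = -8) :
    IsMcL ↥(MulAction.stabilizer ↥Co0 v ⊓ MulAction.stabilizer ↥Co0 w) := by
  have hu : sqNorm ((v + w : ↥leechLattice) : GolayPt → ℤ) = 48 := by
    rw [AddSubgroup.coe_add, (sqNorm_sub_add _ _).2, hv, hw, hd]; norm_num
  have hux : dotInt ((v + w : ↥leechLattice) : GolayPt → ℤ) (v : GolayPt → ℤ) = 24 := by
    rw [AddSubgroup.coe_add, dot_add_left, dot_comm (w : GolayPt → ℤ), hd, dot_self, hv]; norm_num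
  obtain ⟨g, g1, g2⟩ := config_pairs (Or.inl rfl) (u := ⟨uStd, uStd_mem⟩) (x := ⟨aStd, aStd_mem⟩)
    std_facts.2.2.2.1 std_facts.2.2.2.2.1 std_facts.2.2.2.2.2.2.1 hu hv hux
  obtain ⟨e⟩ := inf_iso g1 g2
  rw [inf_sum] at e
  exact ⟨isSimple_congr e mcl_simple, by rw [← Nat.card_congr e.toEquiv, card_mcl]⟩

theorem isHS_stab {v w : ↥leechLattice} (hv : sqNorm (v : GolayPt → ℤ) = 48)
    (hw : sqNorm (w : GolayPt → ℤ) = 48) (hd : dotInt (v : GolayPt → ℤ) (w : GolayPt → ℤ) = -32) :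
    IsHS ↥(MulAction.stabilizer ↥Co0 v ⊓ MulAction.stabilizer ↥Co0 w) := by
  have ht : sqNorm ((v + w : ↥leechLattice) : GolayPt → ℤ) = 32 := by
    rw [AddSubgroup.coe_add, (sqNorm_sub_add _ _).2, hv, hw, hd]; norm_num
  have hvt : dotInt (v : GolayPt → ℤ) ((v + w : ↥leechLattice) : GolayPt → ℤ) = 16 := by
    rw [dot_comm, AddSubgroup.coe_add, dot_add_left, dot_self, dot_comm (w : GolayPt → ℤ), hd, hv]; norm_num
  obtain ⟨g, g1, g2⟩ := config_pairs (Or.inr rfl) (u := ⟨uStd, uStd_mem⟩) (x := ⟨tStd, tStd_mem⟩)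
    std_facts.2.2.2.1 std_facts.2.2.2.2.2.1 std_facts.2.2.2.2.2.2.2 hv ht hvt
  obtain ⟨e⟩ := inf_iso g1 g2
  rw [inf_comm (MulAction.stabilizer ↥Co0 v), inf_sum] at e
  exact ⟨isSimple_congr e hs_simple, by rw [← Nat.card_congr e.toEquiv, card_hs]⟩

end CfsgLeech
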