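/-
Stabilisers of vectors modulo twice the lattice, their images in `Co₁`, and their normal 2-subgroups.
-/
import Cfsg.Prelude.Def_Spor_Conway
import Cfsg.Prelude.Def_Transfer
import Cfsg.Agent.Lib.Leech.ModTwo
import Cfsg.Agent.Lib.Leech.ConwayTwo
import Cfsg.Agent.Lib.Leech.Co1

set_option autoImplicit false

namespace CfsgLeech

open Cfsg CfsgGolay
open scoped Pointwise

attribute [local irreducible] codeL octadL dodecadL slpCodes

/-- Congruence modulo twice the lattice. -/
def Cg (a b : ↥leechLattice) : Prop := ∃ w : ↥leechLattice, a - b = w + w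

theorem Cg.refl' (a : ↥leechLattice) : Cg a a := ⟨0, by rw [sub_self, add_zero]⟩

theorem Cg.symm' {a b : ↥leechLattice} (h : Cg a b) : Cg b a := by
  obtain ⟨w, hw⟩ := h; exact ⟨-w, by rw [← neg_sub, hw]; abel⟩

theorem Cg.trans' {a b c : ↥leechLattice} (h : Cg a b) (h' : Cg b c) : Cg a c := by
  obtain ⟨w, hw⟩ := h; obtain ⟨w', hw'⟩ := h'
  exact ⟨w + w', by rw [← sub_add_sub_cancel a b c, hw, hw']; abel⟩

theorem Cg.map' (g : ↥Co0) {a b : ↥leechLattice} (h : Cg a b) : Cg (g • a) (g • b) := by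
  obtain ⟨w, hw⟩ := h; exact ⟨g • w, by rw [← aut_sub, hw, aut_add]⟩

theorem Cg.neg_self (a : ↥leechLattice) : Cg (-a) a := ⟨-a, by abel⟩

/-- The stabiliser of a class modulo twice the lattice. -/
def modStab (v : ↥leechLattice) : Subgroup ↥Co0 where
  carrier := {g | Cg (g • v) v}
  one_mem' := by show Cg ((1 : ↥Co0) • v) v; rw [one_smul]; exact Cg.refl' v
  mul_mem' := by
    intro a b ha hb
    show Cg ((a * b) • v) v
    rw [mul_smul]
    exact (Cg.map' a hb).trans' ha
  inv_mem' := by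
    intro a ha
    show Cg (a⁻¹ • v) v
    have := Cg.map' a⁻¹ ha
    rw [inv_smul_smul] at this
    exact this.symm'

theorem negAut_smul (v : ↥leechLattice) : negAut • v = -v := Subtype.ext (negAut_apply v)

theorem negAut_mem_modStab (v : ↥leechLattice) : negAut ∈ modStab v := by
  show Cg (negAut • v) v
  rw [negAut_smul]; exact Cg.neg_self v

theorem center_le_modStab (v : ↥leechLattice) : Subgroup.center ↥Co0 ≤ modStab v := fun g hg => by
  rcases center_eq hg with rfl | rfl
  · exact one_mem _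
  · exact negAut_mem_modStab v

theorem modStab_smul (g : ↥Co0) (v : ↥leechLattice) :
    modStab (g • v) = (modStab v).map (MulAut.conj g).toMonoidHom := by
  ext x
  rw [Subgroup.mem_map_equiv]
  show Cg (x • g • v) (g • v) ↔ Cg ((g⁻¹ * x * g) • v) v
  rw [mul_smul, mul_smul]
  constructor
  · intro h; have := Cg.map' g⁻¹ h; rwa [inv_smul_smul] at this
  · intro h; have := Cg.map' g h; rwa [smul_inv_smul] at this

theorem norm_of_cg {a b : ↥leechLattice} (h : Cg a b) (ha : sqNorm (a : GolayPt → ℤ) ≤ 64)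
    (hb : sqNorm (b : GolayPt → ℤ) ≤ 64) : sqNorm (a : GolayPt → ℤ) = sqNorm (b : GolayPt → ℤ) ∧
      (sqNorm (a : GolayPt → ℤ) < 64 → a = b ∨ a = -b) := by
  by_cases he : (a : GolayPt → ℤ) = b
  · exact ⟨by rw [he], fun _ => Or.inl (Subtype.ext he)⟩
  obtain ⟨w, hw⟩ := h
  rcases class_short a.2 he ha hb ⟨w, w.2, by rw [two_nsmul, ← AddSubgroup.coe_add, ← hw]; rfl⟩ with h | ⟨h1, h2, -⟩
  · refine ⟨?_, fun _ => Or.inr (Subtype.ext h)⟩
    rw [h]; simp [sqNorm]
  · exact ⟨h1.trans h2.symm, fun hl => absurd hl (by omega)⟩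

theorem not_cg_zero {v : ↥leechLattice} (h0 : v ≠ 0) (hv : sqNorm (v : GolayPt → ℤ) ≤ 64) : ¬ Cg v 0 := by
  intro h
  have := (norm_of_cg h hv (by simp [sqNorm])).1
  rw [show sqNorm ((0 : ↥leechLattice) : GolayPt → ℤ) = 0 by simp [sqNorm]] at this
  exact h0 (Subtype.ext (sqNorm_eq_zero this))

/-! ### The image in `Co₁` -/

/-- The image of the class stabiliser in `Co₁`. -/
noncomputable def modImg (v : ↥leechLattice) : Subgroup Spor.Co1 := (modStab v).map (QuotientGroup.mk' (Subgroup.center ↥Co0))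

theorem mem_modImg {v : ↥leechLattice} {g : ↥Co0} :
    QuotientGroup.mk g ∈ modImg v ↔ Cg (g • v) v := by
  constructor
  · rintro ⟨g', hg', he⟩
    have h : g'⁻¹ * g ∈ Subgroup.center ↥Co0 := QuotientGroup.eq.1 he
    have := (modStab v).mul_mem hg' (center_le_modStab v h)
    rwa [mul_inv_cancel_left] at this
  · exact fun h => ⟨g, h, rfl⟩

theorem modImg_smul (g : ↥Co0) (v : ↥leechLattice) :
    modImg (g • v) = (modImg v).map (MulAut.conj (QuotientGroup.mk g : Spor.Co1)).toMonoidHom := by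
  rw [modImg, modStab_smul, modImg, Subgroup.map_map, Subgroup.map_map]
  rfl

theorem card_modImg (v : ↥leechLattice) : Nat.card ↥(modImg v) * 2 = Nat.card ↥(modStab v) := by
  haveI := co0_finite
  set f := (QuotientGroup.mk' (Subgroup.center ↥Co0)).comp (modStab v).subtype with hf
  have hr : f.range = modImg v := by
    rw [hf, MonoidHom.range_comp, Subgroup.range_subtype]; rfl
  have hk : f.ker = (Subgroup.center ↥Co0).subgroupOf (modStab v) := by
    rw [hf, ← MonoidHom.comap_ker, QuotientGroup.ker_mk']; rfl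
  have h := f.ker.card_mul_index
  rw [Subgroup.index_ker, hr, hk, Nat.card_congr (Subgroup.subgroupOfEquivOfLe (center_le_modStab v)).toEquiv,
    center_card] at h
  rw [mul_comm, h]

/-! ### Vectors of norm 32 -/

theorem modStab_vS {g : ↥Co0} (h : g ∈ modStab vS) : g ∈ co2S ∨ negAut * g ∈ co2S := by
  have hn : sqNorm ((g • vS : ↥leechLattice) : GolayPt → ℤ) = 32 := (aut_norm g vS).trans vStd_norm
  rcases (norm_of_cg (show Cg (g • vS) vS from h) (by rw [hn]; norm_num)
      (by rw [show ((vS : ↥leechLattice) : GolayPt → ℤ) = vStd from rfl, vStd_norm]; norm_num)).2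
      (by rw [hn]; norm_num) with e | e
  · exact Or.inl e
  · refine Or.inr ?_
    show (negAut * g) • vS = vS
    rw [mul_smul, e, negAut_smul, neg_neg]

theorem co2S_card : Nat.card ↥co2S = 42305421312000 := by
  haveI := co0_finite
  have h1 : co2S.index = 196560 := by
    rw [co2S, MulAction.index_stabilizer]
    have : MulAction.orbit ↥Co0 vS = {v : ↥leechLattice | sqNorm (v : GolayPt → ℤ) = 32} := by
      ext v
      constructor
      · rintro ⟨g, rfl⟩; exact (aut_norm g vS).trans vStd_norm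
      · intro hv; exact shell_transitive (fun _ h h' => eqv32 h h') vS v vStd_norm hv
    rw [this, sub_ncard (fun x => sqNorm x = 32)]
    exact min_count
  have h := co2S.card_mul_index
  rw [h1, co0_card] at h
  exact Nat.eq_of_mul_eq_mul_right (by norm_num : (0 : ℕ) < 196560) (h.trans (by norm_num))

theorem negAut_not_mem_co2S : negAut ∉ co2S := fun h => by
  have h' : negAut • vS = vS := h
  have h3 : ((negAut • vS : ↥leechLattice) : GolayPt → ℤ) none = (vS : GolayPt → ℤ) none := by rw [h']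
  rw [negAut_apply, Pi.neg_apply, show ((vS : ↥leechLattice) : GolayPt → ℤ) none = vStd none from rfl] at h3
  have h4 : vStd none ≠ 0 := by decide +kernel
  omega

/-- `modStab vS` has twice the order of the stabiliser. -/
theorem modImg_vS_card : Nat.card ↥(modImg vS) = 42305421312000 := by
  haveI := co0_finite
  have hle : co2S ≤ modStab vS := fun g hg => by
    show Cg (g • vS) vS
    rw [show g • vS = vS from hg]; exact Cg.refl' vS
  have hidx : (co2S.subgroupOf (modStab vS)).index = 2 := by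
    rw [Subgroup.index_eq_two_iff]
    refine ⟨⟨negAut, negAut_mem_modStab vS⟩, fun b => ?_⟩
    simp only [Subgroup.mem_subgroupOf, Subgroup.coe_mul]
    have hcomm : (b : ↥Co0) * negAut = negAut * b := Subgroup.mem_center_iff.1 negAut_central b
    rw [hcomm]
    rcases modStab_vS b.2 with hb | hb
    · refine Or.inr ⟨hb, fun h => negAut_not_mem_co2S ?_⟩
      have := co2S.mul_mem h (co2S.inv_mem hb)
      simpa using this
    · refine Or.inl ⟨hb, fun h => negAut_not_mem_co2S ?_⟩
      have := co2S.mul_mem hb (co2S.inv_mem h)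
      simpa using this
  have h := (co2S.subgroupOf (modStab vS)).card_mul_index
  rw [hidx, Nat.card_congr (Subgroup.subgroupOfEquivOfLe hle).toEquiv, co2S_card] at h
  have h2 := card_modImg vS
  omega

theorem comap_center_two {H : Subgroup Spor.Co1} (hH : IsPGroup 2 ↥H) :
    IsPGroup 2 ↥(H.comap (QuotientGroup.mk' (Subgroup.center ↥Co0))) := by
  refine hH.comap_of_ker_isPGroup _ ?_
  rw [QuotientGroup.ker_mk']
  exact IsPGroup.of_card (n := 1) (by rw [center_card, pow_one])

theorem modImg_vS_two {N : Subgroup Spor.Co1} (hle : N ≤ modImg vS) (hN : IsPGroup 2 ↥N)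
    (hnorm : ∀ x ∈ modImg vS, ∀ y ∈ N, x * y * x⁻¹ ∈ N) : N = ⊥ := by
  haveI := co0_finite
  set P := N.comap (QuotientGroup.mk' (Subgroup.center ↥Co0)) with hP
  have hPle : P ≤ modStab vS := fun g hg => mem_modImg.1 (hle hg)
  have hP2 : IsPGroup 2 ↥P := comap_center_two hN
  set P' : Subgroup ↥co2S := P.subgroupOf co2S
  haveI : P'.Normal := ⟨fun x hx g => by
    have hg : (QuotientGroup.mk (g : ↥Co0) : Spor.Co1) ∈ modImg vS :=
      mem_modImg.2 (by rw [show (g : ↥Co0) • vS = vS from g.2]; exact Cg.refl' vS)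
    exact hnorm _ hg _ hx⟩
  have hP'2 : IsPGroup 2 ↥P' := hP2.comap_of_injective co2S.subtype co2S.subtype_injective
  obtain ⟨k, hk⟩ := hP'2.exists_card_eq
  have hbot := two_group_trivial hk
  rw [Subgroup.eq_bot_iff_forall]
  intro y hy
  obtain ⟨g, rfl⟩ := QuotientGroup.mk_surjective y
  have hgP : g ∈ P := hy
  have hneg : negAut ∈ P := by
    show (QuotientGroup.mk negAut : Spor.Co1) ∈ N
    rw [(QuotientGroup.eq_one_iff negAut).2 negAut_central]; exact one_mem _
  rw [QuotientGroup.eq_one_iff]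
  rcases modStab_vS (hPle hgP) with h | h
  · have : (⟨g, h⟩ : ↥co2S) ∈ P' := hgP
    rw [hbot, Subgroup.mem_bot] at this
    rw [show g = 1 from congrArg Subtype.val this]; exact one_mem _
  · have : (⟨negAut * g, h⟩ : ↥co2S) ∈ P' := mul_mem hneg hgP
    rw [hbot, Subgroup.mem_bot] at this
    have e : negAut * g = 1 := congrArg Subtype.val this
    rw [eq_inv_of_mul_eq_one_right e]; exact inv_mem negAut_central

/-! ### The standard cross -/

theorem modStab_ax : modStab (ax none) = crossStab := by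
  ext g
  have h64 : sqNorm (ax none : GolayPt → ℤ) = 64 :=
    (eightSet_props (mem_eightSet.mpr ⟨none, 8, Or.inl rfl, rfl⟩)).2
  constructor
  · intro hg v hv
    rw [← cross_ax_none] at hv ⊢
    obtain ⟨-, hn, w, hw, he⟩ := hv
    have hc : Cg (ax none) v := ⟨⟨w, hw⟩, Subtype.ext (by rw [AddSubgroup.coe_add, ← two_nsmul]; exact he)⟩
    have hd : Cg (ax none) (g • v) := (show Cg (g • ax none) (ax none) from hg).symm'.trans' (Cg.map' g hc)
    obtain ⟨u, hu⟩ := hd
    exact ⟨(g • v).2, by rw [aut_norm]; exact hn, u, u.2, by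
      rw [two_nsmul, ← AddSubgroup.coe_add, ← hu]; rfl⟩
  · intro hg
    have hm := hg (ax none) ⟨none, 8, Or.inl rfl, rfl⟩
    rw [← cross_ax_none] at hm
    obtain ⟨-, -, w, hw, he⟩ := hm
    exact (show Cg (ax none) (g • ax none) from
      ⟨⟨w, hw⟩, Subtype.ext (by rw [AddSubgroup.coe_add, ← two_nsmul]; exact he)⟩).symm'

theorem signSub_le : signSub ≤ crossStab := by rintro _ ⟨c, hc, rfl⟩; exact sgn_keeps hc

theorem crossStab_conj_sgn {m x : ↥Co0} (hm : m ∈ crossStab) (hx : x ∈ signSub) : m * x * m⁻¹ ∈ signSub := by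
  obtain ⟨τ, e, hτ, he, rfl⟩ := keepsCross_monomial hm
  obtain ⟨d, hd, rfl⟩ := hx
  rw [mono_conj_sgn hτ he hd]
  exact ⟨_, _, rfl⟩

theorem mono_split {σ : Equiv.Perm GolayPt} (hσ : σ ∈ M24) {c : Finset GolayPt} (hc : c ∈ CW) :
    monoAut σ hσ c hc = sgn c hc * permHom ⟨σ, hσ⟩ := by
  refine aut_ext fun v => ?_
  rw [mul_smul]
  show signedPerm σ c (v : GolayPt → ℤ) = signedPerm 1 c (signedPerm σ ∅ (v : GolayPt → ℤ))
  funext i
  simp [signedPerm]

theorem signSub_equiv_card : Nat.card ↥signSub = 4096 := by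
  have e : ↥CW ≃ ↥signSub := Equiv.ofBijective (fun c => ⟨sgn c.1 c.2, c.1, c.2, rfl⟩) ⟨fun a b h => by
      have h1 : ∀ x ∈ leechLattice, signedPerm 1 a.1 x = signedPerm 1 b.1 x := fun x hx =>
        congrArg (fun g : ↥signSub => (((g : ↥Co0) • (⟨x, hx⟩ : ↥leechLattice) : ↥leechLattice) : GolayPt → ℤ)) h
      exact Subtype.ext (signedPerm_inj h1).2,
    fun g => by obtain ⟨c, hc, he⟩ := g.2; exact ⟨⟨c, hc⟩, Subtype.ext he.symm⟩⟩
  rw [← Nat.card_congr e, Nat.card_coe_set_eq, CW_ncard]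

/-- The sign changes modulo the centre. -/
noncomputable def signImg : Subgroup Spor.Co1 := signSub.map (QuotientGroup.mk' (Subgroup.center ↥Co0))

/-- The coordinate permutations modulo the centre. -/
noncomputable def permImg : Subgroup Spor.Co1 := permHom.range.map (QuotientGroup.mk' (Subgroup.center ↥Co0))

theorem center_le_signSub : Subgroup.center ↥Co0 ≤ signSub := fun g hg => by
  rcases center_eq hg with rfl | rfl
  · exact one_mem _
  · exact ⟨Finset.univ, CW_univ, rfl⟩

theorem signImg_card : Nat.card ↥signImg = 2 ^ 11 := by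
  haveI := co0_finite
  set f := (QuotientGroup.mk' (Subgroup.center ↥Co0)).comp signSub.subtype with hf
  have hr : f.range = signImg := by
    rw [hf, MonoidHom.range_comp, Subgroup.range_subtype]; rfl
  have hk : f.ker = (Subgroup.center ↥Co0).subgroupOf signSub := by
    rw [hf, ← MonoidHom.comap_ker, QuotientGroup.ker_mk']; rfl
  have h := f.ker.card_mul_index
  rw [Subgroup.index_ker, hr, hk, Nat.card_congr (Subgroup.subgroupOfEquivOfLe center_le_signSub).toEquiv,
    center_card, signSub_equiv_card] at h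
  have e : Nat.card ↥signImg * 2 = 4096 := by rw [mul_comm]; exact h
  rw [show (2 : ℕ) ^ 11 = 2048 by norm_num]; omega

theorem signImg_le : signImg ≤ modImg (ax none) := by
  rw [modImg, modStab_ax]
  exact Subgroup.map_mono signSub_le

theorem permImg_le : permImg ≤ modImg (ax none) := by
  rw [modImg, modStab_ax]
  refine Subgroup.map_mono ?_
  rintro _ ⟨σ, rfl⟩
  exact monoAut_keeps σ.2 CW_empty

theorem signImg_normal {x y : Spor.Co1} (hx : x ∈ modImg (ax none)) (hy : y ∈ signImg) : x * y * x⁻¹ ∈ signImg := by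
  obtain ⟨m, hm, rfl⟩ := hx
  obtain ⟨s, hs, rfl⟩ := hy
  rw [SetLike.mem_coe, modStab_ax] at hm
  exact ⟨m * s * m⁻¹, crossStab_conj_sgn hm hs, by simp⟩

theorem signImg_elem : IsElementaryAbelian 2 signImg := by
  refine ⟨⟨⟨fun a b => Subtype.ext ?_⟩⟩, fun a ha => ?_⟩
  · obtain ⟨x, ⟨c, hc, rfl⟩, hx⟩ := a.2
    obtain ⟨y, ⟨d, hd, rfl⟩, hy⟩ := b.2
    rw [Subgroup.coe_mul, Subgroup.coe_mul, ← hx, ← hy, ← map_mul, ← map_mul, sgn_comm]
  · obtain ⟨x, ⟨c, hc, rfl⟩, hx⟩ := ha
    have h1 : sgn c hc * sgn c hc = 1 :=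
      (sgn_mul hc hc).trans ((sgn_congr (hd := CW_empty) (symmDiff_self c)).trans sgn_empty)
    rw [pow_two, ← hx, ← map_mul, h1, map_one]

theorem signImg_inf_permImg : signImg ⊓ permImg = ⊥ := by
  rw [Subgroup.eq_bot_iff_forall]
  rintro y ⟨⟨s, hs, rfl⟩, ⟨p, ⟨σ, rfl⟩, he⟩⟩
  have h : (permHom σ)⁻¹ * s ∈ Subgroup.center ↥Co0 := QuotientGroup.eq.1 he
  have h2 : permHom σ ∈ signSub := by
    have := signSub.mul_mem hs (signSub.inv_mem (center_le_signSub h))
    rwa [mul_inv_rev, inv_inv, mul_inv_cancel_left] at this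
  obtain ⟨c, hc, hσ⟩ := h2
  have h1 : ∀ x ∈ leechLattice, signedPerm σ.1 ∅ x = signedPerm 1 c x := fun x hx =>
    congrArg (fun g : ↥Co0 => ((g • (⟨x, hx⟩ : ↥leechLattice) : ↥leechLattice) : GolayPt → ℤ)) hσ
  have hσ1 : σ = 1 := Subtype.ext (signedPerm_inj h1).1
  rw [← he, hσ1, map_one, map_one]

theorem signImg_sup_permImg : signImg ⊔ permImg = modImg (ax none) := by
  refine le_antisymm (sup_le signImg_le permImg_le) ?_
  rintro _ ⟨g, hg, rfl⟩
  rw [SetLike.mem_coe, modStab_ax] at hg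
  obtain ⟨σ, c, hσ, hc, rfl⟩ := keepsCross_monomial hg
  rw [mono_split hσ hc, map_mul]
  exact mul_mem (Subgroup.mem_sup_left ⟨_, ⟨c, hc, rfl⟩, rfl⟩) (Subgroup.mem_sup_right ⟨_, ⟨_, rfl⟩, rfl⟩)

theorem permImg_equiv : Nonempty (↥permImg ≃* ↥M24) := by
  have hinj : Function.Injective ((QuotientGroup.mk' (Subgroup.center ↥Co0)).comp permHom) := by
    rw [← MonoidHom.ker_eq_bot_iff, Subgroup.eq_bot_iff_forall]
    intro σ hσ
    have hc : permHom σ ∈ Subgroup.center ↥Co0 := (QuotientGroup.eq_one_iff _).1 hσ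
    obtain ⟨c, hc', he⟩ := center_le_signSub hc
    have h1 : ∀ x ∈ leechLattice, signedPerm σ.1 ∅ x = signedPerm 1 c x := fun x hx =>
      congrArg (fun g : ↥Co0 => ((g • (⟨x, hx⟩ : ↥leechLattice) : ↥leechLattice) : GolayPt → ℤ)) he
    exact Subtype.ext (signedPerm_inj h1).1
  refine ⟨((MonoidHom.ofInjective hinj).trans (MulEquiv.subgroupCongr ?_)).symm⟩
  rw [MonoidHom.range_comp]; rfl

theorem modImg_ax_card : Nat.card ↥(modImg (ax none)) = 2 ^ 11 * 244823040 := by
  have h := card_modImg (ax none)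
  rw [modStab_ax, crossStab_card] at h
  norm_num; omega

theorem modImg_ax_two {N : Subgroup Spor.Co1} (hle : N ≤ modImg (ax none)) (hN : IsPGroup 2 ↥N)
    (hnorm : ∀ x ∈ modImg (ax none), ∀ y ∈ N, x * y * x⁻¹ ∈ N) : N ≤ signImg := by
  haveI := co0_finite
  set P := N.comap (QuotientGroup.mk' (Subgroup.center ↥Co0)) with hP
  have hPle : P ≤ crossStab := fun g hg => by rw [← modStab_ax]; exact mem_modImg.1 (hle hg)
  have hPn : ∀ m ∈ crossStab, ∀ x ∈ P, m * x * m⁻¹ ∈ P := fun m hm x hx => by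
    exact hnorm (QuotientGroup.mk m) (mem_modImg.2 (by rw [← modStab_ax] at hm; exact hm)) _ hx
  have hS2 : IsPGroup 2 ↥signSub := IsPGroup.of_card (n := 12) (by rw [signSub_equiv_card]; norm_num)
  have hPS : IsPGroup 2 ↥(P ⊔ signSub) :=
    (comap_center_two hN).to_sup_of_normal_right' hS2 (fun m hm => by
      rw [Subgroup.mem_normalizer_iff]
      refine fun x => ⟨fun hx => crossStab_conj_sgn (hPle hm) hx, fun hx => ?_⟩
      have := crossStab_conj_sgn (crossStab.inv_mem (hPle hm)) hx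
      simpa [mul_assoc] using this)
  haveI : ((P ⊔ signSub).comap permHom).Normal := ⟨fun x hx σ => by
    rw [Subgroup.mem_comap, map_mul, map_mul, map_inv]
    have hσ : permHom σ ∈ crossStab := monoAut_keeps σ.2 CW_empty
    have : (P ⊔ signSub).map (MulAut.conj (permHom σ)).toMonoidHom ≤ P ⊔ signSub := by
      rw [Subgroup.map_sup, sup_le_iff]
      constructor
      · rintro _ ⟨y, hy, rfl⟩; exact Subgroup.mem_sup_left (hPn _ hσ y hy)
      · rintro _ ⟨y, hy, rfl⟩; exact Subgroup.mem_sup_right (crossStab_conj_sgn hσ hy)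
    exact this ⟨_, hx, rfl⟩⟩
  haveI : IsSimpleGroup M24 := isSimple_M24
  have hbot : (P ⊔ signSub).comap permHom = ⊥ := by
    rcases IsSimpleGroup.eq_bot_or_eq_top_of_normal ((P ⊔ signSub).comap permHom) inferInstance with h | h
    · exact h
    · exfalso
      have h2 : IsPGroup 2 ↥((P ⊔ signSub).comap permHom) := hPS.comap_of_injective permHom permHom_injective
      rw [h] at h2
      obtain ⟨k, hk⟩ := h2.exists_card_eq
      rw [Subgroup.card_top, card_M24] at hk
      have : (3 : ℕ) ∣ 2 ^ k := ⟨81607680, by omega⟩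
      exact absurd (Nat.prime_three.dvd_of_dvd_pow this) (by norm_num)
  intro y hy
  obtain ⟨g, rfl⟩ := QuotientGroup.mk_surjective y
  have hgP : g ∈ P := hy
  obtain ⟨σ, c, hσ, hc, rfl⟩ := keepsCross_monomial (hPle hgP)
  have hs : sgn c hc ∈ signSub := ⟨c, hc, rfl⟩
  have hmem : (⟨σ, hσ⟩ : ↥M24) ∈ (P ⊔ signSub).comap permHom := by
    rw [Subgroup.mem_comap,
      show permHom ⟨σ, hσ⟩ = (sgn c hc)⁻¹ * monoAut σ hσ c hc by rw [mono_split, inv_mul_cancel_left]]
    exact mul_mem (Subgroup.mem_sup_right (inv_mem hs)) (Subgroup.mem_sup_left hgP)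
  rw [hbot, Subgroup.mem_bot] at hmem
  refine ⟨monoAut σ hσ c hc, ?_, rfl⟩
  rw [mono_split, hmem, map_one, mul_one]
  exact hs

end CfsgLeech
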