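/-
The second Conway group inside the first, and its action on the section attached to its short vector.
-/
import Cfsg.Agent.Lib.Leech.ModStab
import Cfsg.Agent.Lib.Leech.ConwayGroups
import Cfsg.Agent.Lib.Leech.FrameInvariant
import Cfsg.Prelude.Def_MonsterType

set_option autoImplicit false

namespace CfsgLeech

open Cfsg CfsgGolay
open scoped Pointwise

attribute [local irreducible] codeL octadL dodecadL slpCodes

theorem leechU_norm32 : sqNorm (Spor.leechU : GolayPt → ℤ) = 32 := by
  show sqNorm Spor.vecU = 32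
  decide +kernel

/-- An element of the second Conway group as a lattice automorphism. -/
def coTwoIncl : ↥Spor.Co2 →* ↥Co0 := Subgroup.inclusion inf_le_left

theorem coTwoIncl_fix (g : ↥Spor.Co2) : coTwoIncl g • Spor.leechU = Spor.leechU := g.2.2

/-- The second Conway group mapped into the first. -/
noncomputable def coTwoHom : ↥Spor.Co2 →* Spor.Co1 :=
  (QuotientGroup.mk' (Subgroup.center ↥Co0)).comp coTwoIncl

theorem neg_not_fix : negAut • Spor.leechU ≠ Spor.leechU := by
  intro h
  have h3 : ((negAut • Spor.leechU : ↥leechLattice) : GolayPt → ℤ) none = (Spor.leechU : GolayPt → ℤ) none := by rw [h]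
  rw [negAut_apply, Pi.neg_apply, show (Spor.leechU : GolayPt → ℤ) none = 4 from by
    show Spor.vecU none = 4; decide] at h3
  norm_num at h3

theorem coTwoHom_injective : Function.Injective coTwoHom := by
  rw [← MonoidHom.ker_eq_bot_iff, Subgroup.eq_bot_iff_forall]
  intro g hg
  have hc : coTwoIncl g ∈ Subgroup.center ↥Co0 := (QuotientGroup.eq_one_iff _).1 hg
  rcases center_eq hc with h | h
  · exact Subgroup.inclusion_injective _ (h.trans (map_one _).symm)
  · exact absurd (h ▸ coTwoIncl_fix g) neg_not_fix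

theorem coTwoHom_range : coTwoHom.range = modImg Spor.leechU := by
  apply le_antisymm
  · rintro _ ⟨g, rfl⟩
    exact mem_modImg.2 (by rw [coTwoIncl_fix]; exact Cg.refl' _)
  · rintro y hy
    obtain ⟨g, rfl⟩ := QuotientGroup.mk_surjective y
    have hn : sqNorm ((g • Spor.leechU : ↥leechLattice) : GolayPt → ℤ) = 32 := (aut_norm _ _).trans leechU_norm32
    rcases (norm_of_cg (mem_modImg.1 hy) (by rw [hn]; norm_num) (by rw [leechU_norm32]; norm_num)).2
      (by rw [hn]; norm_num) with h | h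
    · exact ⟨⟨g.1, g.2, h⟩, rfl⟩
    · have h' : (negAut * g) • Spor.leechU = Spor.leechU := by rw [mul_smul, h, negAut_smul, neg_neg]
      refine ⟨⟨(negAut * g : ↥Co0).1, (negAut * g : ↥Co0).2, h'⟩, ?_⟩
      show (QuotientGroup.mk (negAut * g) : Spor.Co1) = QuotientGroup.mk g
      rw [QuotientGroup.mk_mul, (QuotientGroup.eq_one_iff negAut).2 negAut_central, one_mul]

theorem spor_co2_simple : IsSimpleGroup ↥Spor.Co2 := by
  refine isSimple_congr ?_ (isCo2_stab leechU_norm32).1
  exact (Subgroup.equivMapOfInjective _ _ Co0.subtype_injective).trans (MulEquiv.subgroupCongr (by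
    ext g
    simp only [Spor.Co2, Subgroup.mem_map, Subgroup.mem_inf, MulAction.mem_stabilizer_iff]
    exact ⟨fun ⟨k, hk, he⟩ => he ▸ ⟨k.2, hk⟩, fun ⟨hg, h⟩ => ⟨⟨g, hg⟩, h, rfl⟩⟩))

/-- The perpendicular of the short vector, by norms. -/
theorem mem_perpU {x : ↥leechLattice} : x ∈ leechPerpU ↔
    (32 : ℤ) ∣ sqNorm ((x + Spor.leechU : ↥leechLattice) : GolayPt → ℤ) - sqNorm (x : GolayPt → ℤ) - 32 := by
  show (16 : ℤ) ∣ dotInt (x : GolayPt → ℤ) Spor.vecU ↔ _
  rw [AddSubgroup.coe_add, (sqNorm_sub_add _ _).2, leechU_norm32]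
  show _ ↔ (32 : ℤ) ∣ sqNorm (x : GolayPt → ℤ) + 32 + 2 * dotInt (x : GolayPt → ℤ) Spor.vecU - sqNorm (x : GolayPt → ℤ) - 32
  omega

/-- The second Conway group does not act trivially on the section. -/
theorem coTwo_nontrivial : ∃ (g : ↥Spor.Co2) (x : ↥leechLattice), x ∈ leechPerpU ∧
    ¬ Cg (coTwoIncl g • x) x ∧ ¬ Cg (coTwoIncl g • x) (x + Spor.leechU) := by
  obtain ⟨o, ho, hsub⟩ := exists_octad_mem (s := ({none, some 0} : Finset GolayPt))
    (Finset.card_le_two.trans (by norm_num))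
  have h8 : o.card = 8 := card_of_mem_octads ho
  obtain ⟨i, hi⟩ : (oᶜ).Nonempty := Finset.card_pos.mp (by
    rw [Finset.card_compl, card_univ_pt, h8]; norm_num)
  rw [Finset.mem_compl] at hi
  obtain ⟨j, hj⟩ : (o \ {none, some 0}).Nonempty := Finset.card_pos.mp (by
    rw [Finset.card_sdiff_of_subset hsub, h8]
    have : ({none, some 0} : Finset GolayPt).card ≤ 2 := Finset.card_le_two
    omega)
  simp only [Finset.mem_sdiff, Finset.mem_insert, Finset.mem_singleton, not_or] at hj
  obtain ⟨hjo, hjn, hj0⟩ := hj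
  have hin : i ≠ none := fun h => hi (h ▸ hsub (by simp))
  have hi0 : i ≠ some 0 := fun h => hi (h ▸ hsub (by simp))
  have hij : i ≠ j := fun h => hi (h ▸ hjo)
  have hno : ∀ p ∈ ({none, some 0} : Finset GolayPt), p ∉ oᶜ := fun p hp => by simp [hsub hp]
  have hfix : monoAut 1 (one_mem _) oᶜ (CW_compl ho.1) • Spor.leechU = Spor.leechU := by
    refine Subtype.ext (funext fun p => ?_)
    rw [monoAut_apply]
    show signedPerm 1 oᶜ Spor.vecU p = Spor.vecU p
    by_cases hp : p ∈ oᶜ
    · have h1 : p ≠ none := fun h => hno none (by simp) (h ▸ hp)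
      have h2 : p ≠ some 0 := fun h => hno (some 0) (by simp) (h ▸ hp)
      simp [signedPerm, Spor.vecU, hp, h1, h2]
    · simp [signedPerm, hp]
  set g : ↥Spor.Co2 := ⟨(monoAut 1 (one_mem _) oᶜ (CW_compl ho.1)).1, (monoAut 1 (one_mem _) oᶜ (CW_compl ho.1)).2, hfix⟩
    with hg
  have hxm : (fun p => 4 * (chi {i, j} p)) ∈ leechLattice := mem_leech.mpr
    ⟨0, ∅, chi {i, j}, CW_empty, fun p => by simp [chi], by rw [sum_chi, Finset.card_pair hij]; norm_num⟩
  refine ⟨g, ⟨_, hxm⟩, ?_, ?_⟩
  · show (16 : ℤ) ∣ dotInt (fun p => 4 * (chi {i, j} p)) Spor.vecU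
    rw [dotInt, Finset.sum_eq_zero]
    · exact dvd_zero _
    · intro p _
      by_cases hp : p = i ∨ p = j
      · rcases hp with rfl | rfl <;> simp [Spor.vecU, hin, hi0, hjn, hj0]
      · simp [chi, hp]
  have hd : (⟨_, hxm⟩ : ↥leechLattice) - coTwoIncl g • ⟨_, hxm⟩ = ax i := by
    refine Subtype.ext (funext fun p => ?_)
    rw [AddSubgroup.coe_sub, Pi.sub_apply,
      show coTwoIncl g = monoAut 1 (one_mem _) oᶜ (CW_compl ho.1) from Subtype.ext rfl, monoAut_apply, ax_coe]
    rcases eq_or_ne p i with rfl | hpi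
    · simp [signedPerm, chi, hi, Pi.single_apply]
    · rcases eq_or_ne p j with rfl | hpj
      · simp [signedPerm, chi, hjo, Pi.single_apply, hij.symm]
      · simp [signedPerm, chi, hpi, hpj, Pi.single_apply]
  have hax : sqNorm (ax i : GolayPt → ℤ) = 64 := (eightSet_props (mem_eightSet.mpr ⟨i, 8, Or.inl rfl, rfl⟩)).2
  constructor
  · intro h
    obtain ⟨w, hw⟩ := h.symm'
    rw [hd] at hw
    exact not_cg_zero (v := ax i) (fun h0 => by rw [h0] at hax; simp [sqNorm] at hax) (by rw [hax])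
      ⟨w, by rw [sub_zero, hw]⟩
  · intro h
    obtain ⟨w, hw⟩ := h.symm'
    have h2 : Cg (ax i) (-Spor.leechU) := ⟨w, by
      rw [← hw, ← hd]; abel⟩
    have := (norm_of_cg (h2.trans' (Cg.neg_self _)) (by rw [hax]) (by rw [leechU_norm32]; norm_num)).1
    rw [hax, leechU_norm32] at this
    norm_num at this

end CfsgLeech
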