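/-
The group McL as a group of permutations of 275 points.
-/
import Cfsg.Agent.Lib.Leech.ModelCheck
import Cfsg.Agent.Lib.Leech.McLPermData
import Cfsg.Agent.Lib.Leech.SporTransfer

set_option autoImplicit false
set_option maxRecDepth 30000
set_option maxHeartbeats 1000000

namespace CfsgLeech.Models

open Cfsg CfsgGolay CfsgPC
open scoped Pointwise

/-- The fixed vectors. -/
def mclVs : List ℕ := [895084981032584478931192657527490097, 852206658587909773353650494292640276]

theorem mcl_len : mclPts.length = 275 := by decide +kernel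

theorem mcl_pts0 : ptsPart mclPts 0 50 = true := by decide +kernel

theorem mcl_pts1 : ptsPart mclPts 50 100 = true := by decide +kernel

theorem mcl_pts2 : ptsPart mclPts 100 150 = true := by decide +kernel

theorem mcl_pts3 : ptsPart mclPts 150 200 = true := by decide +kernel

theorem mcl_pts4 : ptsPart mclPts 200 250 = true := by decide +kernel

theorem mcl_pts5 : ptsPart mclPts 250 275 = true := by decide +kernel

theorem mcl_vs_ok : (mclVs.all fun v => inLatB (vecN v)) = true := by decide +kernel

theorem mcl_vs_eq : (∀ i, vecN (mclVs.getD 0 0) i = uStd i) ∧ (∀ i, vecN (mclVs.getD 1 0) i = aStd i) := by decide +kernel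

theorem mcl_fix : ∀ a < 3, fixOK (mclWords.getD a []) mclVs (mclFixed.getD a []) = true := by decide +kernel

theorem mcl_len2 : mclWords.length = 3 ∧ mclCodes.length = 3 := by decide +kernel

theorem mcl_move0 : ((List.range 275).all fun i => moveOK mclPts (mclWords.getD 0 []) (mclCodes.getD 0 0) mclPaths0 i) = true := by
  decide +kernel

theorem mcl_move1 : ((List.range 275).all fun i => moveOK mclPts (mclWords.getD 1 []) (mclCodes.getD 1 0) mclPaths1 i) = true := by
  decide +kernel

theorem mcl_move2 : ((List.range 275).all fun i => moveOK mclPts (mclWords.getD 2 []) (mclCodes.getD 2 0) mclPaths2 i) = true := by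
  decide +kernel

/-- Codes of the inverses of the generators. -/
def mclCodesInv : List ℕ := mclCodes.map fun c => pk (fun i => (List.range 275).findIdx fun j => Nat.beq (ap c j) i) 275

theorem mcl_perm : ∀ a < 3, isPerm 275 (mclCodes.getD a 0) (mclCodesInv.getD a 0) = true := by decide +kernel

theorem mcl_slp : slpOK 275 mclCodes mclSlp mclRigid.gens = true := by decide +kernel

theorem mcl_shape : shapeOK 275 mclChain mclRigid.gens = true ∧ mclChain.length = 5 ∧
    (mclChain.map fun L => L.tr.length) = [275, 162, 105, 64, 3] := by decide +kernel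

theorem mcl_entries0_0 : entriesOK 275 mclChain mclRigid.gens 0 0 100 = true := by decide +kernel

theorem mcl_entries0_1 : entriesOK 275 mclChain mclRigid.gens 0 100 200 = true := by decide +kernel

theorem mcl_entries0_2 : entriesOK 275 mclChain mclRigid.gens 0 200 275 = true := by decide +kernel

theorem mcl_entries1_0 : entriesOK 275 mclChain mclRigid.gens 1 0 100 = true := by decide +kernel

theorem mcl_entries1_1 : entriesOK 275 mclChain mclRigid.gens 1 100 162 = true := by decide +kernel

theorem mcl_entries2_0 : entriesOK 275 mclChain mclRigid.gens 2 0 100 = true := by decide +kernel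

theorem mcl_entries2_1 : entriesOK 275 mclChain mclRigid.gens 2 100 105 = true := by decide +kernel

theorem mcl_entries3_0 : entriesOK 275 mclChain mclRigid.gens 3 0 64 = true := by decide +kernel

theorem mcl_entries4_0 : entriesOK 275 mclChain mclRigid.gens 4 0 3 = true := by decide +kernel

theorem mcl_size : sizeOfChain mclChain = 898128000 := by decide +kernel

theorem mcl_check : mclRigid.check = true := by decide +kernel

attribute [local irreducible] codeL octadL dodecadL slpCodes mclPts mclWords mclCodes mclCodesInv mclFixed mclPaths0 mclPaths1 mclPaths2 mclSlp mclChain vecN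

theorem mcl_pts_ok : ptsOK mclPts = true := ptsOK_of_parts fun i hi => by
  rw [mcl_len] at hi
  by_cases h0 : i < 50
  · exact ⟨0, 50, by omega, h0, mcl_pts0⟩
  by_cases h1 : i < 100
  · exact ⟨50, 100, by omega, h1, mcl_pts1⟩
  by_cases h2 : i < 150
  · exact ⟨100, 150, by omega, h2, mcl_pts2⟩
  by_cases h3 : i < 200
  · exact ⟨150, 200, by omega, h3, mcl_pts3⟩
  by_cases h4 : i < 250
  · exact ⟨200, 250, by omega, h4, mcl_pts4⟩
  exact ⟨250, 275, by omega, hi, mcl_pts5⟩

theorem mcl_valid : Valid 275 mclCodes := fun c hc => by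
  obtain ⟨a, ha, rfl⟩ := List.getElem_of_mem hc
  have := mcl_perm a (by rw [mcl_len2.2] at ha; exact ha)
  rw [List.getD_eq_getElem _ _ ha] at this
  exact ⟨_, decP_rep this⟩

theorem mcl_table : TableOK 275 mclChain mclRigid.gens := by
  obtain ⟨hs, hl, hlens⟩ := mcl_shape
  refine tableOK_of_checks hs fun j hj k hk => ?_
  rw [hl] at hj
  have hk' : k < (mclChain.map fun L => L.tr.length).getD j 0 := by
    rw [List.getD_eq_getElem _ _ (hl.symm ▸ hj)] at hk
    rw [List.getD_eq_getElem _ _ (by rw [List.length_map, hl]; exact hj), List.getElem_map]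
    exact hk
  rw [hlens] at hk'
  clear hk hs hl hlens
  interval_cases j
  · replace hk : k < 275 := hk'
    by_cases h0 : k < 100
    · exact of_entriesOK mcl_entries0_0 (by omega) h0
    by_cases h100 : k < 200
    · exact of_entriesOK mcl_entries0_1 (by omega) h100
    exact of_entriesOK mcl_entries0_2 (by omega) hk
  · replace hk : k < 162 := hk'
    by_cases h0 : k < 100
    · exact of_entriesOK mcl_entries1_0 (by omega) h0
    exact of_entriesOK mcl_entries1_1 (by omega) hk
  · replace hk : k < 105 := hk'
    by_cases h0 : k < 100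
    · exact of_entriesOK mcl_entries2_0 (by omega) h0
    exact of_entriesOK mcl_entries2_1 (by omega) hk
  · replace hk : k < 64 := hk'
    exact of_entriesOK mcl_entries3_0 (by omega) hk
  · replace hk : k < 3 := hk'
    exact of_entriesOK mcl_entries4_0 (by omega) hk

theorem mcl_model : Valid 275 mclRigid.gens ∧ mclRigid.Good ∧ Nonempty (↥(MulAction.stabilizer ↥Co0 (⟨uStd, uStd_mem⟩ : ↥leechLattice) ⊓
      MulAction.stabilizer ↥Co0 (⟨aStd, aStd_mem⟩ : ↥leechLattice)) ≃* mclRigid.grp) := by
  have hmem := slp_sound (n := 275) (by norm_num) (genG 275 mclCodes) mclSlp mclCodes mclRigid.gens mcl_slp fun c hc => by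
    obtain ⟨g, hg⟩ := mcl_valid c hc
    exact ⟨g, Subgroup.subset_closure ⟨c, hc, hg⟩, hg⟩
  have hv : Valid 275 mclRigid.gens := fun c hc => ⟨_, (hmem c hc).choose_spec.2⟩
  have hsub : genG 275 mclRigid.gens ≤ genG 275 mclCodes := by
    refine (Subgroup.closure_le _).mpr ?_
    rintro g ⟨c, hc, hg⟩
    obtain ⟨h, hh, hhr⟩ := hmem c hc
    exact hg.unique hhr ▸ hh
  haveI : Finite ↥(MulAction.stabilizer ↥Co0 (⟨uStd, uStd_mem⟩ : ↥leechLattice) ⊓
      MulAction.stabilizer ↥Co0 (⟨aStd, aStd_mem⟩ : ↥leechLattice)) := Nat.finite_of_card_ne_zero (by rw [card_mcl]; norm_num)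
  obtain ⟨hle, hiso⟩ := exists_iso (n := 275) (H := (MulAction.stabilizer ↥Co0 (⟨uStd, uStd_mem⟩ : ↥leechLattice) ⊓
      MulAction.stabilizer ↥Co0 (⟨aStd, aStd_mem⟩ : ↥leechLattice))) mcl_len (words := mclWords) (codes := mclCodes) mcl_pts_ok mcl_vs_ok
    (fun g hg => by
      obtain ⟨h0, h1⟩ := mcl_vs_eq
      have e0 : vecL (mclVs.getD 0 0) = ⟨uStd, uStd_mem⟩ := Subtype.ext (by
        rw [vecL_coe (List.all_eq_true.mp mcl_vs_ok _ (by simp [mclVs]))]; exact funext h0)
      have e1 : vecL (mclVs.getD 1 0) = ⟨aStd, aStd_mem⟩ := Subtype.ext (by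
        rw [vecL_coe (List.all_eq_true.mp mcl_vs_ok _ (by simp [mclVs]))]; exact funext h1)
      have g0 := hg (mclVs.getD 0 0) (by simp [mclVs])
      have g1 := hg (mclVs.getD 1 0) (by simp [mclVs])
      rw [e0] at g0
      rw [e1] at g1
      exact ⟨g0, g1⟩)
    (fun c hc => by
      obtain ⟨a, ha, rfl⟩ := List.getElem_of_mem hc
      have ha3 : a < 3 := by rw [mcl_len2.2] at ha; exact ha
      have hw : mclWords.getD a [] ∈ mclWords := by
        rw [List.getD_eq_getElem _ _ (mcl_len2.1.symm ▸ ha3)]; exact List.getElem_mem _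
      rw [← List.getD_eq_getElem (d := 0) _ ha]
      refine ⟨_, hw, mclFixed.getD a [], [mclPaths0, mclPaths1, mclPaths2].getD a [], _, mcl_fix a ha3, mcl_perm a ha3, ?_⟩
      intro i hi
      interval_cases a
      · exact List.all_eq_true.mp mcl_move0 i (List.mem_range.mpr hi)
      · exact List.all_eq_true.mp mcl_move1 i (List.mem_range.mpr hi)
      · exact List.all_eq_true.mp mcl_move2 i (List.mem_range.mpr hi))
  rw [card_mcl] at hle hiso
  have hcs : Nat.card (genG 275 mclRigid.gens) ≤ Nat.card (genG 275 mclCodes) :=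
    Nat.card_le_card_of_injective _ (Subgroup.inclusion_injective hsub)
  obtain ⟨heq, hcard⟩ := table_eq (n := 275) (by norm_num) mcl_table hv ((hcs.trans hle).trans (le_of_eq mcl_size.symm))
  have hgrp : genG 275 mclRigid.gens = genG 275 mclCodes :=
    Subgroup.eq_of_le_of_card_ge hsub (hle.trans (le_of_eq (hcard.trans mcl_size).symm))
  obtain ⟨e⟩ := hiso (le_of_eq ((hgrp ▸ hcard : Nat.card (genG 275 mclCodes) = _).trans mcl_size).symm)
  exact ⟨hv, ⟨mcl_table, heq, hcard⟩, ⟨e.trans (MulEquiv.subgroupCongr hgrp.symm)⟩⟩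

end CfsgLeech.Models
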