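/-
Fusion inside the configuration of 275 vectors, one member fixed.
-/
import Cfsg.Agent.Lib.Leech.ConfigMoves

set_option autoImplicit false

namespace CfsgLeech

open Cfsg CfsgGolay

attribute [local irreducible] codeL octadL dodecadL slpCodes

theorem eRc : ∃ O ∈ octads, none ∈ O ∧ pt 0 ∈ O ∧ pt 1 ∈ O ∧ EqvF [uStd, aStd, ev ∅ {none, pt 1} ∅] (ev ∅ {none, pt 2} ∅) (ev O ∅ ∅) := by
  refine ⟨toSet 8398155, toSet_mem_octads' (by norm_num) (by decide +kernel), (by decide +kernel), (by decide +kernel), (by decide +kernel), ?_⟩
  refine EqvF.of_word (w := [some (837836005414169709418389159845514770, 855332), none, some (671191020203991165790869417011748531, 1975812), none, some (89897106553510919674915609997883698, 1413139), some (964516532464690789692512410571722963, 0), some (967271426971756264109390939383476544, 0)])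
    (by decide +kernel) ?_ (inLatB_sound (by decide +kernel)) (funext fun i => by revert i; decide +kernel)
  intro f hf
  simp only [List.mem_cons, List.not_mem_nil, or_false] at hf
  rcases hf with rfl | rfl | rfl <;> exact funext fun i => by revert i; decide +kernel

theorem eRd : ∃ O ∈ octads, none ∈ O ∧ pt 0 ∉ O ∧ pt 1 ∉ O ∧ EqvF [uStd, aStd, ev ∅ {none, pt 1} ∅] (ev ∅ {none, pt 2} ∅) (od (-1) O {none}) := by
  refine ⟨toSet 9474712, toSet_mem_octads' (by norm_num) (by decide +kernel), (by decide +kernel), (by decide +kernel), (by decide +kernel), ?_⟩
  refine EqvF.of_word (w := [some (684397057185668135648840522361578764, 1228138), none, some (113826727871017749321338811758193871, 9436524), none, some (800560708742729185962856793421977100, 567074), some (971789850554640444875559198345666084, 0), some (981648793387643559620644587643780192, 0)])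
    (by decide +kernel) ?_ (inLatB_sound (by decide +kernel)) (funext fun i => by revert i; decide +kernel)
  intro f hf
  simp only [List.mem_cons, List.not_mem_nil, or_false] at hf
  rcases hf with rfl | rfl | rfl <;> exact funext fun i => by revert i; decide +kernel

theorem eRd1 : ∃ O ∈ octads, none ∈ O ∧ pt 0 ∉ O ∧ pt 1 ∈ O ∧ EqvF [uStd, aStd, ev ∅ {none, pt 1} ∅] (ev (toSet 11100169) ∅ ∅) (od (-1) O {none}) := by
  refine ⟨toSet 12726562, toSet_mem_octads' (by norm_num) (by decide +kernel), (by decide +kernel), (by decide +kernel), (by decide +kernel), ?_⟩
  refine EqvF.of_word (w := [some (684397057185668135648840522361578764, 1228138), none, some (113826727871017749321338811758193871, 9436524), none, some (800560708742729185962856793421977100, 567074), some (971789850554640444875559198345666084, 0), some (981648793387643559620644587643780192, 0)])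
    (by decide +kernel) ?_ (inLatB_sound (by decide +kernel)) (funext fun i => by revert i; decide +kernel)
  intro f hf
  simp only [List.mem_cons, List.not_mem_nil, or_false] at hf
  rcases hf with rfl | rfl | rfl <;> exact funext fun i => by revert i; decide +kernel

theorem srcC2 : toSet 11100169 ∈ octads ∧ none ∈ toSet 11100169 ∧ pt 0 ∈ toSet 11100169 ∧ pt 1 ∉ toSet 11100169 :=
  ⟨toSet_mem_octads' (by norm_num) (by decide +kernel), (by decide +kernel), (by decide +kernel), (by decide +kernel)⟩

end CfsgLeech
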