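/-
The two small configurations: 275 and 100 minimal vectors.
-/
import Cfsg.Agent.Lib.Leech.Census

set_option autoImplicit false

namespace CfsgLeech

open Cfsg CfsgGolay
open scoped Pointwise

attribute [local irreducible] codeL octadL dodecadL slpCodes

theorem ne_pt0 : (none : GolayPt) ≠ pt 0 := by decide +kernel

/-- The members of `Is24` with dot product 16 against `aStd`. -/
def Is275 (x : GolayPt → ℤ) : Prop := Is24 x ∧ dotInt aStd x = 16

/-- The members of `Is24` orthogonal to `tStd`. -/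
def Is100 (x : GolayPt → ℤ) : Prop := Is24 x ∧ dotInt tStd x = 0

theorem dot_two (x : GolayPt → ℤ) :
    dotInt aStd x = 4 * x none + 4 * x (pt 0) ∧ dotInt tStd x = 4 * x none - 4 * x (pt 0) := by
  have key : (∀ i, i ≠ none → i ≠ pt 0 → aStd i = 0 ∧ tStd i = 0) ∧
      aStd none = 4 ∧ aStd (pt 0) = 4 ∧ tStd none = 4 ∧ tStd (pt 0) = -4 := by decide +kernel
  obtain ⟨hz, a1, a2, t1, t2⟩ := key
  constructor <;> unfold dotInt <;>
    rw [← Finset.sum_subset (Finset.subset_univ {none, pt 0}) (fun i _ hi => by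
      simp only [Finset.mem_insert, Finset.mem_singleton, not_or] at hi
      obtain ⟨z1, z2⟩ := hz i hi.1 hi.2
      simp [z1, z2]), Finset.sum_pair ne_pt0]
  · rw [a1, a2]
  · rw [t1, t2]; ring

theorem Is275.cases_iff {x : GolayPt → ℤ} : Is275 x ↔ x ∈ fA '' {j | j ≠ none ∧ j ≠ pt 0} ∨
    x ∈ fC '' {o | o ∈ octads ∧ none ∈ o ∧ pt 0 ∈ o} ∨ x ∈ fD '' {o | o ∈ octads ∧ none ∈ o ∧ pt 0 ∉ o} := by
  constructor
  · rintro ⟨h, hd⟩
    rw [(dot_two x).1] at hd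
    cases h with
    | a j hj =>
      refine Or.inl ⟨j, ⟨hj, fun e => ?_⟩, rfl⟩
      subst e
      simp [ev, chi, ne_pt0.symm] at hd
    | b j hj =>
      by_cases e : j = pt 0
      · subst e; simp [od, chi, ne_pt0] at hd
      · simp [od, chi, Ne.symm hj, Ne.symm e] at hd
    | c O hO hn =>
      refine Or.inr (Or.inl ⟨O, ⟨hO, hn, ?_⟩, rfl⟩)
      by_contra h0
      simp [ev, chi, hn, h0] at hd
    | d O hO hn =>
      refine Or.inr (Or.inr ⟨O, ⟨hO, hn, fun h0 => ?_⟩, rfl⟩)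
      simp [od, chi, hn, h0, ne_pt0.symm] at hd
  · rintro (⟨j, ⟨hj, hj0⟩, rfl⟩ | ⟨O, ⟨hO, hn, h0⟩, rfl⟩ | ⟨O, ⟨hO, hn, h0⟩, rfl⟩)
    · refine ⟨Is24.a j hj, ?_⟩
      rw [(dot_two _).1]; simp [fA, ev, chi, Ne.symm hj0, ne_pt0.symm]
    · refine ⟨Is24.c O hO hn, ?_⟩
      rw [(dot_two _).1]; simp [fC, ev, chi, hn, h0]
    · refine ⟨Is24.d O hO hn, ?_⟩
      rw [(dot_two _).1]; simp [fD, od, chi, hn, h0, ne_pt0.symm]

theorem Is100.cases_iff {x : GolayPt → ℤ} : Is100 x ↔ x ∈ ({aStd} : Set (GolayPt → ℤ)) ∨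
    x ∈ fB '' {j | j ≠ none ∧ j ≠ pt 0} ∨ x ∈ fC '' {o | o ∈ octads ∧ none ∈ o ∧ pt 0 ∈ o} := by
  constructor
  · rintro ⟨h, hd⟩
    rw [(dot_two x).2] at hd
    cases h with
    | a j hj =>
      by_cases e : j = pt 0
      · subst e; exact Or.inl rfl
      · simp [ev, chi, Ne.symm e, ne_pt0.symm] at hd
    | b j hj =>
      refine Or.inr (Or.inl ⟨j, ⟨hj, fun e => ?_⟩, rfl⟩)
      subst e; simp [od, chi, ne_pt0] at hd
    | c O hO hn =>
      refine Or.inr (Or.inr ⟨O, ⟨hO, hn, ?_⟩, rfl⟩)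
      by_contra h0
      simp [ev, chi, hn, h0] at hd
    | d O hO hn =>
      by_cases h0 : pt 0 ∈ O <;> simp [od, chi, hn, h0, ne_pt0.symm] at hd
  · rintro (h | ⟨j, ⟨hj, hj0⟩, rfl⟩ | ⟨O, ⟨hO, hn, h0⟩, rfl⟩)
    · rw [show x = aStd from h]
      exact ⟨Is24.a (pt 0) ne_pt0.symm, by decide +kernel⟩
    · refine ⟨Is24.b j hj, ?_⟩
      rw [(dot_two _).2]; simp [fB, od, chi, Ne.symm hj, Ne.symm hj0]
    · refine ⟨Is24.c O hO hn, ?_⟩
      rw [(dot_two _).2]; simp [fC, ev, chi, hn, h0]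

theorem two_out_count : {j : GolayPt | j ≠ none ∧ j ≠ pt 0}.ncard = 22 := by
  rw [show {j : GolayPt | j ≠ none ∧ j ≠ pt 0} = ↑(((Finset.univ : Finset GolayPt).erase none).erase (pt 0)) by
      ext; simp [and_comm],
    Set.ncard_coe_finset, Finset.card_erase_of_mem (Finset.mem_erase.mpr ⟨ne_pt0.symm, Finset.mem_univ _⟩),
    Finset.card_erase_of_mem (Finset.mem_univ _), Finset.card_univ, card_univ_pt]

theorem is275_count : {x | Is275 x}.ncard = 275 := by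
  rw [show {x | Is275 x} = fA '' {j | j ≠ none ∧ j ≠ pt 0} ∪ (fC '' {o | o ∈ octads ∧ none ∈ o ∧ pt 0 ∈ o} ∪
      fD '' {o | o ∈ octads ∧ none ∈ o ∧ pt 0 ∉ o}) from Set.ext fun _ => Is275.cases_iff,
    Set.ncard_union_eq _ (Set.toFinite _) (Set.toFinite _), Set.ncard_union_eq _ (Set.toFinite _) (Set.toFinite _),
    Set.InjOn.ncard_image, Set.InjOn.ncard_image, Set.InjOn.ncard_image, two_out_count, count_both, count_one]
  · exact fun a _ b _ h => (od_T_inj h).1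
  · exact fun a _ b _ h => (evO_inj (Finset.empty_subset _) (Finset.empty_subset _) h).1
  · exact fun a ha b _ h => evA_inj ha.1 h
  · refine Set.disjoint_left.mpr ?_
    rintro _ ⟨o, ho, rfl⟩ ⟨o', ho', hy⟩
    have h1 := congrFun hy none
    simp [fC, fD, ev, od, chi, ho.2.1, ho'.2.1] at h1
  · refine Set.disjoint_left.mpr ?_
    rintro _ ⟨j, hj, rfl⟩ (⟨o, ho, hy⟩ | ⟨o, ho, hy⟩) <;> have h1 := congrFun hy none <;>
      simp [fA, fC, fD, ev, od, chi, ho.2.1, Ne.symm hj.1] at h1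

theorem is100_count : {x | Is100 x}.ncard = 100 := by
  rw [show {x | Is100 x} = ({aStd} : Set (GolayPt → ℤ)) ∪ (fB '' {j | j ≠ none ∧ j ≠ pt 0} ∪
      fC '' {o | o ∈ octads ∧ none ∈ o ∧ pt 0 ∈ o}) from Set.ext fun _ => Is100.cases_iff,
    Set.ncard_union_eq _ (Set.toFinite _) (Set.toFinite _), Set.ncard_union_eq _ (Set.toFinite _) (Set.toFinite _),
    Set.InjOn.ncard_image, Set.InjOn.ncard_image, Set.ncard_singleton, two_out_count, count_both]
  · exact fun a _ b _ h => (evO_inj (Finset.empty_subset _) (Finset.empty_subset _) h).1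
  · exact fun a _ b _ h => (od_T_inj h).2
  · refine Set.disjoint_left.mpr ?_
    rintro _ ⟨j, hj, rfl⟩ ⟨o, ho, hy⟩
    have h1 := congrFun hy none
    simp [fB, fC, ev, od, chi, ho.2.1, Ne.symm hj.1] at h1
  · refine Set.disjoint_left.mpr ?_
    rintro _ rfl (⟨j, hj, hy⟩ | ⟨o, ho, hy⟩)
    · have h1 := congrFun hy none
      simp [aStd, fB, ev, od, chi, Ne.symm hj.1] at h1
    · have h1 := congrFun hy none
      simp [aStd, fC, ev, chi, ho.2.1] at h1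

theorem all275 {x : GolayPt → ℤ} (h : Is275 x) : EqvF [uStd, aStd] x (ev ∅ {none, pt 1} ∅) := by
  rcases Is275.cases_iff.mp h with ⟨j, ⟨hj, hj0⟩, rfl⟩ | ⟨O, ⟨hO, hn, h0⟩, rfl⟩ | ⟨O, ⟨hO, hn, h0⟩, rfl⟩
  · obtain ⟨σ, hσ, s1, s2, s3⟩ := map_three_pts ne_pt0 hj.symm hj0.symm ne_pt0
      (show (none : GolayPt) ≠ pt 1 by decide +kernel) (show pt 0 ≠ pt 1 by decide +kernel)
    exact move_ua hσ s1 s2 (Is24.a j hj).facts.1
      (by rw [fA, perm_ev (Finset.empty_subset _), Finset.smul_finset_empty, smul_two, s1, s3])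
  · obtain ⟨O', hO', hn', h0', he⟩ := eMc
    obtain ⟨σ, hσ, s1, s2, hs⟩ := move_octad2 hO hn h0 hO' hn' h0'
    exact (move_ua hσ s1 s2 (Is24.c O hO hn).facts.1
      (by show signedPerm _ _ (ev O ∅ ∅) = _; rw [perm_ev (Finset.empty_subset _), hs, Finset.smul_finset_empty])).trans he.symm
  · obtain ⟨O', hO', hn', h0', he⟩ := eMd
    obtain ⟨g, hg, hgo, hgn, hg0⟩ := octad_in_out hO hn h0
    obtain ⟨g', hg', hgo', hgn', hg0'⟩ := octad_in_out hO' hn' h0'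
    have e1 : (g' * g⁻¹) none = none := by
      rw [Equiv.Perm.mul_apply, show g⁻¹ none = pt 23 from Equiv.Perm.inv_eq_iff_eq.mpr hgn.symm, hgn']
    refine (move_ua (σ := g' * g⁻¹) (mul_mem hg' (inv_mem hg)) e1 ?_ (Is24.d O hO hn).facts.1 ?_).trans he.symm
    · rw [Equiv.Perm.mul_apply, show g⁻¹ (pt 0) = pt 4 from Equiv.Perm.inv_eq_iff_eq.mpr hg0.symm, hg0']
    · show signedPerm _ _ (od (-1) O {none}) = _
      rw [perm_od, mul_smul, inv_smul_eq_iff.mpr hgo.symm, hgo', smul_sing, e1]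

theorem all100 {x : GolayPt → ℤ} (h : Is100 x) : EqvF [uStd, tStd] x aStd := by
  rcases Is100.cases_iff.mp h with h | ⟨j, ⟨hj, hj0⟩, rfl⟩ | ⟨O, ⟨hO, hn, h0⟩, rfl⟩
  · rw [show x = aStd from h]
    exact move_ut (one_mem _) rfl rfl aStd_mem (by funext i; simp [signedPerm])
  · obtain ⟨j', hj', hj0', he⟩ := eHb
    obtain ⟨σ, hσ, s1, s2, s3⟩ := map_three_pts ne_pt0 hj.symm hj0.symm ne_pt0 hj'.symm hj0'.symm
    exact (move_ut hσ s1 s2 (Is24.b j hj).facts.1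
      (by show signedPerm _ _ (od (-1) ∅ {j}) = _; rw [perm_od, Finset.smul_finset_empty, smul_sing, s3])).trans he.symm
  · obtain ⟨O', hO', hn', h0', he⟩ := eHc
    obtain ⟨σ, hσ, s1, s2, hs⟩ := move_octad2 hO hn h0 hO' hn' h0'
    exact (move_ut hσ s1 s2 (Is24.c O hO hn).facts.1
      (by show signedPerm _ _ (ev O ∅ ∅) = _; rw [perm_ev (Finset.empty_subset _), hs, Finset.smul_finset_empty])).trans he.symm

theorem mclaughlin_config {u v : ↥leechLattice} (hu : sqNorm (u : GolayPt → ℤ) = 48)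
    (hv : sqNorm (v : GolayPt → ℤ) = 32 ∧ sqNorm ((u : GolayPt → ℤ) - (v : GolayPt → ℤ)) = 32)
    (S : Set ↥leechLattice) (hS : S = {x : ↥leechLattice | sqNorm (x : GolayPt → ℤ) = 32 ∧
      sqNorm ((u : GolayPt → ℤ) - (x : GolayPt → ℤ)) = 32 ∧ dotInt (v : GolayPt → ℤ) (x : GolayPt → ℤ) = 16}) :
    S.ncard = 275 ∧ ∀ x ∈ S, ∀ x' ∈ S, ∃ g : ↥Co0, g • u = u ∧ g • v = v ∧ g • x = x' := by
  obtain ⟨g, gu, gv⟩ := config_pairs (Or.inl rfl) hu hv.1 ((dot_of_diff hu hv.1).mp hv.2)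
    (u' := ⟨uStd, uStd_mem⟩) (x' := ⟨aStd, aStd_mem⟩) std_facts.2.2.2.1 std_facts.2.2.2.2.1
    std_facts.2.2.2.2.2.2.1
  have hiff : ∀ x, x ∈ S ↔ Is275 ((g • x : ↥leechLattice) : GolayPt → ℤ) := fun x => by
    subst hS
    have d1 := aut_dot g u x
    have d2 := aut_dot g v x
    rw [gu] at d1
    rw [gv] at d2
    constructor
    · rintro ⟨h1, h2, h3⟩
      exact ⟨(classify_dot (g • x).2 ((aut_norm g x).trans h1)).1 (d1.trans ((dot_of_diff hu h1).mp h2)),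
        d2.trans h3⟩
    · rintro ⟨h, h3⟩
      obtain ⟨-, h1, h2⟩ := h.facts
      rw [aut_norm] at h1
      exact ⟨h1, (dot_of_diff hu h1).mpr (d1.symm.trans h2), d2.symm.trans h3⟩
  refine ⟨(image_count (k := g) (fun x hx => hx.1.facts.1) hiff).trans is275_count, fun x hx x' hx' => ?_⟩
  obtain ⟨f, hf, he⟩ :=
    ((all275 ((hiff x).mp hx)).trans (all275 ((hiff x').mp hx')).symm).elem (a := g • x) (b := g • x') rfl rfl
  refine ⟨g⁻¹ * (f * g), ?_, ?_, ?_⟩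
  · rw [mul_smul, mul_smul, gu, hf uStd (by simp) _ rfl, inv_smul_eq_iff, gu]
  · rw [mul_smul, mul_smul, gv, hf aStd (by simp) _ rfl, inv_smul_eq_iff, gv]
  · rw [mul_smul, mul_smul, he, inv_smul_smul]

theorem higman_sims_config {v w : ↥leechLattice} (hv : sqNorm (v : GolayPt → ℤ) = 48)
    (hw : sqNorm (w : GolayPt → ℤ) = 48) (hvw : dotInt (v : GolayPt → ℤ) (w : GolayPt → ℤ) = -32)
    (S : Set ↥leechLattice) (hS : S = {x : ↥leechLattice | sqNorm (x : GolayPt → ℤ) = 32 ∧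
      dotInt (v : GolayPt → ℤ) (x : GolayPt → ℤ) = 24 ∧ dotInt (w : GolayPt → ℤ) (x : GolayPt → ℤ) = -24}) :
    S.ncard = 100 ∧ ∀ x ∈ S, ∀ x' ∈ S, ∃ g : ↥Co0, g • v = v ∧ g • w = w ∧ g • x = x' := by
  have ht : sqNorm ((v + w : ↥leechLattice) : GolayPt → ℤ) = 32 := by
    rw [AddSubgroup.coe_add, (sqNorm_sub_add _ _).2, hv, hw, hvw]; norm_num
  have hvt : dotInt (v : GolayPt → ℤ) ((v + w : ↥leechLattice) : GolayPt → ℤ) = 16 := by
    rw [dot_comm, AddSubgroup.coe_add, dot_add_left, dot_self, dot_comm (w : GolayPt → ℤ), hv, hvw]; norm_num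
  obtain ⟨g, gv, gt⟩ := config_pairs (Or.inr rfl) hv ht hvt
    (u' := ⟨uStd, uStd_mem⟩) (x' := ⟨tStd, tStd_mem⟩) std_facts.2.2.2.1 std_facts.2.2.2.2.2.1
    std_facts.2.2.2.2.2.2.2
  have hiff : ∀ x, x ∈ S ↔ Is100 ((g • x : ↥leechLattice) : GolayPt → ℤ) := fun x => by
    subst hS
    have d1 := aut_dot g v x
    have d2 := aut_dot g (v + w) x
    rw [gv] at d1
    rw [gt, AddSubgroup.coe_add, dot_add_left] at d2
    constructor
    · rintro ⟨h1, h2, h3⟩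
      exact ⟨(classify_dot (g • x).2 ((aut_norm g x).trans h1)).1 (d1.trans h2),
        d2.trans (by rw [h2, h3]; norm_num)⟩
    · rintro ⟨h, h3⟩
      obtain ⟨-, h1, h2⟩ := h.facts
      rw [aut_norm] at h1
      have e2 := d1.symm.trans h2
      have e3 := d2.symm.trans h3
      exact ⟨h1, e2, by omega⟩
  refine ⟨(image_count (k := g) (fun x hx => hx.1.facts.1) hiff).trans is100_count, fun x hx x' hx' => ?_⟩
  obtain ⟨f, hf, he⟩ :=
    ((all100 ((hiff x).mp hx)).trans (all100 ((hiff x').mp hx')).symm).elem (a := g • x) (b := g • x') rfl rfl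
  have e1 : (g⁻¹ * (f * g)) • v = v := by
    rw [mul_smul, mul_smul, gv, hf uStd (by simp) _ rfl, inv_smul_eq_iff, gv]
  have e2 : (g⁻¹ * (f * g)) • (v + w) = v + w := by
    rw [mul_smul, mul_smul, gt, hf tStd (by simp) _ rfl, inv_smul_eq_iff, gt]
  refine ⟨g⁻¹ * (f * g), e1, ?_, by rw [mul_smul, mul_smul, he, inv_smul_smul]⟩
  rw [aut_add, e1] at e2
  exact add_left_cancel e2

end CfsgLeech
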