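/-
The configuration of 275 vectors with one member fixed: two orbits, of sizes 112 and 162.
-/
import Cfsg.Agent.Lib.Leech.Sporadic
import Cfsg.Agent.Lib.Leech.McLData
import Cfsg.Agent.Lib.Golay.Data.OctTriple

set_option autoImplicit false

namespace CfsgLeech

open Cfsg CfsgGolay
open scoped Pointwise

attribute [local irreducible] codeL octadL dodecadL slpCodes

/-- The standard member of the configuration of 275 vectors. -/
def xStd : GolayPt → ℤ := ev ∅ {none, pt 1} ∅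

theorem pts3 : (none : GolayPt) ≠ pt 0 ∧ (none : GolayPt) ≠ pt 1 ∧ pt 0 ≠ pt 1 := by decide +kernel

theorem xStd_mem : xStd ∈ leechLattice := inLatB_sound (by decide +kernel)

theorem gOA_fix {g : Equiv.Perm GolayPt} (hg : g ∈ Gr gOA) :
    g • O0 = O0 ∧ g (pt 4) = pt 4 ∧ g (pt 23) = pt 23 :=
  ⟨Gr_le_stab (L := gOA) (K := maskK) (o := 8536111) (by show _ < 2 ^ 24; norm_num) (by decide +kernel) hg,
    Gr_le_stab (L := gOA) (K := pointK) (o := 4) (by show _ < 24; norm_num) (by decide +kernel) hg,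
    Gr_le_stab (L := gOA) (K := pointK) (o := 23) (by show _ < 24; norm_num) (by decide +kernel) hg⟩

theorem gOB_fix {g : Equiv.Perm GolayPt} (hg : g ∈ Gr gOB) :
    g • O0 = O0 ∧ g (pt 4) = pt 4 ∧ g (pt 6) = pt 6 :=
  ⟨Gr_le_stab (L := gOB) (K := maskK) (o := 8536111) (by show _ < 2 ^ 24; norm_num) (by decide +kernel) hg,
    Gr_le_stab (L := gOB) (K := pointK) (o := 4) (by show _ < 24; norm_num) (by decide +kernel) hg,
    Gr_le_stab (L := gOB) (K := pointK) (o := 6) (by show _ < 24; norm_num) (by decide +kernel) hg⟩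

theorem triple_reach : 147503 &&& orbMask gOA 0 = 147503 ∧ 8536111 &&& orbMask gOB 23 = 8536111 := by
  decide +kernel

theorem rest_mem : ∀ x : GolayPt, x ∈ O0 → x ≠ pt 23 → x ∈ toSet 147503 := by decide +kernel

/-- An octad, two points in it and one off it. -/
theorem octad_two_in_out {o : Finset GolayPt} (ho : o ∈ octads) {p q r : GolayPt} (hp : p ∈ o) (hq : q ∈ o)
    (hpq : p ≠ q) (hr : r ∉ o) :
    ∃ g ∈ M24, g • O0 = o ∧ g (pt 23) = p ∧ g (pt 0) = q ∧ g (pt 4) = r := by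
  obtain ⟨g, hg, hgo, hg23, hg4⟩ := octad_in_out ho hp hr
  obtain ⟨a, hag, ha⟩ := reach_of_orbMask gOA_ok (b := 0) (by norm_num) triple_reach.1 (g⁻¹ q)
    (rest_mem _ (inv_apply_mem.mpr (by rw [hgo]; exact hq)) fun he => hpq (by
      rw [← hg23, ← he, perm_apply_inv]))
  obtain ⟨haO, ha4, ha23⟩ := gOA_fix hag
  refine ⟨g * a, mul_mem hg (Gr_le_M24 gOA_ok hag), by rw [mul_smul, haO, hgo], ?_, ?_, ?_⟩
  · simp [Equiv.Perm.mul_apply, ha23, hg23]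
  · simp [Equiv.Perm.mul_apply, ha]
  · simp [Equiv.Perm.mul_apply, ha4, hg4]

/-- An octad, one point in it and two off it. -/
theorem octad_in_two_out {o : Finset GolayPt} (ho : o ∈ octads) {p q r : GolayPt} (hp : p ∈ o) (hq : q ∉ o)
    (hr : r ∉ o) (hqr : q ≠ r) :
    ∃ g ∈ M24, g • O0 = o ∧ g (pt 23) = p ∧ g (pt 4) = q ∧ g (pt 6) = r := by
  obtain ⟨g, hg, hgo, hg4, hg6⟩ := octad_two_out ho hq hr hqr
  obtain ⟨a, hag, ha⟩ := reach_of_orbMask gOB_ok (b := 23) (by norm_num) triple_reach.2 (g⁻¹ p)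
    (show g⁻¹ p ∈ O0 from inv_apply_mem.mpr (by rw [hgo]; exact hp))
  obtain ⟨haO, ha4, ha6⟩ := gOB_fix hag
  refine ⟨g * a, mul_mem hg (Gr_le_M24 gOB_ok hag), by rw [mul_smul, haO, hgo], ?_, ?_, ?_⟩
  · simp [Equiv.Perm.mul_apply, ha]
  · simp [Equiv.Perm.mul_apply, ha4, hg4]
  · simp [Equiv.Perm.mul_apply, ha6, hg6]

theorem move_x {σ : Equiv.Perm GolayPt} (hσ : σ ∈ M24) (hn : σ none = none) (h0 : σ (pt 0) = pt 0)
    (h1 : σ (pt 1) = pt 1) {x y : GolayPt → ℤ} (hx : x ∈ leechLattice) (h : signedPerm σ ∅ x = y) :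
    EqvF [uStd, aStd, xStd] x y := by
  have hf : signedPerm σ ∅ xStd = xStd := by
    rw [xStd, perm_ev (Finset.empty_subset _), Finset.smul_finset_empty, smul_two, hn, h1]
  exact EqvF.of_signedPerm hσ CW_empty (by simp [fix_uStd hn, fix_aStd hn h0, hf]) hx h

theorem step_A {j : GolayPt} (hj : j ≠ none) (hj0 : j ≠ pt 0) (hj1 : j ≠ pt 1) :
    EqvF [uStd, aStd, xStd] (fA j) (ev ∅ {none, pt 2} ∅) := by
  obtain ⟨σ, hσ, hx⟩ := exists_M24_map (k := 4) (by norm_num)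
    (⟨![none, pt 0, pt 1, j], by
      obtain ⟨a, b, c⟩ := pts3
      intro i k; fin_cases i <;> fin_cases k <;> simp [a, b, c, a.symm, b.symm, c.symm, hj, hj0, hj1, Ne.symm hj, Ne.symm hj0, Ne.symm hj1]⟩ :
      Fin 4 ↪ GolayPt)
    (⟨![none, pt 0, pt 1, pt 2], by decide +kernel⟩ : Fin 4 ↪ GolayPt)
  exact move_x hσ (hx 0) (hx 1) (hx 2) (Is24.a j hj).facts.1 (by
    rw [fA, perm_ev (Finset.empty_subset _), Finset.smul_finset_empty, smul_two,
      show σ none = none from hx 0, show σ j = pt 2 from hx 3])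

/-- The class of an octad member, by two coordinates. -/
theorem step_C {o o' : Finset GolayPt} (ho : o ∈ octads) (hn : none ∈ o) (h0 : pt 0 ∈ o)
    (ho' : o' ∈ octads) (hn' : none ∈ o') (h0' : pt 0 ∈ o') (h1 : pt 1 ∈ o ↔ pt 1 ∈ o') :
    EqvF [uStd, aStd, xStd] (fC o) (fC o') := by
  obtain ⟨p1, p2, p3⟩ := pts3
  have : ∃ σ ∈ M24, σ none = none ∧ σ (pt 0) = pt 0 ∧ σ (pt 1) = pt 1 ∧ σ • o = o' := by
    by_cases h : pt 1 ∈ o
    · obtain ⟨σ, hσ, he, hx⟩ := octad_with_points ho ho' (by norm_num) (emb3 p1 p2 p3) (emb3 p1 p2 p3)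
        (fun i => by fin_cases i <;> assumption) (fun i => by have := h1.mp h; fin_cases i <;> assumption)
      exact ⟨σ, hσ, hx 0, hx 1, hx 2, he⟩
    · obtain ⟨g, hg, hgo, a1, a2, a3⟩ := octad_two_in_out ho hn h0 p1 h
      obtain ⟨g', hg', hgo', b1, b2, b3⟩ := octad_two_in_out ho' hn' h0' p1 (fun hh => h (h1.mpr hh))
      refine ⟨g' * g⁻¹, mul_mem hg' (inv_mem hg), ?_, ?_, ?_, by rw [mul_smul, inv_smul_eq_iff.mpr hgo.symm, hgo']⟩
      · rw [Equiv.Perm.mul_apply, show g⁻¹ none = pt 23 from Equiv.Perm.inv_eq_iff_eq.mpr a1.symm, b1]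
      · rw [Equiv.Perm.mul_apply, show g⁻¹ (pt 0) = pt 0 from Equiv.Perm.inv_eq_iff_eq.mpr a2.symm, b2]
      · rw [Equiv.Perm.mul_apply, show g⁻¹ (pt 1) = pt 4 from Equiv.Perm.inv_eq_iff_eq.mpr a3.symm, b3]
  obtain ⟨σ, hσ, s1, s2, s3, hs⟩ := this
  exact move_x hσ s1 s2 s3 (Is24.c o ho hn).facts.1 (by
    show signedPerm _ _ (ev o ∅ ∅) = _
    rw [perm_ev (Finset.empty_subset _), hs, Finset.smul_finset_empty]; rfl)

theorem step_D {o o' : Finset GolayPt} (ho : o ∈ octads) (hn : none ∈ o) (h0 : pt 0 ∉ o)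
    (ho' : o' ∈ octads) (hn' : none ∈ o') (h0' : pt 0 ∉ o') (h1 : pt 1 ∈ o ↔ pt 1 ∈ o') :
    EqvF [uStd, aStd, xStd] (fD o) (fD o') := by
  obtain ⟨p1, p2, p3⟩ := pts3
  have : ∃ σ ∈ M24, σ none = none ∧ σ (pt 0) = pt 0 ∧ σ (pt 1) = pt 1 ∧ σ • o = o' := by
    by_cases h : pt 1 ∈ o
    · obtain ⟨g, hg, hgo, a1, a2, a3⟩ := octad_two_in_out ho hn h p2 h0
      obtain ⟨g', hg', hgo', b1, b2, b3⟩ := octad_two_in_out ho' hn' (h1.mp h) p2 h0'
      refine ⟨g' * g⁻¹, mul_mem hg' (inv_mem hg), ?_, ?_, ?_, by rw [mul_smul, inv_smul_eq_iff.mpr hgo.symm, hgo']⟩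
      · rw [Equiv.Perm.mul_apply, show g⁻¹ none = pt 23 from Equiv.Perm.inv_eq_iff_eq.mpr a1.symm, b1]
      · rw [Equiv.Perm.mul_apply, show g⁻¹ (pt 0) = pt 4 from Equiv.Perm.inv_eq_iff_eq.mpr a3.symm, b3]
      · rw [Equiv.Perm.mul_apply, show g⁻¹ (pt 1) = pt 0 from Equiv.Perm.inv_eq_iff_eq.mpr a2.symm, b2]
    · obtain ⟨g, hg, hgo, a1, a2, a3⟩ := octad_in_two_out ho hn h0 h p3
      obtain ⟨g', hg', hgo', b1, b2, b3⟩ := octad_in_two_out ho' hn' h0' (fun hh => h (h1.mpr hh)) p3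
      refine ⟨g' * g⁻¹, mul_mem hg' (inv_mem hg), ?_, ?_, ?_, by rw [mul_smul, inv_smul_eq_iff.mpr hgo.symm, hgo']⟩
      · rw [Equiv.Perm.mul_apply, show g⁻¹ none = pt 23 from Equiv.Perm.inv_eq_iff_eq.mpr a1.symm, b1]
      · rw [Equiv.Perm.mul_apply, show g⁻¹ (pt 0) = pt 4 from Equiv.Perm.inv_eq_iff_eq.mpr a2.symm, b2]
      · rw [Equiv.Perm.mul_apply, show g⁻¹ (pt 1) = pt 6 from Equiv.Perm.inv_eq_iff_eq.mpr a3.symm, b3]
  obtain ⟨σ, hσ, s1, s2, s3, hs⟩ := this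
  exact move_x hσ s1 s2 s3 (Is24.d o ho hn).facts.1 (by
    show signedPerm _ _ (od (-1) o {none}) = _
    rw [perm_od, hs, smul_sing, s1]; rfl)

/-- The members other than the standard one, by their dot product with it. -/
theorem dot275 {y : GolayPt → ℤ} (h : Is275 y) :
    y = xStd ∧ dotInt xStd y = 32 ∨
    ((∃ o ∈ octads, none ∈ o ∧ pt 0 ∈ o ∧ pt 1 ∉ o ∧ y = fC o) ∨
      ∃ o ∈ octads, none ∈ o ∧ pt 0 ∉ o ∧ pt 1 ∈ o ∧ y = fD o) ∧ dotInt xStd y = 8 ∨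
    (((∃ j, j ≠ none ∧ j ≠ pt 0 ∧ j ≠ pt 1 ∧ y = fA j) ∨
      ∃ o ∈ octads, none ∈ o ∧ pt 0 ∈ o ∧ pt 1 ∈ o ∧ y = fC o) ∨
      ∃ o ∈ octads, none ∈ o ∧ pt 0 ∉ o ∧ pt 1 ∉ o ∧ y = fD o) ∧ dotInt xStd y = 16 := by
  have hd : ∀ z : GolayPt → ℤ, dotInt xStd z = 4 * z none + 4 * z (pt 1) := by
    intro z
    have key : (∀ i, i ≠ none → i ≠ pt 1 → xStd i = 0) ∧ xStd none = 4 ∧ xStd (pt 1) = 4 := by decide +kernel
    obtain ⟨hz, a1, a2⟩ := key
    unfold dotInt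
    rw [← Finset.sum_subset (Finset.subset_univ {none, pt 1}) (fun i _ hi => by
        simp only [Finset.mem_insert, Finset.mem_singleton, not_or] at hi
        simp [hz i hi.1 hi.2]), Finset.sum_pair pts3.2.1, a1, a2]
  obtain ⟨p1, p2, p3⟩ := pts3
  rcases Is275.cases_iff.mp h with ⟨j, ⟨hj, hj0⟩, rfl⟩ | ⟨o, ⟨ho, hn, h0⟩, rfl⟩ | ⟨o, ⟨ho, hn, h0⟩, rfl⟩
  · by_cases e : j = pt 1
    · subst e
      exact Or.inl ⟨rfl, by rw [hd]; simp [fA, ev, chi, p2.symm]⟩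
    · exact Or.inr (Or.inr ⟨Or.inl (Or.inl ⟨j, hj, hj0, e, rfl⟩), by
        rw [hd]; simp [fA, ev, chi, p2.symm, Ne.symm e]⟩)
  · by_cases e : pt 1 ∈ o
    · exact Or.inr (Or.inr ⟨Or.inl (Or.inr ⟨o, ho, hn, h0, e, rfl⟩), by rw [hd]; simp [fC, ev, chi, hn, e]⟩)
    · exact Or.inr (Or.inl ⟨Or.inl ⟨o, ho, hn, h0, e, rfl⟩, by rw [hd]; simp [fC, ev, chi, hn, e]⟩)
  · by_cases e : pt 1 ∈ o
    · exact Or.inr (Or.inl ⟨Or.inr ⟨o, ho, hn, h0, e, rfl⟩, by rw [hd]; simp [fD, od, chi, hn, e, p2.symm]⟩)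
    · exact Or.inr (Or.inr ⟨Or.inr ⟨o, ho, hn, h0, e, rfl⟩, by rw [hd]; simp [fD, od, chi, hn, e, p2.symm]⟩)

theorem all112 {y : GolayPt → ℤ} (h : Is275 y) (hd : dotInt xStd y = 8) :
    EqvF [uStd, aStd, xStd] y (fC (toSet 11100169)) := by
  obtain ⟨so, sn, s0, s1⟩ := srcC2
  rcases dot275 h with ⟨-, e⟩ | ⟨⟨o, ho, hn, h0, h1, rfl⟩ | ⟨o, ho, hn, h0, h1, rfl⟩, -⟩ | ⟨-, e⟩
  · omega
  · exact step_C ho hn h0 so sn s0 (iff_of_false h1 s1)
  · obtain ⟨o', ho', hn', h0', h1', he⟩ := eRd1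
    exact (step_D ho hn h0 ho' hn' h0' (iff_of_true h1 h1')).trans he.symm
  · omega

theorem all162 {y : GolayPt → ℤ} (h : Is275 y) (hd : dotInt xStd y = 16) :
    EqvF [uStd, aStd, xStd] y (ev ∅ {none, pt 2} ∅) := by
  rcases dot275 h with ⟨-, e⟩ | ⟨-, e⟩ | ⟨(⟨j, hj, hj0, hj1, rfl⟩ | ⟨o, ho, hn, h0, h1, rfl⟩) | ⟨o, ho, hn, h0, h1, rfl⟩, -⟩
  · omega
  · omega
  · exact step_A hj hj0 hj1
  · obtain ⟨o', ho', hn', h0', h1', he⟩ := eRc
    exact (step_C ho hn h0 ho' hn' h0' (iff_of_true h1 h1')).trans he.symm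
  · obtain ⟨o', ho', hn', h0', h1', he⟩ := eRd
    exact (step_D ho hn h0 ho' hn' h0' (iff_of_false h1 h1')).trans he.symm

theorem pt1_mem_toSet (m : ℕ) : pt 1 ∈ toSet m ↔ m.testBit 1 = true := by
  rw [mem_toSet, idx_pt (by norm_num)]

theorem split_lists :
    ((codeL.filter fun m => pc m == 8).filter fun m => m.testBit 23 && m.testBit 0 && !m.testBit 1).length = 56 ∧
    ((codeL.filter fun m => pc m == 8).filter fun m => m.testBit 23 && !m.testBit 0 && m.testBit 1).length = 56 := by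
  decide +kernel

theorem count112 : {y | Is275 y ∧ dotInt xStd y = 8}.ncard = 112 := by
  have hC : ∀ o ∈ octads, none ∈ o → pt 0 ∈ o → pt 1 ∉ o → Is275 (fC o) ∧ dotInt xStd (fC o) = 8 := by
    intro o ho hn h0 h1
    have h : Is275 (fC o) := Is275.cases_iff.mpr (Or.inr (Or.inl ⟨o, ⟨ho, hn, h0⟩, rfl⟩))
    refine ⟨h, ?_⟩
    rcases dot275 h with ⟨e, -⟩ | ⟨-, e⟩ | ⟨(⟨j, hj, hj0, hj1, e⟩ | ⟨o', -, -, -, h1', e⟩) | ⟨o', -, hn', -, -, e⟩, -⟩
    · exact absurd (congrFun e none) (by simp [fC, xStd, ev, chi, hn])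
    · exact e
    · exact absurd (congrFun e none) (by simp [fC, fA, ev, chi, hn, Ne.symm hj])
    · exact absurd ((evO_inj (Finset.empty_subset _) (Finset.empty_subset _) e).1 ▸ h1') h1
    · exact absurd (congrFun e none) (by simp [fC, fD, ev, od, chi, hn, hn'])
  have hD : ∀ o ∈ octads, none ∈ o → pt 0 ∉ o → pt 1 ∈ o → Is275 (fD o) ∧ dotInt xStd (fD o) = 8 := by
    intro o ho hn h0 h1
    have h : Is275 (fD o) := Is275.cases_iff.mpr (Or.inr (Or.inr ⟨o, ⟨ho, hn, h0⟩, rfl⟩))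
    refine ⟨h, ?_⟩
    rcases dot275 h with ⟨e, -⟩ | ⟨-, e⟩ | ⟨(⟨j, hj, hj0, hj1, e⟩ | ⟨o', -, hn', -, -, e⟩) | ⟨o', -, -, -, h1', e⟩, -⟩
    · exact absurd (congrFun e none) (by simp [fD, xStd, ev, od, chi, hn])
    · exact e
    · exact absurd (congrFun e none) (by simp [fD, fA, ev, od, chi, hn, Ne.symm hj])
    · exact absurd (congrFun e none) (by simp [fC, fD, ev, od, chi, hn, hn'])
    · exact absurd h1 ((od_T_inj e).1 ▸ h1')
  rw [show {y | Is275 y ∧ dotInt xStd y = 8} = fC '' {o | o ∈ octads ∧ none ∈ o ∧ pt 0 ∈ o ∧ pt 1 ∉ o} ∪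
      fD '' {o | o ∈ octads ∧ none ∈ o ∧ pt 0 ∉ o ∧ pt 1 ∈ o} by
    ext y
    constructor
    · rintro ⟨h, hd⟩
      rcases dot275 h with ⟨-, e⟩ | ⟨⟨o, ho, hn, h0, h1, rfl⟩ | ⟨o, ho, hn, h0, h1, rfl⟩, -⟩ | ⟨-, e⟩
      · omega
      · exact Or.inl ⟨o, ⟨ho, hn, h0, h1⟩, rfl⟩
      · exact Or.inr ⟨o, ⟨ho, hn, h0, h1⟩, rfl⟩
      · omega
    · rintro (⟨o, ⟨ho, hn, h0, h1⟩, rfl⟩ | ⟨o, ⟨ho, hn, h0, h1⟩, rfl⟩)
      exacts [hC o ho hn h0 h1, hD o ho hn h0 h1],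
    Set.ncard_union_eq (Set.disjoint_left.mpr (by
      rintro _ ⟨o, ho, rfl⟩ ⟨o', ho', hy⟩
      have h1 := congrFun hy none
      simp [fC, fD, ev, od, chi, ho.2.1, ho'.2.1] at h1)) (Set.toFinite _) (Set.toFinite _),
    Set.InjOn.ncard_image (f := fC) (fun a _ b _ h => (evO_inj (Finset.empty_subset _) (Finset.empty_subset _) h).1),
    Set.InjOn.ncard_image (f := fD) (fun a _ b _ h => (od_T_inj h).1)]
  have k1 := (weight_count 8 (fun o => none ∈ o ∧ pt 0 ∈ o ∧ pt 1 ∉ o)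
    (fun m => m.testBit 23 && m.testBit 0 && !m.testBit 1) fun m => by
      rw [none_mem_toSet, pt0_mem_toSet, pt1_mem_toSet]
      cases m.testBit 23 <;> cases m.testBit 0 <;> cases m.testBit 1 <;> simp).trans split_lists.1
  have k2 := (weight_count 8 (fun o => none ∈ o ∧ pt 0 ∉ o ∧ pt 1 ∈ o)
    (fun m => m.testBit 23 && !m.testBit 0 && m.testBit 1) fun m => by
      rw [none_mem_toSet, pt0_mem_toSet, pt1_mem_toSet]
      cases m.testBit 23 <;> cases m.testBit 0 <;> cases m.testBit 1 <;> simp).trans split_lists.2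
  change _ + _ = 112
  rw [show octads = wordsOfWeight (golayCode : Set (GolayPt → ZMod 2)) 8 from rfl, k1, k2]

theorem xStd_275 : Is275 xStd :=
  Is275.cases_iff.mpr (Or.inl ⟨pt 1, ⟨pts3.2.1.symm, pts3.2.2.symm⟩, rfl⟩)

theorem count162 : {y | Is275 y ∧ y ≠ xStd ∧ dotInt xStd y = 16}.ncard = 162 := by
  have hpart : {y | Is275 y} = ({xStd} : Set (GolayPt → ℤ)) ∪ ({y | Is275 y ∧ dotInt xStd y = 8} ∪
      {y | Is275 y ∧ y ≠ xStd ∧ dotInt xStd y = 16}) := by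
    ext y
    constructor
    · intro h
      rcases dot275 h with ⟨e, -⟩ | ⟨-, e⟩ | ⟨-, e⟩
      · exact Or.inl e
      · exact Or.inr (Or.inl ⟨h, e⟩)
      · refine Or.inr (Or.inr ⟨h, fun he => ?_, e⟩)
        rw [he] at e; revert e; decide +kernel
    · rintro (h | h | h)
      · rw [show y = xStd from h]; exact xStd_275
      · exact h.1
      · exact h.1
  have hc := is275_count
  rw [hpart, Set.ncard_union_eq ?_ (Set.toFinite _) ?_, Set.ncard_union_eq ?_ ?_ ?_, Set.ncard_singleton,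
    count112] at hc
  · omega
  · exact Set.disjoint_left.mpr fun y h h' => by
      have e1 := h.2
      have e2 := h'.2.2
      omega
  · exact Set.Finite.subset (Set.finite_of_ncard_pos (by rw [count112]; norm_num)) le_rfl
  · exact (Set.finite_of_ncard_pos (s := {y | Is275 y}) (by rw [is275_count]; norm_num)).subset fun y h => h.1
  · refine Set.disjoint_left.mpr ?_
    rintro y rfl (⟨-, h⟩ | ⟨-, h, -⟩)
    · revert h; decide +kernel
    · exact h rfl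
  · exact (Set.finite_of_ncard_pos (s := {y | Is275 y}) (by rw [is275_count]; norm_num)).subset
      fun y h => h.elim And.left And.left

theorem mcl_rank3 {u v x : ↥leechLattice} (hu : sqNorm (u : GolayPt → ℤ) = 48)
    (hv : sqNorm (v : GolayPt → ℤ) = 32 ∧ sqNorm ((u : GolayPt → ℤ) - (v : GolayPt → ℤ)) = 32)
    (S : Set ↥leechLattice) (hS : S = {x : ↥leechLattice | sqNorm (x : GolayPt → ℤ) = 32 ∧
      sqNorm ((u : GolayPt → ℤ) - (x : GolayPt → ℤ)) = 32 ∧ dotInt (v : GolayPt → ℤ) (x : GolayPt → ℤ) = 16})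
    (hx : x ∈ S) :
    {y : ↥leechLattice | y ∈ S ∧ dotInt (x : GolayPt → ℤ) (y : GolayPt → ℤ) = 8}.ncard = 112 ∧
    {y : ↥leechLattice | y ∈ S ∧ y ≠ x ∧ dotInt (x : GolayPt → ℤ) (y : GolayPt → ℤ) = 16}.ncard = 162 ∧
    ∀ y ∈ S, ∀ y' ∈ S, y ≠ x → y' ≠ x →
      dotInt (x : GolayPt → ℤ) (y : GolayPt → ℤ) = dotInt (x : GolayPt → ℤ) (y' : GolayPt → ℤ) →
      ∃ g : ↥Co0, g • u = u ∧ g • v = v ∧ g • x = x ∧ g • y = y' := by
  obtain ⟨g, gu, gv⟩ := config_pairs (Or.inl rfl) hu hv.1 ((dot_of_diff hu hv.1).mp hv.2)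
    (u' := ⟨uStd, uStd_mem⟩) (x' := ⟨aStd, aStd_mem⟩) std_facts.2.2.2.1 std_facts.2.2.2.2.1
    std_facts.2.2.2.2.2.2.1
  have step : ∀ k : ↥Co0, k • u = ⟨uStd, uStd_mem⟩ → k • v = ⟨aStd, aStd_mem⟩ →
      ∀ y, y ∈ S ↔ Is275 ((k • y : ↥leechLattice) : GolayPt → ℤ) := by
    intro k ku kv y
    subst hS
    have d1 := aut_dot k u y
    have d2 := aut_dot k v y
    rw [ku] at d1
    rw [kv] at d2
    constructor
    · rintro ⟨h1, h2, h3⟩
      exact ⟨(classify_dot (k • y).2 ((aut_norm k y).trans h1)).1 (d1.trans ((dot_of_diff hu h1).mp h2)),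
        d2.trans h3⟩
    · rintro ⟨h, h3⟩
      obtain ⟨-, h1, h2⟩ := h.facts
      rw [aut_norm] at h1
      exact ⟨h1, (dot_of_diff hu h1).mpr (d1.symm.trans h2), d2.symm.trans h3⟩
  obtain ⟨f, hf, fx⟩ := (all275 ((step g gu gv x).mp hx)).elem (a := g • x) (b := ⟨xStd, xStd_mem⟩) rfl rfl
  have ku : (f * g) • u = ⟨uStd, uStd_mem⟩ := by rw [mul_smul, gu, hf uStd (by simp) _ rfl]
  have kv : (f * g) • v = ⟨aStd, aStd_mem⟩ := by rw [mul_smul, gv, hf aStd (by simp) _ rfl]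
  have kx : (((f * g) • x : ↥leechLattice) : GolayPt → ℤ) = xStd := by rw [mul_smul, fx]
  have kiff := step _ ku kv
  have kd : ∀ y, dotInt xStd (((f * g) • y : ↥leechLattice) : GolayPt → ℤ) = dotInt (x : GolayPt → ℤ) (y : GolayPt → ℤ) :=
    fun y => by rw [← kx, aut_dot]
  have kne : ∀ y, (((f * g) • y : ↥leechLattice) : GolayPt → ℤ) ≠ xStd ↔ y ≠ x := fun y => by
    rw [← kx, Ne, Subtype.coe_inj, smul_left_cancel_iff]
  refine ⟨(image_count (k := f * g) (P := fun y => Is275 y ∧ dotInt xStd y = 8) (fun y hy => hy.1.1.facts.1) ?_).trans count112,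
    (image_count (k := f * g) (P := fun y => Is275 y ∧ y ≠ xStd ∧ dotInt xStd y = 16) (fun y hy => hy.1.1.facts.1) ?_).trans count162,
    fun y hy y' hy' hne hne' he => ?_⟩
  · intro y
    simp only [Set.mem_setOf_eq, kiff, kd]
  · intro y
    simp only [Set.mem_setOf_eq, kiff, kd, kne]
  · have h := (kiff y).mp hy
    have h' := (kiff y').mp hy'
    have e : EqvF [uStd, aStd, xStd] (((f * g) • y : ↥leechLattice) : GolayPt → ℤ)
        (((f * g) • y' : ↥leechLattice) : GolayPt → ℤ) := by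
      rcases dot275 h with ⟨e, -⟩ | ⟨-, e⟩ | ⟨-, e⟩
      · exact absurd e ((kne y).mpr hne)
      · exact (all112 h e).trans (all112 h' (by rw [kd, ← he, ← kd]; exact e)).symm
      · exact (all162 h e).trans (all162 h' (by rw [kd, ← he, ← kd]; exact e)).symm
    obtain ⟨m, hm, me⟩ := e.elem (a := (f * g) • y) (b := (f * g) • y') rfl rfl
    refine ⟨(f * g)⁻¹ * (m * (f * g)), ?_, ?_, ?_, ?_⟩ <;> rw [mul_smul, mul_smul, inv_smul_eq_iff]
    · rw [ku]; exact hm uStd (by simp) _ rfl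
    · rw [kv]; exact hm aStd (by simp) _ rfl
    · exact hm xStd (by simp) _ kx
    · exact me

end CfsgLeech
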