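/-
Coordinates on the monomial subgroup of the first Conway group.
-/
import Cfsg.Agent.Lib.Leech.ModStab
import Cfsg.Agent.Lib.Leech.OctInvQ
import Cfsg.Agent.Lib.Leech.OutCo1Data

set_option autoImplicit false

namespace CfsgLeech.Out1

open Cfsg CfsgGolay CfsgLeech.OctInv
open scoped Pointwise

attribute [local irreducible] codeL octadL dodecadL slpCodes

/-- The element with given permutation and signs. -/
noncomputable def el (σ : ↥M24) (c : Finset GolayPt) (hc : c ∈ CW) : Spor.Co1 := prj (monoAut σ.1 σ.2 c hc)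

theorem el_congr {σ τ : ↥M24} {c d : Finset GolayPt} {hc : c ∈ CW} {hd : d ∈ CW} (h : σ = τ) (h' : c = d) :
    el σ c hc = el τ d hd := by
  subst h h'; rfl

theorem mono_mul {σ τ : ↥M24} {c d : Finset GolayPt} (hc : c ∈ CW) (hd : d ∈ CW) :
    monoAut σ.1 σ.2 c hc * monoAut τ.1 τ.2 d hd = monoAut (σ * τ).1 (σ * τ).2 (symmDiff c (σ.1 • d))
      (CW_symmDiff hc (smul_CW σ.2 hd)) := by
  refine aut_ext fun v => ?_
  rw [mul_smul]
  simp only [monoAut_apply]
  funext i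
  simp only [signedPerm, Finset.mem_symmDiff, ← mem_smul_symm,
    show (σ * τ).1.symm i = τ.1.symm (σ.1.symm i) from rfl]
  by_cases a : i ∈ c <;> by_cases b : σ.1.symm i ∈ d <;> simp [a, b]

theorem el_mul (σ τ : ↥M24) {c d : Finset GolayPt} (hc : c ∈ CW) (hd : d ∈ CW) :
    el σ c hc * el τ d hd = el (σ * τ) (symmDiff c (σ.1 • d)) (CW_symmDiff hc (smul_CW σ.2 hd)) := by
  rw [el, el, ← map_mul, mono_mul hc hd]; rfl

theorem mono_mul_neg {σ : Equiv.Perm GolayPt} (hσ : σ ∈ M24) {c : Finset GolayPt} (hc : c ∈ CW) :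
    monoAut σ hσ c hc * negAut = monoAut σ hσ cᶜ (CW_compl hc) := by
  refine aut_ext fun v => ?_
  rw [mul_smul, monoAut_apply, negAut_apply, monoAut_apply]
  funext i
  by_cases a : i ∈ c <;> simp [signedPerm, a]

theorem el_eq {σ τ : ↥M24} {c d : Finset GolayPt} {hc : c ∈ CW} {hd : d ∈ CW} :
    el σ c hc = el τ d hd ↔ σ = τ ∧ (d = c ∨ d = cᶜ) := by
  rw [el, el, prj_eq, mono_mul_neg σ.2 hc]
  constructor
  · rintro (h | h) <;> obtain ⟨e1, e2⟩ := mono_inj h
    · exact ⟨Subtype.ext e1.symm, Or.inl e2⟩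
    · exact ⟨Subtype.ext e1.symm, Or.inr e2⟩
  · rintro ⟨rfl, rfl | rfl⟩
    · exact Or.inl rfl
    · exact Or.inr rfl

theorem el_one : el 1 ∅ CW_empty = 1 := by
  show prj (sgn ∅ CW_empty) = 1
  rw [sgn_empty, map_one]

theorem el_one_iff {c : Finset GolayPt} {hc : c ∈ CW} : el 1 c hc = 1 ↔ c = ∅ ∨ c = Finset.univ := by
  rw [← el_one, el_eq]
  constructor
  · rintro ⟨-, h | h⟩
    · exact Or.inl h.symm
    · exact Or.inr (Finset.compl_eq_empty_iff c |>.mp h.symm)
  · rintro (rfl | rfl)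
    · exact ⟨rfl, Or.inl rfl⟩
    · exact ⟨rfl, Or.inr Finset.compl_univ.symm⟩

theorem el_hom_mul (σ τ : ↥M24) : el σ ∅ CW_empty * el τ ∅ CW_empty = el (σ * τ) ∅ CW_empty :=
  (el_mul σ τ CW_empty CW_empty).trans (el_congr rfl (by simp))

/-- The coordinate permutations. -/
noncomputable def sec : ↥M24 →* Spor.Co1 := MonoidHom.mk' (fun σ => el σ ∅ CW_empty) fun σ τ => (el_hom_mul σ τ).symm

theorem sec_apply (σ : ↥M24) : sec σ = el σ ∅ CW_empty := rfl

theorem el_split (σ : ↥M24) {c : Finset GolayPt} (hc : c ∈ CW) : el σ c hc = el 1 c hc * sec σ := by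
  rw [sec_apply, el_mul]
  exact el_congr (one_mul σ).symm (by simp [← Finset.bot_eq_empty])

theorem el_conj (σ : ↥M24) {e c : Finset GolayPt} (he : e ∈ CW) (hc : c ∈ CW) :
    el σ e he * el 1 c hc * (el σ e he)⁻¹ = el 1 (σ.1 • c) (smul_CW σ.2 hc) := by
  rw [mul_inv_eq_iff_eq_mul, el_mul, el_mul]
  exact el_congr ((mul_one σ).trans (one_mul σ).symm) (by simp [symmDiff_comm])

theorem el_sgn_mul {c d : Finset GolayPt} (hc : c ∈ CW) (hd : d ∈ CW) :
    el 1 c hc * el 1 d hd = el 1 (symmDiff c d) (CW_symmDiff hc hd) :=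
  (el_mul 1 1 hc hd).trans (el_congr (one_mul 1) (by simp))

/-- The monomial subgroup. -/
noncomputable def NI : Subgroup Spor.Co1 := crossStab.map prj

theorem NI_eq : NI = modImg (ax none) := by rw [NI, modImg, modStab_ax]

theorem mem_NI {x : Spor.Co1} : x ∈ NI ↔ ∃ σ : ↥M24, ∃ c, ∃ hc : c ∈ CW, x = el σ c hc := by
  constructor
  · rintro ⟨g, hg, rfl⟩
    obtain ⟨σ, c, hσ, hc, rfl⟩ := keepsCross_monomial hg
    exact ⟨⟨σ, hσ⟩, c, hc, rfl⟩
  · rintro ⟨σ, c, hc, rfl⟩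
    exact ⟨_, monoAut_keeps σ.2 hc, rfl⟩

theorem el_mem (σ : ↥M24) {c : Finset GolayPt} (hc : c ∈ CW) : el σ c hc ∈ NI := mem_NI.mpr ⟨σ, c, hc, rfl⟩

theorem mem_signImg {x : Spor.Co1} : x ∈ signImg ↔ ∃ c, ∃ hc : c ∈ CW, x = el 1 c hc := by
  constructor
  · rintro ⟨g, ⟨c, hc, rfl⟩, rfl⟩
    exact ⟨c, hc, rfl⟩
  · rintro ⟨c, hc, rfl⟩
    exact ⟨_, ⟨c, hc, rfl⟩, rfl⟩

theorem sign_le : signImg ≤ NI := NI_eq ▸ signImg_le

/-- The permutation of a monomial element. -/
noncomputable def perm : ↥NI →* ↥M24 :=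
  MonoidHom.mk' (fun x => (mem_NI.mp x.2).choose) fun x y => by
    obtain ⟨c, hc, hx⟩ := (mem_NI.mp x.2).choose_spec
    obtain ⟨d, hd, hy⟩ := (mem_NI.mp y.2).choose_spec
    obtain ⟨e, he, hxy⟩ := (mem_NI.mp (x * y).2).choose_spec
    have h : (x * y : ↥NI).1 = el _ c hc * el _ d hd := congrArg₂ (· * ·) hx hy
    rw [hxy, el_mul] at h
    exact (el_eq.mp h).1

theorem perm_spec (x : ↥NI) : ∃ c, ∃ hc : c ∈ CW, (x : Spor.Co1) = el (perm x) c hc :=
  (mem_NI.mp x.2).choose_spec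

theorem perm_el {x : ↥NI} {σ : ↥M24} {c : Finset GolayPt} {hc : c ∈ CW} (h : (x : Spor.Co1) = el σ c hc) :
    perm x = σ := by
  obtain ⟨d, hd, he⟩ := perm_spec x
  exact (el_eq.mp (he.symm.trans h)).1

theorem perm_surjective : Function.Surjective perm := fun σ => ⟨⟨_, el_mem σ CW_empty⟩, perm_el rfl⟩

theorem perm_ker : perm.ker = signImg.subgroupOf NI := by
  ext x
  rw [MonoidHom.mem_ker, Subgroup.mem_subgroupOf, mem_signImg]
  constructor
  · intro h
    obtain ⟨c, hc, he⟩ := perm_spec x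
    exact ⟨c, hc, he.trans (el_congr h rfl)⟩
  · rintro ⟨c, hc, he⟩
    exact perm_el he

theorem perm_one_iff {x : ↥NI} : perm x = 1 ↔ (x : Spor.Co1) ∈ signImg := by
  rw [← MonoidHom.mem_ker, perm_ker, Subgroup.mem_subgroupOf]

theorem NI_card : Nat.card ↥NI = 2 ^ 11 * 244823040 := NI_eq ▸ modImg_ax_card

theorem center_le_cross : Subgroup.center ↥Co0 ≤ crossStab := center_le_signSub.trans signSub_le

theorem NI_coatom : IsCoatom NI := by
  have hs : Function.Surjective prj := QuotientGroup.mk'_surjective _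
  have hc : NI.comap prj = crossStab := by
    rw [NI, Subgroup.comap_map_eq, QuotientGroup.ker_mk', sup_eq_left.mpr center_le_cross]
  refine ⟨fun h => crossStab_coatom.1 ?_, fun K hK => ?_⟩
  · rw [← hc, h, Subgroup.comap_top]
  · rw [← Subgroup.map_comap_eq_self_of_surjective hs K]
    have : crossStab < K.comap prj := by
      rw [← hc]
      exact (Subgroup.comap_lt_comap_of_surjective hs).mpr hK
    rw [crossStab_coatom.2 _ this, Subgroup.map_top_of_surjective _ hs]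

theorem zetaAut_not_keeps : zetaAut ∉ crossStab := by
  intro h
  obtain ⟨j, s, hs, he⟩ := h (ax none) ⟨none, 8, Or.inl rfl, rfl⟩
  have he' : zeta (Pi.single none 8) = Pi.single j s := he
  have key : ∃ a b : GolayPt, a ≠ b ∧ zeta (Pi.single none 8) a ≠ 0 ∧ zeta (Pi.single none 8) b ≠ 0 := by
    decide +kernel
  obtain ⟨a, b, hab, ha, hb⟩ := key
  rw [he'] at ha hb
  simp only [Pi.single_apply, ne_eq, ite_eq_right_iff, Classical.not_imp] at ha hb
  exact hab (ha.1.trans hb.1.symm)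

/-- The image of the extra automorphism. -/
noncomputable def z : Spor.Co1 := prj zetaAut

theorem z_sq : z * z = 1 := by rw [z, ← map_mul, zeta_invol, map_one]

theorem z_inv : z⁻¹ = z := inv_eq_of_mul_eq_one_right z_sq

theorem z_not_mem : z ∉ NI := fun h => zetaAut_not_keeps (by
  obtain ⟨g, hg, he⟩ := h
  rcases prj_eq.mp he with e | e
  · exact e ▸ hg
  · exact e ▸ mul_mem hg (center_le_cross negAut_central))

end CfsgLeech.Out1
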