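/-
Normal elementary abelian subgroups of the Sylow subgroup fix few words.
-/
import Cfsg.Agent.Lib.Leech.OutCo1Data

set_option autoImplicit false
set_option linter.unusedSectionVars false

namespace CfsgLeech.Out1

open Cfsg CfsgGolay

attribute [local irreducible] codeL octadL dodecadL slpCodes pcomp codeP pack papp sylowM24 spanC rootL rootC pmaskF

local notation "P24" => Equiv.Perm GolayPt

theorem eqF_iff {f g : ℕ → ℕ} : eqF f g = true ↔ ∀ i < 24, f i = g i := by
  simp only [eqF, List.all_eq_true, List.mem_range, Nat.beq_eq]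

theorem pappF_codeP (g : P24) {i : ℕ} (hi : i < 24) : pappF (codeP g) i = idx (g (pt i)) := by
  rw [pappF_eq, papp_codeP g hi]

theorem pappF_repr {c : ℕ} {g : P24} (hg : Repr c g) {i : ℕ} (hi : i < 24) : pappF c i = idx (g (pt i)) := by
  rw [pappF_eq, hg, idx_pt hi]

theorem comp_eq {c d : ℕ} {g h : P24} (hg : Repr c g) (hh : Repr d h) {i : ℕ} (hi : i < 24) :
    pappF c (pappF d i) = idx ((g * h) (pt i)) := by
  rw [pappF_repr hh hi, pappF_repr hg (idx_lt _), pt_idx, Equiv.Perm.mul_apply]

theorem commF_iff {c d : ℕ} {g h : P24} (hg : Repr c g) (hh : Repr d h) : commF c d = true ↔ g * h = h * g := by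
  rw [commF, eqF_iff]
  constructor
  · intro e
    refine Equiv.ext fun p => idx_injective ?_
    have := e (idx p) (idx_lt p)
    rwa [comp_eq hg hh (idx_lt p), comp_eq hh hg (idx_lt p), pt_idx] at this
  · intro e i hi
    rw [comp_eq hg hh hi, comp_eq hh hg hi, e]

theorem fixC_repr {c : ℕ} {g : P24} (hg : Repr c g) (m : ℕ) : fixC c m = fixC (codeP g) m := by
  rw [fixC, fixC, pmaskF_eq, pmaskF_eq,
    eq_of_toSet_eq (hg.pmask_lt m) ((repr_codeP g).pmask_lt m) (by rw [hg.toSet_pmask, (repr_codeP g).toSet_pmask])]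

variable {A : Subgroup P24} (hAT : A ≤ spanH SylQuot.gT) (hAn : ∀ t ∈ spanH SylQuot.gT, ∀ a ∈ A, t * a * t⁻¹ ∈ A)
  (hAc : ∀ a ∈ A, ∀ b ∈ A, a * b = b * a) (hAs : ∀ a ∈ A, a * a = 1)
  {W : Finset ℕ} (hW : ∀ a ∈ A, ∀ m ∈ W, fixC (codeP a) m = true)

theorem card_le {H : Subgroup P24} {sp L : List ℕ} (hcov : ∀ a ∈ A, (a ∈ H ∧ codeP a ∈ sp) ∨ codeP a ∈ L) :
    Nat.card ↥A ≤ sp.length + L.length := by
  classical
  refine le_trans (Nat.card_le_card_of_injective
    (fun a : ↥A => (⟨codeP (a : P24), List.mem_toFinset.mpr (List.mem_append.mpr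
      ((hcov _ a.2).imp (fun h => h.2) id))⟩ : ↥(sp ++ L).toFinset))
    fun a b e => Subtype.ext (codeP_injective (congrArg Subtype.val e))) ?_
  rw [Nat.card_eq_fintype_card, Fintype.card_coe, ← List.length_append]
  exact List.toFinset_card_le _

include hAT hAn in
theorem exists_central {H : Subgroup P24} (hle : H ≤ A) (hn : ∀ t ∈ spanH SylQuot.gT, ∀ h ∈ H, t * h * t⁻¹ ∈ H)
    (hne : ¬ A ≤ H) (hp : IsPGroup 2 ↥(spanH SylQuot.gT)) :
    ∃ a ∈ A, a ∉ H ∧ ∀ t ∈ spanH SylQuot.gT, a⁻¹ * t * a * t⁻¹ ∈ H := by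
  haveI : Fact (Nat.Prime 2) := ⟨Nat.prime_two⟩
  haveI : (H.subgroupOf (spanH SylQuot.gT)).Normal := ⟨fun h hh t => hn t t.2 h hh⟩
  haveI : (A.subgroupOf (spanH SylQuot.gT)).Normal := ⟨fun h hh t => hAn t t.2 h hh⟩
  set π := QuotientGroup.mk' (H.subgroupOf (spanH SylQuot.gT))
  set B := (A.subgroupOf (spanH SylQuot.gT)).map π
  haveI hBn : B.Normal := Subgroup.Normal.map inferInstance π (QuotientGroup.mk'_surjective _)
  have hBne : B ≠ ⊥ := fun hb => hne fun a ha => by
    have : π ⟨a, hAT ha⟩ ∈ B := ⟨⟨a, hAT ha⟩, ha, rfl⟩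
    rw [hb, Subgroup.mem_bot] at this
    exact (QuotientGroup.eq_one_iff (N := H.subgroupOf (spanH SylQuot.gT)) ⟨a, hAT ha⟩).mp this
  haveI := (hp.to_quotient (H.subgroupOf (spanH SylQuot.gT))).isNilpotent
  obtain ⟨y, ⟨⟨x, hx, rfl⟩, hyc⟩, hy1⟩ := (Subgroup.bot_or_exists_ne_one _).resolve_left
    (CfsgLib.inf_center_ne_bot_of_nilpotent hBne)
  refine ⟨x, hx, fun h => hy1 ((QuotientGroup.eq_one_iff _).mpr h), fun t ht => ?_⟩
  have h := Subgroup.mem_center_iff.mp hyc (π ⟨t, ht⟩)
  have h2 : π (x⁻¹ * ⟨t, ht⟩ * x * (⟨t, ht⟩ : ↥(spanH SylQuot.gT))⁻¹) = 1 := by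
    simp only [map_mul, map_inv]
    rw [mul_assoc (π x)⁻¹, h]
    group
  exact (QuotientGroup.eq_one_iff (N := H.subgroupOf (spanH SylQuot.gT)) _).mp h2

/-- Adjoin an involution commuting with a subgroup. -/
def adjoin (H : Subgroup P24) (x : P24) (hx : x * x = 1) (hc : ∀ h ∈ H, x * h = h * x) : Subgroup P24 where
  carrier := {y | y ∈ H ∨ x * y ∈ H}
  one_mem' := Or.inl (one_mem _)
  mul_mem' := fun {a b} ha hb => by
    rcases ha with ha | ha <;> rcases hb with hb | hb
    · exact Or.inl (mul_mem ha hb)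
    · exact Or.inr (by rw [← mul_assoc, hc a ha, mul_assoc]; exact mul_mem ha hb)
    · exact Or.inr (by rw [← mul_assoc]; exact mul_mem ha hb)
    · have hca : x * (x * a) = a := by rw [← mul_assoc, hx, one_mul]
      have hcb : x * (x * b) = b := by rw [← mul_assoc, hx, one_mul]
      have : a * b = (x * a) * (x * b) := by
        conv_lhs => rw [← hca, ← hcb, hc _ ha]
        rw [mul_assoc (x * a) x, ← mul_assoc x x, hx, one_mul]
      exact Or.inl (this ▸ mul_mem ha hb)
  inv_mem' := fun {a} ha => by
    rcases ha with ha | ha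
    · exact Or.inl (inv_mem ha)
    · refine Or.inr ?_
      have hca : x * (x * a) = a := by rw [← mul_assoc, hx, one_mul]
      have hxi : x⁻¹ = x := inv_eq_of_mul_eq_one_right hx
      have : x * a⁻¹ = (x * a)⁻¹ := by
        conv_lhs => rw [← hca]
        rw [mul_inv_rev, hxi, ← mul_assoc, hc _ (inv_mem ha), mul_assoc, hx, mul_one]
      rw [this]; exact inv_mem ha

include hAT hAn hAc hAs hW in
theorem dfs_sound (hp : IsPGroup 2 ↥(spanH SylQuot.gT)) (hok : ∀ c ∈ SylQuot.gT, ∃ g ∈ spanH SylQuot.gT, Repr c g) :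
    ∀ (f : ℕ) (C sp L : List ℕ) (H : Subgroup P24), H ≤ A → (∀ t ∈ spanH SylQuot.gT, ∀ h ∈ H, t * h * t⁻¹ ∈ H) →
      (∀ c, c ∈ sp ↔ ∃ h ∈ H, codeP h = c) → (∀ m ∈ W, m ∈ C) → (∀ a ∈ A, a ∈ H ∨ codeP a ∈ L) →
      dfs f C sp L = true → Nat.card ↥A * W.card < 4096 := by
  intro f
  induction f with
  | zero => intro C sp L H _ _ _ _ _ h; simp [dfs] at h
  | succ f ih =>
    intro C sp L H hle hn hsp hC hL h
    have hWC : W.card ≤ C.length :=
      le_trans (Finset.card_le_card fun m hm => List.mem_toFinset.mpr (hC m hm)) C.toFinset_card_le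
    simp only [dfs, Bool.or_eq_true, Bool.and_eq_true, Nat.blt_eq] at h
    rcases h with h | ⟨hsm, hbr⟩
    · refine lt_of_le_of_lt (le_trans (Nat.mul_le_mul
        (card_le (H := H) (sp := sp) (L := L) fun a ha => (hL a ha).imp (fun hh => ⟨hh, (hsp _).mpr ⟨a, hh, rfl⟩⟩) id)
        hWC) ?_) h
      rw [Nat.mul_comm]; exact le_rfl
    by_cases hAH : A ≤ H
    · refine lt_of_le_of_lt (le_trans (Nat.mul_le_mul (card_le (H := H) (sp := sp) (L := [])
        fun a ha => Or.inl ⟨hAH ha, (hsp _).mpr ⟨a, hAH ha, rfl⟩⟩) hWC) ?_) hsm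
      rw [List.length_nil, Nat.add_zero, Nat.mul_comm]; exact le_rfl
    obtain ⟨a₀, ha₀, ha₀H, ha₀c⟩ := exists_central hAT hAn hle hn hAH hp
    have hcand : codeP a₀ ∈ L.filter fun x => SylQuot.gT.all fun g => nrmF sp g x := by
      refine List.mem_filter.mpr ⟨(hL a₀ ha₀).resolve_left ha₀H, List.all_eq_true.mpr fun c hc => ?_⟩
      obtain ⟨g, hg, hgr⟩ := hok c hc
      refine List.any_eq_true.mpr ⟨_, (hsp _).mpr ⟨_, ha₀c g hg, rfl⟩, eqF_iff.mpr fun i hi => ?_⟩
      rw [comp_eq hgr (repr_codeP _) hi, comp_eq (repr_codeP _) hgr hi, pappF_repr (repr_codeP a₀) (idx_lt _),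
        pt_idx, ← Equiv.Perm.mul_apply]
      refine congrArg (fun p : P24 => idx (p (pt i))) ?_
      group
    have hsub : ∀ x ∈ L.filter fun x => SylQuot.gT.all fun g => nrmF sp g x, (SylQuot.gT.all fun g => nrmF sp g x) = true :=
      fun x hx => (List.mem_filter.mp hx).2
    generalize (L.filter fun x => SylQuot.gT.all fun g => nrmF sp g x) = cand at hbr hcand hsub
    clear hWC
    revert L cand hbr
    generalize 200 = k
    induction k with
    | zero => intro L hL cand hbr; simp [branch] at hbr
    | succ k ihk =>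
      intro L hL cand hbr hcand hsub
      cases cand with
      | nil => simp at hcand
      | cons x cand =>
        simp only [branch, Bool.and_eq_true] at hbr
        by_cases hx : ∃ a ∈ A, Repr x a
        · obtain ⟨a, ha, har⟩ := hx
          have hcomm : ∀ h ∈ H, a * h = h * a := fun h hh => hAc a ha h (hle hh)
          refine ih _ _ _ (adjoin H a (hAs a ha) hcomm) ?_ ?_ ?_ ?_ ?_ hbr.1
          · rintro y (hy | hy)
            · exact hle hy
            · have := mul_mem ha (hle hy)
              rwa [← mul_assoc, hAs a ha, one_mul] at this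
          · have hgen : ∀ t ∈ {g : P24 | ∃ c ∈ SylQuot.gT, Repr c g}, ∀ y ∈ adjoin H a (hAs a ha) hcomm,
                t * y * t⁻¹ ∈ adjoin H a (hAs a ha) hcomm := by
              rintro t ⟨c, hc, htr⟩ y hy
              have ht : t ∈ spanH SylQuot.gT := mem_spanH hc htr
              rcases hy with hy | hy
              · exact Or.inl (hn t ht y hy)
              · refine Or.inr ?_
                obtain ⟨e, he, hee⟩ := List.any_eq_true.mp (List.all_eq_true.mp (hsub x (List.mem_cons_self ..)) c hc)
                obtain ⟨h, hh, rfl⟩ := (hsp e).mp he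
                have heq : t * a = a * (h * t) := Equiv.ext fun p => idx_injective (by
                  have h1 := eqF_iff.mp hee (idx p) (idx_lt p)
                  rw [comp_eq htr har (idx_lt p), comp_eq (repr_codeP h) htr (idx_lt p), pappF_repr har (idx_lt _),
                    pt_idx, pt_idx] at h1
                  exact h1)
                have h2 : a * (t * y * t⁻¹) = h⁻¹ * (t * (a * y) * t⁻¹) := by
                  have : t * (a * y) * t⁻¹ = a * h * (t * y * t⁻¹) := by
                    rw [← mul_assoc t a y, heq]; group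
                  rw [this, hcomm h hh]; group
                rw [h2]
                exact mul_mem (inv_mem hh) (hn t ht _ hy)
            intro t ht
            refine Subgroup.closure_induction (p := fun t _ => ∀ y ∈ adjoin H a (hAs a ha) hcomm,
              t * y * t⁻¹ ∈ adjoin H a (hAs a ha) hcomm) hgen (fun y hy => by simpa using hy)
              (fun u v _ _ hu hv y hy => ?_) (fun u _ hu y hy => ?_) ht
            · have := hu _ (hv y hy)
              simpa [mul_assoc] using this
            · let F : ↥(adjoin H a (hAs a ha) hcomm) → ↥(adjoin H a (hAs a ha) hcomm) :=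
                fun w => ⟨u * w * u⁻¹, hu w w.2⟩
              have hinj : Function.Injective F := fun p q e => Subtype.ext (by
                have e' : u * (p : P24) * u⁻¹ = u * (q : P24) * u⁻¹ := congrArg Subtype.val e
                simpa using e')
              have hbij : Function.Surjective F := Finite.injective_iff_surjective.mp hinj
              obtain ⟨w, hw⟩ := hbij ⟨y, hy⟩
              have hw' : u * (w : P24) * u⁻¹ = y := congrArg Subtype.val hw
              rw [← hw']
              simpa [mul_assoc] using w.2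
          · intro c
            simp only [List.mem_append, List.mem_map]
            constructor
            · rintro (hc | ⟨d, hd, rfl⟩)
              · obtain ⟨h, hh, he⟩ := (hsp c).mp hc
                exact ⟨h, Or.inl hh, he⟩
              · obtain ⟨h, hh, rfl⟩ := (hsp d).mp hd
                exact ⟨a * h, Or.inr (by rw [← mul_assoc, hAs a ha, one_mul]; exact hh),
                  (pcomp_eq_codeP har (repr_codeP h)).symm⟩
            · rintro ⟨y, hy | hy, rfl⟩
              · exact Or.inl ((hsp _).mpr ⟨y, hy, rfl⟩)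
              · refine Or.inr ⟨_, (hsp _).mpr ⟨a * y, hy, rfl⟩, ?_⟩
                rw [pcomp_eq_codeP har (repr_codeP _), ← mul_assoc, hAs a ha, one_mul]
          · intro m hm
            exact List.mem_filter.mpr ⟨hC m hm, (fixC_repr har m).trans (hW a ha m hm)⟩
          · intro b hb
            rcases hL b hb with hbH | hbL
            · exact Or.inl (Or.inl hbH)
            · by_cases hm : a * b ∈ H
              · exact Or.inl (Or.inr hm)
              · refine Or.inr (List.mem_filter.mpr ⟨hbL, ?_⟩)
                rw [Bool.and_eq_true, Bool.not_eq_true', ← Bool.not_eq_true]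
                refine ⟨(commF_iff har (repr_codeP b)).mpr (hAc a ha b hb), fun hcos => hm ?_⟩
                obtain ⟨e, he, hee⟩ := List.any_eq_true.mp hcos
                obtain ⟨h, hh, rfl⟩ := (hsp e).mp he
                have : b = a * h := Equiv.ext fun p => idx_injective (by
                  have h1 := eqF_iff.mp hee (idx p) (idx_lt p)
                  rwa [pappF_repr (repr_codeP b) (idx_lt p), comp_eq har (repr_codeP h) (idx_lt p), pt_idx] at h1)
                rw [this, ← mul_assoc, hAs a ha, one_mul]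
                exact hh
        · have hkeep : ∀ b ∈ A, ¬ cosF x sp (codeP b) = true := by
            intro b hb hcos
            obtain ⟨e, he, hee⟩ := List.any_eq_true.mp hcos
            obtain ⟨h, hh, rfl⟩ := (hsp e).mp he
            refine hx ⟨b * h⁻¹, mul_mem hb (inv_mem (hle hh)), fun q => ?_⟩
            have h1 := eqF_iff.mp hee (idx (h⁻¹ q)) (idx_lt _)
            rw [pappF_repr (repr_codeP b) (idx_lt _), pappF_repr (repr_codeP h) (idx_lt _), pt_idx,
              ← Equiv.Perm.mul_apply h, mul_inv_cancel, Equiv.Perm.one_apply, pappF_eq] at h1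
            exact h1
          refine ihk _ (fun b hb => (hL b hb).imp id fun hb' => List.mem_filter.mpr ⟨hb', ?_⟩) _ hbr.2
            (List.mem_filter.mpr ⟨?_, ?_⟩) fun y hy => hsub y (List.mem_cons_of_mem _ (List.mem_of_mem_filter hy))
          · simpa using hkeep b hb
          · rcases List.mem_cons.mp hcand with e | e
            · exact absurd ⟨a₀, ha₀, e ▸ repr_codeP a₀⟩ hx
            · exact e
          · simpa using hkeep a₀ ha₀

end CfsgLeech.Out1
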