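/-
Every automorphism of the first Conway group moves the sign changes to a conjugate.
-/
import Cfsg.Agent.Lib.Leech.OutCo1Lift
import Cfsg.Agent.Lib.Leech.OutCo1Search

set_option autoImplicit false
set_option maxHeartbeats 800000

namespace CfsgLeech.Out1

open Cfsg CfsgGolay CfsgLeech.OctInv
open scoped Pointwise

attribute [local irreducible] codeL octadL dodecadL slpCodes pcomp codeP pack papp sylowM24 spanC rootL rootC pmaskF

local notation "P24" => Equiv.Perm GolayPt
local notation "T" => spanH SylQuot.gT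

theorem mask_mem {c : Finset GolayPt} (hc : c ∈ CW) : toMask c ∈ codeL := by
  obtain ⟨w, hw, rfl⟩ := hc
  exact toMask_support_mem hw

theorem isTriv_iff {x : ℕ} (hx : x < 2 ^ 24) : isTriv x = true ↔ toSet x = ∅ ∨ toSet x = Finset.univ := by
  have hu : toSet full = Finset.univ := by decide +kernel
  simp only [isTriv, Bool.or_eq_true, Nat.beq_eq]
  constructor
  · rintro (rfl | rfl)
    · exact Or.inl toSet_zero_empty
    · exact Or.inr hu
  · rintro (h | h)
    · exact Or.inl (eq_of_toSet_eq hx (by norm_num) (h.trans toSet_zero_empty.symm))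
    · exact Or.inr (eq_of_toSet_eq hx (by norm_num [full]) (h.trans hu.symm))

theorem fixC_iff {c : ℕ} {g : P24} (hg : Repr c g) {m : ℕ} (hm : m < 2 ^ 24) :
    fixC c m = true ↔ g • toSet m = toSet m ∨ g • toSet m = (toSet m)ᶜ := by
  have hi : toSet (pmaskF c m) = g • toSet m := by
    rw [pmaskF_eq, hg.toSet_pmask, Finset.smul_finset_def]
    rfl
  rw [fixC, show Nat.xor (pmaskF c m) m = pmaskF c m ^^^ m from rfl, isTriv_iff (Nat.xor_lt_two_pow (pmaskF_eq c m ▸ hg.pmask_lt m) hm),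
    toSet_xor, hi]
  refine or_congr ?_ ?_
  · rw [← Finset.bot_eq_empty, symmDiff_eq_bot]
  · rw [← Finset.top_eq_univ, symmDiff_eq_top, ← eq_compl_iff_isCompl]

theorem fixC_word {σ : ↥M24} {c : Finset GolayPt} (h : σ.1 • c = c ∨ σ.1 • c = cᶜ) :
    fixC (codeP σ.1) (toMask c) = true := by
  rw [fixC_iff (repr_codeP _) (toMask_lt _), toSet_toMask]; exact h

theorem spanH_le : T ≤ M24 := (SylData.spanH_le_amb SylQuot.basic_ok).trans SylQuot.amb_eq.ge

theorem card_T : Nat.card ↥T = 1024 := (SylData.card_U SylQuot.basic_ok).trans SylQuot.len_ok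

theorem T_pgroup : IsPGroup 2 ↥T := IsPGroup.of_card (n := 10) (by rw [card_T]; norm_num)

theorem T_gens : ∀ c ∈ SylQuot.gT, ∃ g ∈ T, Repr c g := fun c hc => by
  obtain ⟨g, hg⟩ := exists_repr_of_permOK (SylData.permOK_gens SylQuot.basic_ok c hc)
  exact ⟨g, mem_spanH hc hg, hg⟩

theorem code_mem {g : P24} (hg : g ∈ T) : codeP g ∈ spanC SylQuot.gT :=
  spanC_complete (SylData.permOK_gens SylQuot.basic_ok) (SylData.pc_gens SylQuot.basic_ok) g hg

theorem central_code {a : P24} (ha : a ∈ T) (hne : a ≠ 1) (hc : ∀ t ∈ T, a * t = t * a) :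
    codeP a = SylQuot.zc := by
  have hC : sylowM24.checkCen = true := SylQuot.cen_ok
  simp only [SylData.checkCen, List.all_eq_true, Bool.or_eq_true, Bool.not_eq_true', Nat.beq_eq] at hC
  rcases hC _ (code_mem ha) with h | h | h
  · rw [List.all_eq_false] at h
    obtain ⟨d, hd, hne'⟩ := h
    obtain ⟨g, hg, hgr⟩ := T_gens d hd
    exact absurd (by rw [pcomp_eq_codeP (repr_codeP a) hgr, pcomp_eq_codeP hgr (repr_codeP a), hc g hg];
                     exact Nat.beq_refl _) hne'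
  · exact absurd (codeP_injective (h.trans pid_eq_codeP)) hne
  · exact h

/-- A nontrivial normal elementary abelian subgroup of the Sylow subgroup fixes few words. -/
theorem few_fixed {A : Subgroup P24} (hAT : A ≤ T) (hAn : ∀ t ∈ T, ∀ a ∈ A, t * a * t⁻¹ ∈ A)
    (hAc : ∀ a ∈ A, ∀ b ∈ A, a * b = b * a) (hAs : ∀ a ∈ A, a * a = 1) (hne : A ≠ ⊥)
    {W : Finset ℕ} (hWc : ∀ m ∈ W, m ∈ codeL) (hW : ∀ a ∈ A, ∀ m ∈ W, fixC (codeP a) m = true) :
    Nat.card ↥A * W.card < 4096 := by
  obtain ⟨a, ha, ha1, hac⟩ := exists_central hAT hAn (bot_le (a := A))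
    (fun t _ h hh => by rw [Subgroup.mem_bot] at hh ⊢; rw [hh]; group) (fun h => hne (le_bot_iff.mp h)) T_pgroup
  rw [Subgroup.mem_bot] at ha1
  have hcomm : ∀ t ∈ T, a * t = t * a := fun t ht => by
    have h := Subgroup.mem_bot.mp (hac t ht)
    rw [mul_inv_eq_one, mul_assoc, inv_mul_eq_iff_eq_mul] at h
    exact h.symm
  have hcode := central_code (hAT ha) ha1 hcomm
  refine dfs_sound hAT hAn hAc hAs hW T_pgroup T_gens 8 rootC [pid, SylQuot.zc] rootL
    (adjoin ⊥ a (hAs a ha) fun h hh => by rw [Subgroup.mem_bot.mp hh, one_mul, mul_one]) ?_ ?_ ?_ ?_ ?_ root_ok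
  · rintro y (hy | hy)
    · exact bot_le (a := A) hy
    · rw [Subgroup.mem_bot, mul_eq_one_iff_eq_inv'] at hy
      exact hy ▸ inv_mem ha
  · rintro t ht y (hy | hy)
    · left; rw [Subgroup.mem_bot] at hy ⊢; rw [hy]; group
    · right
      rw [Subgroup.mem_bot] at hy ⊢
      rw [show a * (t * y * t⁻¹) = t * (a * y) * t⁻¹ by rw [← mul_assoc, ← mul_assoc, hcomm t ht]; group, hy]
      group
  · intro c
    simp only [List.mem_cons, List.not_mem_nil, or_false]
    constructor
    · rintro (rfl | rfl)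
      · exact ⟨1, one_mem _, pid_eq_codeP.symm⟩
      · exact ⟨a, Or.inr (Subgroup.mem_bot.mpr (hAs a ha)), hcode⟩
    · rintro ⟨y, hy | hy, rfl⟩
      · rw [Subgroup.mem_bot.mp hy]; exact Or.inl pid_eq_codeP.symm
      · right
        rw [← hcode, mul_left_cancel ((Subgroup.mem_bot.mp hy).trans (hAs a ha).symm)]
  · intro m hm
    rw [rootC]
    exact List.mem_filter.mpr ⟨hWc m hm, hcode ▸ hW a ha m hm⟩
  · intro b hb
    have h := List.all_eq_true.mp rootL_ok _ (code_mem (hAT hb))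
    simp only [Bool.or_eq_true, Bool.not_eq_true', Bool.and_eq_false_iff] at h
    rcases h with (h | h) | h | h
    · exfalso
      have : eqF (fun i => pappF (codeP b) (pappF (codeP b) i)) (fun i => i) = true := eqF_iff.mpr fun i hi => by
        rw [comp_eq (repr_codeP b) (repr_codeP b) hi, hAs b hb, Equiv.Perm.one_apply, idx_pt hi]
      rw [this] at h
      exact Bool.noConfusion h
    · exfalso
      have : commF SylQuot.zc (codeP b) = true :=
        hcode ▸ (commF_iff (repr_codeP a) (repr_codeP b)).mpr (hAc a ha b hb)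
      rw [this] at h
      exact Bool.noConfusion h
    · left
      have h' := of_memB h
      simp only [List.mem_cons, List.not_mem_nil, or_false] at h'
      rcases h' with h' | h'
      · exact Or.inl (Subgroup.mem_bot.mpr (codeP_injective (h'.trans pid_eq_codeP)))
      · exact Or.inr (Subgroup.mem_bot.mpr (by rw [codeP_injective (h'.trans hcode.symm), hAs a ha]))
    · exact Or.inr (of_memB h)

/-- A Sylow subgroup inside the monomial group. -/
noncomputable def P0 : Subgroup Spor.Co1 := (((spanH SylQuot.gT).subgroupOf M24).comap perm).map NI.subtype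

theorem mem_P0 {x : Spor.Co1} : x ∈ P0 ↔ ∃ h : x ∈ NI, (perm ⟨x, h⟩ : P24) ∈ T := by
  constructor
  · rintro ⟨y, hy, rfl⟩; exact ⟨y.2, hy⟩
  · rintro ⟨h, hx⟩; exact ⟨⟨x, h⟩, hx, rfl⟩

theorem P0_card : Nat.card ↥P0 = 2 ^ 21 := by
  haveI := co1_finite
  rw [P0, Subgroup.card_subtype]
  have h1 := Subgroup.card_mul_index (((spanH SylQuot.gT).subgroupOf M24).comap perm)
  have h2 := Subgroup.card_mul_index ((spanH SylQuot.gT).subgroupOf M24)
  rw [Subgroup.index_comap_of_surjective _ perm_surjective, NI_card] at h1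
  rw [Nat.card_congr (Subgroup.subgroupOfEquivOfLe spanH_le).toEquiv, card_T, card_M24] at h2
  have hi : ((spanH SylQuot.gT).subgroupOf M24).index = 239085 := by omega
  rw [hi] at h1
  exact Nat.eq_of_mul_eq_mul_right (show 0 < 239085 by norm_num) (h1.trans (by norm_num))

theorem co1_fac : (Nat.card Spor.Co1).factorization 2 = 21 := by
  rw [show Nat.card Spor.Co1 = 4157776806543360000 from co1_card,
    show (4157776806543360000 : ℕ) = 2 ^ 21 * 1982582476875 from by norm_num,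
    Nat.factorization_mul (by norm_num) (by norm_num), Finsupp.add_apply,
    Nat.factorization_eq_zero_of_not_dvd (by norm_num : ¬ 2 ∣ 1982582476875), add_zero, Nat.factorization_pow,
    Finsupp.smul_apply, Nat.Prime.factorization_self Nat.prime_two, smul_eq_mul, mul_one]

theorem sign_le_P0 : signImg ≤ P0 := fun x hx =>
  mem_P0.mpr ⟨sign_le hx, by rw [(perm_one_iff (x := ⟨x, sign_le hx⟩)).mpr hx]; exact one_mem _⟩

theorem P0_le : P0 ≤ NI := fun _ hx => (mem_P0.mp hx).1

/-- Every automorphism differs by an inner one from a stabiliser of the sign changes. -/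
theorem exists_conj_fix (α : MulAut Spor.Co1) :
    ∃ g, ∀ x ∈ signImg, g * α x * g⁻¹ ∈ signImg := by
  classical
  haveI := co1_finite
  haveI : Fact (Nat.Prime 2) := ⟨Nat.prime_two⟩
  let Ps : Sylow 2 Spor.Co1 := Sylow.ofCard P0 (by rw [co1_fac, P0_card])
  let Q : Sylow 2 Spor.Co1 := Sylow.ofCard (P0.map α.toMonoidHom) (by
    rw [co1_fac, Subgroup.card_map_of_injective α.injective, P0_card])
  obtain ⟨g, hg⟩ := MulAction.exists_smul_eq Spor.Co1 Q Ps
  let β : MulAut Spor.Co1 := MulAut.conj g * α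
  have hβ : ∀ x, β x = g * α x * g⁻¹ := fun x => rfl
  refine ⟨g, ?_⟩
  simp only [← hβ]
  have hβP : P0.map β.toMonoidHom = P0 := by
    have h : ((g • Q : Sylow 2 Spor.Co1) : Subgroup Spor.Co1) = P0 := by rw [hg]; rfl
    rw [Sylow.coe_subgroup_smul] at h
    refine Subgroup.eq_of_le_of_card_ge ?_ (by rw [Subgroup.card_map_of_injective β.injective])
    rintro _ ⟨x, hx, rfl⟩
    rw [← h]
    exact ⟨α x, ⟨x, hx, rfl⟩, rfl⟩
  set A := signImg.map β.toMonoidHom with hA
  suffices A ≤ signImg from fun x hx => this ⟨x, hx, rfl⟩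
  have hAP : A ≤ P0 := hβP ▸ Subgroup.map_mono sign_le_P0
  have hAn : ∀ t ∈ P0, ∀ a ∈ A, t * a * t⁻¹ ∈ A := by
    intro t ht a ha
    rw [← hβP] at ht
    obtain ⟨t, ht, rfl⟩ := ht
    obtain ⟨a, ha, rfl⟩ := ha
    exact ⟨t * a * t⁻¹, signImg_normal (NI_eq ▸ P0_le ht) ha, by simp⟩
  have hAc : ∀ a ∈ A, ∀ b ∈ A, a * b = b * a := by
    rintro _ ⟨a, ha, rfl⟩ _ ⟨b, hb, rfl⟩
    obtain ⟨c, hc, rfl⟩ := mem_signImg.mp ha
    obtain ⟨d, hd, rfl⟩ := mem_signImg.mp hb
    rw [← map_mul, ← map_mul, el_sgn_mul, el_sgn_mul, el_congr rfl (symmDiff_comm c d)]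
  have hAs : ∀ a ∈ A, a * a = 1 := by
    rintro _ ⟨a, ha, rfl⟩
    obtain ⟨c, hc, rfl⟩ := mem_signImg.mp ha
    rw [← map_mul, el_sgn_mul, el_one_iff.mpr (Or.inl (symmDiff_self c)), map_one]
  have hAcard : Nat.card ↥A = 2048 := by
    rw [hA, Subgroup.card_map_of_injective β.injective, signImg_card]; norm_num
  let ψ : ↥A →* P24 := M24.subtype.comp (perm.comp (Subgroup.inclusion (hAP.trans P0_le)))
  have hψ : ∀ a : ↥A, ∃ c, ∃ hc : c ∈ CW, ∃ σ : ↥M24, (a : Spor.Co1) = el σ c hc ∧ σ.1 = ψ a := fun a => by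
    obtain ⟨c, hc, he⟩ := perm_spec ⟨a, P0_le (hAP a.2)⟩
    exact ⟨c, hc, _, he, rfl⟩
  by_cases hbot : ψ.range = ⊥
  · intro a ha
    have h : ψ ⟨a, ha⟩ ∈ ψ.range := ⟨_, rfl⟩
    rw [hbot, Subgroup.mem_bot] at h
    obtain ⟨c, hc, σ, he, hσ⟩ := hψ ⟨a, ha⟩
    exact mem_signImg.mpr ⟨c, hc, he.trans (el_congr (Subtype.ext (hσ.trans h)) rfl)⟩
  exfalso
  have hker : ∀ k : ↥ψ.ker, ∃ c, ∃ hc : c ∈ CW, ((k : ↥A) : Spor.Co1) = el 1 c hc := fun k => by
    obtain ⟨c, hc, σ, he, hσ⟩ := hψ k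
    exact ⟨c, hc, he.trans (el_congr (Subtype.ext (hσ.trans k.2)) rfl)⟩
  choose cw hcw hce using hker
  have hcompl : ∀ (k : ↥ψ.ker) (b : Bool), (if b then cw k else (cw k)ᶜ) ∈ CW := fun k b => by
    cases b
    · exact CW_compl (hcw k)
    · exact hcw k
  let w : ↥ψ.ker × Bool → ℕ := fun p => toMask (if p.2 then cw p.1 else (cw p.1)ᶜ)
  have hw : Function.Injective w := by
    rintro ⟨k, b⟩ ⟨k', b'⟩ e
    have e' := congrArg toSet e
    simp only [w, toSet_toMask] at e'
    have hk : k = k' := by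
      refine Subtype.ext (Subtype.ext ?_)
      rw [hce k, hce k']
      refine el_eq.mpr ⟨rfl, ?_⟩
      cases b <;> cases b' <;> simp at e' <;> simp [e']
    subst hk
    refine Prod.ext rfl ?_
    have hne : cw k ≠ (cw k)ᶜ := fun h => absurd ((Finset.ext_iff.mp h) none) (by simp)
    cases b <;> cases b' <;> first | rfl | exact absurd (by simpa using e') hne | exact absurd (by simpa using e'.symm) hne
  haveI : Fintype ↥ψ.ker := Fintype.ofFinite _
  let W : Finset ℕ := Finset.univ.image w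
  have hrange : ψ.range ≤ T := by
    rintro _ ⟨a, rfl⟩
    exact (mem_P0.mp (hAP a.2)).2
  have hlt := few_fixed (A := ψ.range) (W := W) hrange
    (fun t ht b hb => by
      obtain ⟨a, rfl⟩ := hb
      have hm := el_mem ⟨t, spanH_le ht⟩ CW_empty
      have htP : el ⟨t, spanH_le ht⟩ ∅ CW_empty ∈ P0 :=
        mem_P0.mpr ⟨hm, by rw [perm_el (x := ⟨_, hm⟩) rfl]; exact ht⟩
      refine ⟨⟨_, hAn _ htP a a.2⟩, ?_⟩
      show (perm (⟨_, hm⟩ * Subgroup.inclusion (hAP.trans P0_le) a * ⟨_, hm⟩⁻¹) : P24) = _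
      rw [map_mul, map_mul, map_inv, perm_el (x := ⟨_, hm⟩) rfl]
      rfl)
    (fun _ ⟨a, ha⟩ _ ⟨b, hb⟩ => by
      rw [← ha, ← hb, ← map_mul, ← map_mul]
      exact congrArg ψ (Subtype.ext (hAc a a.2 b b.2)))
    (fun _ ⟨a, ha⟩ => by
      rw [← ha, ← map_mul, show a * a = 1 from Subtype.ext (hAs a a.2), map_one])
    hbot
    (fun m hm => by
      obtain ⟨⟨k, b⟩, -, rfl⟩ := Finset.mem_image.mp hm
      exact mask_mem (hcompl k b))
    (fun _ ⟨a, ha⟩ m hm => by
      obtain ⟨⟨k, b⟩, -, rfl⟩ := Finset.mem_image.mp hm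
      obtain ⟨c, hc, σ, he, hσ⟩ := hψ a
      rw [← ha, ← hσ]
      refine fixC_word ?_
      have h := hAc a a.2 (k : ↥A) (k : ↥A).2
      rw [he, hce k, ← mul_inv_eq_iff_eq_mul, el_conj, el_eq] at h
      have h' : σ.1 • cw k = cw k ∨ σ.1 • cw k = (cw k)ᶜ := by
        rcases h.2 with e | e
        · exact Or.inl e.symm
        · exact Or.inr (compl_eq_comm.mp e.symm).symm
      cases b
      · simp only [if_false, Bool.false_eq_true]
        have hcs : σ.1 • (cw k)ᶜ = (σ.1 • cw k)ᶜ := by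
          ext i; simp [← mem_smul_symm]
        rw [hcs]
        rcases h' with e | e <;> rw [e] <;> simp
      · simpa using h')
  rw [Finset.card_image_of_injective _ hw, Finset.card_univ, Fintype.card_prod, Fintype.card_bool,
    ← Nat.card_eq_fintype_card, ← Subgroup.index_ker] at hlt
  have h := ψ.ker.card_mul_index
  rw [hAcard] at h
  rw [← mul_assoc, mul_comm ψ.ker.index, h] at hlt
  omega

end CfsgLeech.Out1
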