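/-
Every automorphism of the first Conway group is inner.
-/
import Cfsg.Agent.Lib.Leech.OutCo1Sylow
import Cfsg.Agent.Lib.Golay.Out24

set_option autoImplicit false
set_option maxHeartbeats 800000

namespace CfsgLeech.Out1

open Cfsg CfsgGolay CfsgLeech.OctInv
open scoped Pointwise

attribute [local irreducible] codeL octadL dodecadL slpCodes pcomp codeP pack papp sylowM24 spanC rootL rootC pmaskF

local notation "P24" => Equiv.Perm GolayPt

/-- Fixed up to complement by a permutation. -/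
def Fix (σ : P24) (c : Finset GolayPt) : Prop := σ • c = c ∨ σ • c = cᶜ

theorem smul_compl' (σ : P24) (c : Finset GolayPt) : σ • cᶜ = (σ • c)ᶜ := by ext i; simp [← mem_smul_symm]

theorem fix_of_el {σ : ↥M24} {c : Finset GolayPt} {hc : c ∈ CW}
    (h : el 1 (σ.1 • c) (smul_CW σ.2 hc) = el 1 c hc) : Fix σ.1 c := by
  rcases (el_eq.mp h).2 with e | e
  · exact Or.inl e.symm
  · exact Or.inr (compl_eq_comm.mp e.symm).symm

theorem smul_symmDiff' (σ : P24) (c d : Finset GolayPt) : σ • symmDiff c d = symmDiff (σ • c) (σ • d) := by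
  ext i; simp [← mem_smul_symm, Finset.mem_symmDiff]

theorem triv_of_mask {c : Finset GolayPt} (h : isTriv (toMask c) = true) : c = ∅ ∨ c = Finset.univ := by
  simpa using (isTriv_iff (toMask_lt c)).mp h

theorem fixC_of_fix {k : ℕ} {σ : P24} (hσ : Repr k σ) {c : Finset GolayPt} (h : Fix σ c) :
    fixC k (toMask c) = true := by
  rw [fixC_iff hσ (toMask_lt _), toSet_toMask]; exact h

theorem cycle_only {σ : P24} (hσ : Repr cT σ) {c : Finset GolayPt} (hc : c ∈ CW) (h : Fix σ c) :
    c = ∅ ∨ c = Finset.univ := by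
  have h1 := List.all_eq_true.mp cT_ok _ (mask_mem hc)
  rw [fixC_of_fix hσ h] at h1
  exact triv_of_mask (by simpa using h1)

/-- The permutation of order 23. -/
noncomputable abbrev gA : ↥M24 := ⟨permT, mem_M24_of_gensKept repr_T gensKept_all.1⟩

/-- Step one: the sign changes are fixed pointwise. -/
theorem exists_trivial_on_quot (β : MulAut Spor.Co1) (hV : ∀ x ∈ signImg, β x ∈ signImg) :
    ∃ g, ∀ σ : ↥M24, ∀ c, ∀ hc : c ∈ CW, ∃ d, ∃ hd : d ∈ CW, g * β (el σ c hc) * g⁻¹ = el σ d hd := by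
  classical
  haveI := co1_finite
  haveI : IsSimpleGroup Spor.Co1 := co1_simple
  have hVeq : signImg.map β.toMonoidHom = signImg :=
    Subgroup.eq_of_le_of_card_ge (by rintro _ ⟨x, hx, rfl⟩; exact hV x hx)
      (by rw [Subgroup.card_map_of_injective β.injective])
  have hnorm : ∀ {x : Spor.Co1}, x ∈ NI → x ∈ Subgroup.normalizer (signImg : Set Spor.Co1) := by
    intro x hx
    rw [Subgroup.mem_normalizer_iff]
    refine fun y => ⟨fun hy => signImg_normal (NI_eq ▸ hx) hy, fun hy => ?_⟩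
    have := signImg_normal (NI_eq ▸ inv_mem hx) hy
    simpa [mul_assoc] using this
  have hN : ∀ x ∈ NI, β x ∈ NI := by
    have hle : NI ≤ Subgroup.normalizer (signImg : Set Spor.Co1) := fun x hx => hnorm hx
    have hnt : Subgroup.normalizer (signImg : Set Spor.Co1) ≠ ⊤ := fun h => by
      have hn : signImg.Normal := Subgroup.normalizer_eq_top_iff.mp h
      rcases hn.eq_bot_or_eq_top with e | e
      · have := signImg_card; rw [e, Subgroup.card_bot] at this; norm_num at this
      · have := signImg_card; rw [e, Subgroup.card_top, show Nat.card Spor.Co1 = 4157776806543360000 from co1_card] at this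
        norm_num at this
    have heq : NI = Subgroup.normalizer (signImg : Set Spor.Co1) :=
      (NI_coatom.le_iff.mp hle).resolve_left hnt |>.symm
    intro x hx
    rw [heq, Subgroup.mem_normalizer_iff]
    intro y
    obtain ⟨y, rfl⟩ := β.surjective y
    have hy : ∀ w, w ∈ signImg ↔ β w ∈ signImg := fun w => ⟨hV w, fun h => by
      rw [← hVeq] at h
      obtain ⟨v, hv, he⟩ := h
      exact β.injective (he : β v = β w) ▸ hv⟩
    rw [← hy, ← map_inv, ← map_mul, ← map_mul, ← hy]
    exact Subgroup.mem_normalizer_iff.mp (hnorm hx) y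
  let θ : ↥M24 →* ↥M24 := perm.comp ((β.toMonoidHom.comp sec).codRestrict NI fun σ => hN _ (el_mem σ CW_empty))
  have hinj : Function.Injective θ := by
    rw [← MonoidHom.ker_eq_bot_iff, Subgroup.eq_bot_iff_forall]
    intro σ hσ
    have h1 : β (sec σ) ∈ signImg := perm_one_iff.mp hσ
    rw [← hVeq] at h1
    obtain ⟨v, hv, he⟩ := h1
    obtain ⟨c, hc, rfl⟩ := mem_signImg.mp hv
    exact (el_eq.mp (β.injective (he : β (el 1 c hc) = β (sec σ)))).1.symm
  obtain ⟨m, hm⟩ := Out24.aut_inner (MulEquiv.ofBijective θ ⟨hinj, Finite.injective_iff_surjective.mp hinj⟩)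
  have hθ : ∀ σ, m * σ * m⁻¹ = θ σ := fun σ => DFunLike.congr_fun hm σ
  refine ⟨sec m⁻¹, fun σ c hc => ?_⟩
  obtain ⟨u, hu, hue⟩ := perm_spec ⟨β (sec σ), hN _ (el_mem σ CW_empty)⟩
  have hue' : β (sec σ) = el (θ σ) u hu := hue
  obtain ⟨e, he, hee⟩ := mem_signImg.mp (hV _ (mem_signImg.mpr ⟨c, hc, rfl⟩))
  refine ⟨(m⁻¹).1 • symmDiff e u, smul_CW (m⁻¹).2 (CW_symmDiff he hu), ?_⟩
  rw [el_split σ hc, map_mul, hee, hue', el_mul, ← map_inv sec, inv_inv, sec_apply, sec_apply, el_mul, el_mul]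
  refine el_congr (by rw [one_mul, ← hθ σ]; group) ?_
  rw [← Finset.bot_eq_empty]
  simp

theorem octad_only {d : Finset GolayPt} (hd : d ∈ CW) (h : ∀ σ ∈ Gr gO, Fix σ d) :
    d = ∅ ∨ d = Finset.univ ∨ d = O0 ∨ d = O0ᶜ := by
  have hfix : ∀ c ∈ gO.map GenT.c, fixC c (toMask d) = true := by
    intro c hc
    obtain ⟨e, he, rfl⟩ := List.mem_map.mp hc
    obtain ⟨g, -, hg⟩ := exists_good gO_ok he
    exact fixC_of_fix hg.1 (h g (mem_Gr he hg))
  have h1 := List.all_eq_true.mp gO_words _ (mask_mem hd)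
  rw [List.all_eq_true.mpr hfix] at h1
  simp only [Bool.not_true, Bool.false_or, Bool.or_eq_true, Nat.beq_eq] at h1
  rcases h1 with h1 | h1 | h1
  · rcases triv_of_mask h1 with e | e
    · exact Or.inl e
    · exact Or.inr (Or.inl e)
  · exact Or.inr (Or.inr (Or.inl (by rw [← toSet_toMask d, h1]; rfl)))
  · refine Or.inr (Or.inr (Or.inr ?_))
    rw [← toSet_toMask d, h1]
    decide +kernel

/-- Step two: the sign changes are fixed. -/
theorem fix_signs (β : MulAut Spor.Co1)
    (hπ : ∀ σ : ↥M24, ∀ c, ∀ hc : c ∈ CW, ∃ d, ∃ hd : d ∈ CW, β (el σ c hc) = el σ d hd) :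
    ∀ c, ∀ hc : c ∈ CW, β (el 1 c hc) = el 1 c hc := by
  have hequiv : ∀ (σ : ↥M24) {c d : Finset GolayPt} (hc : c ∈ CW) (hd : d ∈ CW), β (el 1 c hc) = el 1 d hd →
      β (el 1 (σ.1 • c) (smul_CW σ.2 hc)) = el 1 (σ.1 • d) (smul_CW σ.2 hd) := by
    intro σ c d hc hd he
    obtain ⟨e, hee, hse⟩ := hπ σ ∅ CW_empty
    rw [← el_conj σ CW_empty hc, map_mul, map_mul, map_inv, he, hse, el_conj σ hee hd]
  have hO : β (el 1 O0 O0_CW) = el 1 O0 O0_CW := by
    obtain ⟨d, hd, he⟩ := hπ 1 O0 O0_CW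
    have hfix : ∀ σ ∈ Gr gO, Fix σ d := by
      intro σ hσ
      have hσM : σ ∈ M24 := Gr_le_M24 gO_ok hσ
      have h := hequiv ⟨σ, hσM⟩ O0_CW hd he
      rw [el_congr rfl (gO_fix hσ) (hd := O0_CW), he] at h
      exact fix_of_el h.symm
    rcases octad_only hd hfix with e | e | e | e
    · exfalso
      rw [el_one_iff.mpr (Or.inl e), ← map_one β, β.injective.eq_iff, el_one_iff] at he
      exact he.elim O0_ne.1 O0_ne.2
    · exfalso
      rw [el_one_iff.mpr (Or.inr e), ← map_one β, β.injective.eq_iff, el_one_iff] at he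
      exact he.elim O0_ne.1 O0_ne.2
    · rw [he]; exact el_congr rfl e
    · rw [he]; exact el_eq.mpr ⟨rfl, Or.inr (by rw [e, compl_compl])⟩
  suffices H : ∀ {c : Finset GolayPt}, c ∈ CW → ∀ hc : c ∈ CW, β (el 1 c hc) = el 1 c hc from fun c hc => H hc hc
  intro c hc
  refine code_induction (P := fun c => ∀ hc : c ∈ CW, β (el 1 c hc) = el 1 c hc) ?_ ?_ ?_ hc
  · intro _; rw [el_one_iff.mpr (Or.inl rfl), map_one]
  · intro o ho hoc
    obtain ⟨g, hg, rfl⟩ := exists_smul_O0 ho
    exact hequiv ⟨g, hg⟩ O0_CW O0_CW hO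
  · intro a ha b hb pa pb hab
    rw [← el_sgn_mul ha hb, map_mul, pa ha, pb hb]

theorem conj_sign_only {σ : ↥M24} {c : Finset GolayPt} {hc : c ∈ CW} {e : Finset GolayPt} {he : e ∈ CW}
    (h : el 1 c hc * el σ e he = el σ e he * el 1 c hc) : Fix σ.1 c := by
  rw [eq_comm, ← mul_inv_eq_iff_eq_mul, el_conj] at h
  exact fix_of_el h

theorem shift_sign (σ : ↥M24) {c : Finset GolayPt} (hc : c ∈ CW) :
    el σ ∅ CW_empty * el 1 c hc = el σ (σ.1 • c) (smul_CW σ.2 hc) :=
  (el_mul σ 1 CW_empty hc).trans (el_congr (mul_one σ) (by simp [← Finset.bot_eq_empty]))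

/-- Step three: after a sign change the monomial subgroup is fixed. -/
theorem exists_fix_NI (β : MulAut Spor.Co1)
    (hπ : ∀ σ : ↥M24, ∀ c, ∀ hc : c ∈ CW, ∃ d, ∃ hd : d ∈ CW, β (el σ c hc) = el σ d hd) :
    ∃ g, ∀ x ∈ NI, g * β x * g⁻¹ = x := by
  classical
  haveI := co1_finite
  have hs := fix_signs β hπ
  obtain ⟨e, he, hse⟩ := hπ gA ∅ CW_empty
  -- a sign change moving the image of the cycle back
  have hinj : Function.Injective fun v : ↥signImg =>
      (⟨(v : Spor.Co1) * (sec gA * v * (sec gA)⁻¹)⁻¹, mul_mem v.2 (inv_mem (signImg_normal (NI_eq ▸ el_mem gA CW_empty) v.2))⟩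
        : ↥signImg) := by
    intro v w h
    have h' := congrArg Subtype.val h
    obtain ⟨c, hc, hv⟩ := mem_signImg.mp v.2
    obtain ⟨d, hd, hw⟩ := mem_signImg.mp w.2
    dsimp only at h'
    rw [hv, hw, sec_apply, el_conj, el_conj, eq_comm, ← inv_mul_eq_iff_eq_mul] at h'
    refine Subtype.ext ?_
    have hself : ∀ {b : Finset GolayPt} (hb : b ∈ CW), (el 1 b hb)⁻¹ = el 1 b hb := fun hb =>
      inv_eq_of_mul_eq_one_right (by rw [el_sgn_mul]; exact el_one_iff.mpr (Or.inl (symmDiff_self _)))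
    simp only [hself, el_sgn_mul] at h'
    have hf : Fix permT (symmDiff d c) := by
      refine fix_of_el (σ := gA) (hc := CW_symmDiff hd hc) (el_eq.mpr ⟨rfl, ?_⟩)
      have h2 := (el_eq.mp h').2
      rw [smul_symmDiff']
      revert h2
      generalize permT • d = P
      generalize permT • c = Q
      rintro (h2 | h2)
      · left
        ext i
        have := Finset.ext_iff.mp h2 i
        simp only [Finset.mem_symmDiff, Finset.mem_compl] at this ⊢
        tauto
      · right
        ext i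
        have := Finset.ext_iff.mp h2 i
        simp only [Finset.mem_symmDiff, Finset.mem_compl] at this ⊢
        tauto
    rcases cycle_only repr_T (CW_symmDiff hd hc) hf with h3 | h3
    · rw [hv, hw]; exact el_congr rfl (symmDiff_eq_bot.mp h3).symm
    · rw [hv, hw]
      refine el_eq.mpr ⟨rfl, Or.inr ?_⟩
      rw [← Finset.top_eq_univ, symmDiff_eq_top, ← eq_compl_iff_isCompl] at h3
      exact h3
  obtain ⟨v, hv⟩ := Finite.injective_iff_surjective.mp hinj
    ⟨(el 1 e he)⁻¹, inv_mem (mem_signImg.mpr ⟨e, he, rfl⟩)⟩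
  have hv' : (v : Spor.Co1) * (sec gA * v * (sec gA)⁻¹)⁻¹ = (el 1 e he)⁻¹ := congrArg Subtype.val hv
  refine ⟨v, ?_⟩
  let δ : MulAut Spor.Co1 := MulAut.conj (v : Spor.Co1) * β
  obtain ⟨c0, hc0, hv0⟩ := mem_signImg.mp v.2
  have hδ : ∀ x, δ x = (v : Spor.Co1) * β x * (v : Spor.Co1)⁻¹ := fun _ => rfl
  simp only [← hδ]
  have hsignc : ∀ a ∈ signImg, ∀ b ∈ signImg, a * b = b * a := by
    intro a ha b hb
    obtain ⟨c, hc, rfl⟩ := mem_signImg.mp ha
    obtain ⟨d, hd, rfl⟩ := mem_signImg.mp hb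
    rw [el_sgn_mul, el_sgn_mul, el_congr rfl (symmDiff_comm c d)]
  have hds : ∀ x ∈ signImg, δ x = x := by
    intro x hx
    obtain ⟨c, hc, rfl⟩ := mem_signImg.mp hx
    rw [hδ, hs c hc, hsignc _ v.2 _ (mem_signImg.mpr ⟨c, hc, rfl⟩), mul_inv_cancel_right]
  have hdA : δ (sec gA) = sec gA := by
    have h1 : sec gA * (v : Spor.Co1) * (sec gA)⁻¹ = el 1 e he * v := by
      have := congrArg (fun w => (w⁻¹ * (v : Spor.Co1))) hv'
      simpa [mul_assoc] using this
    rw [hδ, show β (sec gA) = el 1 e he * sec gA from hse.trans (el_split gA he), ← mul_assoc,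
      hsignc _ v.2 _ (mem_signImg.mpr ⟨e, he, rfl⟩), ← h1]
    group
  have hdπ : ∀ σ : ↥M24, ∃ d, ∃ hd : d ∈ CW, δ (sec σ) = sec σ * el 1 d hd := by
    intro σ
    obtain ⟨u, hu, hσ⟩ := hπ σ ∅ CW_empty
    rw [el_split σ hu] at hσ
    have hnv : ∀ x ∈ signImg, (sec σ)⁻¹ * x * sec σ ∈ signImg := fun x hx => by
      have := signImg_normal (NI_eq ▸ inv_mem (el_mem σ CW_empty)) hx
      rwa [inv_inv] at this
    have hmem : (sec σ)⁻¹ * ((v : Spor.Co1) * el 1 u hu) * sec σ * (v : Spor.Co1)⁻¹ ∈ signImg :=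
      mul_mem (hnv _ (mul_mem v.2 (mem_signImg.mpr ⟨u, hu, rfl⟩))) (inv_mem v.2)
    obtain ⟨d, hd, hde⟩ := mem_signImg.mp hmem
    refine ⟨d, hd, ?_⟩
    rw [hδ, show β (sec σ) = el 1 u hu * sec σ from hσ, ← hde]
    group
  obtain ⟨hbB, hdB, hdN⟩ := Out24.bij_checked
  simp only [List.all_eq_true, List.mem_range, Bool.and_eq_true, Nat.blt_eq] at hbB
  obtain ⟨gb, hB⟩ := Out24.exists_perm (fun i hi => (hbB i hi).1) hdB
  obtain ⟨gn, hN⟩ := Out24.exists_perm (fun i hi => (hbB i hi).2) hdN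
  obtain ⟨hkB, hkN, -⟩ := Out24.gens_checked
  let B : ↥M24 := ⟨gb, mem_M24_of_gensKept hB hkB⟩
  let C : ↥M24 := ⟨gn, mem_M24_of_gensKept hN hkN⟩
  obtain ⟨hY, hBT, hNB⟩ := cY_ok
  simp only [Nat.beq_eq] at hY hBT hNB
  have hBA : B * gA = gA ^ 2 * B := Subtype.ext (by
    have h1 := hB.comp repr_T
    rw [hBT] at h1
    exact h1.unique ((repr_T.pow 2).comp hB))
  have hCB : C * B = B ^ 2 * C := Subtype.ext (by
    have h1 := hN.comp hB
    rw [hNB] at h1
    exact h1.unique ((hB.pow 2).comp hN))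
  have hdB' : δ (sec B) = sec B := by
    obtain ⟨d, hd, hde⟩ := hdπ B
    have h := congrArg δ (congrArg sec hBA)
    rw [map_mul, map_mul, map_mul, map_mul, map_pow, map_pow, hdA, hde] at h
    have h2 : sec B * (el 1 d hd * sec gA) = sec B * (sec gA * el 1 d hd) := by
      rw [← mul_assoc, h, ← mul_assoc, ← map_pow, ← map_mul, ← hBA, map_mul, mul_assoc]
    rcases cycle_only repr_T hd (conj_sign_only (σ := gA) (mul_left_cancel h2)) with e | e
    · rw [hde, el_one_iff.mpr (Or.inl e), mul_one]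
    · rw [hde, el_one_iff.mpr (Or.inr e), mul_one]
  have hdC : δ (sec C) = sec C := by
    obtain ⟨d, hd, hde⟩ := hdπ C
    have hB2 : Fix gb d := by
      have h := congrArg δ (congrArg sec hCB)
      rw [map_mul, map_mul, map_mul, map_mul, map_pow, map_pow, hdB', hde] at h
      have h2 : sec C * (el 1 d hd * sec B) = sec C * (sec B * el 1 d hd) := by
        rw [← mul_assoc, h, ← mul_assoc, ← map_pow, ← map_mul, ← hCB, map_mul, mul_assoc]
      exact conj_sign_only (σ := B) (mul_left_cancel h2)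
    set Y : ↥M24 := gA ^ 7 * C with hYdef
    have hYr : Repr cY Y.1 := (repr_T.pow 7).comp hN
    have hY4 : Y ^ 4 = 1 := Subtype.ext (by
      have h1 := hYr.pow 4
      rw [hY] at h1
      exact h1.unique repr_pid)
    have hdY : δ (sec Y) = el Y (Y.1 • d) (smul_CW Y.2 hd) := by
      rw [← shift_sign, ← sec_apply, hYdef, map_mul, map_mul, map_pow, map_pow, hdA, hde, mul_assoc]
    have h4 := congrArg δ (congrArg sec hY4)
    rw [map_pow, map_pow, map_one, map_one, hdY, pow_succ, pow_succ, pow_two, el_mul, el_mul, el_mul,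
      el_congr (show Y * Y * Y * Y = 1 by rw [← hY4, pow_succ, pow_succ, pow_two]) rfl
        (hd := CW_symmDiff (CW_symmDiff (CW_symmDiff (smul_CW Y.2 hd) (smul_CW Y.2 (smul_CW Y.2 hd)))
          (smul_CW (Y * Y).2 (smul_CW Y.2 hd))) (smul_CW (Y * Y * Y).2 (smul_CW Y.2 hd))), el_one_iff] at h4
    have hd4 : ∀ X : Finset GolayPt, Y.1 • Y.1 • Y.1 • Y.1 • X = X := fun X => by
      rw [← mul_smul, ← mul_smul, ← mul_smul,
        show Y.1 * Y.1 * Y.1 * Y.1 = 1 by
          have := congrArg Subtype.val hY4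
          simpa [pow_succ, mul_assoc] using this,
        one_smul]
    have h5 : isTriv (sum4 cY (toMask d)) = true := by
      have hp : ∀ m : ℕ, toSet (pmaskF cY m) = Y.1 • toSet m ∧ pmaskF cY m < 2 ^ 24 := fun m => by
        rw [pmaskF_eq]
        exact ⟨by rw [hYr.toSet_pmask, Finset.smul_finset_def]; rfl, hYr.pmask_lt m⟩
      unfold sum4
      show isTriv ((toMask d ^^^ pmaskF cY (toMask d)) ^^^ (pmaskF cY (pmaskF cY (toMask d)) ^^^
        pmaskF cY (pmaskF cY (pmaskF cY (toMask d))))) = true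
      rw [isTriv_iff (Nat.xor_lt_two_pow (Nat.xor_lt_two_pow (toMask_lt d) (hp _).2)
        (Nat.xor_lt_two_pow (hp _).2 (hp _).2))]
      rw [toSet_xor, toSet_xor, toSet_xor, (hp _).1, (hp _).1, (hp _).1, (hp _).1, (hp _).1, (hp _).1,
        toSet_toMask]
      simp only [Subgroup.coe_mul, mul_smul, hd4] at h4
      revert h4
      generalize Y.1 • d = a
      generalize Y.1 • a = b
      generalize Y.1 • b = c
      intro h4
      rwa [show symmDiff (symmDiff d a) (symmDiff b c) = symmDiff (symmDiff (symmDiff a b) c) d by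
        rw [symmDiff_comm (symmDiff (symmDiff a b) c) d, ← symmDiff_assoc d, ← symmDiff_assoc d, ← symmDiff_assoc]]
    have h6 := List.all_eq_true.mp cN_ok _ (mask_mem hd)
    rw [fixC_of_fix hB hB2, h5] at h6
    rcases triv_of_mask (by simpa using h6) with e | e
    · rw [hde, el_one_iff.mpr (Or.inl e), mul_one]
    · rw [hde, el_one_iff.mpr (Or.inr e), mul_one]
  have hgen : Subgroup.closure ({gA, C} : Set ↥M24) = ⊤ := by
    refine Subgroup.map_injective M24.subtype_injective ?_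
    rw [MonoidHom.map_closure, ← MonoidHom.range_eq_map, Subgroup.range_subtype, Set.image_pair]
    exact Out24.closure_eq hN
  intro x hx
  obtain ⟨σ, c, hc, rfl⟩ := mem_NI.mp hx
  have hσ : δ (sec σ) = sec σ := by
    have hle : Subgroup.closure ({gA, C} : Set ↥M24) ≤ (δ.toMonoidHom.comp sec).eqLocus sec := by
      rw [Subgroup.closure_le]
      rintro _ (rfl | rfl)
      · exact hdA
      · exact hdC
    exact hle (hgen ▸ Subgroup.mem_top σ)
  rw [el_split σ hc, map_mul, hσ, hds _ (mem_signImg.mpr ⟨c, hc, rfl⟩)]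

/-- An automorphism that maps every axis to plus or minus an axis keeps the cross. -/
theorem keeps_of_axes {g : ↥Co0} (h : ∀ i, ∃ j s, (s = 8 ∨ s = -8) ∧
    ((g • ax i : ↥leechLattice) : GolayPt → ℤ) = Pi.single j s) : g ∈ crossStab := by
  intro v hv
  obtain ⟨i, s, hs, hv⟩ := hv
  obtain ⟨j, t, ht, he⟩ := h i
  rcases hs with rfl | rfl
  · rw [show v = ax i from Subtype.ext hv]
    exact ⟨j, t, ht, he⟩
  · rw [show v = -ax i from Subtype.ext (by rw [AddSubgroup.coe_neg, ax_coe, hv, Pi.single_neg]), aut_neg]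
    refine ⟨j, -t, by rcases ht with rfl | rfl <;> simp, ?_⟩
    rw [AddSubgroup.coe_neg, he, Pi.single_neg]

theorem zeta_conj_mem {σ : P24} (hσ : σ ∈ M24) {c : Finset GolayPt} (hc : c ∈ CW)
    (h : ∀ i, ∃ j, (∀ a, zeta (signedPerm σ c (zeta (Pi.single i 8))) a = (Pi.single j 8 : GolayPt → ℤ) a) ∨
      (∀ a, zeta (signedPerm σ c (zeta (Pi.single i 8))) a = (Pi.single j (-8) : GolayPt → ℤ) a)) :
    z * el ⟨σ, hσ⟩ c hc * z ∈ NI := by
  refine ⟨zetaAut * monoAut σ hσ c hc * zetaAut, keeps_of_axes fun i => ?_, by rw [map_mul, map_mul]; rfl⟩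
  have he : (((zetaAut * monoAut σ hσ c hc * zetaAut) • ax i : ↥leechLattice) : GolayPt → ℤ) =
      zeta (signedPerm σ c (zeta (Pi.single i 8))) := by
    rw [mul_smul, mul_smul]; rfl
  obtain ⟨j, hj | hj⟩ := h i
  · exact ⟨j, 8, Or.inl rfl, he.trans (funext hj)⟩
  · exact ⟨j, -8, Or.inr rfl, he.trans (funext hj)⟩

theorem sep_keys : ∀ m ∈ sepL, ∀ i : GolayPt, ∃ j : GolayPt,
    (∀ a, zeta (signedPerm 1 (toSet m) (zeta (Pi.single i 8))) a = (Pi.single j 8 : GolayPt → ℤ) a) ∨
    (∀ a, zeta (signedPerm 1 (toSet m) (zeta (Pi.single i 8))) a = (Pi.single j (-8) : GolayPt → ℤ) a) := by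
  decide +kernel

/-- The conjugate of a vector by a coded permutation. -/
def pull (c : ℕ) (x : GolayPt → ℤ) (a : GolayPt) : ℤ := x (pt (papp c (idx a)))

theorem sym_keys : ∀ k ∈ symL, ∀ i : GolayPt, ∃ j : GolayPt,
    (∀ a, zeta (pull k (zeta (Pi.single i 8))) a = (Pi.single j 8 : GolayPt → ℤ) a) ∨
    (∀ a, zeta (pull k (zeta (Pi.single i 8))) a = (Pi.single j (-8) : GolayPt → ℤ) a) := by
  unfold pull papp
  decide +kernel

/-- An element of the lattice group commuting with the separating sign changes is a sign change. -/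
theorem sign_of_comm {g : ↥Co0} (h : ∀ m ∈ sepL, ∀ hm : toSet m ∈ CW,
    prj g * el 1 (toSet m) hm = el 1 (toSet m) hm * prj g) : ∃ c, ∃ hc : c ∈ CW, prj g = el 1 c hc := by
  have hexact : ∀ m ∈ sepL, ∀ hm : toSet m ∈ CW, g * sgn (toSet m) hm = sgn (toSet m) hm * g := by
    intro m hm hmc
    have h1 : toSet m ∈ octads := by
      have h2 := List.all_eq_true.mp sep_ok.1 m hm
      simp only [Bool.and_eq_true, decide_eq_true_eq, Nat.beq_eq] at h2
      exact toSet_mem_octads' h2.1 h2.2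
    obtain ⟨σ, hσ, hσo⟩ := exists_smul_O0 h1
    have h3 := h m hm hmc
    rw [show el 1 (toSet m) hmc = prj (sgn (toSet m) hmc) from rfl, ← map_mul, ← map_mul, prj_eq] at h3
    rcases h3 with h3 | h3
    · exact h3.symm
    · exfalso
      set μ := monoAut σ hσ ∅ CW_empty
      have hs : sgn (toSet m) hmc = μ * eps * μ⁻¹ := by
        rw [eps, mono_conj_sgn hσ CW_empty O0_CW]
        exact sgn_congr hσo.symm
      rw [hs] at h3
      refine not_negated (μ⁻¹ * g * μ) ?_
      have hn : ∀ x : ↥Co0, x * negAut = negAut * x := fun x => Subgroup.mem_center_iff.mp negAut_central x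
      have hnn : negAut * negAut = 1 := by
        rw [neg_sgn, sgn_mul, sgn_congr (symmDiff_self _) (hd := CW_empty)]
        exact sgn_empty
      have h4 : g * (μ * eps * μ⁻¹) = μ * eps * μ⁻¹ * g * negAut := by
        rw [h3, mul_assoc _ negAut, hnn, mul_one]
      calc μ⁻¹ * g * μ * eps = μ⁻¹ * (g * (μ * eps * μ⁻¹)) * μ := by group
        _ = eps * μ⁻¹ * g * (negAut * μ) := by rw [h4]; group
        _ = eps * μ⁻¹ * g * (μ * negAut) := by rw [hn μ]
        _ = eps * (μ⁻¹ * g * μ * negAut) := by group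
        _ = eps * negAut * (μ⁻¹ * g * μ) := by rw [hn (μ⁻¹ * g * μ)]; group
  have hax : ∀ i, ∃ s, (s = 8 ∨ s = -8) ∧ ((g • ax i : ↥leechLattice) : GolayPt → ℤ) = Pi.single i s := by
    intro i
    set w : GolayPt → ℤ := ((g • ax i : ↥leechLattice) : GolayPt → ℤ) with hw
    have hz : ∀ a, a ≠ i → w a = 0 := by
      intro a hai
      have hs := List.all_eq_true.mp (List.all_eq_true.mp sep_ok.2 (idx a) (List.mem_range.mpr (idx_lt a)))
        (idx i) (List.mem_range.mpr (idx_lt i))
      rw [Bool.or_eq_true, Nat.beq_eq, List.any_eq_true] at hs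
      obtain ⟨m, hm, hne⟩ := hs.resolve_left (fun e => hai (idx_injective e))
      have hmc : toSet m ∈ CW := by
        have h2 := List.all_eq_true.mp sep_ok.1 m hm
        simp only [Bool.and_eq_true, decide_eq_true_eq] at h2
        exact (toSet_mem_octads' h2.1 ⟨h2.2.1, Nat.eq_of_beq_eq_true h2.2.2⟩).1
      have h2 := congrArg (fun k : ↥Co0 => ((k • ax i : ↥leechLattice) : GolayPt → ℤ) a) (hexact m hm hmc)
      simp only [mul_smul, sgn, monoAut_apply, signs_apply] at h2
      have hfix : monoAut 1 (one_mem _) (toSet m) hmc • ax i = if i ∈ toSet m then -ax i else ax i := by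
        refine Subtype.ext (funext fun b => ?_)
        rw [monoAut_apply, signs_apply]
        by_cases hb : b = i
        · subst hb; split_ifs <;> simp
        · split_ifs <;> simp [ax_coe, hb]
      rw [hfix] at h2
      have hne' : (a ∈ toSet m) ≠ (i ∈ toSet m) := by
        simp only [mem_toSet, ne_eq, eq_iff_iff, ← Bool.eq_iff_iff]
        simpa using hne
      by_cases hi : i ∈ toSet m
      · have ha : a ∉ toSet m := fun ha => hne' (by simp [ha, hi])
        rw [if_pos hi, if_neg ha, aut_neg, AddSubgroup.coe_neg, Pi.neg_apply, ← hw] at h2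
        omega
      · have ha : a ∈ toSet m := by
          by_contra ha
          exact hne' (by simp [ha, hi])
        rw [if_neg hi, if_pos ha, ← hw] at h2
        omega
    have hsingle : w = Pi.single i (w i) := funext fun a => by
      by_cases hai : a = i
      · subst hai; simp
      · rw [hz a hai, Pi.single_eq_of_ne hai]
    have hn : sqNorm w = 64 :=
      (aut_norm g _).trans (eightSet_props (mem_eightSet.mpr ⟨i, 8, Or.inl rfl, rfl⟩)).2
    rw [hsingle, sqNorm, Finset.sum_eq_single i (fun b _ hb => by simp [hb]) (fun h => absurd (Finset.mem_univ i) h),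
      Pi.single_eq_same] at hn
    refine ⟨w i, ?_, hsingle⟩
    have : (w i - 8) * (w i + 8) = 0 := by linarith
    rcases mul_eq_zero.mp this with h8 | h8 <;> [left; right] <;> omega
  obtain ⟨σ, c, hσ, hc, rfl⟩ := keepsCross_monomial (keeps_of_axes fun i => ⟨i, hax i⟩)
  refine ⟨c, hc, ?_⟩
  have hσ1 : σ = 1 := Equiv.ext fun i => by
    obtain ⟨s, hs, he⟩ := hax i
    have := congrFun he (σ i)
    simp only [monoAut_apply, signedPerm, Equiv.symm_apply_apply, ax_coe, Pi.single_eq_same] at this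
    by_contra hne
    rw [Pi.single_eq_of_ne (by simpa using hne)] at this
    split_ifs at this
    all_goals omega
  subst hσ1
  rfl

/-- An automorphism fixing the monomial subgroup is trivial. -/
theorem fix_all (δ : MulAut Spor.Co1) (h : ∀ x ∈ NI, δ x = x) (x : Spor.Co1) : δ x = x := by
  set b := z * δ z with hb
  have key : ∀ {x : Spor.Co1}, x ∈ NI → z * x * z ∈ NI → b * x = x * b := by
    intro x hx hzx
    have h1 := h _ hzx
    rw [map_mul, map_mul, h x hx] at h1
    have h2 : δ z * δ z = 1 := by rw [← map_mul, z_sq, map_one]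
    calc b * x = z * (δ z * x * δ z) * δ z := by
          conv_rhs => rw [mul_assoc z, mul_assoc (δ z * x), h2, mul_one, ← mul_assoc]
      _ = z * (z * x * z) * δ z := by rw [h1]
      _ = x * b := by rw [hb, ← mul_assoc z, ← mul_assoc z, z_sq, one_mul, mul_assoc]
  obtain ⟨g, hg⟩ := QuotientGroup.mk'_surjective _ b
  have hg' : prj g = b := hg
  obtain ⟨c, hc, hbc⟩ := sign_of_comm (g := g) fun m hm hmc => by
    rw [hg']
    exact key (el_mem _ hmc) (zeta_conj_mem (one_mem _) hmc (sep_keys m hm))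
  rw [hg'] at hbc
  have hfix : ∀ k ∈ symL, fixC k (toMask c) = true := by
    intro k hk
    have hk' := List.all_eq_true.mp sym_ok.1 k hk
    simp only [Bool.and_eq_true] at hk'
    obtain ⟨σ, hσ⟩ := exists_repr_of_permOK hk'.1
    have hσM := mem_M24_of_gensKept hσ hk'.2
    have hc' := key (el_mem (⟨σ, hσM⟩ : ↥M24)⁻¹ CW_empty) (zeta_conj_mem (inv_mem hσM) CW_empty fun i => by
      have hp : ∀ x : GolayPt → ℤ, signedPerm σ⁻¹ ∅ x = pull k x := fun x => funext fun a => by
        simp only [signedPerm, Finset.notMem_empty, if_false, pull]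
        rw [show (σ⁻¹ : P24).symm a = σ a from rfl, ← pt_idx (σ a), hσ a]
      rw [hp]
      exact sym_keys k hk i)
    rw [hbc] at hc'
    have hf := conj_sign_only hc'
    refine fixC_of_fix hσ ?_
    have hσσ : ∀ X : Finset GolayPt, σ • σ⁻¹ • X = X := fun X => smul_inv_smul σ X
    rcases hf with e | e
    · left
      have e' : σ⁻¹ • c = c := e
      conv_lhs => rw [← e']
      exact hσσ c
    · right
      have e' : σ⁻¹ • c = cᶜ := e
      have := congrArg (fun X => σ • X) e'
      simp only [hσσ, smul_compl'] at this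
      rw [← compl_compl (σ • c), ← this]
  have h1 := List.all_eq_true.mp sym_ok.2 _ (mask_mem hc)
  rw [List.all_eq_true.mpr hfix] at h1
  have hb1 : b = 1 := by rw [hbc]; exact el_one_iff.mpr (triv_of_mask (by simpa using h1))
  have hz : δ z = z := by
    have : z * (z * δ z) = z * 1 := by rw [← hb, hb1]
    rwa [← mul_assoc, z_sq, one_mul, mul_one] at this
  have hlt : NI < δ.toMonoidHom.eqLocus (MonoidHom.id _) :=
    lt_of_le_of_ne (fun x hx => h x hx) fun e => z_not_mem (e ▸ (hz : z ∈ δ.toMonoidHom.eqLocus (MonoidHom.id _)))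
  have := NI_coatom.2 _ hlt
  exact (this ▸ Subgroup.mem_top x : x ∈ δ.toMonoidHom.eqLocus (MonoidHom.id _))

/-- Every automorphism is inner. -/
theorem aut_inner (α : MulAut Spor.Co1) : α ∈ Inn Spor.Co1 := by
  obtain ⟨g, hg⟩ := exists_conj_fix α
  obtain ⟨m, hm⟩ := exists_trivial_on_quot (MulAut.conj g * α) hg
  obtain ⟨v, hv⟩ := exists_fix_NI (MulAut.conj m * (MulAut.conj g * α)) hm
  have h1 : MulAut.conj v * (MulAut.conj m * (MulAut.conj g * α)) = 1 :=
    MulEquiv.ext fun x => fix_all _ hv x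
  rw [← mul_assoc, ← mul_assoc, ← map_mul, ← map_mul, mul_eq_one_iff_eq_inv', ← map_inv] at h1
  exact ⟨_, h1.symm⟩

end CfsgLeech.Out1
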