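/-
The configuration of 100 minimal vectors: frames and rank.
-/
import Cfsg.Agent.Lib.Leech.Sporadic

set_option autoImplicit false

namespace CfsgLeech

open Cfsg CfsgGolay
open scoped Pointwise

attribute [local irreducible] codeL octadL dodecadL slpCodes

theorem hs_frame {v w : ↥leechLattice} (hv : sqNorm (v : GolayPt → ℤ) = 48)
    (hw : sqNorm (w : GolayPt → ℤ) = 48) (hvw : dotInt (v : GolayPt → ℤ) (w : GolayPt → ℤ) = -32) :
    ∃ g : ↥Co0, g • v = ⟨uStd, uStd_mem⟩ ∧ g • (v + w) = ⟨tStd, tStd_mem⟩ ∧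
      ∀ x : ↥leechLattice, (sqNorm (x : GolayPt → ℤ) = 32 ∧ dotInt (v : GolayPt → ℤ) (x : GolayPt → ℤ) = 24 ∧
        dotInt (w : GolayPt → ℤ) (x : GolayPt → ℤ) = -24) ↔ Is100 ((g • x : ↥leechLattice) : GolayPt → ℤ) := by
  have ht : sqNorm ((v + w : ↥leechLattice) : GolayPt → ℤ) = 32 := by
    rw [AddSubgroup.coe_add, (sqNorm_sub_add _ _).2, hv, hw, hvw]; norm_num
  have hvt : dotInt (v : GolayPt → ℤ) ((v + w : ↥leechLattice) : GolayPt → ℤ) = 16 := by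
    rw [dot_comm, AddSubgroup.coe_add, dot_add_left, dot_self, dot_comm (w : GolayPt → ℤ), hv, hvw]; norm_num
  obtain ⟨g, gv, gt⟩ := config_pairs (Or.inr rfl) hv ht hvt
    (u' := ⟨uStd, uStd_mem⟩) (x' := ⟨tStd, tStd_mem⟩) std_facts.2.2.2.1 std_facts.2.2.2.2.2.1
    std_facts.2.2.2.2.2.2.2
  refine ⟨g, gv, gt, fun x => ?_⟩
  have d1 := aut_dot g v x
  have d2 := aut_dot g (v + w) x
  rw [gv] at d1
  rw [gt, AddSubgroup.coe_add, dot_add_left] at d2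
  constructor
  · rintro ⟨h1, h2, h3⟩
    exact ⟨(classify_dot (g • x).2 ((aut_norm g x).trans h1)).1 (d1.trans h2),
      d2.trans (by rw [h2, h3]; norm_num)⟩
  · rintro ⟨h, h3⟩
    obtain ⟨-, h1, h2⟩ := h.facts
    rw [aut_norm] at h1
    have e2 := d1.symm.trans h2
    have e3 := d2.symm.trans h3
    exact ⟨h1, e2, by omega⟩

/-- An element fixing the standard pair, read back at `v` and `w`. -/
theorem frame_back {v w : ↥leechLattice} {k f : ↥Co0} (gv : k • v = ⟨uStd, uStd_mem⟩)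
    (gt : k • (v + w) = ⟨tStd, tStd_mem⟩) (fu : f • (⟨uStd, uStd_mem⟩ : ↥leechLattice) = ⟨uStd, uStd_mem⟩)
    (ft : f • (⟨tStd, tStd_mem⟩ : ↥leechLattice) = ⟨tStd, tStd_mem⟩) :
    (k⁻¹ * (f * k)) • v = v ∧ (k⁻¹ * (f * k)) • w = w := by
  have e1 : (k⁻¹ * (f * k)) • v = v := by
    rw [mul_smul, mul_smul, gv, fu, inv_smul_eq_iff, gv]
  have e2 : (k⁻¹ * (f * k)) • (v + w) = v + w := by
    rw [mul_smul, mul_smul, gt, ft, inv_smul_eq_iff, gt]
  rw [aut_add, e1] at e2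
  exact ⟨e1, add_left_cancel e2⟩

theorem dot_aStd_100 {y : GolayPt → ℤ} (h : Is100 y) :
    y = aStd ∧ dotInt aStd y = 32 ∨ y ∈ fB '' {j | j ≠ none ∧ j ≠ pt 0} ∧ dotInt aStd y = 8 ∨
      y ∈ fC '' {o | o ∈ octads ∧ none ∈ o ∧ pt 0 ∈ o} ∧ dotInt aStd y = 16 := by
  rcases Is100.cases_iff.mp h with h | h | h
  · exact Or.inl ⟨h, by rw [show y = aStd from h]; decide +kernel⟩
  · refine Or.inr (Or.inl ⟨h, ?_⟩)
    obtain ⟨j, ⟨hj, hj0⟩, rfl⟩ := h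
    rw [(dot_two _).1]; simp [fB, od, chi, Ne.symm hj, Ne.symm hj0]
  · refine Or.inr (Or.inr ⟨h, ?_⟩)
    obtain ⟨o, ⟨ho, hn, h0⟩, rfl⟩ := h
    rw [(dot_two _).1]; simp [fC, ev, chi, hn, h0]

theorem dot100_sets : {y | Is100 y ∧ dotInt aStd y = 8}.ncard = 22 ∧
    {y | Is100 y ∧ y ≠ aStd ∧ dotInt aStd y ≠ 8}.ncard = 77 := by
  constructor
  · rw [show {y | Is100 y ∧ dotInt aStd y = 8} = fB '' {j | j ≠ none ∧ j ≠ pt 0} by
      ext y
      constructor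
      · rintro ⟨h, hd⟩
        rcases dot_aStd_100 h with ⟨-, e⟩ | ⟨h', -⟩ | ⟨-, e⟩
        · omega
        · exact h'
        · omega
      · intro hy
        have h : Is100 y := Is100.cases_iff.mpr (Or.inr (Or.inl hy))
        refine ⟨h, ?_⟩
        obtain ⟨j, ⟨hj, hj0⟩, rfl⟩ := hy
        rw [(dot_two _).1]; simp [fB, od, chi, Ne.symm hj, Ne.symm hj0],
      Set.InjOn.ncard_image (f := fB) (fun a _ b _ h => (od_T_inj h).2), two_out_count]
  · rw [show {y | Is100 y ∧ y ≠ aStd ∧ dotInt aStd y ≠ 8} = fC '' {o | o ∈ octads ∧ none ∈ o ∧ pt 0 ∈ o} by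
      ext y
      constructor
      · rintro ⟨h, hne, hd⟩
        rcases dot_aStd_100 h with ⟨e, -⟩ | ⟨-, e⟩ | ⟨h', -⟩
        · exact absurd e hne
        · exact absurd e hd
        · exact h'
      · intro hy
        have h : Is100 y := Is100.cases_iff.mpr (Or.inr (Or.inr hy))
        obtain ⟨o, ⟨ho, hn, h0⟩, rfl⟩ := hy
        have hd : dotInt aStd (fC o) = 16 := by rw [(dot_two _).1]; simp [fC, ev, chi, hn, h0]
        exact ⟨h, fun e => by rw [e] at hd; revert hd; decide +kernel, by omega⟩,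
      Set.InjOn.ncard_image (f := fC) (fun a _ b _ h => (evO_inj (Finset.empty_subset _) (Finset.empty_subset _) h).1),
      count_both]

theorem move100 {y y' : GolayPt → ℤ} (h : Is100 y) (h' : Is100 y') (hy : y ≠ aStd) (hy' : y' ≠ aStd)
    (he : dotInt aStd y = 8 ↔ dotInt aStd y' = 8) :
    ∃ σ ∈ M24, σ none = none ∧ σ (pt 0) = pt 0 ∧ signedPerm σ ∅ y = y' := by
  rcases dot_aStd_100 h with ⟨e, -⟩ | ⟨hB, d⟩ | ⟨hC, d⟩
  · exact absurd e hy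
  · rcases dot_aStd_100 h' with ⟨e, -⟩ | ⟨hB', d'⟩ | ⟨hC', d'⟩
    · exact absurd e hy'
    · obtain ⟨j, ⟨hj, hj0⟩, rfl⟩ := hB
      obtain ⟨j', ⟨hj', hj0'⟩, rfl⟩ := hB'
      obtain ⟨σ, hσ, s1, s2, s3⟩ := map_three_pts ne_pt0 hj.symm hj0.symm ne_pt0 hj'.symm hj0'.symm
      exact ⟨σ, hσ, s1, s2, by
        show signedPerm _ _ (od (-1) ∅ {j}) = _
        rw [perm_od, Finset.smul_finset_empty, smul_sing, s3]; rfl⟩
    · rw [d, d'] at he; exact absurd (he.mp rfl) (by norm_num)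
  · rcases dot_aStd_100 h' with ⟨e, -⟩ | ⟨hB', d'⟩ | ⟨hC', d'⟩
    · exact absurd e hy'
    · rw [d, d'] at he; exact absurd (he.mpr rfl) (by norm_num)
    · obtain ⟨o, ⟨ho, hn, h0⟩, rfl⟩ := hC
      obtain ⟨o', ⟨ho', hn', h0'⟩, rfl⟩ := hC'
      obtain ⟨σ, hσ, s1, s2, hs⟩ := move_octad2 ho hn h0 ho' hn' h0'
      exact ⟨σ, hσ, s1, s2, by
        show signedPerm _ _ (ev o ∅ ∅) = _
        rw [perm_ev (Finset.empty_subset _), hs, Finset.smul_finset_empty]; rfl⟩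

theorem hs_rank3 {v w x : ↥leechLattice} (hv : sqNorm (v : GolayPt → ℤ) = 48)
    (hw : sqNorm (w : GolayPt → ℤ) = 48) (hvw : dotInt (v : GolayPt → ℤ) (w : GolayPt → ℤ) = -32)
    (S : Set ↥leechLattice) (hS : S = {x : ↥leechLattice | sqNorm (x : GolayPt → ℤ) = 32 ∧
      dotInt (v : GolayPt → ℤ) (x : GolayPt → ℤ) = 24 ∧ dotInt (w : GolayPt → ℤ) (x : GolayPt → ℤ) = -24})
    (hx : x ∈ S) :
    {y : ↥leechLattice | y ∈ S ∧ dotInt (x : GolayPt → ℤ) (y : GolayPt → ℤ) = 8}.ncard = 22 ∧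
    {y : ↥leechLattice | y ∈ S ∧ y ≠ x ∧ dotInt (x : GolayPt → ℤ) (y : GolayPt → ℤ) ≠ 8}.ncard = 77 ∧
    ∀ y ∈ S, ∀ y' ∈ S, y ≠ x → y' ≠ x →
      (dotInt (x : GolayPt → ℤ) (y : GolayPt → ℤ) = 8 ↔ dotInt (x : GolayPt → ℤ) (y' : GolayPt → ℤ) = 8) →
      ∃ g : ↥Co0, g • v = v ∧ g • w = w ∧ g • x = x ∧ g • y = y' := by
  subst hS
  obtain ⟨g, gv, gt, hiff⟩ := hs_frame hv hw hvw
  obtain ⟨f, hf, fx⟩ := (all100 ((hiff x).mp hx)).elem (a := g • x) (b := ⟨aStd, aStd_mem⟩) rfl rfl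
  have fu := hf uStd (by simp) ⟨uStd, uStd_mem⟩ rfl
  have ft := hf tStd (by simp) ⟨tStd, tStd_mem⟩ rfl
  have kv : (f * g) • v = ⟨uStd, uStd_mem⟩ := by rw [mul_smul, gv, fu]
  have kt : (f * g) • (v + w) = ⟨tStd, tStd_mem⟩ := by rw [mul_smul, gt, ft]
  have kx : (((f * g) • x : ↥leechLattice) : GolayPt → ℤ) = aStd := by rw [mul_smul, fx]
  have kiff : ∀ y : ↥leechLattice, (sqNorm (y : GolayPt → ℤ) = 32 ∧ dotInt (v : GolayPt → ℤ) (y : GolayPt → ℤ) = 24 ∧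
      dotInt (w : GolayPt → ℤ) (y : GolayPt → ℤ) = -24) ↔ Is100 (((f * g) • y : ↥leechLattice) : GolayPt → ℤ) := by
    intro y
    rw [hiff y, mul_smul]
    have d1 := aut_dot f (⟨uStd, uStd_mem⟩ : ↥leechLattice) (g • y)
    have d2 := aut_dot f (⟨tStd, tStd_mem⟩ : ↥leechLattice) (g • y)
    rw [fu] at d1
    rw [ft] at d2
    constructor <;> rintro ⟨h, h3⟩
    · obtain ⟨-, h1, h2⟩ := h.facts
      exact ⟨(classify_dot (f • g • y).2 ((aut_norm f _).trans h1)).1 (d1.trans h2), d2.trans h3⟩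
    · obtain ⟨-, h1, h2⟩ := h.facts
      rw [aut_norm] at h1
      exact ⟨(classify_dot (g • y).2 h1).1 (d1.symm.trans h2), d2.symm.trans h3⟩
  have kd : ∀ y, dotInt aStd (((f * g) • y : ↥leechLattice) : GolayPt → ℤ) = dotInt (x : GolayPt → ℤ) (y : GolayPt → ℤ) :=
    fun y => by rw [← kx, aut_dot]
  have kne : ∀ y, (((f * g) • y : ↥leechLattice) : GolayPt → ℤ) ≠ aStd ↔ y ≠ x := fun y => by
    rw [← kx, Ne, Subtype.coe_inj, smul_left_cancel_iff]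
  refine ⟨(image_count (k := f * g) (P := fun y => Is100 y ∧ dotInt aStd y = 8) (fun y hy => hy.1.1.facts.1) ?_).trans dot100_sets.1,
    (image_count (k := f * g) (P := fun y => Is100 y ∧ y ≠ aStd ∧ dotInt aStd y ≠ 8) (fun y hy => hy.1.1.facts.1) ?_).trans dot100_sets.2,
    fun y hy y' hy' hne hne' he => ?_⟩
  · intro y
    simp only [Set.mem_setOf_eq, kiff, kd]
  · intro y
    simp only [Set.mem_setOf_eq, kiff, kd, kne]
  · obtain ⟨σ, hσ, s1, s2, hs⟩ := move100 ((kiff y).mp hy) ((kiff y').mp hy') ((kne y).mpr hne) ((kne y').mpr hne')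
      (by rw [kd, kd]; exact he)
    have mu : monoAut σ hσ ∅ CW_empty • (⟨uStd, uStd_mem⟩ : ↥leechLattice) = ⟨uStd, uStd_mem⟩ :=
      Subtype.ext (by rw [monoAut_apply]; exact fix_uStd s1)
    have mt : monoAut σ hσ ∅ CW_empty • (⟨tStd, tStd_mem⟩ : ↥leechLattice) = ⟨tStd, tStd_mem⟩ :=
      Subtype.ext (by rw [monoAut_apply]; exact fix_tStd s1 s2)
    obtain ⟨e1, e2⟩ := frame_back kv kt mu mt
    refine ⟨(f * g)⁻¹ * (monoAut σ hσ ∅ CW_empty * (f * g)), e1, e2, ?_, ?_⟩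
    · rw [mul_smul, mul_smul, inv_smul_eq_iff]
      exact Subtype.ext (by rw [monoAut_apply, kx]; exact fix_aStd s1 s2)
    · rw [mul_smul, mul_smul, inv_smul_eq_iff]
      exact Subtype.ext (by rw [monoAut_apply]; exact hs)

end CfsgLeech
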