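/-
The point-block graph of a Steiner system S(3, 6, 22) is the graph on the 100 minimal vectors.
-/
import Cfsg.Agent.Lib.Leech.HS
import Cfsg.Agent.Lib.Leech.ConwayGroups
import Cfsg.Agent.Lib.GolayUnique.Model
import Cfsg.Agent.Lib.SteinerCount
import Cfsg.Prelude.Def_Sporadic
import Mathlib.Algebra.Order.Group.Action.End

set_option autoImplicit false

namespace CfsgLeech

open Cfsg CfsgGolay CfsgCode
open scoped Pointwise

attribute [local irreducible] codeL octadL dodecadL slpCodes

variable {α : Type*} [Fintype α] [DecidableEq α] {B : Set (Finset α)}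

/-- A model of a Steiner system with the standard deleted pair. -/
theorem exists_std_model (hα : Fintype.card α = 22) (hB : IsSteinerSystem 3 6 B) :
    ∃ ρ : α ↪ GolayPt, Model B ρ {none, pt 0} := by
  obtain ⟨ρ, P, h, hP⟩ := exists_model_22 hα hB
  obtain ⟨σ, hσ, hσP⟩ := exists_map_finset (show 2 ≤ 5 by norm_num) hP
    (Finset.card_pair ne_pt0 : ({none, pt 0} : Finset GolayPt).card = 2)
  refine ⟨⟨fun a => σ (ρ a), σ.injective.comp ρ.injective⟩, fun p => ?_, fun b => ?_⟩
  · rw [← hσP, Finset.mem_image]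
    constructor
    · intro hp
      obtain ⟨a, ha⟩ := (h.off (σ.symm p)).mp fun hh => hp ⟨_, hh, σ.apply_symm_apply p⟩
      exact ⟨a, by show σ (ρ a) = p; rw [ha, σ.apply_symm_apply]⟩
    · rintro ⟨a, rfl⟩ ⟨q, hq, e⟩
      exact (h.off (ρ a)).mpr ⟨a, rfl⟩ (σ.injective e ▸ hq)
  · show b ∈ B ↔ b.image (fun a => σ (ρ a)) ∪ {none, pt 0} ∈ octads
    have : b.image (fun a => σ (ρ a)) ∪ {none, pt 0} = (b.image ρ ∪ P).image σ := by
      rw [Finset.image_union, hσP, Finset.image_image]; rfl
    rw [this, h.blocks, mem_octads_iff, mem_octads_iff, image_mem_code hσ,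
      Finset.card_image_of_injective _ σ.injective]

/-- The graph on the 100 vectors. -/
def hsGraph : SimpleGraph {x : ↥leechLattice // Is100 (x : GolayPt → ℤ)} where
  Adj x y := dotInt (x.1 : GolayPt → ℤ) (y.1 : GolayPt → ℤ) = 8
  symm := ⟨fun x y h => (dot_comm _ _).trans h⟩
  loopless := ⟨fun x h => by rw [dot_self, x.2.1.facts.2.1] at h; norm_num at h⟩

theorem dot_fB_fB {j k : GolayPt} (h : j ≠ k) : dotInt (fB j) (fB k) = 16 := by
  have e : ∀ i, fB j i * fB k i = 1 - 4 * chi {j} i - 4 * chi {k} i := by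
    intro i
    simp only [fB, od, chi, Finset.notMem_empty, if_false, Finset.mem_singleton]
    by_cases h1 : i = j
    · subst h1; simp [h]
    · by_cases h2 : i = k
      · subst h2; simp [h1]
      · simp [h1, h2]
  rw [dotInt, Finset.sum_congr rfl fun i _ => e i]
  simp only [Finset.sum_sub_distrib, ← Finset.mul_sum, sum_chi, Finset.sum_const, Finset.card_univ, card_univ_pt,
    Finset.card_singleton]
  norm_num

theorem dot_fB_fC (j : GolayPt) (o : Finset GolayPt) :
    dotInt (fB j) (fC o) = 2 * o.card - 8 * chi o j := by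
  have e : ∀ i, fB j i * fC o i = 2 * chi o i - 8 * (if i = j then chi o i else 0) := by
    intro i
    simp only [fB, fC, od, ev, chi, Finset.notMem_empty, if_false, Finset.mem_singleton, mul_zero, add_zero]
    by_cases h1 : i = j <;> by_cases h2 : i ∈ o <;> simp [h1, h2] <;> simp_all
  rw [dotInt, Finset.sum_congr rfl fun i _ => e i]
  simp only [Finset.sum_sub_distrib, ← Finset.mul_sum, sum_chi, Finset.sum_ite_eq', Finset.mem_univ, if_true]

theorem dot_fC_fC (o o' : Finset GolayPt) : dotInt (fC o) (fC o') = 4 * ((o ∩ o').card : ℤ) := by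
  have e : ∀ i, fC o i * fC o' i = 4 * chi (o ∩ o') i := by
    intro i
    simp only [fC, ev, chi, Finset.notMem_empty, if_false, Finset.mem_inter, mul_zero, add_zero]
    by_cases h1 : i ∈ o <;> by_cases h2 : i ∈ o' <;> simp [h1, h2]
  rw [dotInt, Finset.sum_congr rfl fun i _ => e i, ← Finset.mul_sum, sum_chi]

/-- The isomorphism with the graph on 100 vectors. -/
theorem nonempty_hs_iso (hα : Fintype.card α = 22) (hB : IsSteinerSystem 3 6 B) :
    Nonempty (pointBlockGraph B ≃g hsGraph) := by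
  obtain ⟨ρ, h⟩ := exists_std_model hα hB
  set P : Finset GolayPt := {none, pt 0} with hP
  have hoff : ∀ a, ρ a ≠ none ∧ ρ a ≠ pt 0 := fun a => by
    have := (h.off (ρ a)).mpr ⟨a, rfl⟩
    simpa [hP, not_or] using this
  have hPs : ∀ b : Finset α, none ∈ b.image ρ ∪ P ∧ pt 0 ∈ b.image ρ ∪ P := fun b => by simp [hP]
  let f : Option (α ⊕ B) → GolayPt → ℤ := fun v => match v with
    | none => aStd
    | some (Sum.inl a) => fB (ρ a)
    | some (Sum.inr b) => fC ((b : Finset α).image ρ ∪ P)
  have hf : ∀ v, Is100 (f v) := by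
    rintro (_ | a | b)
    · exact Is100.cases_iff.mpr (Or.inl rfl)
    · exact Is100.cases_iff.mpr (Or.inr (Or.inl ⟨ρ a, hoff a, rfl⟩))
    · exact Is100.cases_iff.mpr (Or.inr (Or.inr ⟨_, ⟨(h.blocks _).mp b.2, hPs _⟩, rfl⟩))
  let F : Option (α ⊕ B) → {x : ↥leechLattice // Is100 (x : GolayPt → ℤ)} :=
    fun v => ⟨⟨f v, (hf v).1.facts.1⟩, hf v⟩
  have hsur : Function.Surjective F := by
    rintro ⟨⟨x, hx⟩, hx'⟩
    suffices ∃ v, f v = x by
      obtain ⟨v, hv⟩ := this
      exact ⟨v, Subtype.ext (Subtype.ext hv)⟩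
    rcases Is100.cases_iff.mp hx' with e | ⟨j, hj, e⟩ | ⟨o, ⟨ho, hn, h0⟩, e⟩
    · exact ⟨none, e.symm⟩
    · obtain ⟨a, rfl⟩ := (h.off j).mp (by simp [hP, hj.1, hj.2])
      exact ⟨some (Sum.inl a), e⟩
    · have he := h.preimage (o := o) (by simp [hP, Finset.insert_subset_iff, hn, h0])
      exact ⟨some (Sum.inr ⟨Finset.univ.filter fun a => ρ a ∈ o, (h.blocks _).mpr (he.symm ▸ ho)⟩),
        by show fC _ = x; rw [he]; exact e⟩
  haveI : Finite B := Finite.of_injective (fun b : B => (b : Finset α)) Subtype.val_injective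
  have hAB : ∀ a, dotInt aStd (fB (ρ a)) = 8 := fun a => by
    rw [(dot_two _).1]; simp [fB, od, chi, (hoff a).1.symm, (hoff a).2.symm]
  have hAC : ∀ b : B, dotInt aStd (fC ((b : Finset α).image ρ ∪ P)) = 16 := fun b => by
    rw [(dot_two _).1]; simp [fC, ev, chi, hP]
  have hself : ∀ v, dotInt (f v) (f v) = 32 := fun v => by rw [dot_self, (hf v).1.facts.2.1]
  have hbij : Function.Bijective F := by
    refine ⟨fun v w e => ?_, hsur⟩
    have e' : f v = f w := congrArg (fun y : {x : ↥leechLattice // Is100 (x : GolayPt → ℤ)} => (y.1 : GolayPt → ℤ)) e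
    have ed := congrArg (dotInt aStd) e'
    rcases v with _ | a | b <;> rcases w with _ | a' | b'
    · rfl
    · have := hself none; simp only [f] at ed this; rw [hAB, this] at ed; norm_num at ed
    · have := hself none; simp only [f] at ed this; rw [hAC, this] at ed; norm_num at ed
    · have := hself none; simp only [f] at ed this; rw [hAB, this] at ed; norm_num at ed
    · rw [ρ.injective (od_T_inj e').2]
    · simp only [f] at ed; rw [hAB, hAC] at ed; norm_num at ed
    · have := hself none; simp only [f] at ed this; rw [hAC, this] at ed; norm_num at ed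
    · simp only [f] at ed; rw [hAB, hAC] at ed; norm_num at ed
    · have hu := (evO_inj (Finset.empty_subset _) (Finset.empty_subset _) e').1
      refine congrArg (fun c => some (Sum.inr c)) (Subtype.ext (Finset.image_injective ρ.injective ?_))
      ext p
      have hp := congrArg (fun s : Finset GolayPt => p ∈ s) hu
      simp only [Finset.mem_union, eq_iff_iff] at hp
      by_cases hpP : p ∈ P
      · constructor <;> intro hh <;> obtain ⟨a, -, rfl⟩ := Finset.mem_image.mp hh <;>
          exact absurd hpP ((h.off _).mpr ⟨a, rfl⟩)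
      · simpa [hpP] using hp
  refine ⟨⟨Equiv.ofBijective F hbij, ?_⟩⟩
  intro v w
  show dotInt (f v) (f w) = 8 ↔ (pointBlockGraph B).Adj v w
  have hBC : ∀ (a : α) (b : B), dotInt (fB (ρ a)) (fC ((b : Finset α).image ρ ∪ P)) = 8 ↔ a ∈ (b : Finset α) := by
    intro a b
    rw [dot_fB_fC, (mem_octads_iff.mp ((h.blocks _).mp b.2)).2]
    have hm : ρ a ∈ (b : Finset α).image ρ ∪ P ↔ a ∈ (b : Finset α) := by
      rw [Finset.mem_union, Finset.mem_image]
      constructor
      · rintro (⟨a', ha', e⟩ | e)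
        · rwa [← ρ.injective e]
        · exact absurd e ((h.off _).mpr ⟨a, rfl⟩)
      · exact fun ha => Or.inl ⟨a, ha, rfl⟩
    by_cases ha : a ∈ (b : Finset α)
    · simp [chi, hm.mpr ha, ha]
    · simp [chi, mt hm.mp ha, ha]
  have hCC : ∀ b c : B, b ≠ c → (dotInt (fC ((b : Finset α).image ρ ∪ P)) (fC ((c : Finset α).image ρ ∪ P)) = 8 ↔
      Disjoint (b : Finset α) (c : Finset α)) := by
    intro b c hne
    rw [dot_fC_fC, Finset.disjoint_iff_inter_eq_empty, ← Finset.card_eq_zero]
    have e : ((b : Finset α).image ρ ∪ P) ∩ ((c : Finset α).image ρ ∪ P) = ((b : Finset α) ∩ c).image ρ ∪ P := by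
      rw [Finset.image_inter _ _ ρ.injective]
      ext p
      simp only [Finset.mem_inter, Finset.mem_union]
      tauto
    rw [e, Finset.card_union_of_disjoint ?_, Finset.card_image_of_injective _ ρ.injective,
      Finset.card_pair ne_pt0]
    · constructor <;> intro hh <;> omega
    · rw [Finset.disjoint_left]
      intro p hp
      obtain ⟨a, -, rfl⟩ := Finset.mem_image.mp hp
      exact (h.off _).mpr ⟨a, rfl⟩
  rw [pointBlockGraph, SimpleGraph.fromRel_adj]
  rcases v with _ | a | b <;> rcases w with _ | a' | b'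
  · simp [hself none, pointBlockRel]
  · simp [f, hAB, pointBlockRel]
  · simp [f, hAC, pointBlockRel]
  · simp [f, dot_comm (fB _) aStd, hAB, pointBlockRel]
  · rcases eq_or_ne a a' with rfl | e
    · simp [hself (some (Sum.inl a))]
    · simp [f, dot_fB_fB (ρ.injective.ne e), pointBlockRel]
  · simp [f, hBC, pointBlockRel]
  · simp [f, dot_comm (fC _) aStd, hAC, pointBlockRel]
  · simp [f, dot_comm (fC _) (fB _), hBC, pointBlockRel]
  · rcases eq_or_ne b b' with rfl | e
    · simp [hself (some (Sum.inr b))]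
    · simp [f, hCC b b' e, pointBlockRel, e, disjoint_comm]

/-- The stabiliser of the standard pair. -/
noncomputable abbrev hsStab : Subgroup ↥Co0 :=
  MulAction.stabilizer ↥Co0 (⟨uStd, uStd_mem⟩ : ↥leechLattice) ⊓
    MulAction.stabilizer ↥Co0 (⟨tStd, tStd_mem⟩ : ↥leechLattice)

theorem is100_smul (g : ↥hsStab) {x : ↥leechLattice} (hx : Is100 (x : GolayPt → ℤ)) :
    Is100 (((g : ↥Co0) • x : ↥leechLattice) : GolayPt → ℤ) := by
  obtain ⟨h24, h3⟩ := hx
  obtain ⟨-, h1, h2⟩ := h24.facts
  have d1 := aut_dot (g : ↥Co0) ⟨uStd, uStd_mem⟩ x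
  have d2 := aut_dot (g : ↥Co0) ⟨tStd, tStd_mem⟩ x
  rw [MulAction.mem_stabilizer_iff.mp g.2.1] at d1
  rw [MulAction.mem_stabilizer_iff.mp g.2.2] at d2
  exact ⟨(classify_dot ((g : ↥Co0) • x).2 ((aut_norm _ _).trans h1)).1 (d1.trans h2), d2.trans h3⟩

/-- The action on the graph. -/
noncomputable def hsHom : ↥hsStab →* (hsGraph ≃g hsGraph) where
  toFun g :=
    { toFun := fun x => ⟨(g : ↥Co0) • x.1, is100_smul g x.2⟩
      invFun := fun x => ⟨((g⁻¹ : ↥hsStab) : ↥Co0) • x.1, is100_smul g⁻¹ x.2⟩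
      left_inv := fun x => Subtype.ext (inv_smul_smul (g : ↥Co0) x.1)
      right_inv := fun x => Subtype.ext (smul_inv_smul (g : ↥Co0) x.1)
      map_rel_iff' := fun {x y} => by
        show dotInt (((g : ↥Co0) • x.1 : ↥leechLattice) : GolayPt → ℤ) (((g : ↥Co0) • y.1 : ↥leechLattice) : GolayPt → ℤ) = 8 ↔ _
        rw [aut_dot]; rfl }
  map_one' := RelIso.ext fun x => Subtype.ext (one_smul ↥Co0 x.1)
  map_mul' g h := RelIso.ext fun x => Subtype.ext (mul_smul (g : ↥Co0) (h : ↥Co0) x.1)

theorem hsHom_trans (x : {x : ↥leechLattice // Is100 (x : GolayPt → ℤ)}) :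
    ∃ g : ↥hsStab, hsHom g x = ⟨⟨aStd, aStd_mem⟩, Is100.cases_iff.mpr (Or.inl rfl)⟩ := by
  obtain ⟨f, hf, fx⟩ := (all100 x.2).elem (a := x.1) (b := ⟨aStd, aStd_mem⟩) rfl rfl
  exact ⟨⟨f, hf uStd (by simp) _ rfl, hf tStd (by simp) _ rfl⟩, Subtype.ext fx⟩

theorem hsHom_injective : Function.Injective hsHom := by
  haveI : IsSimpleGroup ↥hsStab := hs_simple
  rw [← MonoidHom.ker_eq_bot_iff]
  refine ((MonoidHom.normal_ker hsHom).eq_bot_or_eq_top).resolve_right fun htop => ?_
  have hB : Is100 (fB (pt 1)) := Is100.cases_iff.mpr (Or.inr (Or.inl ⟨pt 1, ⟨by decide +kernel, by decide +kernel⟩, rfl⟩))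
  obtain ⟨g, hg⟩ := hsHom_trans ⟨⟨fB (pt 1), hB.1.facts.1⟩, hB⟩
  have : hsHom g = 1 := MonoidHom.mem_ker.mp (htop ▸ Subgroup.mem_top g)
  rw [this] at hg
  have := congrArg (fun y : {x : ↥leechLattice // Is100 (x : GolayPt → ℤ)} => (y.1 : GolayPt → ℤ) none) hg
  revert this
  show fB (pt 1) none = aStd none → False
  decide +kernel

theorem s0431 (hα : Fintype.card α = 22) (hB : IsSteinerSystem 3 6 B) :
    ∃ H : Subgroup (pointBlockGraph B ≃g pointBlockGraph B), IsHS H := by
  obtain ⟨φ⟩ := nonempty_hs_iso hα hB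
  let c : (hsGraph ≃g hsGraph) →* (pointBlockGraph B ≃g pointBlockGraph B) :=
    { toFun := fun g => φ.trans (g.trans φ.symm)
      map_one' := RelIso.ext fun x => φ.symm_apply_apply x
      map_mul' := fun g h => RelIso.ext fun x => by
        show φ.symm (g (h (φ x))) = φ.symm (g (φ (φ.symm (h (φ x)))))
        rw [RelIso.apply_symm_apply] }
  have hc : Function.Injective c := fun g h e => RelIso.ext fun x => by
    have := congrArg (fun k : pointBlockGraph B ≃g pointBlockGraph B => φ (k (φ.symm x))) e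
    simpa [c] using this
  let e := MonoidHom.ofInjective (f := c.comp hsHom) (hc.comp hsHom_injective)
  refine ⟨(c.comp hsHom).range, isSimple_congr e hs_simple, ?_⟩
  rw [← Nat.card_congr e.toEquiv, card_hs]

theorem s1586 (hα : Fintype.card α = 22) (hB : IsSteinerSystem 3 6 B) :
    Nat.card (pointBlockGraph B ≃g pointBlockGraph B) = 88704000 := by
  obtain ⟨φ⟩ := nonempty_hs_iso hα hB
  obtain ⟨hA, -, -⟩ := aut_22 hα hB
  let Γ := pointBlockGraph B
  -- transitivity
  have htr : ∀ v : Option (α ⊕ B), ∃ g : Γ ≃g Γ, g v = none := by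
    intro v
    obtain ⟨g1, h1⟩ := hsHom_trans (φ v)
    obtain ⟨g2, h2⟩ := hsHom_trans (φ none)
    refine ⟨φ.trans (((hsHom g2)⁻¹ * hsHom g1).trans φ.symm), ?_⟩
    show φ.symm ((hsHom g2)⁻¹ (hsHom g1 (φ v))) = none
    rw [h1, ← h2]
    show φ.symm ((hsHom g2).symm (hsHom g2 (φ none))) = none
    rw [RelIso.symm_apply_apply, RelIso.symm_apply_apply]
  haveI : Finite B := Finite.of_injective (fun b : B => (b : Finset α)) Subtype.val_injective
  haveI : Finite (Γ ≃g Γ) := Finite.of_injective (fun g : Γ ≃g Γ => (g : Option (α ⊕ B) → Option (α ⊕ B)))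
    DFunLike.coe_injective
  let S := MulAction.stabilizer (Γ ≃g Γ) (none : Option (α ⊕ B))
  haveI : MulAction.IsPretransitive (Γ ≃g Γ) (Option (α ⊕ B)) := ⟨fun x y => by
    obtain ⟨g, hg⟩ := htr x
    obtain ⟨g', hg'⟩ := htr y
    refine ⟨g'⁻¹ * g, ?_⟩
    rw [mul_smul, RelIso.smul_def, RelIso.smul_def, hg, ← hg']
    exact g'.symm_apply_apply y⟩
  have hidx : S.index = 100 := by
    rw [MulAction.index_stabilizer_of_transitive, Nat.card_congr φ.toEquiv]
    rw [← is100_count, ← Nat.card_coe_set_eq]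
    exact Nat.card_congr
      { toFun := fun x => ⟨x.1.1, x.2⟩
        invFun := fun x => ⟨⟨x.1, x.2.1.facts.1⟩, x.2⟩
        left_inv := fun x => rfl
        right_inv := fun x => rfl }
  have adjA : ∀ v, Γ.Adj none v ↔ ∃ a, v = some (Sum.inl a) := by
    rintro (_ | a | b) <;> simp [Γ, pointBlockGraph, pointBlockRel]
  have adjB : ∀ (a : α) (b : B), Γ.Adj (some (Sum.inl a)) (some (Sum.inr b)) ↔ a ∈ (b : Finset α) := by
    intro a b; simp [Γ, pointBlockGraph, pointBlockRel]
  have hS : Nat.card S = Nat.card (setSystemAut B) := by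
    have hfix : ∀ g : S, (g : Γ ≃g Γ) none = none := fun g => g.2
    have hpt : ∀ (g : S) (a : α), ∃ a', (g : Γ ≃g Γ) (some (Sum.inl a)) = some (Sum.inl a') := by
      intro g a
      rw [← adjA]
      have := ((g : Γ ≃g Γ).map_rel_iff' (a := none) (b := some (Sum.inl a))).mpr ((adjA _).mpr ⟨a, rfl⟩)
      rwa [show (g : Γ ≃g Γ).toEquiv none = none from hfix g] at this
    choose π hπ using hpt
    have hblk : ∀ (g : S) (b : B), ∃ c : B, (g : Γ ≃g Γ) (some (Sum.inr b)) = some (Sum.inr c) ∧
        (c : Finset α) = (b : Finset α).image (π g) := by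
      intro g b
      have hinj : Function.Injective (π g) := fun a a' e => by
        simpa using (g : Γ ≃g Γ).injective (show (g : Γ ≃g Γ) (some (Sum.inl a)) = (g : Γ ≃g Γ) (some (Sum.inl a')) by rw [hπ, hπ, e])
      have hbij := Finite.injective_iff_bijective.mp hinj
      rcases hv : (g : Γ ≃g Γ) (some (Sum.inr b)) with _ | a | c
      · exact absurd ((g : Γ ≃g Γ).injective (hv.trans (hfix g).symm)) (by simp)
      · obtain ⟨a0, ha0⟩ := hbij.2 a
        exact absurd ((g : Γ ≃g Γ).injective (hv.trans (by rw [← ha0, ← hπ]))) (by simp)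
      · refine ⟨c, rfl, Finset.ext fun a => ?_⟩
        obtain ⟨a0, rfl⟩ := hbij.2 a
        rw [← adjB, ← hπ, ← hv, (g : Γ ≃g Γ).map_adj_iff, adjB, Finset.mem_image]
        exact ⟨fun h => ⟨a0, h, rfl⟩, fun ⟨a1, h, e⟩ => hinj e ▸ h⟩
    have hπbij : ∀ g : S, Function.Bijective (π g) := fun g => Finite.injective_iff_bijective.mp fun a a' e => by
      simpa using (g : Γ ≃g Γ).injective (show (g : Γ ≃g Γ) (some (Sum.inl a)) = (g : Γ ≃g Γ) (some (Sum.inl a')) by rw [hπ, hπ, e])
    let res : S → setSystemAut B := fun g => ⟨Equiv.ofBijective _ (hπbij g), by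
      rw [MulAction.mem_stabilizer_iff, CfsgCode.smul_sys]
      refine Set.eq_of_subset_of_ncard_le ?_ (le_of_eq ?_) (Set.toFinite _)
      · rintro _ ⟨b, hb, rfl⟩
        obtain ⟨c, -, hc⟩ := hblk g ⟨b, hb⟩
        show b.image (π g) ∈ B
        rw [← hc]; exact c.2
      · exact (Set.ncard_image_of_injective _ (Finset.image_injective (Equiv.injective _))).symm⟩
    refine Nat.card_eq_of_bijective res ⟨fun g g' e => ?_, fun f => ?_⟩
    · have e' : π g = π g' := congrArg (fun k : setSystemAut B => ((k : Equiv.Perm α) : α → α)) e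
      refine Subtype.ext (RelIso.ext ?_)
      rintro (_ | a | b)
      · rw [hfix, hfix]
      · rw [hπ, hπ, e']
      · obtain ⟨c, hc, hce⟩ := hblk g b
        obtain ⟨c', hc', hce'⟩ := hblk g' b
        rw [hc, hc', show c = c' from Subtype.ext (by rw [hce, hce', e'])]
    · have hmem : ∀ b : Finset α, b.image f.1 ∈ B ↔ b ∈ B := fun b => by
        have h2 : (fun s : Finset α => s.image f.1) '' B = B := by
          have := MulAction.mem_stabilizer_iff.mp f.2
          rwa [CfsgCode.smul_sys] at this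
        constructor
        · intro hb
          obtain ⟨b', hb', e⟩ := h2.symm.subset hb
          rwa [← Finset.image_injective f.1.injective e]
        · exact fun hb => h2.subset ⟨b, hb, rfl⟩
      let eB : B ≃ B := Equiv.ofBijective (fun b => ⟨(b : Finset α).image f.1, (hmem _).mpr b.2⟩)
        (Finite.injective_iff_bijective.mp fun b b' e =>
          Subtype.ext (Finset.image_injective f.1.injective (congrArg Subtype.val e)))
      let g : Γ ≃g Γ :=
        { toEquiv := Equiv.optionCongr (Equiv.sumCongr f.1 eB)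
          map_rel_iff' := fun {v w} => by
            have hd : ∀ b c : Finset α, Disjoint (b.image f.1) (c.image f.1) ↔ Disjoint b c := fun b c =>
              Finset.disjoint_image f.1.injective
            rcases v with _ | a | b <;> rcases w with _ | a' | b' <;>
              simp [Γ, pointBlockGraph, pointBlockRel, eB, hd, Subtype.ext_iff,
                (Finset.image_injective f.1.injective).eq_iff] }
      refine ⟨⟨g, rfl⟩, Subtype.ext (Equiv.ext fun a => ?_)⟩
      have := hπ ⟨g, rfl⟩ a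
      exact (by simpa [g] using this.symm : π ⟨g, rfl⟩ a = f.1 a)
  show Nat.card (Γ ≃g Γ) = _
  rw [← S.card_mul_index, hidx, hS, hA]

end CfsgLeech
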