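/-
The group HS as a group of permutations of 100 points.
-/
import Cfsg.Agent.Lib.Leech.ModelCheck
import Cfsg.Agent.Lib.Leech.HiSPermData
import Cfsg.Agent.Lib.Leech.SporTransfer

set_option autoImplicit false
set_option maxRecDepth 30000
set_option maxHeartbeats 1000000

namespace CfsgLeech.Models

open Cfsg CfsgGolay CfsgPC
open scoped Pointwise

/-- The fixed vectors. -/
def hsVs : List ℕ := [895084981032584478931192657527490097, 852206658587909773353650494292640268]

theorem hs_len : hsPts.length = 100 := by decide +kernel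

theorem hs_pts0 : ptsPart hsPts 0 50 = true := by decide +kernel

theorem hs_pts1 : ptsPart hsPts 50 100 = true := by decide +kernel

theorem hs_vs_ok : (hsVs.all fun v => inLatB (vecN v)) = true := by decide +kernel

theorem hs_vs_eq : (∀ i, vecN (hsVs.getD 0 0) i = uStd i) ∧ (∀ i, vecN (hsVs.getD 1 0) i = tStd i) := by decide +kernel

theorem hs_fix : ∀ a < 3, fixOK (hsWords.getD a []) hsVs (hsFixed.getD a []) = true := by decide +kernel

theorem hs_len2 : hsWords.length = 3 ∧ hsCodes.length = 3 := by decide +kernel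

theorem hs_move0 : ((List.range 100).all fun i => moveOK hsPts (hsWords.getD 0 []) (hsCodes.getD 0 0) hsPaths0 i) = true := by
  decide +kernel

theorem hs_move1 : ((List.range 100).all fun i => moveOK hsPts (hsWords.getD 1 []) (hsCodes.getD 1 0) hsPaths1 i) = true := by
  decide +kernel

theorem hs_move2 : ((List.range 100).all fun i => moveOK hsPts (hsWords.getD 2 []) (hsCodes.getD 2 0) hsPaths2 i) = true := by
  decide +kernel

/-- Codes of the inverses of the generators. -/
def hsCodesInv : List ℕ := hsCodes.map fun c => pk (fun i => (List.range 100).findIdx fun j => Nat.beq (ap c j) i) 100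

theorem hs_perm : ∀ a < 3, isPerm 100 (hsCodes.getD a 0) (hsCodesInv.getD a 0) = true := by decide +kernel

theorem hs_slp : slpOK 100 hsCodes hsSlp hsRigid.gens = true := by decide +kernel

theorem hs_shape : shapeOK 100 hsChain hsRigid.gens = true ∧ hsChain.length = 5 ∧
    (hsChain.map fun L => L.tr.length) = [100, 77, 60, 32, 3] := by decide +kernel

theorem hs_entries0_0 : entriesOK 100 hsChain hsRigid.gens 0 0 100 = true := by decide +kernel

theorem hs_entries1_0 : entriesOK 100 hsChain hsRigid.gens 1 0 77 = true := by decide +kernel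

theorem hs_entries2_0 : entriesOK 100 hsChain hsRigid.gens 2 0 60 = true := by decide +kernel

theorem hs_entries3_0 : entriesOK 100 hsChain hsRigid.gens 3 0 32 = true := by decide +kernel

theorem hs_entries4_0 : entriesOK 100 hsChain hsRigid.gens 4 0 3 = true := by decide +kernel

theorem hs_size : sizeOfChain hsChain = 44352000 := by decide +kernel

theorem hs_check : hsRigid.check = true := by decide +kernel

attribute [local irreducible] codeL octadL dodecadL slpCodes hsPts hsWords hsCodes hsCodesInv hsFixed hsPaths0 hsPaths1 hsPaths2 hsSlp hsChain vecN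

theorem hs_pts_ok : ptsOK hsPts = true := ptsOK_of_parts fun i hi => by
  rw [hs_len] at hi
  by_cases h0 : i < 50
  · exact ⟨0, 50, by omega, h0, hs_pts0⟩
  exact ⟨50, 100, by omega, hi, hs_pts1⟩

theorem hs_valid : Valid 100 hsCodes := fun c hc => by
  obtain ⟨a, ha, rfl⟩ := List.getElem_of_mem hc
  have := hs_perm a (by rw [hs_len2.2] at ha; exact ha)
  rw [List.getD_eq_getElem _ _ ha] at this
  exact ⟨_, decP_rep this⟩

theorem hs_table : TableOK 100 hsChain hsRigid.gens := by
  obtain ⟨hs, hl, hlens⟩ := hs_shape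
  refine tableOK_of_checks hs fun j hj k hk => ?_
  rw [hl] at hj
  have hk' : k < (hsChain.map fun L => L.tr.length).getD j 0 := by
    rw [List.getD_eq_getElem _ _ (hl.symm ▸ hj)] at hk
    rw [List.getD_eq_getElem _ _ (by rw [List.length_map, hl]; exact hj), List.getElem_map]
    exact hk
  rw [hlens] at hk'
  clear hk hs hl hlens
  interval_cases j
  · replace hk : k < 100 := hk'
    exact of_entriesOK hs_entries0_0 (by omega) hk
  · replace hk : k < 77 := hk'
    exact of_entriesOK hs_entries1_0 (by omega) hk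
  · replace hk : k < 60 := hk'
    exact of_entriesOK hs_entries2_0 (by omega) hk
  · replace hk : k < 32 := hk'
    exact of_entriesOK hs_entries3_0 (by omega) hk
  · replace hk : k < 3 := hk'
    exact of_entriesOK hs_entries4_0 (by omega) hk

theorem hs_model : Valid 100 hsRigid.gens ∧ hsRigid.Good ∧ Nonempty (↥(MulAction.stabilizer ↥Co0 (⟨uStd, uStd_mem⟩ : ↥leechLattice) ⊓
      MulAction.stabilizer ↥Co0 (⟨tStd, tStd_mem⟩ : ↥leechLattice)) ≃* hsRigid.grp) := by
  have hmem := slp_sound (n := 100) (by norm_num) (genG 100 hsCodes) hsSlp hsCodes hsRigid.gens hs_slp fun c hc => by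
    obtain ⟨g, hg⟩ := hs_valid c hc
    exact ⟨g, Subgroup.subset_closure ⟨c, hc, hg⟩, hg⟩
  have hv : Valid 100 hsRigid.gens := fun c hc => ⟨_, (hmem c hc).choose_spec.2⟩
  have hsub : genG 100 hsRigid.gens ≤ genG 100 hsCodes := by
    refine (Subgroup.closure_le _).mpr ?_
    rintro g ⟨c, hc, hg⟩
    obtain ⟨h, hh, hhr⟩ := hmem c hc
    exact hg.unique hhr ▸ hh
  haveI : Finite ↥(MulAction.stabilizer ↥Co0 (⟨uStd, uStd_mem⟩ : ↥leechLattice) ⊓
      MulAction.stabilizer ↥Co0 (⟨tStd, tStd_mem⟩ : ↥leechLattice)) := Nat.finite_of_card_ne_zero (by rw [card_hs]; norm_num)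
  obtain ⟨hle, hiso⟩ := exists_iso (n := 100) (H := (MulAction.stabilizer ↥Co0 (⟨uStd, uStd_mem⟩ : ↥leechLattice) ⊓
      MulAction.stabilizer ↥Co0 (⟨tStd, tStd_mem⟩ : ↥leechLattice))) hs_len (words := hsWords) (codes := hsCodes) hs_pts_ok hs_vs_ok
    (fun g hg => by
      obtain ⟨h0, h1⟩ := hs_vs_eq
      have e0 : vecL (hsVs.getD 0 0) = ⟨uStd, uStd_mem⟩ := Subtype.ext (by
        rw [vecL_coe (List.all_eq_true.mp hs_vs_ok _ (by simp [hsVs]))]; exact funext h0)
      have e1 : vecL (hsVs.getD 1 0) = ⟨tStd, tStd_mem⟩ := Subtype.ext (by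
        rw [vecL_coe (List.all_eq_true.mp hs_vs_ok _ (by simp [hsVs]))]; exact funext h1)
      have g0 := hg (hsVs.getD 0 0) (by simp [hsVs])
      have g1 := hg (hsVs.getD 1 0) (by simp [hsVs])
      rw [e0] at g0
      rw [e1] at g1
      exact ⟨g0, g1⟩)
    (fun c hc => by
      obtain ⟨a, ha, rfl⟩ := List.getElem_of_mem hc
      have ha3 : a < 3 := by rw [hs_len2.2] at ha; exact ha
      have hw : hsWords.getD a [] ∈ hsWords := by
        rw [List.getD_eq_getElem _ _ (hs_len2.1.symm ▸ ha3)]; exact List.getElem_mem _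
      rw [← List.getD_eq_getElem (d := 0) _ ha]
      refine ⟨_, hw, hsFixed.getD a [], [hsPaths0, hsPaths1, hsPaths2].getD a [], _, hs_fix a ha3, hs_perm a ha3, ?_⟩
      intro i hi
      interval_cases a
      · exact List.all_eq_true.mp hs_move0 i (List.mem_range.mpr hi)
      · exact List.all_eq_true.mp hs_move1 i (List.mem_range.mpr hi)
      · exact List.all_eq_true.mp hs_move2 i (List.mem_range.mpr hi))
  rw [card_hs] at hle hiso
  have hcs : Nat.card (genG 100 hsRigid.gens) ≤ Nat.card (genG 100 hsCodes) :=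
    Nat.card_le_card_of_injective _ (Subgroup.inclusion_injective hsub)
  obtain ⟨heq, hcard⟩ := table_eq (n := 100) (by norm_num) hs_table hv ((hcs.trans hle).trans (le_of_eq hs_size.symm))
  have hgrp : genG 100 hsRigid.gens = genG 100 hsCodes :=
    Subgroup.eq_of_le_of_card_ge hsub (hle.trans (le_of_eq (hcard.trans hs_size).symm))
  obtain ⟨e⟩ := hiso (le_of_eq ((hgrp ▸ hcard : Nat.card (genG 100 hsCodes) = _).trans hs_size).symm)
  exact ⟨hv, ⟨hs_table, heq, hcard⟩, ⟨e.trans (MulEquiv.subgroupCongr hgrp.symm)⟩⟩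

end CfsgLeech.Models
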