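/-
The outer automorphism group of Co3.
-/
import Cfsg.Agent.Lib.Leech.Co3Model

set_option autoImplicit false
set_option maxRecDepth 30000

namespace CfsgLeech.Models

open Cfsg CfsgGolay CfsgPC

theorem co3_centX : co3Rigid.checkCentX = true := by decide +kernel

theorem co3_arith : co3Rigid.checkArith = true := by decide +kernel

theorem co3_images : co3Rigid.checkImages = true := by decide +kernel

theorem co3_s : co3Rigid.checkS = true := by decide +kernel

theorem card_out_Co3 : Nat.card (Cfsg.Out ↥Spor.Co3) = 1 := by
  obtain ⟨e1⟩ := spor_co3_equiv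
  obtain ⟨hv, hg, ⟨e2⟩⟩ := co3_model
  rw [card_out_congr (e1.trans e2)]
  have hle := Rigid.card_out_le (R := co3Rigid) hv (show Nat.Prime 23 by norm_num) co3_check co3_centX co3_arith co3_images co3_s hg
  have hlen : co3Rigid.images.length = 1 := rfl
  rw [hlen] at hle
  exact le_antisymm hle Nat.card_pos

end CfsgLeech.Models
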