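/-
Kernel checks of the collectors of Co3.
-/
import Cfsg.Agent.Lib.Leech.Co3Model
import Cfsg.Agent.Lib.Leech.Co3SylowData

set_option autoImplicit false
set_option maxRecDepth 30000
set_option maxHeartbeats 1000000

namespace CfsgLeech.Models

open CfsgPC CfsgLib.StemSylow

theorem co3_relTwo0 : ((List.range 10).all fun j => Nat.blt j 0 || co3CertTwo.relOK 0 j) = true := by decide +kernel

theorem co3_relTwo1 : ((List.range 10).all fun j => Nat.blt j 1 || co3CertTwo.relOK 1 j) = true := by decide +kernel

theorem co3_relTwo2 : ((List.range 10).all fun j => Nat.blt j 2 || co3CertTwo.relOK 2 j) = true := by decide +kernel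

theorem co3_relTwo3 : ((List.range 10).all fun j => Nat.blt j 3 || co3CertTwo.relOK 3 j) = true := by decide +kernel

theorem co3_relTwo4 : ((List.range 10).all fun j => Nat.blt j 4 || co3CertTwo.relOK 4 j) = true := by decide +kernel

theorem co3_relTwo5 : ((List.range 10).all fun j => Nat.blt j 5 || co3CertTwo.relOK 5 j) = true := by decide +kernel

theorem co3_relTwo6 : ((List.range 10).all fun j => Nat.blt j 6 || co3CertTwo.relOK 6 j) = true := by decide +kernel

theorem co3_relTwo7 : ((List.range 10).all fun j => Nat.blt j 7 || co3CertTwo.relOK 7 j) = true := by decide +kernel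

theorem co3_relTwo8 : ((List.range 10).all fun j => Nat.blt j 8 || co3CertTwo.relOK 8 j) = true := by decide +kernel

theorem co3_relTwo9 : ((List.range 10).all fun j => Nat.blt j 9 || co3CertTwo.relOK 9 j) = true := by decide +kernel

theorem co3_memTwo : memOK 276 co3Chain (co3GcTwo ++ co3TcTwo) = true := by decide +kernel

theorem co3_factsTwo : factsB co3Chain co3CertTwo.facts (co3GcTwo.map Prod.fst) (co3TcTwo.map Prod.fst) = true := by decide +kernel

theorem co3_subTwo : shapeOK 276 co3SubTwo (co3GcTwo.map Prod.fst) = true ∧ co3SubTwo.length = 3 ∧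
    (co3SubTwo.map fun L => L.tr.length) = [128, 4, 2] ∧ sizeOfChain co3SubTwo = 1024 ∧
    (co3TcTwo.map Prod.fst).head? = some (idk 276) := by decide +kernel

theorem co3_subTwo0_0 : entriesOK 276 co3SubTwo (co3GcTwo.map Prod.fst) 0 0 64 = true := by decide +kernel

theorem co3_subTwo0_64 : entriesOK 276 co3SubTwo (co3GcTwo.map Prod.fst) 0 64 128 = true := by decide +kernel

theorem co3_subTwo1_0 : entriesOK 276 co3SubTwo (co3GcTwo.map Prod.fst) 1 0 4 = true := by decide +kernel

theorem co3_subTwo2_0 : entriesOK 276 co3SubTwo (co3GcTwo.map Prod.fst) 2 0 2 = true := by decide +kernel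

theorem co3_relThree0 : ((List.range 7).all fun j => Nat.blt j 0 || co3CertThree.relOK 0 j) = true := by decide +kernel

theorem co3_relThree1 : ((List.range 7).all fun j => Nat.blt j 1 || co3CertThree.relOK 1 j) = true := by decide +kernel

theorem co3_relThree2 : ((List.range 7).all fun j => Nat.blt j 2 || co3CertThree.relOK 2 j) = true := by decide +kernel

theorem co3_relThree3 : ((List.range 7).all fun j => Nat.blt j 3 || co3CertThree.relOK 3 j) = true := by decide +kernel

theorem co3_relThree4 : ((List.range 7).all fun j => Nat.blt j 4 || co3CertThree.relOK 4 j) = true := by decide +kernel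

theorem co3_relThree5 : ((List.range 7).all fun j => Nat.blt j 5 || co3CertThree.relOK 5 j) = true := by decide +kernel

theorem co3_relThree6 : ((List.range 7).all fun j => Nat.blt j 6 || co3CertThree.relOK 6 j) = true := by decide +kernel

theorem co3_memThree : memOK 276 co3Chain (co3GcThree ++ co3TcThree) = true := by decide +kernel

theorem co3_factsThree : factsB co3Chain co3CertThree.facts (co3GcThree.map Prod.fst) (co3TcThree.map Prod.fst) = true := by decide +kernel

theorem co3_subThree : shapeOK 276 co3SubThree (co3GcThree.map Prod.fst) = true ∧ co3SubThree.length = 2 ∧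
    (co3SubThree.map fun L => L.tr.length) = [243, 9] ∧ sizeOfChain co3SubThree = 2187 ∧
    (co3TcThree.map Prod.fst).head? = some (idk 276) := by decide +kernel

theorem co3_subThree0_0 : entriesOK 276 co3SubThree (co3GcThree.map Prod.fst) 0 0 64 = true := by decide +kernel

theorem co3_subThree0_64 : entriesOK 276 co3SubThree (co3GcThree.map Prod.fst) 0 64 128 = true := by decide +kernel

theorem co3_subThree0_128 : entriesOK 276 co3SubThree (co3GcThree.map Prod.fst) 0 128 192 = true := by decide +kernel

theorem co3_subThree0_192 : entriesOK 276 co3SubThree (co3GcThree.map Prod.fst) 0 192 243 = true := by decide +kernel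

theorem co3_subThree1_0 : entriesOK 276 co3SubThree (co3GcThree.map Prod.fst) 1 0 9 = true := by decide +kernel

theorem co3_relFive0 : ((List.range 3).all fun j => Nat.blt j 0 || co3CertFive.relOK 0 j) = true := by decide +kernel

theorem co3_relFive1 : ((List.range 3).all fun j => Nat.blt j 1 || co3CertFive.relOK 1 j) = true := by decide +kernel

theorem co3_relFive2 : ((List.range 3).all fun j => Nat.blt j 2 || co3CertFive.relOK 2 j) = true := by decide +kernel

theorem co3_memFive : memOK 276 co3Chain (co3GcFive ++ co3TcFive) = true := by decide +kernel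

theorem co3_factsFive : factsB co3Chain co3CertFive.facts (co3GcFive.map Prod.fst) (co3TcFive.map Prod.fst) = true := by decide +kernel

theorem co3_subFive : shapeOK 276 co3SubFive (co3GcFive.map Prod.fst) = true ∧ co3SubFive.length = 1 ∧
    (co3SubFive.map fun L => L.tr.length) = [125] ∧ sizeOfChain co3SubFive = 125 ∧
    (co3TcFive.map Prod.fst).head? = some (idk 276) := by decide +kernel

theorem co3_subFive0_0 : entriesOK 276 co3SubFive (co3GcFive.map Prod.fst) 0 0 64 = true := by decide +kernel

theorem co3_subFive0_64 : entriesOK 276 co3SubFive (co3GcFive.map Prod.fst) 0 64 125 = true := by decide +kernel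

theorem co3_lenTwo : co3GcTwo.length = co3CertTwo.n := by decide +kernel

theorem co3_lenThree : co3GcThree.length = co3CertThree.n := by decide +kernel

theorem co3_lenFive : co3GcFive.length = co3CertFive.n := by decide +kernel

/-- A cyclic Sylow subgroup at the prime `p` from a power of a word in the generators. -/
def co3Cyclic : List (ℕ × List ℕ) := [(7, [1, 1, 0, 2, 0, 1, 1, 2]), (11, [1]), (23, [0])]

theorem co3_cyclic : (co3Cyclic.all fun d => d.2.all (fun a => Nat.blt a 3) &&
    relHolds 276 co3Rigid.gens (d.2, d.1) && !(relHolds 276 co3Rigid.gens (d.2, 1)) &&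
    Nat.blt 1 d.1 && !(Nat.beq (495766656000 % (d.1 * d.1)) 0)) = true := by decide +kernel

end CfsgLeech.Models
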