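/-
The multiplier of Co3 is trivial.
-/
import Cfsg.Agent.Lib.Leech.Co3Model
import Cfsg.Agent.Lib.Leech.Co3SchurChecks
import Cfsg.Agent.Lib.SchurSmall

set_option autoImplicit false
set_option maxRecDepth 30000
set_option maxHeartbeats 1000000

namespace CfsgLeech.Models

open CfsgPC CfsgLib.StemSylow

attribute [local irreducible] co3Chain co3SubTwo co3SubThree co3SubFive co3GcTwo co3GcThree co3GcFive co3TcTwo co3TcThree co3TcFive

theorem co3_subOKTwo : TableOK 276 co3SubTwo (co3GcTwo.map Prod.fst) := by
  obtain ⟨hs, hl, hlens, -⟩ := co3_subTwo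
  refine tableOK_of_checks hs fun j hj k hk => ?_
  rw [hl] at hj
  have hk' : k < (co3SubTwo.map fun L => L.tr.length).getD j 0 := by
    rw [List.getD_eq_getElem _ _ (hl.symm ▸ hj)] at hk
    rw [List.getD_eq_getElem _ _ (by rw [List.length_map, hl]; exact hj), List.getElem_map]
    exact hk
  rw [hlens] at hk'
  clear hk hs hl hlens
  interval_cases j
  · replace hk : k < 128 := hk'
    by_cases h0 : k < 64
    · exact of_entriesOK co3_subTwo0_0 (by omega) h0
    exact of_entriesOK co3_subTwo0_64 (by omega) hk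
  · replace hk : k < 4 := hk'
    exact of_entriesOK co3_subTwo1_0 (by omega) hk
  · replace hk : k < 2 := hk'
    exact of_entriesOK co3_subTwo2_0 (by omega) hk

theorem co3_certTwo : co3CertTwo.check = true := by
  have h : ∀ i < 10, ((List.range 10).all fun j => Nat.blt j i || co3CertTwo.relOK i j) = true := by
    intro i hi
    interval_cases i
    · exact co3_relTwo0
    · exact co3_relTwo1
    · exact co3_relTwo2
    · exact co3_relTwo3
    · exact co3_relTwo4
    · exact co3_relTwo5
    · exact co3_relTwo6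
    · exact co3_relTwo7
    · exact co3_relTwo8
    · exact co3_relTwo9
  exact List.all_eq_true.mpr fun i hi => h i (List.mem_range.mp hi)

theorem co3_subOKThree : TableOK 276 co3SubThree (co3GcThree.map Prod.fst) := by
  obtain ⟨hs, hl, hlens, -⟩ := co3_subThree
  refine tableOK_of_checks hs fun j hj k hk => ?_
  rw [hl] at hj
  have hk' : k < (co3SubThree.map fun L => L.tr.length).getD j 0 := by
    rw [List.getD_eq_getElem _ _ (hl.symm ▸ hj)] at hk
    rw [List.getD_eq_getElem _ _ (by rw [List.length_map, hl]; exact hj), List.getElem_map]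
    exact hk
  rw [hlens] at hk'
  clear hk hs hl hlens
  interval_cases j
  · replace hk : k < 243 := hk'
    by_cases h0 : k < 64
    · exact of_entriesOK co3_subThree0_0 (by omega) h0
    by_cases h64 : k < 128
    · exact of_entriesOK co3_subThree0_64 (by omega) h64
    by_cases h128 : k < 192
    · exact of_entriesOK co3_subThree0_128 (by omega) h128
    exact of_entriesOK co3_subThree0_192 (by omega) hk
  · replace hk : k < 9 := hk'
    exact of_entriesOK co3_subThree1_0 (by omega) hk

theorem co3_certThree : co3CertThree.check = true := by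
  have h : ∀ i < 7, ((List.range 7).all fun j => Nat.blt j i || co3CertThree.relOK i j) = true := by
    intro i hi
    interval_cases i
    · exact co3_relThree0
    · exact co3_relThree1
    · exact co3_relThree2
    · exact co3_relThree3
    · exact co3_relThree4
    · exact co3_relThree5
    · exact co3_relThree6
  exact Bool.and_eq_true_iff.mpr ⟨rfl, List.all_eq_true.mpr fun i hi => h i (List.mem_range.mp hi)⟩

theorem co3_subOKFive : TableOK 276 co3SubFive (co3GcFive.map Prod.fst) := by
  obtain ⟨hs, hl, hlens, -⟩ := co3_subFive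
  refine tableOK_of_checks hs fun j hj k hk => ?_
  rw [hl] at hj
  have hk' : k < (co3SubFive.map fun L => L.tr.length).getD j 0 := by
    rw [List.getD_eq_getElem _ _ (hl.symm ▸ hj)] at hk
    rw [List.getD_eq_getElem _ _ (by rw [List.length_map, hl]; exact hj), List.getElem_map]
    exact hk
  rw [hlens] at hk'
  clear hk hs hl hlens
  interval_cases j
  · replace hk : k < 125 := hk'
    by_cases h0 : k < 64
    · exact of_entriesOK co3_subFive0_0 (by omega) h0
    exact of_entriesOK co3_subFive0_64 (by omega) hk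

theorem co3_certFive : co3CertFive.check = true := by
  have h : ∀ i < 3, ((List.range 3).all fun j => Nat.blt j i || co3CertFive.relOK i j) = true := by
    intro i hi
    interval_cases i
    · exact co3_relFive0
    · exact co3_relFive1
    · exact co3_relFive2
  exact Bool.and_eq_true_iff.mpr ⟨rfl, List.all_eq_true.mpr fun i hi => h i (List.mem_range.mp hi)⟩

theorem stem_ker_co3 (Γ : Type*) [Group Γ] [Finite Γ] (σ : Γ →* co3Rigid.grp) (hσ : Cfsg.IsStemExtension σ) :
    σ.ker = ⊥ := by
  classical
  obtain ⟨hv, hg, -⟩ := co3_model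
  have hn : (276 : ℕ) ≤ 512 := by norm_num
  have hcard : Nat.card (genG 276 co3Rigid.gens) = 495766656000 := hg.card.trans co3_size
  have key : ∀ p : ℕ, p.Prime → p ∣ 495766656000 → ∀ z ∈ σ.ker, z ^ p = 1 → z = 1 := by
    intro p hp hdvd z hz hzp
    by_cases h2 : p = 2
    · subst h2
      exact no_torsion_two hn hg.table hv hg.eq co3CertTwo co3_certTwo ⟨co3GcTwo, co3TcTwo, co3SubTwo⟩ co3_lenTwo
        ⟨co3_memTwo, co3_subTwo.2.2.2.2, co3_factsTwo, co3_subOKTwo, co3_subTwo.2.2.2.1⟩
        (by rw [hcard]; norm_num [co3CertTwo]) hσ hz hzp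
    by_cases h3 : p = 3
    · subst h3
      exact no_torsion_of_cert hn hg.table hv hg.eq co3CertThree co3_certThree Nat.prime_three
        ⟨co3GcThree, co3TcThree, co3SubThree⟩ co3_lenThree
        ⟨co3_memThree, co3_subThree.2.2.2.2, co3_factsThree, co3_subOKThree, co3_subThree.2.2.2.1⟩
        (by rw [hcard]; norm_num [co3CertThree]) hσ hz hzp
    by_cases h5 : p = 5
    · subst h5
      exact no_torsion_of_cert hn hg.table hv hg.eq co3CertFive co3_certFive (show Nat.Prime 5 by norm_num)
        ⟨co3GcFive, co3TcFive, co3SubFive⟩ co3_lenFive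
        ⟨co3_memFive, co3_subFive.2.2.2.2, co3_factsFive, co3_subOKFive, co3_subFive.2.2.2.1⟩
        (by rw [hcard]; norm_num [co3CertFive]) hσ hz hzp
    have hle : p ∈ [7, 11, 23] := by
      rw [show 495766656000 = 2 ^ 10 * 3 ^ 7 * 5 ^ 3 * 7 * 11 * 23 by norm_num] at hdvd
      have hq : ∀ q : ℕ, q.Prime → p ∣ q → p = q := fun q hq h => (Nat.prime_dvd_prime_iff_eq hp hq).mp h
      rcases (Nat.Prime.dvd_mul hp).mp hdvd with h | h
      · rcases (Nat.Prime.dvd_mul hp).mp h with h | h
        · rcases (Nat.Prime.dvd_mul hp).mp h with h | h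
          · rcases (Nat.Prime.dvd_mul hp).mp h with h | h
            · rcases (Nat.Prime.dvd_mul hp).mp h with h | h
              · exact absurd (hq 2 Nat.prime_two (hp.dvd_of_dvd_pow h)) h2
              · exact absurd (hq 3 Nat.prime_three (hp.dvd_of_dvd_pow h)) h3
            · exact absurd (hq 5 (by norm_num) (hp.dvd_of_dvd_pow h)) h5
          · simp [hq 7 (by norm_num) h]
        · simp [hq 11 (by norm_num) h]
      · simp [hq 23 (by norm_num) h]
    obtain ⟨d, hd, rfl⟩ : ∃ d ∈ co3Cyclic, d.1 = p := by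
      simp only [List.mem_cons, List.not_mem_nil, or_false] at hle
      rcases hle with rfl | rfl | rfl <;> simp [co3Cyclic]
    have h := List.all_eq_true.mp co3_cyclic d hd
    simp only [Bool.and_eq_true, List.all_eq_true, Nat.blt_eq, Bool.not_eq_true'] at h
    obtain ⟨⟨⟨⟨hw, hr⟩, hne⟩, -⟩, hmod⟩ := h
    have hrep : ∀ a ∈ d.2, Rep 276 (co3Rigid.gens.getD a 0) (Rigid.gen co3Rigid a) := fun a ha =>
      (Rigid.rep_gen hv (hw a ha)).1
    have hr' := (relHolds_iff (r := (d.2, d.1)) hrep).mp hr
    have hne' : ¬ (d.2.map (Rigid.gen co3Rigid)).prod ^ 1 = 1 := fun e => by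
      rw [(relHolds_iff (r := (d.2, 1)) hrep).mpr e] at hne; exact Bool.noConfusion hne
    refine no_torsion_cyclic hp (g := ⟨_, Subgroup.list_prod_mem _ (l := d.2.map (Rigid.gen co3Rigid)) fun x hx => by
      obtain ⟨a, ha, rfl⟩ := List.mem_map.mp hx
      exact (Rigid.rep_gen hv (hw a ha)).2⟩) (Subtype.ext hr') (fun e => hne' (by rw [pow_one]; exact congrArg Subtype.val e))
      (fun e => ?_) hσ hz hzp
    replace e : d.1 * d.1 ∣ 495766656000 := hcard ▸ (show d.1 * d.1 ∣ Nat.card (genG 276 co3Rigid.gens) from e)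
    rw [Nat.mod_eq_zero_of_dvd e] at hmod
    simp at hmod
  rw [eq_bot_iff]
  intro z hz
  rw [Subgroup.mem_bot]
  have hstep : ∀ k, ∀ y ∈ σ.ker, y ^ k = 1 → Nat.gcd k 495766656000 = k → y = 1 := by
    intro k
    induction k using Nat.strong_induction_on with
    | _ k ih =>
      intro y hy hk hg'
      rcases Nat.lt_or_ge 1 k with h1 | h1
      · obtain ⟨p, hp, m, rfl⟩ := Nat.exists_prime_and_dvd (by omega : k ≠ 1)
        have hd : p * m ∣ 495766656000 := hg' ▸ Nat.gcd_dvd_right _ _
        have hym : (y ^ m) ^ p = 1 := by rw [← pow_mul, mul_comm, hk]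
        have hym' := key p hp (dvd_of_mul_right_dvd hd) _ (pow_mem hy m) hym
        have hm : m < p * m := lt_mul_left (by rcases Nat.eq_zero_or_pos m with rfl | h <;> simp_all) hp.one_lt
        exact ih m hm y hy hym' (Nat.gcd_eq_left (dvd_of_mul_left_dvd hd))
      · interval_cases k
        · simp at hg'
        · simpa using hk
  refine hstep _ z hz (pow_orderOf_eq_one z) (Nat.gcd_eq_left ?_)
  have hi := CfsgLib.StSL.pow_index_eq_one_of_cyclic hσ (1 : co3Rigid.grp) hz
  rw [← (show Nat.card co3Rigid.grp = 495766656000 from hcard)]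
  refine (orderOf_dvd_of_pow_eq_one hi).trans ?_
  exact Subgroup.index_dvd_card _

theorem multiplier_co3 : Cfsg.HasCyclicSchurMultiplier ↥Cfsg.Spor.Co3 1 := by
  obtain ⟨e1⟩ := spor_co3_equiv
  obtain ⟨hv, hg, ⟨e2⟩⟩ := co3_model
  haveI : Finite co3Rigid.grp := inferInstance
  exact CfsgLib.StSL.trivial_multiplier_of_equiv (e1.trans e2) fun Γ _ _ σ hσ => stem_ker_co3 Γ σ hσ

end CfsgLeech.Models
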