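/-
The octad involution in the stabiliser of a minimal vector: shape 2^{1+8}.Sp(6, 2).
-/
import Cfsg.Agent.Lib.Leech.OctInvQ
import Cfsg.Agent.Lib.StemSylow.SpSixModel
import Cfsg.Agent.S0270

set_option autoImplicit false
set_option maxRecDepth 8000

namespace CfsgLeech.OctInv

open Cfsg CfsgGolay
open scoped Pointwise Matrix

attribute [local irreducible] codeL octadL dodecadL slpCodes piH matG

/-- The non-singular orbit. -/
def orbU : List ℕ :=
  [107, 71, 106, 141, 39, 177, 70, 139, 163, 209, 251, 57, 38, 86, 137, 109, 169, 162, 69, 127, 89, 29, 114, 49, 223, 54, 203, 108, 79, 168, 101, 23, 247, 181, 191, 149, 214, 98, 184, 199, 253, 178, 173, 61, 68, 167, 78, 197, 147, 19, 158, 241, 221, 17, 187, 83, 121, 27, 99, 124, 94, 198, 122, 31, 116, 58, 43, 91, 113, 100, 233, 166, 81, 47, 196, 35, 25, 154, 229, 216, 142, 84, 152, 50, 77, 119, 218, 21, 143, 211, 244, 182, 242, 151, 212, 42, 248, 232, 53, 46, 201, 227, 145, 239, 228, 254, 200, 136, 76, 188, 202,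 156, 62, 226, 92, 34, 238, 172, 140, 138]

/-- Its tree. -/
def orbUPar : List ℕ :=
  [0, 0, 1, 2, 4, 6, 8, 12, 16, 18, 20, 21, 24, 26, 28, 30, 32, 33, 34, 36, 37, 40, 41, 44, 46, 50, 56, 61, 66, 68, 72, 76, 77, 80, 82, 85, 88, 90, 93, 94, 96, 100, 104, 106, 108, 112, 113, 120, 122, 124, 125, 126, 128, 130, 132, 134, 136, 140, 142, 144, 145, 146, 152, 160, 161, 165, 168, 170, 172, 176, 180, 181, 182, 188, 189, 190, 192, 197, 198, 200, 202, 209, 213, 217, 218, 220, 221, 224, 226, 228, 237, 240, 249, 253, 256, 262, 273, 284, 288, 293, 294, 300, 304, 306, 313, 316, 320, 330, 337, 344, 346, 349, 365, 370, 377, 396, 422, 438, 452, 472]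

/-- The polar form. -/
def bil (a b : Vec8) : ZMod 2 := Q8 (a + b) - Q8 a - Q8 b

/-- The class of the fixed minimal vector. -/
def uB : Vec8 := vecOf 107

/-- Six vectors orthogonal to it, three hyperbolic pairs. -/
def wB (i : Fin 3 ⊕ Fin 3) : Vec8 := vecOf ([1, 6, 8, 18, 35, 132].getD (finSumFinEquiv i : Fin 6) 0)

/-- A vector off the hyperplane. -/
def fB : Vec8 := vecOf 2

theorem sym_checks : (∀ i j, bil (wB i) (wB j) = if i = j.swap then 1 else 0) ∧ (∀ i, bil (wB i) uB = 0) ∧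
    bil uB uB = 0 ∧ Q8 uB = 1 ∧ bil fB uB = 1 := by decide +kernel

theorem expand : ∀ x : Vec8, bil x uB = 0 → ∃ a : ZMod 2, x = (∑ i, bil x (wB i.swap) • wB i) + a • uB := by
  decide +kernel

theorem uB_eq : uB = vecOf 107 := rfl

attribute [local irreducible] wB uB fB

theorem bil_linear : ∀ s : Fin 4 ⊕ Fin 4, ∀ a b : Vec8, bil a b = bil b a := fun _ a b => by
  simp only [bil, add_comm a b]; abel

theorem bil_formula (a b : Vec8) :
    bil a b = ∑ i : Fin 4, (a (.inl i) * b (.inr i) + a (.inr i) * b (.inl i)) := by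
  simp only [bil, Q8, Cfsg.quadFormPlus, ← Finset.sum_sub_distrib, Pi.add_apply]
  exact Finset.sum_congr rfl fun i _ => by ring

theorem bil_add_left (a a' b : Vec8) : bil (a + a') b = bil a b + bil a' b := by
  simp only [bil_formula, ← Finset.sum_add_distrib, Pi.add_apply]
  exact Finset.sum_congr rfl fun i _ => by ring

theorem bil_smul_left (r : ZMod 2) (a b : Vec8) : bil (r • a) b = r * bil a b := by
  simp only [bil_formula, Finset.mul_sum, Pi.smul_apply, smul_eq_mul]
  exact Finset.sum_congr rfl fun i _ => by ring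

theorem bil_sum_left {ι : Type} (s : Finset ι) (f : ι → Vec8) (b : Vec8) :
    bil (∑ i ∈ s, f i) b = ∑ i ∈ s, bil (f i) b :=
  map_sum (AddMonoidHom.mk' (fun a => bil a b) fun a a' => bil_add_left a a' b) f s

theorem fix_two : ∀ y : Vec8, bil y uB = 1 → Q8 y = Q8 fB → (∀ i, bil y (wB i) = bil fB (wB i)) →
    y = fB ∨ y = fB + uB := by decide +kernel

theorem spans : ∀ x : Vec8, ∃ a c : ZMod 2, x = (∑ i, bil (x + bil x uB • fB) (wB i.swap) • wB i) + a • uB + c • fB := by
  intro x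
  have h : bil (x + bil x uB • fB) uB = 0 := by
    rw [bil_add_left, bil_smul_left, sym_checks.2.2.2.2, mul_one, CharTwo.add_self_eq_zero]
  obtain ⟨a, ha⟩ := expand _ h
  refine ⟨a, bil x uB, ?_⟩
  rw [← ha, add_assoc, ← add_smul, CharTwo.add_self_eq_zero, zero_smul, add_zero]

/-- The minimal vector in the sublattice. -/
def uV : ↥L8 := ⟨Cfsg.Spor.leechU, fun i hi => by
  show Cfsg.Spor.vecU i = 0
  have : ¬ (i = none ∨ i = some 0) := by
    rintro (rfl | rfl)
    · exact hi none_mem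
    · exact hi (by decide +kernel)
  simp [Cfsg.Spor.vecU, this]⟩

theorem co_uV : co uV = Cfsg.Spor.vecU := rfl

theorem u_checks : pi0 Cfsg.Spor.vecU = uB ∧ sqNorm Cfsg.Spor.vecU = 32 ∧ Cfsg.Spor.vecU none = 4 := by decide +kernel

/-- The stabiliser of the vector. -/
noncomputable def Cu : Subgroup ↥C0 where
  carrier := {g | (g : ↥Co0) • Cfsg.Spor.leechU = Cfsg.Spor.leechU}
  one_mem' := one_smul _ _
  mul_mem' := fun {a b} ha hb => by
    show ((a : ↥Co0) * b) • Cfsg.Spor.leechU = _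
    rw [mul_smul, hb, ha]
  inv_mem' := fun {a} ha => by
    show (a : ↥Co0)⁻¹ • Cfsg.Spor.leechU = _
    rw [inv_smul_eq_iff]; exact (show (a : ↥Co0) • _ = _ from ha).symm

theorem Cu_fix {g : ↥C0} (hg : g ∈ Cu) : matG g *ᵥ uB = uB := by
  have e : actL g uV = uV := Subtype.ext hg
  rw [← u_checks.1, ← co_uV, ← piH_apply, matG_mulVec, e]

theorem bil_iso (g : ↥C0) (a b : Vec8) : bil (matG g *ᵥ a) (matG g *ᵥ b) = bil a b := by
  have h : ∀ x, Q8 (matG g *ᵥ x) = Q8 x := fun x => (phi g).2 x x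
  simp only [bil, ← Matrix.mulVec_add, h]

/-- The matrix on the orthogonal space modulo the vector. -/
noncomputable def matS (g : ↥C0) : Matrix (Fin 3 ⊕ Fin 3) (Fin 3 ⊕ Fin 3) (ZMod 2) :=
  Matrix.of fun i j => bil (matG g *ᵥ wB j) (wB i.swap)

theorem perp_image {g : ↥C0} (hg : g ∈ Cu) {x : Vec8} (hx : bil x uB = 0) : bil (matG g *ᵥ x) uB = 0 := by
  rw [← Cu_fix hg, bil_iso, hx]

theorem image_w {g : ↥C0} (hg : g ∈ Cu) (j : Fin 3 ⊕ Fin 3) :
    ∃ a : ZMod 2, matG g *ᵥ wB j = (∑ i, matS g i j • wB i) + a • uB := by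
  obtain ⟨a, ha⟩ := expand _ (perp_image hg (sym_checks.2.1 j))
  exact ⟨a, ha⟩

theorem bil_uB_w (i : Fin 3 ⊕ Fin 3) : bil uB (wB i) = 0 := by
  rw [bil_linear (.inl 0)]; exact sym_checks.2.1 i

theorem matS_mul {g h : ↥C0} (hg : g ∈ Cu) (hh : h ∈ Cu) : matS (g * h) = matS g * matS h := by
  ext i j
  obtain ⟨a, ha⟩ := image_w hh j
  have hm : matG (g * h) *ᵥ wB j = matG g *ᵥ (matG h *ᵥ wB j) := by
    rw [Matrix.mulVec_mulVec, show matG (g * h) = matG g * matG h from map_mul matHom g h]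
  show bil (matG (g * h) *ᵥ wB j) (wB i.swap) = _
  rw [hm, ha, Matrix.mulVec_add, Matrix.mulVec_sum, Matrix.mulVec_smul, Cu_fix hg, bil_add_left, bil_sum_left,
    bil_smul_left, bil_uB_w, mul_zero, add_zero, Matrix.mul_apply]
  exact Finset.sum_congr rfl fun k _ => by rw [Matrix.mulVec_smul, bil_smul_left]; exact mul_comm _ _

theorem matS_one : matS 1 = 1 := by
  ext i j
  show bil (matG 1 *ᵥ wB j) (wB i.swap) = _
  rw [show matG 1 = 1 from map_one matHom, Matrix.one_mulVec, sym_checks.1, Matrix.one_apply, Sum.swap_swap]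
  simp [eq_comm]

theorem J_apply : ∀ i j : Fin 3 ⊕ Fin 3, Matrix.J (Fin 3) (ZMod 2) i j = if i = j.swap then 1 else 0 := by
  intro i j
  rcases i with i | i <;> rcases j with j | j <;> fin_cases i <;> fin_cases j <;>
    simp [Matrix.J, Matrix.one_apply, CharTwo.neg_eq]

theorem matS_symp {g : ↥C0} (hg : g ∈ Cu) : matS g ∈ Matrix.symplecticGroup (Fin 3) (ZMod 2) := by
  rw [SymplecticGroup.mem_iff']
  ext i j
  obtain ⟨a, ha⟩ := image_w hg i
  obtain ⟨b, hb⟩ := image_w hg j
  have hu : ∀ k, bil uB (matG g *ᵥ wB k) = 0 := fun k => by rw [← Cu_fix hg, bil_iso, bil_uB_w]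
  have e1 : bil (matG g *ᵥ wB i) (matG g *ᵥ wB j) = ∑ k, matS g k i * bil (wB k) (matG g *ᵥ wB j) := by
    conv_lhs => arg 1; rw [ha]
    rw [bil_add_left, bil_sum_left, bil_smul_left a, hu, mul_zero, add_zero]
    exact Finset.sum_congr rfl fun k _ => bil_smul_left _ _ _
  have e2 : ∀ k, bil (wB k) (matG g *ᵥ wB j) = ∑ l, Matrix.J (Fin 3) (ZMod 2) k l * matS g l j := fun k => by
    rw [bil_linear (.inl 0) (wB k)]
    conv_lhs => arg 1; rw [hb]
    rw [bil_add_left, bil_sum_left, bil_smul_left b, bil_uB_w, mul_zero, add_zero]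
    refine Finset.sum_congr rfl fun l _ => ?_
    rw [bil_smul_left, bil_linear (.inl 0) (wB l), sym_checks.1, J_apply, mul_comm]
  have h := bil_iso g (wB i) (wB j)
  rw [e1, sym_checks.1 i j, ← J_apply] at h
  rw [Matrix.mul_assoc, Matrix.mul_apply, ← h]
  refine Finset.sum_congr rfl fun k _ => ?_
  rw [Matrix.transpose_apply, Matrix.mul_apply, e2]

/-- The symplectic representation. -/
noncomputable def psi : ↥Cu →* ↥(Matrix.symplecticGroup (Fin 3) (ZMod 2)) :=
  MonoidHom.mk' (fun g => ⟨matS g.1, matS_symp g.2⟩) fun g h => Subtype.ext (matS_mul g.2 h.2)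

/-! ### Order -/

theorem orbU_checks : orbU.length = 120 ∧ orbU.getD 0 0 = 107 ∧
    (∀ k < 119, orbUPar.getD (k + 1) 0 / 4 < k + 1 ∧ orbUPar.getD (k + 1) 0 % 4 < 3 ∧
      colApp (genCol.getD (orbUPar.getD (k + 1) 0 % 4) []) (orbU.getD (orbUPar.getD (k + 1) 0 / 4) 0) =
        vecOf (orbU.getD (k + 1) 0)) ∧
    ((orbU.map vecOf).toFinset = Finset.univ.filter fun v => Q8 v = 1) ∧ orbU.Nodup ∧ (∀ c ∈ orbU, c < 256) := by
  decide +kernel

theorem orbU_elem : ∀ k < 120, ∃ g : ↥C0, matG g *ᵥ uB = vecOf (orbU.getD k 0) := by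
  obtain ⟨-, h0, hstep, -⟩ := orbU_checks
  intro k
  induction k using Nat.strong_induction_on with
  | _ k ih =>
    intro hk
    rcases k with _ | k
    · exact ⟨1, by rw [show matG 1 = 1 from map_one matHom, Matrix.one_mulVec, h0, uB_eq]⟩
    · obtain ⟨hp, hq, he⟩ := hstep k (by omega)
      obtain ⟨g, hg⟩ := ih _ hp (by omega)
      obtain ⟨x, hx⟩ := gen_elem ⟨_, hq⟩
      refine ⟨x * g, ?_⟩
      rw [show matG (x * g) = matG x * matG g from map_mul matHom x g, ← Matrix.mulVec_mulVec, hg, ← he]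
      funext t
      simp only [colApp, Matrix.mulVec, dotProduct]
      refine Finset.sum_congr rfl fun s _ => ?_
      rw [← hx s, Matrix.mulVec_single_one]
      rfl

/-- Non-singular classes. -/
abbrev NS : Type := {v : Vec8 // Q8 v = 1}

theorem NS_elem (c : NS) : ∃ g : ↥C0, matG g *ᵥ uB = c.1 := by
  have hm : c.1 ∈ (orbU.map vecOf).toFinset := by
    rw [orbU_checks.2.2.2.1, Finset.mem_filter]; exact ⟨Finset.mem_univ _, c.2⟩
  rw [List.mem_toFinset, List.mem_map] at hm
  obtain ⟨x, hx, he⟩ := hm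
  obtain ⟨k, hk, rfl⟩ := List.getElem_of_mem hx
  obtain ⟨g, hg⟩ := orbU_elem k (orbU_checks.1 ▸ hk)
  exact ⟨g, by rw [hg, List.getD_eq_getElem _ _ hk, he]⟩

theorem NS_card : Nat.card NS = 120 := by
  rw [Nat.card_eq_fintype_card, Fintype.card_subtype, ← orbU_checks.2.2.2.1,
    List.toFinset_card_of_nodup, List.length_map, orbU_checks.1]
  exact orbU_checks.2.2.2.2.1.map_on fun a ha b hb hab =>
    (vec_inj ⟨a, orbU_checks.2.2.2.2.2 a ha⟩).symm.trans
      ((congrArg CfsgLib.StemSylow.OEight.cd hab).trans (vec_inj ⟨b, orbU_checks.2.2.2.2.2 b hb⟩))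

theorem short_pair {v w : ↥L8} (hv : sqNorm (co v) = 32) (hw : sqNorm (co w) = 32) (h : piH v = piH w) :
    v = w ∨ v = -w := by
  obtain ⟨z, hz⟩ := pi_eq_iff.mp h
  by_cases he : (v : ↥leechLattice) = w
  · exact Or.inl (Subtype.ext he)
  rcases leechFrames.short he
    ((dotHom_self _).trans_le (hv.trans_le (by norm_num [leechFrames])))
    ((dotHom_self _).trans_le (hw.trans_le (by norm_num [leechFrames])))
    (FrameData.cls_eq_iff.mpr ⟨(z : ↥leechLattice), congrArg Subtype.val hz⟩) with h' | ⟨h', -⟩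
  · exact Or.inr (Subtype.ext h')
  · rw [show leechFrames.d = dotHom from rfl, dotHom_self, show leechFrames.s = 8 from rfl] at h'
    rw [hv] at h'
    norm_num at h'

theorem neg_act (v : ↥leechLattice) : negAut • v = -v := Subtype.ext (negAut_apply v)

theorem piH_neg (v : ↥L8) : piH (-v) = piH v :=
  pi_eq_iff.mpr ⟨-v, by rw [two_nsmul]; abel⟩

theorem card_Cu : Nat.card ↥Cu = 743178240 := by
  classical
  letI : MulAction ↥C0 ↥leechLattice := MulAction.compHom _ C0.subtype
  have hstab : MulAction.stabilizer ↥C0 Cfsg.Spor.leechU = Cu := rfl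
  choose g hg using NS_elem
  let W : NS × Bool → ↥L8 := fun p => if p.2 then actL (g p.1) uV else -actL (g p.1) uV
  let F : NS × Bool → ↥leechLattice := fun p => (W p : ↥leechLattice)
  have hpi : ∀ c, piH (actL (g c) uV) = c.1 := fun c => by
    rw [← matG_mulVec, piH_apply, co_uV, u_checks.1, hg]
  have hFpi : ∀ p, piH (W p) = p.1.1 := by
    rintro ⟨c, b⟩
    cases b
    · exact (piH_neg _).trans (hpi c)
    · exact hpi c
  have hinj : Function.Injective F := by
    rintro ⟨c, b⟩ ⟨c', b'⟩ h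
    have e1 := hFpi (c, b)
    have e2 := hFpi (c', b')
    obtain rfl : c = c' := Subtype.ext (e1.symm.trans ((congrArg piH (Subtype.ext h)).trans e2))
    have hne : (g c : ↥Co0) • Cfsg.Spor.leechU ≠ -((g c : ↥Co0) • Cfsg.Spor.leechU) := fun e => by
      rw [← aut_neg] at e
      have h4 := congrFun (congrArg Subtype.val (MulAction.injective (g c : ↥Co0) e)) none
      simp only [AddSubgroup.coe_neg, Pi.neg_apply] at h4
      rw [show ((Cfsg.Spor.leechU : ↥leechLattice) : GolayPt → ℤ) none = 4 from u_checks.2.2] at h4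
      omega
    cases b <;> cases b'
    · rfl
    · exact absurd h.symm hne
    · exact absurd h hne
    · rfl
  have horb : MulAction.orbit ↥C0 Cfsg.Spor.leechU = Set.range F := by
    ext v
    constructor
    · rintro ⟨x, rfl⟩
      have hn : sqNorm (co (actL x uV)) = 32 := (aut_norm (x : ↥Co0) _).trans u_checks.2.1
      have hq : Q8 (piH (actL x uV)) = 1 := by
        rw [Q8_piH, hn]; rfl
      rcases short_pair hn ((aut_norm (g ⟨_, hq⟩ : ↥Co0) _).trans u_checks.2.1 :
          sqNorm (co (actL (g ⟨_, hq⟩) uV)) = 32) (hpi ⟨_, hq⟩).symm with e | e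
      · exact ⟨(⟨_, hq⟩, true), (congrArg Subtype.val e).symm⟩
      · exact ⟨(⟨_, hq⟩, false), (congrArg Subtype.val e).symm⟩
    · rintro ⟨⟨c, b⟩, rfl⟩
      cases b
      · refine ⟨⟨negAut, neg_mem⟩ * g c, ?_⟩
        show (negAut * (g c : ↥Co0)) • Cfsg.Spor.leechU = -((g c : ↥Co0) • Cfsg.Spor.leechU)
        rw [mul_smul, neg_act]
      · exact ⟨g c, rfl⟩
  have hcard : (MulAction.orbit ↥C0 Cfsg.Spor.leechU).ncard = 240 := by
    rw [horb, ← Nat.card_coe_set_eq, Nat.card_range_of_injective hinj, Nat.card_prod, NS_card]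
    simp
  have h := (MulAction.stabilizer ↥C0 Cfsg.Spor.leechU).card_mul_index
  rw [MulAction.index_stabilizer, hcard, card_C0, hstab] at h
  exact Nat.eq_of_mul_eq_mul_right (show 0 < 240 by norm_num) (h.trans (by norm_num))

/-- The part of the kernel fixing the vector. -/
noncomputable abbrev Ru : Subgroup ↥Cu := phi.ker.subgroupOf Cu

theorem Ru_equiv : Nonempty (↥Ru ≃* ↥Q1) := by
  let f : ↥Ru →* ↥Q1 :=
    { toFun := fun x => ⟨rho x.1.1, mem_Q1.mpr ⟨x.1.1, x.2, rfl⟩⟩
      map_one' := Subtype.ext (map_one rho)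
      map_mul' := fun a b => Subtype.ext (map_mul rho a.1.1 b.1.1) }
  have hu : ∀ x : ↥Ru, (x.1.1 : ↥Co0) • Cfsg.Spor.leechU = Cfsg.Spor.leechU := fun x => x.1.2
  have hne : Cfsg.Spor.leechU ≠ -Cfsg.Spor.leechU := fun e => by
    have h4 := congrFun (congrArg Subtype.val e) none
    simp only [AddSubgroup.coe_neg, Pi.neg_apply] at h4
    rw [show ((Cfsg.Spor.leechU : ↥leechLattice) : GolayPt → ℤ) none = 4 from u_checks.2.2] at h4
    omega
  refine ⟨MulEquiv.ofBijective f ⟨(injective_iff_map_eq_one f).mpr fun x hx => ?_, fun y => ?_⟩⟩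
  · have h : rho x.1.1 = rho 1 := (congrArg Subtype.val hx).trans (map_one rho).symm
    rcases rho_eq.mp h.symm with e | e
    · exact Subtype.ext (Subtype.ext (Subtype.ext e))
    · have := hu x
      rw [e, Subgroup.coe_one, one_mul, neg_act] at this
      exact absurd this.symm hne
  · obtain ⟨g, hg, he⟩ := mem_Q1.mp y.2
    obtain ⟨z, hz⟩ := mem_ker.mp hg uV
    have hn : sqNorm (co (actL g uV)) = 32 := (aut_norm (g : ↥Co0) _).trans u_checks.2.1
    rcases short_pair (v := actL g uV) (w := uV) hn u_checks.2.1 (pi_eq_iff.mpr ⟨z, hz⟩) with h | h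
    · exact ⟨⟨⟨g, congrArg Subtype.val h⟩, hg⟩, Subtype.ext he⟩
    · refine ⟨⟨⟨(⟨negAut, neg_mem⟩ : ↥C0) * g, ?_⟩, Subgroup.mem_subgroupOf.mpr (mul_mem neg_ker hg)⟩, Subtype.ext ?_⟩
      · show (negAut * (g : ↥Co0)) • Cfsg.Spor.leechU = _
        rw [mul_smul, show (g : ↥Co0) • Cfsg.Spor.leechU = -Cfsg.Spor.leechU from congrArg Subtype.val h, neg_act,
          neg_neg]
      · show rho (⟨negAut, neg_mem⟩ * g) = (y : ↥C1)
        rw [map_mul, ← he, mul_eq_right, ← map_one rho]
        exact (rho_eq.mpr (Or.inr (by simp))).symm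

theorem Ru_card : Nat.card ↥Ru = 512 := by
  obtain ⟨e⟩ := Ru_equiv
  rw [Nat.card_congr e.toEquiv, Q1_card]

/-- Being extraspecial is preserved by isomorphisms. -/
theorem extraspecial_iso {X : Type} {Y : Type} [Group X] [Group Y] {p : ℕ} (e : X ≃* Y)
    (h : Cfsg.IsExtraspecial p X) : Cfsg.IsExtraspecial p Y := by
  obtain ⟨⟨hp, hf, hd⟩, hc⟩ := h
  have hcen : (Subgroup.center X).map e.toMonoidHom = Subgroup.center Y := by
    ext y
    rw [Subgroup.mem_map_equiv, Subgroup.mem_center_iff, Subgroup.mem_center_iff]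
    constructor
    · intro hh z
      apply e.symm.injective
      rw [map_mul, map_mul]
      exact hh _
    · intro hh z
      apply e.injective
      simp only [map_mul, MulEquiv.apply_symm_apply]
      exact hh _
  have hfr : (frattini X).map e.toMonoidHom = frattini Y := by
    refine le_antisymm ?_ ?_
    · exact Subgroup.map_le_iff_le_comap.mpr (frattini_le_comap_frattini_of_surjective e.surjective)
    · intro y hy
      rw [Subgroup.mem_map_equiv]
      exact frattini_le_comap_frattini_of_surjective (φ := e.symm.toMonoidHom) e.symm.surjective hy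
  refine ⟨⟨hp.of_equiv e, ?_, ?_⟩, ?_⟩
  · rw [← hfr, hf, hcen]
  · rw [← hcen, ← hd, _root_.commutator_def, _root_.commutator_def, Subgroup.map_commutator,
      Subgroup.map_top_of_surjective e.toMonoidHom e.surjective]
  · rw [← hcen, Subgroup.card_map_of_injective (f := e.toMonoidHom) e.injective, hc]

theorem Ru_extraspecial : Cfsg.IsExtraspecial 2 ↥Ru := by
  obtain ⟨e⟩ := Ru_equiv
  exact extraspecial_iso e.symm Q_extraspecial

theorem Ru_le : Ru ≤ psi.ker := fun g hg => by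
  have h1 : matG g.1 = 1 := congrArg (fun x : ↥(Cfsg.isometryGroup (ZMod 2) Q8) => x.1.1) (MonoidHom.mem_ker.mp hg)
  refine MonoidHom.mem_ker.mpr (Subtype.ext ?_)
  show matS g.1 = 1
  rw [← matS_one]
  ext i j
  show bil (matG g.1 *ᵥ wB j) (wB i.swap) = bil (matG 1 *ᵥ wB j) (wB i.swap)
  rw [h1, show matG 1 = 1 from map_one matHom]

theorem ker_fix_w {g : ↥Cu} (hg : g ∈ psi.ker) (j : Fin 3 ⊕ Fin 3) : matG g.1 *ᵥ wB j = wB j := by
  have h : matS g.1 = 1 := congrArg Subtype.val (MonoidHom.mem_ker.mp hg)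
  obtain ⟨a, ha⟩ := image_w g.2 j
  rw [h] at ha
  simp only [Matrix.one_apply, ite_smul, one_smul, zero_smul, Finset.sum_ite_eq', Finset.mem_univ, if_true] at ha
  have hq : Q8 (matG g.1 *ᵥ wB j) = Q8 (wB j) := (phi g.1).2 (wB j) (wB j)
  have key : ∀ i : Fin 3 ⊕ Fin 3, ∀ a : ZMod 2, Q8 (wB i + a • uB) = Q8 (wB i) → a = 0 := by decide +kernel
  rw [ha] at hq
  rw [ha, key j a hq, zero_smul, add_zero]

theorem ker_card_le : Nat.card ↥psi.ker ≤ 1024 := by
  classical
  let F : ↥psi.ker → Vec8 := fun g => matG g.1.1 *ᵥ fB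
  have himg : ∀ g, F g ∈ ({fB, fB + uB} : Finset Vec8) := fun g => by
    have hu := Cu_fix g.1.2
    have h1 : bil (F g) uB = 1 := by rw [← hu, bil_iso]; exact sym_checks.2.2.2.2
    have h2 : ∀ i, bil (F g) (wB i) = bil fB (wB i) := fun i => by
      conv_lhs => rw [← ker_fix_w g.2 i]
      exact bil_iso _ _ _
    rcases fix_two _ h1 ((phi g.1.1).2 fB fB) h2 with r | r <;> simp [r]
  have hsame : ∀ a b : ↥psi.ker, F a = F b → (a⁻¹ * b).1 ∈ Ru := fun a b h => by
    have hM : matG a.1.1 = matG b.1.1 := Matrix.ext_of_mulVec_single fun s => by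
      obtain ⟨p, q, hx⟩ := spans (Pi.single s 1)
      rw [hx]
      simp only [Matrix.mulVec_add, Matrix.mulVec_sum, Matrix.mulVec_smul, ker_fix_w a.2, ker_fix_w b.2,
        Cu_fix a.1.2, Cu_fix b.1.2]
      rw [show matG a.1.1 *ᵥ fB = matG b.1.1 *ᵥ fB from h]
    have hphi : phi a.1.1 = phi b.1.1 := Subtype.ext (Units.ext hM)
    show phi (a.1.1⁻¹ * b.1.1) = 1
    rw [map_mul, map_inv, hphi, inv_mul_cancel]
  haveI : Finite ↥C0 := Nat.finite_of_card_ne_zero (by rw [card_C0]; norm_num)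
  haveI : Fintype ↥psi.ker := Fintype.ofFinite _
  rw [Nat.card_eq_fintype_card, ← Finset.card_univ]
  refine (Finset.card_le_mul_card_image (f := F) Finset.univ 512 fun v hv => ?_).trans ?_
  · obtain ⟨a, -, rfl⟩ := Finset.mem_image.mp hv
    rw [← Fintype.card_coe, ← Nat.card_eq_fintype_card, ← Ru_card]
    refine Nat.card_le_card_of_injective
      (fun b => (⟨(a⁻¹ * b.1).1, hsame a b.1 (Finset.mem_filter.mp b.2).2.symm⟩ : ↥Ru)) fun b c h => ?_
    simp only [Subtype.mk.injEq] at h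
    exact Subtype.ext (mul_left_cancel (Subtype.ext h))
  · calc 512 * (Finset.univ.image F).card ≤ 512 * ({fB, fB + uB} : Finset Vec8).card :=
          Nat.mul_le_mul_left _ (Finset.card_le_card fun v hv => by
            obtain ⟨a, -, rfl⟩ := Finset.mem_image.mp hv; exact himg a)
      _ ≤ 512 * 2 := Nat.mul_le_mul_left _ Finset.card_le_two
      _ = 1024 := by norm_num

theorem sp_simple : IsSimpleGroup ↥(Matrix.symplecticGroup (Fin 3) (ZMod 2)) := by
  haveI := Cfsg.Agent.S0270.result (F := ZMod 2) 3 (by norm_num) (fun h => absurd h (by norm_num))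
  have hcen : Subgroup.center (Matrix.symplecticGroup (Fin 3) (ZMod 2)) = ⊥ :=
    Subgroup.eq_bot_of_card_eq _ (by rw [CfsgLib.SympTransvection.card_center (by norm_num), ZMod.card]; norm_num)
  exact ((QuotientGroup.quotientMulEquivOfEq hcen).trans QuotientGroup.quotientBot).symm.isSimpleGroup

theorem psi_facts : Function.Surjective psi ∧ psi.ker = Ru := by
  haveI : Finite ↥C0 := Nat.finite_of_card_ne_zero (by rw [card_C0]; norm_num)
  haveI := sp_simple
  have hS : Nat.card ↥(Matrix.symplecticGroup (Fin 3) (ZMod 2)) = 1451520 := CfsgLib.StemSylow.SpSix.card_spTwo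
  have h1 := psi.ker.card_mul_index
  rw [card_Cu, Subgroup.index_ker] at h1
  have h2 := psi.range.card_mul_index
  rw [hS] at h2
  have hle := ker_card_le
  have hr : 725760 ≤ Nat.card ↥psi.range := by
    have := Nat.mul_le_mul_right (Nat.card ↥psi.range) hle
    rw [h1] at this
    omega
  have htop : psi.range = ⊤ := by
    have hidx : psi.range.index ≤ 2 := by
      by_contra hgt
      have := Nat.mul_le_mul hr (show 3 ≤ psi.range.index by omega)
      rw [h2] at this
      omega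
    have hpos : psi.range.index ≠ 0 := Subgroup.index_ne_zero_of_finite
    rcases (show psi.range.index = 1 ∨ psi.range.index = 2 by omega) with e | e
    · exact Subgroup.index_eq_one.mp e
    · haveI := Subgroup.normal_of_index_eq_two e
      rcases Subgroup.Normal.eq_bot_or_eq_top (inferInstance : psi.range.Normal) with b | t
      · rw [b, Subgroup.card_bot] at hr; omega
      · exact t
  refine ⟨MonoidHom.range_eq_top.mp htop, (Subgroup.eq_of_le_of_card_ge Ru_le ?_).symm⟩
  rw [htop, Subgroup.card_top, hS] at h1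
  rw [Ru_card]
  omega

/-- The inclusion of the vector stabiliser group. -/
noncomputable def incl : ↥Cfsg.Spor.Co2 →* ↥Co0 := Subgroup.inclusion inf_le_left

theorem incl_inj : Function.Injective incl := Subgroup.inclusion_injective _

theorem incl_fix (g : ↥Cfsg.Spor.Co2) : incl g • Cfsg.Spor.leechU = Cfsg.Spor.leechU :=
  MulAction.mem_stabilizer_iff.mp g.2.2

/-- The involution. -/
noncomputable def tTwo : ↥Cfsg.Spor.Co2 :=
  ⟨(eps * negAut : ↥Co0).1, ⟨(eps * negAut : ↥Co0).2, MulAction.mem_stabilizer_iff.mpr (by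
    show (eps * negAut) • Cfsg.Spor.leechU = Cfsg.Spor.leechU
    rw [mul_smul, neg_act, aut_neg, (mem_L8_iff Cfsg.Spor.leechU).mp uV.2, neg_neg])⟩⟩

theorem incl_tTwo : incl tTwo = eps * negAut := rfl

theorem tTwo_order : orderOf tTwo = 2 := by
  rw [← orderOf_injective incl incl_inj, incl_tTwo]
  refine orderOf_eq_prime ?_ fun h => ?_
  · have hc : Commute eps negAut := Subgroup.mem_center_iff.mp negAut_central eps
    rw [hc.mul_pow, pow_two, eps_sq, one_mul, pow_two, neg_sgn, sgn_mul, sgn_congr (symmDiff_self _) (hd := CW_empty)]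
    exact sgn_empty
  · rw [eps, sgn_mul_neg, ← sgn_empty] at h
    have := (sgn_inj h)
    rw [Finset.compl_eq_empty_iff] at this
    exact O0_ne.2 this

theorem commute_neg_iff {g : ↥Co0} : g * (eps * negAut) = eps * negAut * g ↔ g ∈ C0 := by
  rw [Subgroup.mem_centralizer_singleton_iff, mul_assoc eps negAut, ← Subgroup.mem_center_iff.mp negAut_central g,
    ← mul_assoc eps, ← mul_assoc, mul_left_inj]

/-- The centraliser in the stabiliser group. -/
noncomputable def centEquiv : ↥(Subgroup.centralizer ({tTwo} : Set ↥Cfsg.Spor.Co2)) ≃* ↥Cu where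
  toFun g := ⟨⟨incl g.1, commute_neg_iff.mp (by
    rw [← incl_tTwo, ← map_mul, ← map_mul, Subgroup.mem_centralizer_singleton_iff.mp g.2])⟩, incl_fix g.1⟩
  invFun g := ⟨⟨(g.1 : ↥Co0).1, ⟨(g.1 : ↥Co0).2, MulAction.mem_stabilizer_iff.mpr g.2⟩⟩,
    Subgroup.mem_centralizer_singleton_iff.mpr (incl_inj (by
      rw [map_mul, map_mul, incl_tTwo]; exact commute_neg_iff.mpr g.1.2))⟩
  left_inv g := Subtype.ext (Subtype.ext rfl)
  right_inv g := Subtype.ext (Subtype.ext (Subtype.ext rfl))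
  map_mul' g h := Subtype.ext (Subtype.ext (map_mul incl g.1 h.1))

theorem co2_centraliser : ∃ t : ↥Cfsg.Spor.Co2, orderOf t = 2 ∧
    Cfsg.IsExtraspecial 2 (Cfsg.pCore 2 ↥(Subgroup.centralizer ({t} : Set ↥Cfsg.Spor.Co2))) ∧
    Nat.card (Cfsg.pCore 2 ↥(Subgroup.centralizer ({t} : Set ↥Cfsg.Spor.Co2))) = 2 ^ 9 ∧
    Nonempty (↥(Subgroup.centralizer ({t} : Set ↥Cfsg.Spor.Co2)) ⧸
      Cfsg.pCore 2 ↥(Subgroup.centralizer ({t} : Set ↥Cfsg.Spor.Co2)) ≃* Matrix.symplecticGroup (Fin 3) (ZMod 2)) := by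
  refine ⟨tTwo, tTwo_order, ?_⟩
  obtain ⟨hsurj, hker⟩ := psi_facts
  haveI : Finite ↥C0 := Nat.finite_of_card_ne_zero (by rw [card_C0]; norm_num)
  haveI := sp_simple
  haveI : Fact (Nat.Prime 2) := ⟨Nat.prime_two⟩
  let E := centEquiv
  let τ := psi.comp E.toMonoidHom
  have hτ : Function.Surjective τ := hsurj.comp E.surjective
  haveI : Finite ↥(Subgroup.centralizer ({tTwo} : Set ↥Cfsg.Spor.Co2)) := Finite.of_equiv _ E.symm.toEquiv
  have hmap : τ.ker = Ru.map E.symm.toMonoidHom := by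
    ext x
    rw [Subgroup.mem_map, MonoidHom.mem_ker]
    show psi (E x) = 1 ↔ _
    rw [← MonoidHom.mem_ker, hker]
    exact ⟨fun h => ⟨E x, h, E.symm_apply_apply x⟩, fun ⟨y, hy, he⟩ => by
      rw [← he]; exact (E.apply_symm_apply y).symm ▸ hy⟩
  let e2 : ↥τ.ker ≃* ↥Ru :=
    (MulEquiv.subgroupCongr hmap).trans (Subgroup.equivMapOfInjective Ru _ E.symm.injective).symm
  have hcard : Nat.card ↥τ.ker = 512 := by rw [Nat.card_congr e2.toEquiv, Ru_card]
  have heq : Cfsg.pCore 2 ↥(Subgroup.centralizer ({tTwo} : Set ↥Cfsg.Spor.Co2)) = τ.ker := by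
    refine le_antisymm ?_ (le_sSup ⟨inferInstance, IsPGroup.of_card (n := 9) (by rw [hcard]; norm_num)⟩)
    haveI : (Cfsg.pCore 2 ↥(Subgroup.centralizer ({tTwo} : Set ↥Cfsg.Spor.Co2))).Normal :=
      Subgroup.sSup_normal _ (fun _ h => h.1)
    rcases (Subgroup.Normal.map (inferInstance : (Cfsg.pCore 2 _).Normal) τ hτ).eq_bot_or_eq_top with hb | ht
    · exact fun x hx => MonoidHom.mem_ker.mpr (Subgroup.mem_bot.mp (hb ▸ Subgroup.mem_map_of_mem τ hx))
    · exfalso
      obtain ⟨n, hn⟩ := ((CfsgLib.isPGroup_pCore (G := ↥(Subgroup.centralizer ({tTwo} : Set ↥Cfsg.Spor.Co2))) 2).map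
        τ).exists_card_eq
      rw [ht, Subgroup.card_top, show Nat.card ↥(Matrix.symplecticGroup (Fin 3) (ZMod 2)) = 1451520 from
        CfsgLib.StemSylow.SpSix.card_spTwo] at hn
      have h3 : 3 ∣ 2 ^ n := hn ▸ (by norm_num)
      exact absurd (Nat.prime_three.dvd_of_dvd_pow h3) (by norm_num)
  exact ⟨extraspecial_iso (e2.symm.trans (MulEquiv.subgroupCongr heq.symm)) Ru_extraspecial,
    (by rw [heq]; exact hcard),
    ⟨(QuotientGroup.quotientMulEquivOfEq heq).trans (QuotientGroup.quotientKerEquivOfSurjective τ hτ)⟩⟩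

end CfsgLeech.OctInv
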