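/-
An involution of the configuration of 100 vectors without fixed vectors.
-/
import Cfsg.Agent.Lib.Leech.HS

set_option autoImplicit false

namespace CfsgLeech

open Cfsg CfsgGolay
open scoped Pointwise

attribute [local irreducible] codeL octadL dodecadL slpCodes

/-- A vector of square sum 48 supported on a dodecad. -/
def vDod : GolayPt → ℤ := ev D0 ∅ ∅

/-- A minimal vector supported inside that dodecad. -/
def tDod : GolayPt → ℤ := ev ∅ {pt 0, pt 1} ∅

theorem dod_facts : inLatB vDod = true ∧ inLatB tDod = true ∧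
    sqNorm vDod = 48 ∧ sqNorm (tDod - vDod) = 48 ∧ dotInt vDod (tDod - vDod) = -32 ∧
    signedPerm 1 (toSet 16436384) vDod = vDod ∧ signedPerm 1 (toSet 16436384) tDod = tDod ∧
    (∀ i : GolayPt, i ∈ toSet 16436384 ↔ i ∉ D0) ∧ (∀ i, vDod i = 2 * chi D0 i) ∧
    signedPerm 1 (toSet 16436384) (od (-1) ∅ {none}) ≠ od (-1) ∅ {none} := by
  refine ⟨by decide +kernel, by decide +kernel, by decide +kernel, by decide +kernel, by decide +kernel,
    funext fun i => by revert i; decide +kernel, funext fun i => by revert i; decide +kernel,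
    fun i => by revert i; decide +kernel, fun i => by revert i; decide +kernel,
    fun h => absurd (congrFun h none) (by decide +kernel)⟩

theorem no_octad_in_dod : (octadL.all fun o => o &&& 16436384 != 0) = true := by decide +kernel

theorem fixed_dot {x : GolayPt → ℤ} (hx : x ∈ leechLattice) (hn : sqNorm x = 32)
    (h0 : ∀ i, i ∉ D0 → x i = 0) : dotInt vDod x ≤ 16 := by
  rcases classify32.mp ⟨hx, hn⟩ with (h | h) | h
  · obtain ⟨c, T, N, -, hc, -, hT, -, -, rfl⟩ := mem_evSet.mp h
    rw [Finset.card_eq_zero] at hc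
    subst hc
    have hle : ∀ i, vDod i * ev ∅ T N i ≤ 8 * chi T i := fun i => by
      rw [dod_facts.2.2.2.2.2.2.2.2.1 i]
      by_cases a : i ∈ D0 <;> by_cases b : i ∈ T <;> by_cases e : i ∈ N <;> simp [ev, chi, a, b, e]
    refine le_trans (Finset.sum_le_sum fun i _ => hle i) ?_
    rw [← Finset.mul_sum, sum_chi, hT]; norm_num
  · obtain ⟨c, T, N, hcw, hc, -, hT, -, -, rfl⟩ := mem_evSet.mp h
    rw [Finset.card_eq_zero] at hT
    subst hT
    exfalso
    have ho : toMask c ∈ octadL := mem_octads.mp ⟨hcw, hc⟩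
    have := List.all_eq_true.mp no_octad_in_dod _ ho
    rw [bne_iff_ne] at this
    refine this (Nat.eq_of_testBit_eq fun j => ?_)
    rw [Nat.testBit_and, Nat.zero_testBit, Bool.and_eq_false_iff]
    by_cases hj : j < 24
    · by_cases hd : pt j ∈ D0
      · refine Or.inr (Bool.eq_false_iff.mpr fun hb => ?_)
        have := (dod_facts.2.2.2.2.2.2.2.1 (pt j)).mp (mem_toSet.mpr (by rwa [idx_pt hj]))
        exact this hd
      · refine Or.inl (Bool.eq_false_iff.mpr fun hb => ?_)
        have hm : pt j ∈ c := by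
          rw [← toSet_toMask c]
          exact mem_toSet.mpr (by rwa [idx_pt hj])
        have := h0 _ hd
        simp [ev, chi, hm] at this
        split_ifs at this <;> omega
    · exact Or.inr (Nat.testBit_eq_false_of_lt (lt_of_lt_of_le (by norm_num : (16436384 : ℕ) < 2 ^ 24)
        (Nat.pow_le_pow_right (by norm_num) (not_lt.mp hj))))
  · obtain ⟨c, T, -, -, rfl⟩ := mem_odSet.mp h
    exfalso
    have hnd : (none : GolayPt) ∉ D0 := by decide +kernel
    have := h0 none hnd
    simp only [od] at this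
    by_cases a : (none : GolayPt) ∈ c <;> by_cases b : (none : GolayPt) ∈ T <;> simp [chi, a, b] at this

theorem hs_involution {v w : ↥leechLattice} (hv : sqNorm (v : GolayPt → ℤ) = 48)
    (hw : sqNorm (w : GolayPt → ℤ) = 48) (hvw : dotInt (v : GolayPt → ℤ) (w : GolayPt → ℤ) = -32) :
    ∃ g : ↥Co0, g • v = v ∧ g • w = w ∧ orderOf g = 2 ∧
      ∀ x : ↥leechLattice, sqNorm (x : GolayPt → ℤ) = 32 → dotInt (v : GolayPt → ℤ) (x : GolayPt → ℤ) = 24 →
        dotInt (w : GolayPt → ℤ) (x : GolayPt → ℤ) = -24 → g • x ≠ x := by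
  obtain ⟨l1, l2, n1, n2, d0, f1, f2, hmask, hval, hne⟩ := dod_facts
  set v0 : ↥leechLattice := ⟨vDod, inLatB_sound l1⟩ with hv0
  set t0 : ↥leechLattice := ⟨tDod, inLatB_sound l2⟩ with ht0
  obtain ⟨a, av, at', -⟩ := hs_frame hv hw hvw
  obtain ⟨b, bv, bt, -⟩ := hs_frame (v := v0) (w := t0 - v0) n1 (by rw [AddSubgroup.coe_sub]; exact n2)
    (by rw [AddSubgroup.coe_sub]; exact d0)
  rw [add_sub_cancel] at bt
  set k := b⁻¹ * a with hk
  have kv : k • v = v0 := by rw [hk, mul_smul, av, inv_smul_eq_iff, bv]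
  have kt : k • (v + w) = t0 := by rw [hk, mul_smul, at', inv_smul_eq_iff, bt]
  have hc : toSet 16436384 ∈ CW := toSet_mem_CW (by decide +kernel)
  set m := monoAut 1 (one_mem _) _ hc with hm
  have mv : m • v0 = v0 := Subtype.ext (by rw [hm, monoAut_apply]; exact f1)
  have mt : m • t0 = t0 := Subtype.ext (by rw [hm, monoAut_apply]; exact f2)
  have e : ∀ (z : GolayPt → ℤ) (i : GolayPt), signedPerm 1 (toSet 16436384) z i =
      if i ∈ toSet 16436384 then -z i else z i := fun z i => rfl
  have m2 : m ^ 2 = 1 := aut_ext fun y => by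
    rw [pow_two, mul_smul, one_smul]
    rw [hm, monoAut_apply, monoAut_apply]
    funext i
    rw [e, e]
    by_cases hi : i ∈ toSet 16436384
    · rw [if_pos hi, if_pos hi, neg_neg]
    · rw [if_neg hi, if_neg hi]
  have m1 : m ≠ 1 := fun h => hne (by
    have hl : od (-1) ∅ {none} ∈ leechLattice :=
      (classify32.mpr (Or.inr (mem_odSet.mpr ⟨_, _, CW_empty, Finset.card_singleton _, rfl⟩))).1
    have := congrArg (fun g : ↥Co0 => ((g • (⟨_, hl⟩ : ↥leechLattice) : ↥leechLattice) : GolayPt → ℤ)) h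
    simpa [hm, monoAut_apply, one_smul] using this)
  have ev' : (k⁻¹ * (m * k)) • v = v := by rw [mul_smul, mul_smul, kv, mv, inv_smul_eq_iff, kv]
  have et : (k⁻¹ * (m * k)) • (v + w) = v + w := by rw [mul_smul, mul_smul, kt, mt, inv_smul_eq_iff, kt]
  refine ⟨k⁻¹ * (m * k), ev', by rw [aut_add, ev'] at et; exact add_left_cancel et, ?_, fun x h1 h2 h3 hfix => ?_⟩
  · refine orderOf_eq_prime ?_ fun h => m1 (by
      calc m = k * (k⁻¹ * (m * k)) * k⁻¹ := by group
        _ = 1 := by rw [h]; group)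
    calc (k⁻¹ * (m * k)) ^ 2 = k⁻¹ * m ^ 2 * k := by rw [pow_two, pow_two]; group
      _ = 1 := by rw [m2]; group
  · rw [mul_smul, mul_smul, inv_smul_eq_iff] at hfix
    have h0 : ∀ i, i ∉ D0 → ((k • x : ↥leechLattice) : GolayPt → ℤ) i = 0 := fun i hi => by
      have := congrFun (congrArg Subtype.val hfix) i
      rw [hm, monoAut_apply] at this
      rw [e, if_pos ((hmask i).mpr hi)] at this
      omega
    have := fixed_dot (k • x).2 ((aut_norm k x).trans h1) h0
    have d := aut_dot k v x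
    rw [kv, h2] at d
    change dotInt vDod _ = 24 at d
    omega

end CfsgLeech
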