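/-
Kernel checks for the double cover of HS.
-/
import Cfsg.Agent.Lib.Leech.HiSCoverData
import Cfsg.Agent.Lib.Leech.HiSPermData

set_option autoImplicit false
set_option maxRecDepth 30000
set_option maxHeartbeats 1000000

namespace CfsgLeech.Models.HiSSchur

open CfsgPCW

theorem cover_perm : (coverGens.all fun c => isPerm 804 c.1 c.2) = true ∧ coverGens.length = 3 := by decide +kernel

/-- The last 100 points carry the generators of HS. -/
theorem proj_ok : ((List.range 3).all fun a => (List.range 100).all fun i =>
    Nat.beq (ap (coverGens.getD a (0, 0)).1 (704 + i)) (704 + CfsgPC.ap (hsRigid.gens.getD a 0) i)) = true := by decide +kernel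

theorem z_ok : isPerm 804 zCode.1 zCode.2 = true ∧ sift 804 coverChain zCode.1 = true ∧
    ((List.range 100).all fun i => Nat.beq (ap zCode.1 (704 + i)) (704 + i)) = true ∧
    Nat.beq (ap zCode.1 0) 0 = false ∧
    ((List.range 804).all fun i => (coverGens.map Prod.fst).all fun g =>
      Nat.beq (ap g (ap zCode.1 i)) (ap zCode.1 (ap g i))) = true := by decide +kernel

theorem comm_ok : memOK 804 coverChain commCodes = true ∧ commCodes.length = 2 ∧
    ((List.range 804).all fun i => Nat.beq (ap (commCodes.getD 0 (0, 0)).1 (ap (commCodes.getD 1 (0, 0)).1
      (ap (commCodes.getD 0 (0, 0)).2 (ap (commCodes.getD 1 (0, 0)).2 i)))) (ap zCode.1 i)) = true := by decide +kernel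

theorem cover_shape : shapeOK 804 coverChain (coverGens.map Prod.fst) = true ∧ coverChain.length = 6 ∧
    (coverChain.map fun L => L.tr.length) = [100, 77, 60, 32, 3, 2] ∧ sizeOfChain coverChain = 88704000 ∧
    ((gensAt 804 coverChain (coverGens.map Prod.fst) 6).all fun c => (List.range 804).all fun i => Nat.beq (ap c i) i) = true := by
  decide +kernel

theorem cover_entries0 : entriesOK 804 coverChain (coverGens.map Prod.fst) 0 0 100 = true := by decide +kernel

theorem cover_closed0_0 : closedOK 804 coverChain (coverGens.map Prod.fst) 0 0 25 = true := by decide +kernel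

theorem cover_closed0_25 : closedOK 804 coverChain (coverGens.map Prod.fst) 0 25 50 = true := by decide +kernel

theorem cover_closed0_50 : closedOK 804 coverChain (coverGens.map Prod.fst) 0 50 75 = true := by decide +kernel

theorem cover_closed0_75 : closedOK 804 coverChain (coverGens.map Prod.fst) 0 75 100 = true := by decide +kernel

theorem cover_entries1 : entriesOK 804 coverChain (coverGens.map Prod.fst) 1 0 77 = true := by decide +kernel

theorem cover_closed1_0 : closedOK 804 coverChain (coverGens.map Prod.fst) 1 0 25 = true := by decide +kernel

theorem cover_closed1_25 : closedOK 804 coverChain (coverGens.map Prod.fst) 1 25 50 = true := by decide +kernel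

theorem cover_closed1_50 : closedOK 804 coverChain (coverGens.map Prod.fst) 1 50 75 = true := by decide +kernel

theorem cover_closed1_75 : closedOK 804 coverChain (coverGens.map Prod.fst) 1 75 77 = true := by decide +kernel

theorem cover_entries2 : entriesOK 804 coverChain (coverGens.map Prod.fst) 2 0 60 = true := by decide +kernel

theorem cover_closed2_0 : closedOK 804 coverChain (coverGens.map Prod.fst) 2 0 25 = true := by decide +kernel

theorem cover_closed2_25 : closedOK 804 coverChain (coverGens.map Prod.fst) 2 25 50 = true := by decide +kernel

theorem cover_closed2_50 : closedOK 804 coverChain (coverGens.map Prod.fst) 2 50 60 = true := by decide +kernel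

theorem cover_entries3 : entriesOK 804 coverChain (coverGens.map Prod.fst) 3 0 32 = true := by decide +kernel

theorem cover_closed3_0 : closedOK 804 coverChain (coverGens.map Prod.fst) 3 0 25 = true := by decide +kernel

theorem cover_closed3_25 : closedOK 804 coverChain (coverGens.map Prod.fst) 3 25 32 = true := by decide +kernel

theorem cover_entries4 : entriesOK 804 coverChain (coverGens.map Prod.fst) 4 0 3 = true := by decide +kernel

theorem cover_closed4_0 : closedOK 804 coverChain (coverGens.map Prod.fst) 4 0 3 = true := by decide +kernel

theorem cover_entries5 : entriesOK 804 coverChain (coverGens.map Prod.fst) 5 0 2 = true := by decide +kernel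

theorem cover_closed5_0 : closedOK 804 coverChain (coverGens.map Prod.fst) 5 0 2 = true := by decide +kernel

end CfsgLeech.Models.HiSSchur
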