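/-
The outer automorphism group of HS.
-/
import Cfsg.Agent.Lib.Leech.HiSModel

set_option autoImplicit false
set_option maxRecDepth 30000

namespace CfsgLeech.Models

open Cfsg CfsgGolay CfsgPC

theorem hs_centX : hsRigid.checkCentX = true := by decide +kernel

theorem hs_arith : hsRigid.checkArith = true := by decide +kernel

theorem hs_images : hsRigid.checkImages = true := by decide +kernel

theorem hs_s : hsRigid.checkS = true := by decide +kernel

theorem hs_outer : hsRigid.checkOuter hsTau hsTauInv = true := by decide +kernel

theorem card_out_HS : Nat.card (Cfsg.Out ↥Spor.HS) = 2 := by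
  obtain ⟨e1⟩ := spor_hs_equiv
  obtain ⟨hv, hg, ⟨e2⟩⟩ := hs_model
  rw [card_out_congr (e1.trans e2)]
  have hle := Rigid.card_out_le (R := hsRigid) hv (show Nat.Prime 11 by norm_num) hs_check hs_centX hs_arith hs_images hs_s hg
  have hlen : hsRigid.images.length = 2 := rfl
  rw [hlen] at hle
  exact le_antisymm hle (Rigid.exists_outer (R := hsRigid) hv hs_check hg hs_outer)

end CfsgLeech.Models
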