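/-
Kernel checks for the Sylow collectors of HS.
-/
import Cfsg.Agent.Lib.Leech.HiSSylowData
import Cfsg.Agent.Lib.Leech.HiSPermData

set_option autoImplicit false
set_option maxRecDepth 30000
set_option maxHeartbeats 1000000

namespace CfsgLeech.Models.HiSSchur

open CfsgPC CfsgLib.StemSylow

theorem cyc_ok : (cycCodes.all fun d => isPerm 100 d.2.1 d.2.2 && sift 100 hsChain d.2.1 &&
    (List.range 100).all (fun i => Nat.beq (apN d.2.1 d.1 i) i) &&
    !((List.range 100).all fun i => Nat.beq (ap d.2.1 i) i)) = true ∧ cycCodes.map Prod.fst = [7, 11] := by decide +kernel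

theorem memTwo : memOK 100 hsChain (gcTwo ++ tcTwo) = true := by decide +kernel

theorem factsTwo : factsB hsChain certTwo.facts (gcTwo.map Prod.fst) (tcTwo.map Prod.fst) = true := by decide +kernel

theorem subTwo_shape : shapeOK 100 subTwo (gcTwo.map Prod.fst) = true ∧
    (subTwo.map fun L => L.tr.length) = [8, 32, 2] ∧ sizeOfChain subTwo = 512 ∧
    (tcTwo.map Prod.fst).head? = some (idk 100) ∧ gcTwo.length = certTwo.n := by decide +kernel

theorem subTwo_entries : ((List.range 3).all fun j => entriesOK 100 subTwo (gcTwo.map Prod.fst) j 0 ([8, 32, 2].getD j 0)) = true := by decide +kernel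

theorem relTwo0 : ((List.range 9).all fun j => Nat.blt j 0 || certTwo.relOK 0 j) = true := by decide +kernel

theorem relTwo1 : ((List.range 9).all fun j => Nat.blt j 1 || certTwo.relOK 1 j) = true := by decide +kernel

theorem relTwo2 : ((List.range 9).all fun j => Nat.blt j 2 || certTwo.relOK 2 j) = true := by decide +kernel

theorem relTwo3 : ((List.range 9).all fun j => Nat.blt j 3 || certTwo.relOK 3 j) = true := by decide +kernel

theorem relTwo4 : ((List.range 9).all fun j => Nat.blt j 4 || certTwo.relOK 4 j) = true := by decide +kernel

theorem relTwo5 : ((List.range 9).all fun j => Nat.blt j 5 || certTwo.relOK 5 j) = true := by decide +kernel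

theorem relTwo6 : ((List.range 9).all fun j => Nat.blt j 6 || certTwo.relOK 6 j) = true := by decide +kernel

theorem relTwo7 : ((List.range 9).all fun j => Nat.blt j 7 || certTwo.relOK 7 j) = true := by decide +kernel

theorem relTwo8 : ((List.range 9).all fun j => Nat.blt j 8 || certTwo.relOK 8 j) = true := by decide +kernel

theorem rphiTwo : (match certTwo.comb certTwo.rphi with
    | some f => certTwo.same f fun m => (certTwo.r : ℤ) * certTwo.ph m
    | none => false) = true := by decide +kernel

theorem memThree : memOK 100 hsChain (gcThree ++ tcThree) = true := by decide +kernel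

theorem factsThree : factsB hsChain certThree.facts (gcThree.map Prod.fst) (tcThree.map Prod.fst) = true := by decide +kernel

theorem subThree_shape : shapeOK 100 subThree (gcThree.map Prod.fst) = true ∧
    (subThree.map fun L => L.tr.length) = [9] ∧ sizeOfChain subThree = 9 ∧
    (tcThree.map Prod.fst).head? = some (idk 100) ∧ gcThree.length = certThree.n := by decide +kernel

theorem subThree_entries : ((List.range 1).all fun j => entriesOK 100 subThree (gcThree.map Prod.fst) j 0 ([9].getD j 0)) = true := by decide +kernel

theorem certThree_ok : certThree.check = true := by decide +kernel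

theorem memFive : memOK 100 hsChain (gcFive ++ tcFive) = true := by decide +kernel

theorem factsFive : factsB hsChain certFive.facts (gcFive.map Prod.fst) (tcFive.map Prod.fst) = true := by decide +kernel

theorem subFive_shape : shapeOK 100 subFive (gcFive.map Prod.fst) = true ∧
    (subFive.map fun L => L.tr.length) = [25, 5] ∧ sizeOfChain subFive = 125 ∧
    (tcFive.map Prod.fst).head? = some (idk 100) ∧ gcFive.length = certFive.n := by decide +kernel

theorem subFive_entries : ((List.range 2).all fun j => entriesOK 100 subFive (gcFive.map Prod.fst) j 0 ([25, 5].getD j 0)) = true := by decide +kernel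

theorem certFive_ok : certFive.check = true := by decide +kernel

end CfsgLeech.Models.HiSSchur
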