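/-
The multiplier of HS has order two.
-/
import Cfsg.Agent.Lib.Leech.HiSModel
import Cfsg.Agent.Lib.Leech.HiSCoverChecks
import Cfsg.Agent.Lib.Leech.HiSSylowChecks
import Cfsg.Agent.Lib.PermChain.Closed

set_option autoImplicit false
set_option maxRecDepth 30000
set_option linter.unusedSectionVars false
set_option linter.style.haveILetI false

namespace CfsgLeech.Models.HiSSchur

open Equiv Subgroup CfsgLib.StemSylow
open scoped commutatorElement

universe u

attribute [local irreducible] coverChain coverGens subTwo subThree subFive gcTwo tcTwo gcThree tcThree gcFive tcFive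
  zCode commCodes cycCodes hsChain

/-- HS on 100 points. -/
abbrev SmallHS := ↥(CfsgPC.genG 100 hsRigid.gens)

theorem small_good : CfsgPC.TableOK 100 hsChain hsRigid.gens ∧
    CfsgPC.prodSet 100 hsChain = CfsgPC.genG 100 hsRigid.gens ∧ Nat.card SmallHS = 44352000 :=
  ⟨hs_model.2.1.table, hs_model.2.1.eq, hs_model.2.1.card.trans hs_size⟩

/-! ### The double cover -/

open CfsgPCW in
theorem valid_cover : Valid 804 (coverGens.map Prod.fst) := fun c hc => by
  obtain ⟨d, hd, rfl⟩ := List.mem_map.mp hc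
  exact ⟨_, decP_rep (List.all_eq_true.mp cover_perm.1 d hd)⟩

open CfsgPCW in
theorem cover_group : TableOK 804 coverChain (coverGens.map Prod.fst) ∧
    prodSet 804 coverChain = genG 804 (coverGens.map Prod.fst) ∧
    Nat.card (genG 804 (coverGens.map Prod.fst)) = 88704000 := by
  obtain ⟨hs, hl, hlens, hsize, hlast⟩ := cover_shape
  have hlen : ∀ j, j < coverChain.length → ∀ k < (coverChain.getD j ⟨0, [], [], []⟩).tr.length,
      k < [100, 77, 60, 32, 3, 2].getD j 0 := fun j hj k hk => by
    rw [← hlens, List.getD_eq_getElem _ _ (by simpa using hj), List.getElem_map]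
    rwa [List.getD_eq_getElem _ _ hj] at hk
  have hT : TableOK 804 coverChain (coverGens.map Prod.fst) := tableOK_of_checks hs fun j hj k hk => by
    have hk' := hlen j hj k hk
    rw [hl] at hj
    clear hk hlen
    interval_cases j
    · exact of_entriesOK cover_entries0 (by omega) hk'
    · exact of_entriesOK cover_entries1 (by omega) hk'
    · exact of_entriesOK cover_entries2 (by omega) hk'
    · exact of_entriesOK cover_entries3 (by omega) hk'
    · exact of_entriesOK cover_entries4 (by omega) hk'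
    · exact of_entriesOK cover_entries5 (by omega) hk'
  have hp := table_closed (by norm_num) hT valid_cover (fun j hj k hk => by
      have hk' := hlen j hj k hk
      rw [hl] at hj
      clear hk hlen
      interval_cases j
      · replace hk' : k < 100 := hk'
        by_cases h0 : k < 25
        · exact of_closedOK cover_closed0_0 (by omega) h0
        by_cases h25 : k < 50
        · exact of_closedOK cover_closed0_25 (by omega) h25
        by_cases h50 : k < 75
        · exact of_closedOK cover_closed0_50 (by omega) h50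
        exact of_closedOK cover_closed0_75 (by omega) hk'
      · replace hk' : k < 77 := hk'
        by_cases h0 : k < 25
        · exact of_closedOK cover_closed1_0 (by omega) h0
        by_cases h25 : k < 50
        · exact of_closedOK cover_closed1_25 (by omega) h25
        by_cases h50 : k < 75
        · exact of_closedOK cover_closed1_50 (by omega) h50
        exact of_closedOK cover_closed1_75 (by omega) hk'
      · replace hk' : k < 60 := hk'
        by_cases h0 : k < 25
        · exact of_closedOK cover_closed2_0 (by omega) h0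
        by_cases h25 : k < 50
        · exact of_closedOK cover_closed2_25 (by omega) h25
        exact of_closedOK cover_closed2_50 (by omega) hk'
      · replace hk' : k < 32 := hk'
        by_cases h0 : k < 25
        · exact of_closedOK cover_closed3_0 (by omega) h0
        exact of_closedOK cover_closed3_25 (by omega) hk'
      · exact of_closedOK cover_closed4_0 (by omega) hk'
      · exact of_closedOK cover_closed5_0 (by omega) hk'
      )
    (fun c hc i hi => by
      rw [hl] at hc
      exact Nat.eq_of_beq_eq_true (List.all_eq_true.mp (List.all_eq_true.mp hlast c hc) i (List.mem_range.mpr hi)))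
  refine ⟨hT, hp, ?_⟩
  rw [← hsize, ← (table_products (by norm_num) hT valid_cover).2, hp, ← Nat.card_coe_set_eq]
  rfl

/-- The cover on 804 points. -/
abbrev CoverHS := ↥(CfsgPCW.genG 804 (coverGens.map Prod.fst))

/-- The last 100 points. -/
def hi (i : Fin 100) : Fin 804 := ⟨704 + i, by omega⟩

theorem hi_injective : Function.Injective hi := fun a b h => Fin.ext (by simpa [hi] using congrArg Fin.val h)

theorem over_gen {a : ℕ} (ha : a < 3) {g : Perm (Fin 804)} (hg : CfsgPCW.Rep 804 (coverGens.getD a (0, 0)).1 g) :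
    ∃ h : SmallHS, CfsgPC.Rep 100 (hsRigid.gens.getD a 0) (h : Perm (Fin 100)) ∧
      ∀ i, g (hi i) = hi ((h : Perm (Fin 100)) i) := by
  have ha' : a < hsRigid.gens.length := ha
  obtain ⟨h, hh⟩ := hs_model.1 _ (List.getElem_mem ha')
  rw [← List.getD_eq_getElem (d := 0) _ ha'] at hh
  refine ⟨⟨h, CfsgPC.Valid.mem ?_ hh⟩, hh, fun i => Fin.ext ?_⟩
  · rw [List.getD_eq_getElem _ _ ha']; exact List.getElem_mem ha'
  · have := Nat.eq_of_beq_eq_true
      (List.all_eq_true.mp (List.all_eq_true.mp proj_ok a (List.mem_range.mpr ha)) i (List.mem_range.mpr i.2))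
    rw [← hg (hi i)]
    simp only [hi]
    rw [this, hh i]

theorem exists_restrict (g : CoverHS) :
    ∃ h : SmallHS, ∀ i, (g : Perm (Fin 804)) (hi i) = hi ((h : Perm (Fin 100)) i) := by
  obtain ⟨g, hg⟩ := g
  induction hg using closure_induction with
  | mem g hg =>
    obtain ⟨c, hc, hgr⟩ := hg
    obtain ⟨a, ha, rfl⟩ := List.getElem_of_mem hc
    rw [List.length_map] at ha
    rw [List.getElem_map, ← List.getD_eq_getElem (d := (0, 0)) _ ha] at hgr
    obtain ⟨h, -, hh⟩ := over_gen (cover_perm.2 ▸ ha) hgr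
    exact ⟨h, hh⟩
  | one => exact ⟨1, fun i => rfl⟩
  | mul a b _ _ ha hb =>
    obtain ⟨x, hx⟩ := ha
    obtain ⟨y, hy⟩ := hb
    exact ⟨x * y, fun i => by simp [Perm.mul_apply, hx, hy]⟩
  | inv a _ ha =>
    obtain ⟨x, hx⟩ := ha
    refine ⟨x⁻¹, fun i => ?_⟩
    show a⁻¹ (hi i) = _
    rw [Perm.inv_eq_iff_eq, hx]
    simp

/-- The projection of the cover. -/
noncomputable def proj : CoverHS →* SmallHS :=
  MonoidHom.mk' (fun g => (exists_restrict g).choose) fun g h => Subtype.ext (Equiv.ext fun i => hi_injective (by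
    rw [← (exists_restrict (g * h)).choose_spec i, Subgroup.coe_mul, Subgroup.coe_mul, Perm.mul_apply, Perm.mul_apply,
      (exists_restrict h).choose_spec i, (exists_restrict g).choose_spec]))

theorem proj_apply (g : CoverHS) (i : Fin 100) :
    (g : Perm (Fin 804)) (hi i) = hi ((proj g : Perm (Fin 100)) i) := (exists_restrict g).choose_spec i

theorem proj_surjective : Function.Surjective proj := by
  rintro ⟨h, hh⟩
  suffices hs : h ∈ proj.range.map (CfsgPC.genG 100 hsRigid.gens).subtype by
    obtain ⟨-, ⟨g, rfl⟩, e⟩ := hs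
    exact ⟨g, Subtype.ext e⟩
  refine closure_le _ |>.mpr ?_ hh
  rintro x ⟨c, hc, hx⟩
  obtain ⟨a, ha, rfl⟩ := List.getElem_of_mem hc
  have ha3 : a < coverGens.length := by rw [cover_perm.2]; exact ha
  have hgr := CfsgPCW.decP_rep (List.all_eq_true.mp cover_perm.1 _ (List.getElem_mem ha3))
  obtain ⟨h', hh', hih⟩ := over_gen ha (g := CfsgPCW.decP 804 coverGens[a].1) (by rwa [List.getD_eq_getElem _ _ ha3])
  rw [List.getD_eq_getElem _ _ ha] at hh'
  refine ⟨proj ⟨_, CfsgPCW.Valid.mem (List.mem_map.mpr ⟨_, List.getElem_mem ha3, rfl⟩) hgr⟩, ⟨_, rfl⟩, ?_⟩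
  refine Equiv.ext fun i => hi_injective ?_
  show hi ((proj _ : Perm (Fin 100)) i) = hi (x i)
  rw [← proj_apply, hih i, hh'.unique hx]

open CfsgPCW in
theorem cover_stem : Cfsg.IsStemExtension proj ∧ Nat.card proj.ker = 2 := by
  classical
  obtain ⟨hzp, hzs, hzfix, hz0, hzc⟩ := z_ok
  obtain ⟨hT, -, hcard⟩ := cover_group
  have hzr := decP_rep hzp
  let z : CoverHS := ⟨decP 804 zCode.1, mem_of_sift (by norm_num) hT valid_cover _ _ hzr hzs⟩
  have hker : Nat.card proj.ker = 2 := by
    have h := proj.ker.card_mul_index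
    rw [index_ker, MonoidHom.range_eq_top.mpr proj_surjective, card_top, small_good.2.2, hcard] at h
    exact Nat.eq_of_mul_eq_mul_right (show 0 < 44352000 from Nat.succ_pos _) (h.trans (by norm_num))
  have hzk : z ∈ proj.ker := by
    refine MonoidHom.mem_ker.mpr (Subtype.ext (Equiv.ext fun i => hi_injective ?_))
    rw [← proj_apply]
    refine Fin.ext ((hzr (hi i)).symm.trans ?_)
    exact Nat.eq_of_beq_eq_true (List.all_eq_true.mp hzfix i (List.mem_range.mpr i.2))
  have hz1 : z ≠ 1 := fun e => by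
    have h := hzr ⟨0, by norm_num⟩
    rw [show decP 804 zCode.1 = 1 from congrArg Subtype.val e] at h
    rw [show ap zCode.1 0 = 0 from h] at hz0
    simp at hz0
  have hall : ∀ x ∈ proj.ker, x = 1 ∨ x = z := by
    intro x hx
    by_contra hh
    push Not at hh
    have : ({1, z, x} : Finset CoverHS).card ≤ 2 := by
      rw [← hker, ← Nat.card_eq_finsetCard]
      refine Nat.card_le_card_of_injective (fun w => (⟨w.1, ?_⟩ : proj.ker)) fun a b e => ?_
      · have := w.2
        simp only [Finset.mem_insert, Finset.mem_singleton] at this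
        rcases this with e | e | e <;> rw [e]
        exacts [one_mem _, hzk, hx]
      · exact Subtype.ext (congrArg (fun q : proj.ker => q.1) e)
    rw [Finset.card_insert_of_notMem (by simp [hz1.symm, hh.1.symm]), Finset.card_pair (Ne.symm hh.2)] at this
    omega
  refine ⟨⟨proj_surjective, fun x hx => ?_, fun x hx => ?_⟩, hker⟩
  · rcases hall x hx with rfl | rfl
    · exact one_mem _
    · refine mem_center_iff.mpr fun y => Subtype.ext ?_
      show (y : Perm (Fin 804)) * decP 804 zCode.1 = decP 804 zCode.1 * y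
      obtain ⟨y, hy⟩ := y
      refine (show y ∈ centralizer ({decP 804 zCode.1} : Set (Perm (Fin 804))) from ?_) |> fun h =>
        (mem_centralizer_singleton_iff.mp h)
      refine (closure_le _).mpr ?_ hy
      rintro g ⟨c, hc, hg⟩
      refine mem_centralizer_singleton_iff.mpr (Equiv.ext fun i => Fin.ext ?_)
      rw [Perm.mul_apply, Perm.mul_apply, ← hg, ← hzr, ← hzr, ← hg]
      exact Nat.eq_of_beq_eq_true (List.all_eq_true.mp (List.all_eq_true.mp hzc i (List.mem_range.mpr i.2)) c hc)
  · rcases hall x hx with rfl | rfl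
    · exact one_mem _
    · obtain ⟨hmem, hlen, hcomm⟩ := comm_ok
      have hel : ∀ k < 2, ∃ g : CoverHS, Rep 804 (commCodes.getD k (0, 0)).1 (g : Perm (Fin 804)) ∧
          Rep 804 (commCodes.getD k (0, 0)).2 ((g⁻¹ : CoverHS) : Perm (Fin 804)) := fun k hk => by
        have hk' : k < commCodes.length := by rw [hlen]; exact hk
        have h := List.all_eq_true.mp hmem _ (List.getElem_mem hk')
        rw [Bool.and_eq_true] at h
        rw [List.getD_eq_getElem _ _ hk']
        exact ⟨⟨_, mem_of_sift (by norm_num) hT valid_cover _ _ (decP_rep h.1) h.2⟩, decP_rep h.1,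
          rep_inv (by norm_num) (decP_rep h.1) h.1⟩
      obtain ⟨a, ha, ha'⟩ := hel 0 (by norm_num)
      obtain ⟨b, hb, hb'⟩ := hel 1 (by norm_num)
      rw [show z = ⁅a, b⁆ from Subtype.ext (Equiv.ext fun i => Fin.ext ?_)]
      · exact commutator_mem_commutator (mem_top a) (mem_top b)
      · rw [commutatorElement_def]
        simp only [Subgroup.coe_mul, Perm.mul_apply]
        rw [← ha, ← hb, ← ha', ← hb', Nat.eq_of_beq_eq_true (List.all_eq_true.mp hcomm i (List.mem_range.mpr i.2)),
          hzr i]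

/-! ### The bound -/

open CfsgPC in
theorem sub_table {ls : List Level} {gc : List (ℕ × ℕ)} {lens : List ℕ}
    (hs : shapeOK 100 ls (gc.map Prod.fst) = true) (hlens : (ls.map fun L => L.tr.length) = lens)
    (he : ((List.range lens.length).all fun j => entriesOK 100 ls (gc.map Prod.fst) j 0 (lens.getD j 0)) = true) :
    TableOK 100 ls (gc.map Prod.fst) := by
  subst hlens
  refine tableOK_of_checks hs fun j hj k hk => ?_
  refine of_entriesOK (List.all_eq_true.mp he j (List.mem_range.mpr (by simpa using hj))) (Nat.zero_le _) ?_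
  rw [List.getD_eq_getElem _ _ (by simpa using hj), List.getElem_map]
  rwa [List.getD_eq_getElem _ _ hj] at hk

theorem certTwo_ok : certTwo.check = true := by
  have h : ∀ i < 9, ((List.range 9).all fun j => Nat.blt j i || certTwo.relOK i j) = true := by
    intro i hi
    interval_cases i
    exacts [relTwo0, relTwo1, relTwo2, relTwo3, relTwo4, relTwo5, relTwo6, relTwo7, relTwo8]
  exact Bool.and_eq_true_iff.mpr ⟨List.all_eq_true.mpr fun i hi => h i (List.mem_range.mp hi), rphiTwo⟩

open CfsgPC in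
/-- The two-part of the certificate, on any stem extension with kernel of exponent four. -/
theorem exp_four {Γ : Type u} [Group Γ] [Finite Γ] {σ : Γ →* SmallHS} (hσ : Cfsg.IsStemExtension σ)
    (hexp : ∀ z ∈ σ.ker, z ^ 4 = 1) : ∃ w ∈ σ.ker, w ^ 2 = 1 ∧ σ.ker ≤ zpowers w := by
  classical
  obtain ⟨hs, hlens, hsz, hone, hlen⟩ := subTwo_shape
  obtain ⟨g, t, ht, hf, hle⟩ := SylowData.exists_elems ⟨gcTwo, tcTwo, subTwo⟩ (by norm_num) small_good.1 hs_model.1
    small_good.2.1 (facts := certTwo.facts) (N := 512) ⟨memTwo, hone, factsTwo, sub_table hs hlens subTwo_entries, hsz⟩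
  simp only at hle
  rw [hlen] at hle
  have hn : certTwo.n = 9 ∧ certTwo.q = 4 ∧ certTwo.r = 2 := ⟨rfl, rfl, rfl⟩
  have hz : ∀ N f, CollectMod.zz (fun _ => (1 : SmallHS)) N f = 1 := fun N f => by
    induction N with
    | zero => rfl
    | succ N ih => simp [CollectMod.zz, ih]
  have hup := CollectMod.card_lift certTwo (Gl := g) (Tl := t) (E := fun _ => 1)
    (fun _ _ => Commute.one_left _) (fun _ => one_pow _) ht (fun m => by
      show _ = _ * (1 : SmallHS)
      rw [mul_one]
      by_cases hm : m < certTwo.facts.length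
      · exact hf m hm
      · rw [show certTwo.fact m = (0, [], []) from List.getD_eq_default _ _ (not_lt.mp hm)]
        simp [Collect.ev_nil, ht]) certTwo_ok
  simp only [hz, mul_one, orderOf_one] at hup
  set P := closure (g '' {k | k < certTwo.n}) with hP
  have hup' : Nat.card P ≤ 512 := by
    refine le_trans (card_le_of_le ?_) (hup.trans_eq (by rw [hn.1]; norm_num))
    exact closure_mono Set.subset_union_left
  have hidx : P.index = 86625 := by
    have h := P.card_mul_index
    rw [small_good.2.2, le_antisymm hup' hle] at h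
    omega
  obtain ⟨w, hw, hwr, hz'⟩ := CollectMod.pow_index_mem_zpowers hσ certTwo (hn.2.1.symm ▸ hexp) certTwo_ok g t ht hf
    (by rw [hn.1]; exact hle)
  refine ⟨w, hw, hn.2.2 ▸ hwr, fun z hzk => ?_⟩
  have := hz' z hzk
  rwa [← hP, hidx, show (86625 : ℕ) = 4 * 21656 + 1 by norm_num, pow_add, pow_mul, hexp z hzk, one_pow, one_mul,
    pow_one] at this

theorem kill_prime {Γ : Type u} [Group Γ] {H : Subgroup Γ} {p : ℕ} (h : ∀ w ∈ H, w ^ p = 1 → w = 1) :
    ∀ k m : ℕ, ∀ z ∈ H, z ^ (p ^ k * m) = 1 → z ^ m = 1 := by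
  intro k
  induction k with
  | zero => intro m z _ hz; simpa using hz
  | succ k ih =>
    intro m z hzH hz
    refine h _ (pow_mem hzH m) ?_
    rw [← pow_mul, mul_comm]
    exact ih (p * m) z hzH (by rw [← hz]; congr 1; ring)

open CfsgPC in
theorem ker_small {Γ : Type u} [Group Γ] [Finite Γ] {σ : Γ →* SmallHS} (hσ : Cfsg.IsStemExtension σ) :
    ∃ w ∈ σ.ker, w ^ 2 = 1 ∧ σ.ker ≤ zpowers w := by
  classical
  have hcard := small_good.2.2
  have k3 : ∀ w ∈ σ.ker, w ^ 3 = 1 → w = 1 := fun w hw h3 => by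
    obtain ⟨hs, hlens, hsz, hone, hlen⟩ := subThree_shape
    exact no_torsion_of_cert (by norm_num) small_good.1 hs_model.1 small_good.2.1 certThree certThree_ok Nat.prime_three
      ⟨gcThree, tcThree, subThree⟩ hlen ⟨memThree, hone, factsThree, sub_table hs hlens subThree_entries, hsz⟩
      (by rw [hcard]; norm_num [certThree]) hσ hw h3
  have k5 : ∀ w ∈ σ.ker, w ^ 5 = 1 → w = 1 := fun w hw h5 => by
    obtain ⟨hs, hlens, hsz, hone, hlen⟩ := subFive_shape
    exact no_torsion_of_cert (by norm_num) small_good.1 hs_model.1 small_good.2.1 certFive certFive_ok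
      (show Nat.Prime 5 by norm_num)
      ⟨gcFive, tcFive, subFive⟩ hlen ⟨memFive, hone, factsFive, sub_table hs hlens subFive_entries, hsz⟩
      (by rw [hcard]; norm_num [certFive]) hσ hw h5
  have kc : ∀ p ∈ [7, 11], ∀ w ∈ σ.ker, w ^ p = 1 → w = 1 := fun p hp w hw hwp => by
    obtain ⟨hall, hmap⟩ := cyc_ok
    rw [← hmap] at hp
    obtain ⟨d, hd, rfl⟩ := List.mem_map.mp hp
    have hd7 : d.1 = 7 ∨ d.1 = 11 := by
      have : d.1 ∈ cycCodes.map Prod.fst := List.mem_map_of_mem hd
      simpa [hmap] using this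
    have h := List.all_eq_true.mp hall d hd
    simp only [Bool.and_eq_true, Bool.not_eq_true', List.all_eq_true, List.mem_range] at h
    obtain ⟨⟨⟨hp', hs⟩, hpow⟩, hne⟩ := h
    have hr := decP_rep hp'
    let g : SmallHS := ⟨_, mem_of_sift (by norm_num) small_good.1 hs_model.1 _ _ hr hs⟩
    refine no_torsion_cyclic (by rcases hd7 with e | e <;> rw [e] <;> norm_num) (g := g)
      (Subtype.ext (Equiv.ext fun i => Fin.ext ?_)) (fun e => ?_) ?_ hσ hw hwp
    · rw [SubgroupClass.coe_pow, ← rep_apN hr, Nat.eq_of_beq_eq_true (hpow i i.2)]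
      rfl
    · have e' : decP 100 d.2.1 = 1 := congrArg Subtype.val e
      rw [← Bool.not_eq_true, List.all_eq_true] at hne
      refine hne fun i hi => ?_
      have := hr ⟨i, List.mem_range.mp hi⟩
      rw [e'] at this
      rw [show ap d.2.1 i = i from this, Nat.beq_refl]
    · rw [hcard]; rcases hd7 with e | e <;> rw [e] <;> norm_num
  have h512 : ∀ z ∈ σ.ker, z ^ 512 = 1 := by
    intro z hz
    have h0 : z ^ 44352000 = 1 := by
      have := CfsgLib.StSL.pow_index_eq_one_of_cyclic hσ (1 : SmallHS) hz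
      rwa [zpowers_one_eq_bot, index_bot, hcard] at this
    refine kill_prime (kc 11 (by simp)) 1 512 z hz (kill_prime (kc 7 (by simp)) 1 _ z hz
      (kill_prime k5 3 _ z hz (kill_prime k3 2 _ z hz ?_)))
    rw [← h0]; norm_num
  obtain ⟨z₀, hz₀, ⟨y₀, hy₀, he₀⟩, hall⟩ := CollectMod.mod_pow hσ 4 2 (fun Δ _ _ τ hτ hexp => exp_four hτ hexp)
  have hsq : ∀ z ∈ σ.ker, ∃ v ∈ σ.ker, z ^ 2 = v ^ 4 := by
    intro z hz
    obtain ⟨k, y, hy, rfl⟩ := hall z hz
    refine ⟨y₀ ^ k * y ^ 2, mul_mem (zpow_mem hy₀ k) (pow_mem hy 2), ?_⟩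
    have hc : ∀ x, x ∈ σ.ker → ∀ g, Commute x g := fun x hx g => (mem_center_iff.mp (hσ.2.1 hx) g).symm
    rw [(hc _ (zpow_mem hz₀ k) _).mul_pow, (hc _ (zpow_mem hy₀ k) _).mul_pow, ← pow_mul, ← pow_mul]
    congr 1
    rw [← zpow_natCast (z₀ ^ k), ← zpow_natCast (y₀ ^ k), ← _root_.zpow_mul, ← _root_.zpow_mul, mul_comm k, mul_comm k,
      _root_.zpow_mul, _root_.zpow_mul, zpow_natCast, zpow_natCast, he₀]
  have hit : ∀ j : ℕ, ∀ z ∈ σ.ker, ∃ v ∈ σ.ker, z ^ 2 = v ^ 2 ^ (j + 2) := by
    intro j
    induction j with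
    | zero => exact hsq
    | succ j ih =>
      intro z hz
      obtain ⟨v, hv, e⟩ := ih z hz
      obtain ⟨x, hx, e'⟩ := hsq v hv
      refine ⟨x, hx, ?_⟩
      rw [e, show 2 ^ (j + 2) = 2 * 2 ^ (j + 1) by ring, pow_mul, e', ← pow_mul]
      congr 1
      ring
  have h2 : ∀ z ∈ σ.ker, z ^ 2 = 1 := by
    intro z hz
    obtain ⟨v, hv, e⟩ := hit 7 z hz
    rw [e]; exact h512 v hv
  refine ⟨z₀, hz₀, h2 _ hz₀, fun z hz => ?_⟩
  obtain ⟨k, y, hy, rfl⟩ := hall z hz
  rw [show (4 : ℕ) = 2 * 2 from rfl, pow_mul, h2 y hy, one_pow, mul_one]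
  exact zpow_mem (mem_zpowers z₀) k

theorem multiplier : Cfsg.HasCyclicSchurMultiplier ↥Cfsg.Spor.HS 2 := by
  haveI : Fact (Nat.Prime 2) := ⟨Nat.prime_two⟩
  obtain ⟨e1⟩ := spor_hs_equiv
  obtain ⟨-, -, ⟨e2⟩⟩ := hs_model
  let e : ↥Cfsg.Spor.HS ≃* SmallHS := e1.trans e2
  have hZ : Nat.card (Multiplicative (ZMod 2)) = 2 := by simp
  refine ⟨?_, fun Γ _ _ σ hσ => ?_⟩
  · obtain ⟨⟨hs, hc, hd⟩, hk⟩ := cover_stem
    let d : ULift ↥(CfsgPCW.genG 804 (coverGens.map Prod.fst)) ≃* CoverHS := MulEquiv.ulift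
    let τ : ULift ↥(CfsgPCW.genG 804 (coverGens.map Prod.fst)) →* ↥Cfsg.Spor.HS := e.symm.toMonoidHom.comp (proj.comp d.toMonoidHom)
    have hker : ∀ x, x ∈ τ.ker ↔ d x ∈ proj.ker := fun x =>
      ⟨fun h => MonoidHom.mem_ker.mpr (e.symm.injective ((MonoidHom.mem_ker.mp h).trans (map_one e.symm).symm)),
        fun h => MonoidHom.mem_ker.mpr ((congrArg e.symm (MonoidHom.mem_ker.mp h)).trans (map_one e.symm))⟩
    have hst : Cfsg.IsStemExtension τ := by
      refine ⟨e.symm.surjective.comp (hs.comp d.surjective), fun x hx => ?_, fun x hx => ?_⟩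
      · refine mem_center_iff.mpr fun y => d.injective ?_
        rw [map_mul, map_mul]
        exact mem_center_iff.mp (hc ((hker x).mp hx)) _
      · have hm := mem_map_of_mem d.symm.toMonoidHom (hd ((hker x).mp hx))
        rw [_root_.commutator_def, map_commutator, map_top_of_surjective _ d.symm.surjective] at hm
        simpa [_root_.commutator_def] using hm
    refine ⟨_, inferInstance, inferInstance, τ, hst, ⟨mulEquivOfPrimeCardEq ?_ hZ⟩⟩
    rw [← hk]
    exact Nat.card_congr (d.toEquiv.subtypeEquiv hker)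
  · obtain ⟨w, hw, hw2, hle⟩ := ker_small (σ := e.toMonoidHom.comp σ)
      ⟨e.surjective.comp hσ.1, fun x hx => hσ.2.1 (by simpa using hx), fun x hx => hσ.2.2 (by simpa using hx)⟩
    have hw' : w ∈ σ.ker := by simpa using hw
    have hle' : σ.ker ≤ zpowers w := fun x hx => hle (by simpa using hx)
    by_cases h1 : w = 1
    · refine ⟨1, fun x => ⟨1, ?_⟩⟩
      have := hle' x.2
      rw [h1, Subgroup.zpowers_one_eq_bot, Subgroup.mem_bot] at this
      exact Subtype.ext this.symm
    · have hc : Nat.card σ.ker = 2 := by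
        rw [le_antisymm hle' (Subgroup.zpowers_le.mpr hw'), Nat.card_zpowers, orderOf_eq_prime hw2 h1]
      exact ⟨(mulEquivOfPrimeCardEq hZ hc).toMonoidHom, (mulEquivOfPrimeCardEq hZ hc).surjective⟩

end CfsgLeech.Models.HiSSchur
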