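/-
The outer automorphism group of McL.
-/
import Cfsg.Agent.Lib.Leech.McLModel

set_option autoImplicit false
set_option maxRecDepth 30000

namespace CfsgLeech.Models

open Cfsg CfsgGolay CfsgPC

theorem mcl_centX : mclRigid.checkCentX = true := by decide +kernel

theorem mcl_arith : mclRigid.checkArith = true := by decide +kernel

theorem mcl_images : mclRigid.checkImages = true := by decide +kernel

theorem mcl_s : mclRigid.checkS = true := by decide +kernel

theorem mcl_outer : mclRigid.checkOuter mclTau mclTauInv = true := by decide +kernel

theorem card_out_McL : Nat.card (Cfsg.Out ↥Spor.McL) = 2 := by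
  obtain ⟨e1⟩ := spor_mcl_equiv
  obtain ⟨hv, hg, ⟨e2⟩⟩ := mcl_model
  rw [card_out_congr (e1.trans e2)]
  have hle := Rigid.card_out_le (R := mclRigid) hv (show Nat.Prime 11 by norm_num) mcl_check mcl_centX mcl_arith mcl_images mcl_s hg
  have hlen : mclRigid.images.length = 2 := rfl
  rw [hlen] at hle
  exact le_antisymm hle (Rigid.exists_outer (R := mclRigid) hv mcl_check hg mcl_outer)

end CfsgLeech.Models
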