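/-
The stabiliser of a short vector as a group of matrices modulo thirteen.
-/
import Cfsg.Agent.Lib.Leech.Mono
import Cfsg.Agent.Lib.Leech.StabSimple
import Cfsg.Prelude.Def_Spor_Conway

set_option autoImplicit false
set_option linter.style.haveILetI false

namespace CfsgLeech13

open Cfsg CfsgGolay CfsgLeech Matrix
open scoped Pointwise

attribute [local irreducible] codeL octadL dodecadL

theorem eight_mem (j : GolayPt) : (fun a => 4 * (2 * chi {j} a)) ∈ leechLattice := by
  rw [← minGrp_eq]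
  refine four_mul_mem ⟨∑ i, chi {j} i, ?_⟩
  rw [Finset.mul_sum]

/-- Eight times a coordinate vector. -/
def e8 (j : GolayPt) : ↥leechLattice := ⟨fun a => 4 * (2 * chi {j} a), eight_mem j⟩

theorem e8_apply (j a : GolayPt) : (e8 j : GolayPt → ℤ) a = if a = j then 8 else 0 := by
  show 4 * (2 * chi {j} a) = _
  simp only [chi, Finset.mem_singleton]
  split_ifs <;> norm_num

/-- A member of the group as an additive map. -/
noncomputable def addHom (f : Equiv.Perm ↥leechLattice) (hf : f ∈ Co0) : ↥leechLattice →+ ↥leechLattice :=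
  AddMonoidHom.mk' f hf.1

theorem coe_sum (s : Finset GolayPt) (v : GolayPt → ↥leechLattice) :
    ((∑ j ∈ s, v j : ↥leechLattice) : GolayPt → ℤ) = ∑ j ∈ s, (v j : GolayPt → ℤ) :=
  map_sum leechLattice.subtype v s

theorem eight_expand (f : Equiv.Perm ↥leechLattice) (hf : f ∈ Co0) (x : ↥leechLattice) (a : GolayPt) :
    8 * (f x : GolayPt → ℤ) a = ∑ j, (x : GolayPt → ℤ) j * (f (e8 j) : GolayPt → ℤ) a := by
  have hx : (8 : ℤ) • x = ∑ j, (x : GolayPt → ℤ) j • e8 j := by
    refine Subtype.ext ?_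
    rw [coe_sum]
    funext b
    simp only [AddSubgroupClass.coe_zsmul, Pi.smul_apply, smul_eq_mul, Finset.sum_apply, e8_apply,
      mul_ite, mul_zero, Finset.sum_ite_eq, Finset.mem_univ, if_true]
    ring
  have h := congrArg (fun v : ↥leechLattice => ((addHom f hf v : ↥leechLattice) : GolayPt → ℤ) a) hx
  simp only [map_zsmul, map_sum, coe_sum, AddSubgroupClass.coe_zsmul, Pi.smul_apply, smul_eq_mul,
    Finset.sum_apply] at h
  exact h

theorem dot_pres (f : Equiv.Perm ↥leechLattice) (hf : f ∈ Co0) (x y : ↥leechLattice) :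
    dotInt (f x : GolayPt → ℤ) (f y) = dotInt (x : GolayPt → ℤ) y := by
  have expand : ∀ v w : GolayPt → ℤ, sqNorm (v + w) = sqNorm v + sqNorm w + 2 * dotInt v w := by
    intro v w
    simp only [sqNorm, dotInt, Pi.add_apply, Finset.mul_sum, ← Finset.sum_add_distrib]
    exact Finset.sum_congr rfl fun i _ => by ring
  have h := hf.2 (x + y)
  rw [hf.1 x y, AddSubgroup.coe_add, AddSubgroup.coe_add, expand, expand, hf.2 x, hf.2 y] at h
  linarith

/-- Reduction of a lattice vector. -/
def red (x : ↥leechLattice) : GolayPt → ZMod 13 := fun i => ((x : GolayPt → ℤ) i : ZMod 13)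

/-- The matrix of a permutation of the lattice, modulo thirteen. -/
noncomputable def matOf (f : Equiv.Perm ↥leechLattice) : Matrix GolayPt GolayPt (ZMod 13) :=
  fun i j => 5 * ((f (e8 j) : GolayPt → ℤ) i : ZMod 13)

theorem five_eight : (5 : ZMod 13) * 8 = 1 := by decide

theorem matOf_red (f : Equiv.Perm ↥leechLattice) (hf : f ∈ Co0) (x : ↥leechLattice) :
    matOf f *ᵥ red x = red (f x) := by
  funext i
  have h := congrArg (fun z : ℤ => (z : ZMod 13)) (eight_expand f hf x i)
  simp only [Int.cast_mul, Int.cast_sum, Int.cast_ofNat] at h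
  calc (matOf f *ᵥ red x) i
      = ∑ j, 5 * ((f (e8 j) : GolayPt → ℤ) i : ZMod 13) * ((x : GolayPt → ℤ) j : ZMod 13) := rfl
    _ = 5 * ∑ j, ((x : GolayPt → ℤ) j : ZMod 13) * ((f (e8 j) : GolayPt → ℤ) i : ZMod 13) := by
        rw [Finset.mul_sum]; exact Finset.sum_congr rfl fun j _ => by ring
    _ = (5 * 8) * ((f x : GolayPt → ℤ) i : ZMod 13) := by rw [← h, mul_assoc]
    _ = red (f x) i := by rw [five_eight, one_mul]; rfl

theorem red_e8 (j : GolayPt) : red (e8 j) = (8 : ZMod 13) • Pi.single j 1 := by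
  funext a
  show ((((e8 j : ↥leechLattice) : GolayPt → ℤ) a : ℤ) : ZMod 13) = _
  rw [e8_apply]
  by_cases h : a = j <;> simp [h]

theorem matOf_one : matOf 1 = 1 := by
  ext i j
  show 5 * ((((e8 j : ↥leechLattice) : GolayPt → ℤ) i : ℤ) : ZMod 13) = _
  rw [e8_apply]
  by_cases h : i = j
  · subst h
    rw [if_pos rfl, Matrix.one_apply_eq]
    exact five_eight
  · rw [if_neg h, Matrix.one_apply_ne h]
    simp

theorem matOf_mul (f g : Equiv.Perm ↥leechLattice) (hf : f ∈ Co0) :
    matOf (f * g) = matOf f * matOf g := by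
  ext i j
  have h := congrFun (matOf_red f hf (g (e8 j))) i
  show 5 * red (f (g (e8 j))) i = ∑ k, matOf f i k * (5 * red (g (e8 j)) k)
  rw [← h, Matrix.mulVec, dotProduct, Finset.mul_sum]
  exact Finset.sum_congr rfl fun k _ => by ring

/-- The dot product with the fixed vector. -/
noncomputable def dotU : (GolayPt → ZMod 13) →ₗ[ZMod 13] ZMod 13 where
  toFun x := x ⬝ᵥ red Spor.leechU
  map_add' x y := add_dotProduct x y _
  map_smul' c x := smul_dotProduct c x _

theorem red_dot (x y : ↥leechLattice) : red x ⬝ᵥ red y = ((dotInt (x : GolayPt → ℤ) y : ℤ) : ZMod 13) := by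
  simp [dotProduct, red, dotInt]

theorem red_apply (x : ↥leechLattice) (i : GolayPt) : red x i = (((x : GolayPt → ℤ) i : ℤ) : ZMod 13) := rfl

theorem eleven_six : (11 : ZMod 13) * 6 = 1 := by decide

theorem dotU_apply (x : GolayPt → ZMod 13) : dotU x = x ⬝ᵥ red Spor.leechU := rfl

attribute [local irreducible] red matOf dotU

theorem dotU_U : dotU (red Spor.leechU) = 6 := by
  rw [dotU_apply, red_dot]
  have : dotInt (Spor.leechU : GolayPt → ℤ) Spor.leechU = 32 := by decide +kernel
  rw [this]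
  decide

theorem fixU {g : ↥Spor.Co2} : g.1 Spor.leechU = Spor.leechU := g.2.2

theorem dotU_invariant (g : ↥Spor.Co2) (x : GolayPt → ZMod 13) : dotU (matOf g.1 *ᵥ x) = dotU x := by
  have h : dotU ∘ₗ Matrix.mulVecLin (matOf g.1) = dotU := by
    refine (Pi.basisFun (ZMod 13) GolayPt).ext fun j => ?_
    have hj : (Pi.single j 1 : GolayPt → ZMod 13) = (5 : ZMod 13) • red (e8 j) := by
      rw [red_e8, smul_smul, five_eight, one_smul]
    rw [Pi.basisFun_apply, LinearMap.comp_apply, Matrix.mulVecLin_apply, hj, Matrix.mulVec_smul,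
      matOf_red g.1 g.2.1, map_smul, map_smul]
    refine congrArg (fun c : ZMod 13 => (5 : ZMod 13) • c) ?_
    rw [dotU_apply, dotU_apply, red_dot, red_dot]
    conv_lhs => rw [← fixU (g := g)]
    rw [dot_pres g.1 g.2.1]
  exact LinearMap.congr_fun h x

/-- The hyperplane. -/
noncomputable def W : Submodule (ZMod 13) (GolayPt → ZMod 13) := LinearMap.ker dotU

theorem W_inv (g : ↥Spor.Co2) : ∀ x ∈ W, Matrix.mulVecLin (matOf g.1) x ∈ W := by
  intro x hx
  rw [W, LinearMap.mem_ker, Matrix.mulVecLin_apply, dotU_invariant]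
  exact hx

/-- The action on the hyperplane. -/
noncomputable def toEnd : ↥Spor.Co2 →* Module.End (ZMod 13) W where
  toFun g := (Matrix.mulVecLin (matOf g.1)).restrict (W_inv g)
  map_one' := LinearMap.ext fun x => Subtype.ext (by
    show matOf 1 *ᵥ x.1 = x.1
    rw [matOf_one, Matrix.one_mulVec])
  map_mul' g h := LinearMap.ext fun x => Subtype.ext (by
    show matOf (g.1 * h.1) *ᵥ x.1 = matOf g.1 *ᵥ (matOf h.1 *ᵥ x.1)
    rw [matOf_mul _ _ g.2.1, Matrix.mulVec_mulVec])

theorem finrank_W : Module.finrank (ZMod 13) W = 23 := by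
  haveI : Fact (Nat.Prime 13) := ⟨by norm_num⟩
  have h := LinearMap.finrank_range_add_finrank_ker dotU
  have hr : LinearMap.range dotU = ⊤ := by
    refine LinearMap.range_eq_top.mpr fun c => ⟨(c * 11) • red Spor.leechU, ?_⟩
    rw [map_smul, dotU_U, smul_eq_mul, mul_assoc, eleven_six, mul_one]
  rw [hr, finrank_top, Module.finrank_self, Module.finrank_fintype_fun_eq_card,
    show Fintype.card GolayPt = 24 from rfl] at h
  show Module.finrank (ZMod 13) (LinearMap.ker dotU) = 23
  omega

theorem toEnd_injective : Function.Injective toEnd := by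
  rw [injective_iff_map_eq_one]
  intro g hg
  have hW : ∀ x ∈ W, matOf g.1 *ᵥ x = x := fun x hx => by
    have h2 : toEnd g ⟨x, hx⟩ = ⟨x, hx⟩ := by rw [hg, Module.End.one_apply]
    have h3 := congrArg Subtype.val h2
    simp only [toEnd, MonoidHom.coe_mk, OneHom.coe_mk, LinearMap.restrict_coe_apply, Matrix.mulVecLin_apply] at h3
    exact h3
  have hu : matOf g.1 *ᵥ red Spor.leechU = red Spor.leechU := by rw [matOf_red g.1 g.2.1, fixU]
  have hid : ∀ x, matOf g.1 *ᵥ x = x := by
    intro x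
    set c : ZMod 13 := dotU x * 11 with hc
    have hmem : x - c • red Spor.leechU ∈ W := by
      rw [W, LinearMap.mem_ker, map_sub, map_smul, dotU_U, smul_eq_mul, hc, mul_assoc,
        eleven_six, mul_one, sub_self]
    have h := hW _ hmem
    rw [Matrix.mulVec_sub, Matrix.mulVec_smul, hu, sub_left_inj] at h
    exact h
  have hmin : ∀ x : ↥leechLattice, sqNorm (x : GolayPt → ℤ) = 32 → g.1 x = x := by
    intro x hx
    have hn := g.2.1.2 x
    rw [hx] at hn
    have hred : red (g.1 x) = red x := by rw [← matOf_red g.1 g.2.1, hid]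
    refine Subtype.ext (funext fun i => ?_)
    have h13 : ((13 : ℕ) : ℤ) ∣ (g.1 x : GolayPt → ℤ) i - (x : GolayPt → ℤ) i := by
      rw [← ZMod.intCast_zmod_eq_zero_iff_dvd, Int.cast_sub, sub_eq_zero]
      rw [← red_apply, ← red_apply]
      exact congrFun hred i
    have bound : ∀ {v : GolayPt → ℤ}, sqNorm v = 32 → -5 ≤ v i ∧ v i ≤ 5 := by
      intro v hv
      have : v i ^ 2 ≤ 32 := hv ▸ Finset.single_le_sum (f := fun k => v k ^ 2) (fun k _ => sq_nonneg _) (Finset.mem_univ i)
      constructor <;> nlinarith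
    obtain ⟨a1, a2⟩ := bound hn
    obtain ⟨b1, b2⟩ := bound hx
    obtain ⟨q, hq⟩ := h13
    omega
  apply Subtype.ext
  apply Equiv.ext
  intro v
  have hv : (v : GolayPt → ℤ) ∈ minGrp := by rw [minGrp_eq]; exact v.2
  have key : ∀ y, y ∈ minGrp → ∃ w : ↥leechLattice, (w : GolayPt → ℤ) = y ∧ g.1 w = w := by
    intro y hy
    refine AddSubgroup.closure_induction (fun z hz => ?_) ?_ ?_ ?_ hy
    · exact ⟨⟨z, hz.1⟩, rfl, hmin _ hz.2⟩
    · exact ⟨0, rfl, map_zero (addHom g.1 g.2.1)⟩
    · rintro a b - - ⟨p, rfl, hp⟩ ⟨q, rfl, hq⟩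
      exact ⟨p + q, rfl, by rw [g.2.1.1, hp, hq]⟩
    · rintro a - ⟨p, rfl, hp⟩
      refine ⟨-p, rfl, ?_⟩
      have h := map_neg (addHom g.1 g.2.1) p
      simp only [addHom, AddMonoidHom.mk'_apply] at h
      rw [h, hp]
  obtain ⟨w, hw, hgw⟩ := key _ hv
  obtain rfl : w = v := Subtype.ext hw
  exact hgw

/-- The representation of degree twenty-three. -/
theorem co2_gl : ∃ f : ↥Spor.Co2 →* GL (Fin 23) (ZMod 13), Function.Injective f := by
  haveI : Fact (Nat.Prime 13) := ⟨by norm_num⟩
  let b : Module.Basis (Fin 23) (ZMod 13) W := Module.finBasisOfFinrankEq (ZMod 13) W finrank_W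
  let e : Module.End (ZMod 13) W ≃* Matrix (Fin 23) (Fin 23) (ZMod 13) := (LinearMap.toMatrixAlgEquiv b).toMulEquiv
  refine ⟨(e.toMonoidHom.comp toEnd).toHomUnits, fun g h hgh => toEnd_injective (e.injective ?_)⟩
  exact congrArg Units.val hgh

end CfsgLeech13
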