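/-
Triangles of minimal vectors.
-/
import Cfsg.Agent.Lib.Leech.Sporadic

set_option autoImplicit false

namespace CfsgLeech

open Cfsg CfsgGolay
open scoped Pointwise

attribute [local irreducible] codeL octadL dodecadL slpCodes

theorem move_a {σ : Equiv.Perm GolayPt} (hσ : σ ∈ M24) {e : Finset GolayPt} (he : e ∈ CW)
    (hab : σ none = none ∧ σ (pt 0) = pt 0 ∨ σ none = pt 0 ∧ σ (pt 0) = none)
    (hn : none ∉ e) (h0 : pt 0 ∉ e) {x y : GolayPt → ℤ} (hx : x ∈ leechLattice) (h : signedPerm σ e x = y) :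
    EqvF [aStd] x y := by
  refine EqvF.of_signedPerm hσ he ?_ hx h
  intro f hf
  rw [List.mem_singleton] at hf
  subst hf
  have hT : σ • ({none, pt 0} : Finset GolayPt) = {none, pt 0} := by
    rw [smul_two]
    rcases hab with ⟨h1, h2⟩ | ⟨h1, h2⟩ <;> rw [h1, h2]
    exact Finset.pair_comm _ _
  rw [aStd, signedPerm_ev (N' := ∅) (Finset.empty_subset _) (Finset.empty_subset _) ?_,
    Finset.smul_finset_empty, hT]
  rw [Finset.smul_finset_empty, Finset.empty_union, symmDiff_self, hT]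
  show e ∩ _ = (∅ : Finset GolayPt)
  rw [Finset.eq_empty_iff_forall_notMem]
  intro p hp
  rw [Finset.mem_inter, Finset.mem_insert, Finset.mem_singleton] at hp
  rcases hp.2 with rfl | rfl
  exacts [hn hp.1, h0 hp.1]

theorem sign_third : signsB (8388608 ||| 3) 0 0 = true ∧ signsB 8536111 8536111 23 = true := by decide +kernel

theorem eT_P : EqvF [aStd] (ev ∅ {none, pt 1} {none}) (ev ∅ {pt 0, pt 5} {pt 0, pt 5}) := by
  refine EqvF.of_word
    (w := [some (335472583326161751408384559010649223, 11896721), none, some (636811101637435834188568817118680756, 8364534)])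
    (by decide +kernel) ?_ (inLatB_sound (by decide +kernel)) (funext fun i => by revert i; decide +kernel)
  intro f hf
  rw [List.mem_singleton] at hf
  subst hf
  exact funext fun i => by revert i; decide +kernel

theorem eT_Q : ∃ O N, O ∈ octads ∧ none ∈ O ∧ pt 0 ∈ O ∧ N ⊆ O ∧ none ∈ N ∧ pt 0 ∈ N ∧ N.card % 2 = 0 ∧
    EqvF [aStd] (ev ∅ {none, pt 1} {none}) (ev O ∅ N) := by
  refine ⟨toSet 13893731, toSet 9437283, toSet_mem_octads' (by norm_num) (by decide +kernel), by decide +kernel,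
    by decide +kernel, by decide +kernel, by decide +kernel, by decide +kernel, by decide +kernel, ?_⟩
  refine EqvF.of_word
    (w := [some (943994431710993441939462709444150786, 542009), none, some (183476211638571807554961831053575190, 11451380)])
    (by decide +kernel) ?_ (inLatB_sound (by decide +kernel)) (funext fun i => by revert i; decide +kernel)
  intro f hf
  rw [List.mem_singleton] at hf
  subst hf
  exact funext fun i => by revert i; decide +kernel

theorem eT_R : ∃ c, c ∈ CW ∧ none ∉ c ∧ pt 0 ∈ c ∧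
    EqvF [aStd] (ev ∅ {none, pt 1} {none}) (od (-1) c {none}) := by
  refine ⟨toSet 1095635, toSet_mem_CW (by decide +kernel), by decide +kernel, by decide +kernel, ?_⟩
  refine EqvF.of_word
    (w := [some (637377512474337412464725580458926161, 12243568), none, some (971387465249018375818602168325905096, 14757759), none, some (256420376584683484517825216080431477, 15939309)])
    (by decide +kernel) ?_ (inLatB_sound (by decide +kernel)) (funext fun i => by revert i; decide +kernel)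
  intro f hf
  rw [List.mem_singleton] at hf
  subst hf
  exact funext fun i => by revert i; decide +kernel

/-- The minimal vectors with dot product −16 against `aStd`. -/
inductive IsTri : (GolayPt → ℤ) → Prop
  | p (a j : GolayPt) (N : Finset GolayPt) : (a = none ∨ a = pt 0) → j ≠ none → j ≠ pt 0 → N ⊆ {a, j} →
      a ∈ N → IsTri (ev ∅ {a, j} N)
  | q (O N : Finset GolayPt) : O ∈ octads → none ∈ O → pt 0 ∈ O → N ⊆ O → none ∈ N → pt 0 ∈ N →
      N.card % 2 = 0 → IsTri (ev O ∅ N)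
  | r (a b : GolayPt) (c : Finset GolayPt) : (a = none ∧ b = pt 0 ∨ a = pt 0 ∧ b = none) → c ∈ CW → a ∉ c →
      b ∈ c → IsTri (od (-1) c {a})

theorem IsTri.mem {x : GolayPt → ℤ} (h : IsTri x) : x ∈ leechLattice := by
  cases h with
  | p a j N ha hj hj0 hN haN =>
    have hne : a ≠ j := by rcases ha with rfl | rfl <;> [exact hj.symm; exact hj0.symm]
    exact mem_leech.mpr (evSet_props (a := 0) (b := 2) (mem_evSet.mpr ⟨_, _, _, CW_empty, rfl,
      Finset.disjoint_empty_right _, Finset.card_pair hne, by simpa using hN, by simp, rfl⟩)).1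
  | q O N hO hn h0 hN hnN h0N hev =>
    exact mem_leech.mpr (evSet_props (a := 8) (b := 0) (mem_evSet.mpr ⟨_, _, _, hO.1, hO.2,
      Finset.disjoint_empty_left _, rfl, by simpa using hN, by rw [Finset.inter_eq_left.mpr hN]; omega, rfl⟩)).1
  | r a b c hab hc ha hb =>
    exact mem_leech.mpr ((odSet_props (s := -1) (k := 1)
      (mem_odSet.mpr ⟨_, _, hc, Finset.card_singleton _, rfl⟩)).1 (by norm_num))

theorem classify_tri {x : GolayPt → ℤ} (hx : x ∈ leechLattice) (hn : sqNorm x = 32) (hd : dotInt aStd x = -16) :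
    IsTri x := by
  rw [(dot_two x).1] at hd
  rcases classify32.mp ⟨hx, hn⟩ with (h | h) | h
  · obtain ⟨c, T, N, -, hc, -, hT, hN, -, rfl⟩ := mem_evSet.mp h
    obtain rfl := Finset.card_eq_zero.mp hc
    have hsub : N ⊆ T := fun i hi => by simpa using hN hi
    obtain ⟨a, b, hab, rfl⟩ := Finset.card_eq_two.mp hT
    have main : ∀ {a b : GolayPt}, a ≠ b → (a = none ∨ a = pt 0) → N ⊆ {a, b} →
        4 * ev ∅ {a, b} N none + 4 * ev ∅ {a, b} N (pt 0) = -16 → IsTri (ev ∅ {a, b} N) := by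
      intro a b hab ha hsub hd
      by_cases hb : b = none ∨ b = pt 0
      · exfalso
        have hTe : ({a, b} : Finset GolayPt) = {none, pt 0} := by
          rcases ha with rfl | rfl <;> rcases hb with rfl | rfl
          · exact absurd rfl hab
          · rfl
          · exact Finset.pair_comm _ _
          · exact absurd rfl hab
        rw [hTe] at hd
        by_cases a1 : none ∈ N <;> by_cases a2 : pt 0 ∈ N <;> simp [ev, chi, a1, a2, ne_pt0.symm] at hd
      · push_neg at hb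
        refine IsTri.p a b N ha hb.1 hb.2 hsub ?_
        by_contra hna
        rcases ha with rfl | rfl
        · have : pt 0 ∉ N := fun h' => by
            rcases Finset.mem_insert.mp (hsub h') with e | e
            · exact ne_pt0 e.symm
            · exact hb.2 (Finset.mem_singleton.mp e).symm
          simp [ev, chi, hna, this, ne_pt0.symm, Ne.symm hb.1, Ne.symm hb.2] at hd
        · have : none ∉ N := fun h' => by
            rcases Finset.mem_insert.mp (hsub h') with e | e
            · exact ne_pt0 e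
            · exact hb.1 (Finset.mem_singleton.mp e).symm
          simp [ev, chi, hna, this, ne_pt0, Ne.symm hb.1, Ne.symm hb.2] at hd
    by_cases ha : a = none ∨ a = pt 0
    · exact main hab ha hsub hd
    · by_cases hb : b = none ∨ b = pt 0
      · rw [Finset.pair_comm] at hsub hd ⊢
        exact main hab.symm hb hsub hd
      · push_neg at ha hb
        exfalso
        simp [ev, chi, Ne.symm ha.1, Ne.symm ha.2, Ne.symm hb.1, Ne.symm hb.2] at hd
  · obtain ⟨c, T, N, hcw, hc, -, hT, hN, hp, rfl⟩ := mem_evSet.mp h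
    obtain rfl := Finset.card_eq_zero.mp hT
    have hsub : N ⊆ c := fun i hi => by simpa using hN hi
    have hall : none ∈ c ∧ pt 0 ∈ c ∧ none ∈ N ∧ pt 0 ∈ N := by
      by_cases a1 : none ∈ c <;> by_cases a2 : pt 0 ∈ c <;> by_cases a3 : none ∈ N <;> by_cases a4 : pt 0 ∈ N <;>
        simp [ev, chi, a1, a2, a3, a4] at hd ⊢
    rw [Finset.inter_eq_left.mpr hsub] at hp
    exact IsTri.q c N ⟨hcw, hc⟩ hall.1 hall.2.1 hsub hall.2.2.1 hall.2.2.2 (by omega)
  · obtain ⟨c, T, hcw, hT, rfl⟩ := mem_odSet.mp h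
    obtain ⟨j, rfl⟩ := Finset.card_eq_one.mp hT
    by_cases hjn : j = none
    · subst hjn
      by_cases a1 : none ∈ c <;> by_cases a2 : pt 0 ∈ c <;>
        first
          | exact IsTri.r none (pt 0) c (Or.inl ⟨rfl, rfl⟩) hcw a1 a2
          | (exfalso; simp [od, chi, a1, a2, ne_pt0.symm] at hd)
    · by_cases hj0 : j = pt 0
      · subst hj0
        by_cases a1 : none ∈ c <;> by_cases a2 : pt 0 ∈ c <;>
          first
            | exact IsTri.r (pt 0) none c (Or.inr ⟨rfl, rfl⟩) hcw a2 a1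
            | (exfalso; simp [od, chi, a1, a2, ne_pt0] at hd)
      · exfalso
        by_cases a1 : none ∈ c <;> by_cases a2 : pt 0 ∈ c <;>
          simp [od, chi, a1, a2, Ne.symm hjn, Ne.symm hj0] at hd

theorem tri_P {a j : GolayPt} {N : Finset GolayPt} (ha : a = none ∨ a = pt 0) (hj : j ≠ none) (hj0 : j ≠ pt 0)
    (hN : N ⊆ {a, j}) (haN : a ∈ N) : EqvF [aStd] (ev ∅ {a, j} N) (ev ∅ {none, pt 1} {none}) := by
  obtain ⟨σ, hσ, s, hj1, hab⟩ : ∃ σ ∈ M24, σ a = none ∧ σ j = pt 1 ∧
      (σ none = none ∧ σ (pt 0) = pt 0 ∨ σ none = pt 0 ∧ σ (pt 0) = none) := by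
    rcases ha with rfl | rfl
    · obtain ⟨σ, hσ, s1, s2, s3⟩ := map_three_pts ne_pt0 hj.symm hj0.symm ne_pt0
        (show (none : GolayPt) ≠ pt 1 by decide +kernel) (show pt 0 ≠ pt 1 by decide +kernel)
      exact ⟨σ, hσ, s1, s3, Or.inl ⟨s1, s2⟩⟩
    · obtain ⟨σ, hσ, s1, s2, s3⟩ := map_three_pts ne_pt0 hj.symm hj0.symm ne_pt0.symm
        (show pt 0 ≠ pt 1 by decide +kernel) (show (none : GolayPt) ≠ pt 1 by decide +kernel)
      exact ⟨σ, hσ, s2, s3, Or.inr ⟨s1, s2⟩⟩
  have hσT : σ • ({a, j} : Finset GolayPt) = {none, pt 1} := by rw [smul_two, s, hj1]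
  have hU : toSet (8388608 ||| 3) = {none, pt 0, pt 1} := by decide +kernel
  have hsub : σ • N ⊆ ({none, pt 1} : Finset GolayPt) := hσT ▸ Finset.smul_finset_subset_smul_finset hN
  have hnσ : none ∈ σ • N := s ▸ pt_mem_smul.mpr haN
  obtain ⟨e, he, heU⟩ := reach_signs (p := 0) (C := 0) (U := 8388608 ||| 3) (by norm_num) (Or.inl rfl) rfl
    sign_third.1 (D := symmDiff (σ • N) {none}) (by
      rw [hU]
      intro q hq
      rcases Finset.mem_symmDiff.mp hq with ⟨h1, -⟩ | ⟨h1, -⟩
      · rcases Finset.mem_insert.mp (hsub h1) with e | e <;> simp_all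
      · simp_all) (by simp [toSet_zero_empty])
  have hne0 : pt 0 ∉ symmDiff (σ • N) {none} := fun h => by
    rcases Finset.mem_symmDiff.mp h with ⟨h1, -⟩ | ⟨h1, -⟩
    · have h2 := hsub h1
      revert h2; decide +kernel
    · revert h1; decide +kernel
  have hnn : none ∉ symmDiff (σ • N) {none} := by simp [Finset.mem_symmDiff, hnσ]
  have hin : ∀ q : GolayPt, (q = none ∨ q = pt 0 ∨ q = pt 1) → q ∈ e → q ∈ symmDiff (σ • N) {none} := by
    intro q hq hqe
    rw [← heU, Finset.mem_inter, hU]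
    exact ⟨hqe, by simpa using hq⟩
  refine move_a hσ he hab (fun h => hnn (hin _ (Or.inl rfl) h)) (fun h => hne0 (hin _ (Or.inr (Or.inl rfl)) h))
    (IsTri.p a j N ha hj hj0 hN haN).mem ?_
  rw [signedPerm_ev (N' := {none}) (by simpa using hN) (by rw [hσT]; simp) ?_, hσT, Finset.smul_finset_empty]
  rw [hσT, Finset.smul_finset_empty, Finset.empty_union]
  ext q
  constructor
  · intro hq
    obtain ⟨h1, h2⟩ := Finset.mem_inter.mp hq
    exact hin q (by rcases Finset.mem_insert.mp h2 with e | e <;> simp_all) h1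
  · intro hq
    have h1 : q ∈ e ∩ toSet (8388608 ||| 3) := by rw [heU]; exact hq
    refine Finset.mem_inter.mpr ⟨(Finset.mem_inter.mp h1).1, ?_⟩
    rcases Finset.mem_symmDiff.mp hq with ⟨h2, -⟩ | ⟨h2, -⟩
    · exact hsub h2
    · rw [Finset.mem_singleton] at h2; subst h2; simp

theorem tri_Q {O N O' N' : Finset GolayPt} (hO : O ∈ octads) (hn : none ∈ O) (h0 : pt 0 ∈ O) (hN : N ⊆ O)
    (hnN : none ∈ N) (h0N : pt 0 ∈ N) (hev : N.card % 2 = 0)
    (hO' : O' ∈ octads) (hn' : none ∈ O') (h0' : pt 0 ∈ O') (hN' : N' ⊆ O')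
    (hnN' : none ∈ N') (h0N' : pt 0 ∈ N') (hev' : N'.card % 2 = 0) :
    EqvF [aStd] (ev O ∅ N) (ev O' ∅ N') := by
  obtain ⟨σ, hσ, s1, s2, hs⟩ := move_octad2 hO hn h0 hO' hn' h0'
  have hsN : σ • N ⊆ O' := hs ▸ Finset.smul_finset_subset_smul_finset hN
  have hnσ : none ∈ σ • N := by rw [← s1]; exact pt_mem_smul.mpr hnN
  have h0σ : pt 0 ∈ σ • N := by rw [← s2]; exact pt_mem_smul.mpr h0N
  obtain ⟨g, hg, rfl⟩ := exists_smul_O0 hO'
  have hD : g⁻¹ • symmDiff (σ • N) N' ⊆ toSet 8536111 := by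
    have hsub : symmDiff (σ • N) N' ⊆ g • O0 := fun q hq => by
      rcases Finset.mem_symmDiff.mp hq with ⟨h1, -⟩ | ⟨h1, -⟩
      exacts [hsN h1, hN' h1]
    have := Finset.smul_finset_subset_smul_finset (a := g⁻¹) hsub
    rwa [inv_smul_smul] at this
  obtain ⟨e, he, heU⟩ := reach_signs (p := 23) (C := 8536111) (U := 8536111) (by norm_num)
    (Or.inr (by decide +kernel)) (Nat.and_self _) sign_third.2 hD (by
      rw [Finset.inter_eq_left.mpr hD, Finset.card_smul_finset]
      have key : ∀ q, chi (σ • N) q + chi N' q = chi (symmDiff (σ • N) N') q + 2 * chi (σ • N ∩ N') q := fun q =>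
        chi_add _ _ q
      have h2 := Finset.sum_congr rfl fun q (_ : q ∈ Finset.univ) => key q
      simp only [Finset.sum_add_distrib, ← Finset.mul_sum, sum_chi, Finset.card_smul_finset] at h2
      omega)
  have heU' : g • e ∩ g • O0 = symmDiff (σ • N) N' := by
    rw [← Finset.smul_finset_inter, show O0 = toSet 8536111 from rfl, heU, smul_inv_smul]
  have hout : ∀ q, q ∈ g • O0 → q ∈ σ • N → q ∈ N' → q ∉ g • e := fun q hqO h1 h2 hqe => by
    have : q ∈ g • e ∩ g • O0 := Finset.mem_inter.mpr ⟨hqe, hqO⟩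
    rw [heU', Finset.mem_symmDiff] at this
    rcases this with ⟨-, h⟩ | ⟨-, h⟩
    exacts [h h2, h h1]
  refine move_a hσ (image_mem_supports hg he) (Or.inl ⟨s1, s2⟩) (hout _ hn' hnσ hnN') (hout _ h0' h0σ h0N')
    (IsTri.q O N hO hn h0 hN hnN h0N hev).mem ?_
  show signedPerm σ (g • e) (ev O ∅ N) = _
  rw [signedPerm_ev (N' := N') (by simpa using hN) (by rw [hs]; simpa using hN') ?_, hs, Finset.smul_finset_empty]
  rw [hs, Finset.smul_finset_empty, Finset.union_empty]
  exact heU'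

theorem tri_R {a b : GolayPt} {c c' : Finset GolayPt} (hab : a = none ∧ b = pt 0 ∨ a = pt 0 ∧ b = none)
    (hc : c ∈ CW) (ha : a ∉ c) (hb : b ∈ c) (hc' : c' ∈ CW) (hn' : none ∉ c') (h0' : pt 0 ∈ c') :
    EqvF [aStd] (od (-1) c {a}) (od (-1) c' {none}) := by
  obtain ⟨σ, hσ, sa, sb, hfix⟩ : ∃ σ ∈ M24, σ a = none ∧ σ b = pt 0 ∧
      (σ none = none ∧ σ (pt 0) = pt 0 ∨ σ none = pt 0 ∧ σ (pt 0) = none) := by
    rcases hab with ⟨rfl, rfl⟩ | ⟨rfl, rfl⟩
    · exact ⟨1, one_mem _, rfl, rfl, Or.inl ⟨rfl, rfl⟩⟩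
    · obtain ⟨σ, hσ, s1, s2⟩ := map_two_pts ne_pt0.symm ne_pt0
      exact ⟨σ, hσ, s1, s2, Or.inr ⟨s2, s1⟩⟩
  have hcσ : σ • c ∈ CW := image_mem_supports hσ hc
  have h1 : none ∉ σ • c := by rw [← sa]; exact fun h => ha (pt_mem_smul.mp h)
  have h2 : pt 0 ∈ σ • c := by rw [← sb]; exact pt_mem_smul.mpr hb
  refine move_a hσ (CW_symmDiff hcσ hc') hfix (by simp [Finset.mem_symmDiff, h1, hn'])
    (by simp [Finset.mem_symmDiff, h2, h0']) (IsTri.r a b c hab hc ha hb).mem ?_
  rw [signedPerm_od, smul_sing, sa]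

theorem allTri {x : GolayPt → ℤ} (h : IsTri x) : EqvF [aStd] x (ev ∅ {none, pt 1} {none}) := by
  cases h with
  | p a j N ha hj hj0 hN haN => exact tri_P ha hj hj0 hN haN
  | q O N hO hn h0 hN hnN h0N hev =>
    obtain ⟨O', N', hO', hn', h0', hN', hnN', h0N', hev', he⟩ := eT_Q
    exact (tri_Q hO hn h0 hN hnN h0N hev hO' hn' h0' hN' hnN' h0N' hev').trans he.symm
  | r a b c hab hc ha hb =>
    obtain ⟨c', hc', hn', h0', he⟩ := eT_R
    exact (tri_R hab hc ha hb hc' hn' h0').trans he.symm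

theorem pairs16 {v w w' : ↥leechLattice} (hv : sqNorm (v : GolayPt → ℤ) = 32) (hw : sqNorm (w : GolayPt → ℤ) = 32)
    (hw' : sqNorm (w' : GolayPt → ℤ) = 32) (hd : dotInt (v : GolayPt → ℤ) (w : GolayPt → ℤ) = -16)
    (hd' : dotInt (v : GolayPt → ℤ) (w' : GolayPt → ℤ) = -16) : ∃ g : ↥Co0, g • v = v ∧ g • w = w' := by
  obtain ⟨g, hg⟩ := shell_transitive (fun _ x y => eqv32 x y) v ⟨aStd, aStd_mem⟩ hv std_facts.2.2.2.2.1
  have key : ∀ y : ↥leechLattice, sqNorm (y : GolayPt → ℤ) = 32 → dotInt (v : GolayPt → ℤ) (y : GolayPt → ℤ) = -16 →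
      EqvF [aStd] ((g • y : ↥leechLattice) : GolayPt → ℤ) (ev ∅ {none, pt 1} {none}) := by
    intro y hy hd
    have := aut_dot g v y
    rw [hg] at this
    exact allTri (classify_tri (g • y).2 ((aut_norm g y).trans hy) (this.trans hd))
  obtain ⟨f, hf, he⟩ := ((key w hw hd).trans (key w' hw' hd').symm).elem (a := g • w) (b := g • w') rfl rfl
  refine ⟨g⁻¹ * (f * g), ?_, ?_⟩
  · rw [mul_smul, mul_smul, hg, hf aStd (List.mem_singleton_self _) _ rfl, inv_smul_eq_iff, hg]
  · rw [mul_smul, mul_smul, he, inv_smul_smul]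

end CfsgLeech
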